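import Cfsg.Agent.Lib.Janko2.Chain

/-!
The Hall–Janko group as a permutation group on the 315 reflections.
-/

set_option autoImplicit false
set_option maxRecDepth 100000

namespace CfsgLib.Janko2

open Cfsg.Spor

/-- The permutation group. -/
noncomputable abbrev PP : Subgroup (Equiv.Perm (Fin 315)) := Subgroup.closure genP

/-- The Hall–Janko group acts faithfully on the reflections. -/
noncomputable def equivPP : J2 ≃* PP :=
  ((QuotientGroup.quotientMulEquivOfEq ker_psi.symm).trans
    (QuotientGroup.quotientKerEquivRange psi)).trans (MulEquiv.subgroupCongr range_psi)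

theorem equivPP_mk (g : twoJ2) : ((equivPP (QuotientGroup.mk g) : PP) : Equiv.Perm (Fin 315)) = psi g :=
  rfl

theorem card_J2 : Nat.card J2 = 604800 := by
  rw [Nat.card_congr equivPP.toEquiv]
  exact chain_top.2.2.1

theorem card_twoJ2 : Nat.card twoJ2 = 1209600 := by
  rw [Subgroup.card_eq_card_quotient_mul_card_subgroup (Subgroup.center twoJ2), card_center.1]
  show Nat.card J2 * 2 = 1209600
  rw [card_J2]

end CfsgLib.Janko2
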