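import Cfsg.Agent.Lib.Janko2.Simple
import Cfsg.Agent.Lib.Trans3.LargeLinear
import Cfsg.Agent.Lib.Coprime.SymplecticType
import Mathlib.GroupTheory.SpecificGroups.Alternating.Simple

/-!
The centraliser of a reflection: an extraspecial group of order 32 extended by the alternating group
of degree 5.
-/

set_option autoImplicit false
set_option maxRecDepth 100000
set_option linter.style.haveILetI false

namespace CfsgLib.Janko2

open Cfsg.Spor MulAction Pointwise CfsgLib.Fusion.TableSylow

theorem check_blk_cube : ((List.range 2).all fun a => (List.range 5).all fun j =>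
    Nat.beq (blk (wimg [a, a, a] (blkPt j))) j) = true := by
  decide +kernel

/-- A subgroup structure as in the centraliser of a reflection. -/
def IsCore {C : Type*} [Group C] (Q : Subgroup C) [Q.Normal] : Prop :=
  Nat.card Q = 32 ∧ Cfsg.IsExtraspecial 2 Q ∧ Nonempty (C ⧸ Q ≃* alternatingGroup (Fin 5))

theorem exists_core {C D : Type*} [Group C] [Group D] (e : C ≃* D) {θ : D →* alternatingGroup (Fin 5)}
    (hs : Function.Surjective θ) (hc : Nat.card θ.ker = 32) (hes : Cfsg.IsExtraspecial 2 θ.ker) :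
    ∃ (Q : Subgroup C) (_ : Q.Normal), IsCore Q := by
  have hk : (θ.comp e.toMonoidHom).ker.map e.toMonoidHom = θ.ker := by
    rw [← MonoidHom.comap_ker, Subgroup.map_comap_eq_self_of_surjective e.surjective]
  let f := ((θ.comp e.toMonoidHom).ker.equivMapOfInjective e.toMonoidHom e.injective).trans
    (MulEquiv.subgroupCongr hk)
  refine ⟨(θ.comp e.toMonoidHom).ker, inferInstance, ?_, ?_, ?_⟩
  · rw [Nat.card_congr f.toEquiv, hc]
  · exact CfsgLib.Trans3.LargeLinear.isExtraspecial_of_equiv f.symm hes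
  · exact ⟨QuotientGroup.quotientKerEquivOfSurjective _ (hs.comp e.surjective)⟩

theorem cP_sq (k : Fin 315) : cP k * cP k = 1 := by
  refine Subtype.ext ?_
  show psi (rElt k) * psi (rElt k) = 1
  rw [← map_mul, show rElt k * rElt k = 1 from Subtype.ext (refPerm_sq k), map_one]

attribute [local irreducible] cP

theorem cP_injective : Function.Injective cP := by
  classical
  haveI := preprimitive
  have hB : ∀ a, IsBlock PP {x | cP x = cP a} := by
    intro a
    rw [isBlock_iff_smul_eq_or_disjoint]
    intro g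
    by_cases h : Disjoint (g • {x | cP x = cP a}) {x | cP x = cP a}
    · exact Or.inr h
    refine Or.inl ?_
    obtain ⟨w, hw1, hw2⟩ := Set.not_disjoint_iff.1 h
    obtain ⟨y, hy, rfl⟩ := hw1
    have hg : g * cP a * g⁻¹ = cP a := by
      rw [← (show cP y = cP a from hy), conj_cP]
      exact hw2.trans hy.symm
    ext x
    constructor
    · rintro ⟨y, hy, rfl⟩
      show cP (g • y) = cP a
      rw [← conj_cP, show cP y = cP a from hy, hg]
    · intro hx
      refine ⟨g⁻¹ • x, ?_, smul_inv_smul g x⟩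
      show cP (g⁻¹ • x) = cP a
      rw [← conj_cP, show cP x = cP a from hx, inv_inv]
      conv_lhs => rw [← hg]
      group
  intro k l hkl
  rcases IsPreprimitive.isTrivialBlock_of_isBlock (hB k) with h | h
  · exact h (show k ∈ {x | cP x = cP k} from rfl) (show l ∈ {x | cP x = cP k} from hkl.symm)
  · exfalso
    have hall : ∀ x, cP x = cP k := fun x => show x ∈ {x | cP x = cP k} from h ▸ Set.mem_univ x
    have hz : Subgroup.zpowers (cP k) = ⊤ := by
      rw [eq_top_iff, ← closure_cP, Subgroup.closure_le]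
      rintro _ ⟨a, rfl⟩
      show cP (gFin a) ∈ Subgroup.zpowers (cP k)
      exact Subgroup.mem_zpowers_iff.2 ⟨1, (zpow_one (cP k)).trans (hall (gFin a)).symm⟩
    have hp : cP k ^ 2 = 1 := (pow_two (cP k)).trans (cP_sq k)
    have h2 := orderOf_le_of_pow_eq_one two_pos hp
    have h3 : orderOf (cP k) = 604800 := by
      rw [← Nat.card_zpowers, hz, Subgroup.card_top, card_PP]
    omega

theorem centralizer_cP (σ : PP) {k : Fin 315} (h : σ • pt0 = k) :
    Subgroup.centralizer {cP k} = (stabilizer PP pt0).map (MulAut.conj σ).toMonoidHom := by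
  have hs : Subgroup.centralizer {cP k} = stabilizer PP k := by
    ext g
    rw [Subgroup.mem_centralizer_singleton_iff, mem_stabilizer_iff]
    constructor
    · intro hg
      refine cP_injective ?_
      rw [← conj_cP, hg, mul_inv_cancel_right]
    · intro hg
      have := conj_cP g k
      rw [hg] at this
      exact mul_inv_eq_iff_eq_mul.1 this
  rw [hs, ← h, stabilizer_smul_eq_stabilizer_map_conj]

/-- The point stabiliser. -/
noncomputable abbrev HH : Subgroup PP := stabilizer PP pt0

/-- A point of a block. -/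
def ptB (j : Fin 5) : Fin 315 := ⟨blkPt j % 315, Nat.mod_lt _ (by norm_num)⟩

theorem blk_ptB (j : Fin 5) : blk (ptB j : ℕ) = j := by
  have h := check_blk
  simp only [Bool.and_eq_true] at h
  have h' := all_of h.2 j.2
  simp only [Bool.and_eq_true, Nat.blt_eq] at h'
  show blk (blkPt j % 315) = j
  rw [Nat.mod_eq_of_lt h'.1]
  exact beq_eq h'.2

/-- Compatibility with the blocks. -/
def BlkGood (σ : Equiv.Perm (Fin 315)) : Prop :=
  ∀ x : Fin 315, ∀ hx : blk (x : ℕ) < 5,
    blk (σ x : ℕ) < 5 ∧ blk (σ x : ℕ) = blk (σ (ptB ⟨_, hx⟩) : ℕ)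

theorem blkGood_one : BlkGood 1 := fun x hx => ⟨hx, (blk_ptB ⟨_, hx⟩).symm⟩

theorem blkGood_mul {σ τ : Equiv.Perm (Fin 315)} (hσ : BlkGood σ) (hτ : BlkGood τ) : BlkGood (σ * τ) := by
  intro x hx
  obtain ⟨h1, h2⟩ := hτ x hx
  have h3 : blk (τ (ptB ⟨_, hx⟩) : ℕ) < 5 := h2 ▸ h1
  refine ⟨(hσ _ h1).1, ?_⟩
  show blk (σ (τ x) : ℕ) = blk (σ (τ (ptB ⟨_, hx⟩)) : ℕ)
  rw [(hσ _ h1).2, (hσ _ h3).2]
  congr 5

theorem blkGood_gen {a : ℕ} (ha : a < 2) : BlkGood (permOf (gen1 a)) := by
  intro x hx
  have h := check_blk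
  simp only [Bool.and_eq_true] at h
  have h' := all_of (all_of h.1 ha) x.2
  simp only [Bool.or_eq_true, Bool.and_eq_true, Nat.blt_eq] at h'
  rcases h' with h' | ⟨h1, h2⟩
  · rw [Bool.not_eq_true', ← Bool.not_eq_true, Nat.blt_eq] at h'
    exact absurd hx h'
  · have hp := all_of h.2 hx
    simp only [Bool.and_eq_true, Nat.blt_eq] at hp
    refine ⟨by rw [(gen1_mem ha).1]; exact h1, ?_⟩
    rw [(gen1_mem ha).1, (gen1_mem ha).1]
    show _ = blk (pimg (gen1 a) (blkPt (blk x) % 315))
    rw [Nat.mod_eq_of_lt hp.1]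
    exact beq_eq h2

theorem blkGood_of_mem (h : HH) : BlkGood ((h : PP) : Equiv.Perm (Fin 315)) := by
  suffices key : ∀ σ ∈ (Subgroup.closure (genOf 2 gen1)).toSubmonoid, BlkGood σ by
    refine key _ ?_
    show _ ∈ Subgroup.closure (genOf 2 gen1)
    rw [← stabilizer_map]
    exact ⟨h, h.2, rfl⟩
  intro σ hm
  rw [Subgroup.closure_toSubmonoid_of_finite] at hm
  induction hm using Submonoid.closure_induction with
  | mem σ hσ => obtain ⟨a, ha, rfl⟩ := hσ; exact blkGood_gen ha
  | one => exact blkGood_one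
  | mul σ τ _ _ h1 h2 => exact blkGood_mul h1 h2

theorem blk_image_lt (h : HH) (j : Fin 5) : blk (((h : PP) : Equiv.Perm (Fin 315)) (ptB j) : ℕ) < 5 :=
  (blkGood_of_mem h _ (by rw [blk_ptB]; exact j.2)).1

/-- The action on the blocks. -/
noncomputable def blockEnd : HH →* Function.End (Fin 5) where
  toFun h := fun j => ⟨_, blk_image_lt h j⟩
  map_one' := by
    funext j
    exact Fin.ext (blk_ptB j)
  map_mul' g h := by
    funext j
    refine Fin.ext ?_
    exact (blkGood_of_mem g _ (blk_image_lt h j)).2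

/-- The action on the blocks as permutations. -/
noncomputable def blockPerm : HH →* Equiv.Perm (Fin 5) :=
  Equiv.Perm.equivUnitsEnd.symm.toMonoidHom.comp blockEnd.toHomUnits

theorem blockPerm_val (h : HH) (j : Fin 5) :
    ((blockPerm h j : Fin 5) : ℕ) = blk (((h : PP) : Equiv.Perm (Fin 315)) (ptB j) : ℕ) := rfl

/-- A generator of the stabiliser. -/
noncomputable def hG (a : ℕ) : HH :=
  if ha : a < 2 then ⟨⟨_, (gen1_mem ha).2.1⟩, (gen1_mem ha).2.2⟩ else 1

/-- The value of a word. -/
noncomputable def wordH (w : List ℕ) : HH := (w.map hG).prod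

theorem wordH_apply {w : List ℕ} (hw : ∀ a ∈ w, a < 2) (x : Fin 315) :
    ((((wordH w : HH) : PP) : Equiv.Perm (Fin 315)) x : ℕ) = wimg w x := by
  induction w generalizing x with
  | nil => rfl
  | cons a w ih =>
    have ha := hw a (by simp)
    show ((((hG a * wordH w : HH) : PP) : Equiv.Perm (Fin 315)) x : ℕ) = pimg (gen1 a) (wimg w x)
    rw [← ih (fun b hb => hw b (List.mem_cons_of_mem _ hb)) x]
    simp only [hG, dif_pos ha, Subgroup.coe_mul, Equiv.Perm.mul_apply]
    exact (gen1_mem ha).1 _

theorem ptB_val (j : Fin 5) : (ptB j : ℕ) = blkPt j := by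
  have h := check_blk
  simp only [Bool.and_eq_true] at h
  have h' := all_of h.2 j.2
  simp only [Bool.and_eq_true, Nat.blt_eq] at h'
  exact Nat.mod_eq_of_lt h'.1

theorem block_word {w : List ℕ} (hw : ∀ a ∈ w, a < 2) (j : Fin 5) :
    ((blockPerm (wordH w) j : Fin 5) : ℕ) = blk (wimg w (blkPt j)) := by
  rw [blockPerm_val, wordH_apply hw, ptB_val]

theorem wordH_pow (w : List ℕ) : ∀ n, wordH w ^ n = wordH (List.flatten (List.replicate n w))
  | 0 => by simp [wordH]
  | n + 1 => by
    rw [pow_succ', wordH_pow w n, List.replicate_succ, List.flatten_cons]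
    simp [wordH, List.prod_append]

theorem blockPerm_even (h : HH) : blockPerm h ∈ alternatingGroup (Fin 5) := by
  have hgen : ∀ a < 2, blockPerm (hG a) ∈ alternatingGroup (Fin 5) := by
    intro a ha
    have h3 : blockPerm (hG a) ^ 3 = 1 := by
      rw [← map_pow]
      ext j
      rw [show hG a ^ 3 = wordH [a, a, a] by simp [wordH, pow_succ, mul_assoc],
        block_word (by intro b hb; simp at hb; omega)]
      exact beq_eq (all_of (all_of check_blk_cube ha) j.2)
    rw [Equiv.Perm.mem_alternatingGroup]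
    have := congrArg Equiv.Perm.sign h3
    rw [map_pow, map_one] at this
    rcases Int.units_eq_one_or (Equiv.Perm.sign (blockPerm (hG a))) with e | e
    · exact e
    · rw [e] at this
      exact absurd this (by decide)
  have hm : ((h : PP) : Equiv.Perm (Fin 315)) ∈ Subgroup.closure (genOf 2 gen1) := by
    rw [← stabilizer_map]
    exact ⟨h, h.2, rfl⟩
  have hm' : ((h : PP) : Equiv.Perm (Fin 315)) ∈
      ((alternatingGroup (Fin 5)).comap blockPerm).map (PP.subtype.comp HH.subtype) := by
    refine (Subgroup.closure_le _).2 ?_ hm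
    rintro _ ⟨a, ha, rfl⟩
    exact ⟨hG a, hgen a ha, by simp [hG, ha]⟩
  obtain ⟨g, hg, e⟩ := hm'
  rwa [show h = g from Subtype.ext (Subtype.ext e.symm)]

/-- The action on the blocks. -/
noncomputable def blockHom : HH →* alternatingGroup (Fin 5) := blockPerm.codRestrict _ blockPerm_even

theorem blockHom_surjective : Function.Surjective blockHom := by
  classical
  rw [← MonoidHom.range_eq_top]
  have hc := check_ord
  simp only [Bool.and_eq_true, List.all_eq_true, List.mem_append, Nat.blt_eq] at hc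
  obtain ⟨⟨⟨hw, o2⟩, o3⟩, o5⟩ := hc
  have hd : ∀ p (w : List ℕ), p.Prime → (∀ a ∈ w, a < 2) → ordOK w p = true →
      p ∣ Nat.card blockHom.range := by
    intro p w hp hw h
    haveI := Fact.mk hp
    simp only [ordOK, Bool.and_eq_true, List.any_eq_true, List.mem_range] at h
    obtain ⟨h1, j, hj, h2⟩ := h
    have hpow : blockHom (wordH w) ^ p = 1 := by
      refine Subtype.ext (Equiv.ext fun i => Fin.ext ?_)
      rw [← map_pow, wordH_pow]
      show ((blockPerm _ i : Fin 5) : ℕ) = _
      rw [block_word (fun a ha => by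
        obtain ⟨l, hl, hal⟩ := List.mem_flatten.1 ha
        exact hw a (List.eq_of_mem_replicate hl ▸ hal))]
      exact beq_eq (all_of h1 i.2)
    have hne : blockHom (wordH w) ≠ 1 := by
      intro e
      have e' := congrArg (fun σ : alternatingGroup (Fin 5) => (((σ : Equiv.Perm (Fin 5)) ⟨j, hj⟩ : Fin 5) : ℕ)) e
      change ((blockPerm (wordH w) ⟨j, hj⟩ : Fin 5) : ℕ) = j at e'
      rw [block_word hw] at e'
      simp only [e', Nat.beq_refl] at h2
      exact absurd h2 (by decide)
    have := orderOf_eq_prime hpow hne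
    have h' := Subgroup.orderOf_dvd_natCard (s := blockHom.range)
      (MonoidHom.mem_range.2 ⟨wordH w, rfl⟩)
    rwa [this] at h'
  have h30 : 30 ∣ Nat.card blockHom.range := by
    have h6 : 6 ∣ Nat.card blockHom.range := Nat.Coprime.mul_dvd_of_dvd_of_dvd (by norm_num)
      (hd 2 _ Nat.prime_two (fun a ha => hw a (Or.inl (Or.inl ha))) o2)
      (hd 3 _ Nat.prime_three (fun a ha => hw a (Or.inl (Or.inr ha))) o3)
    exact Nat.Coprime.mul_dvd_of_dvd_of_dvd (by norm_num) h6
      (hd 5 _ (by norm_num) (fun a ha => hw a (Or.inr ha)) o5)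
  have h60 : Nat.card (alternatingGroup (Fin 5)) = 60 := by
    rw [nat_card_alternatingGroup, Nat.card_fin]; rfl
  have hle : Nat.card blockHom.range ∣ 60 := h60 ▸ Subgroup.card_subgroup_dvd_card _
  refine Subgroup.eq_top_of_card_eq _ ?_
  rw [h60]
  by_contra hne
  obtain ⟨c, hc'⟩ := h30
  have hc1 : c = 1 := by
    have hpos : 0 < Nat.card blockHom.range := Nat.card_pos
    have := Nat.le_of_dvd (by norm_num) hle
    omega
  have hi : blockHom.range.index = 2 := by
    have := blockHom.range.card_mul_index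
    rw [h60, hc', hc1] at this
    omega
  haveI := Subgroup.normal_of_index_eq_two hi
  rcases IsSimpleGroup.eq_bot_or_eq_top_of_normal blockHom.range inferInstance with h | h
  · rw [h, Subgroup.card_bot] at hc'
    omega
  · rw [h, Subgroup.index_top] at hi
    omega

theorem card_ker_blockHom : Nat.card blockHom.ker = 32 := by
  have h := Subgroup.card_eq_card_quotient_mul_card_subgroup blockHom.ker
  rw [card_stabilizer,
    Nat.card_congr (QuotientGroup.quotientKerEquivOfSurjective _ blockHom_surjective).toEquiv,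
    nat_card_alternatingGroup, Nat.card_fin, show Nat.factorial 5 / 2 = 60 from rfl] at h
  omega

theorem fix_mem {i : ℕ} (hi : i < 32) :
    ∃ q : HH, q ∈ blockHom.ker ∧ ∀ x : Fin 315, (((q : PP) : Equiv.Perm (Fin 315)) x : ℕ) = qimg i x := by
  obtain ⟨h0, h1, h2, r0, r1, r2⟩ := chain_facts
  have h := all_of check_core_range hi
  simp only [Bool.and_eq_true, Nat.blt_eq, List.all_eq_true, List.mem_range] at h
  obtain ⟨⟨hy, hz⟩, hb⟩ := h
  have hd := check_distinct
  have hw := check_wit
  simp only [Bool.and_eq_true, Nat.blt_eq] at hd hw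
  have le21 : Subgroup.closure (genOf 2 gen2) ≤ Subgroup.closure (genOf 2 gen1) := by
    refine (Subgroup.closure_le _).2 ?_
    rintro _ ⟨a, ha, rfl⟩
    exact (wit_spec hd.1.2 h1 r1 hw.2 check_gen_lt.2 ha).2.1
  have hm : permOf (rep1 (fixTab.getD i 0 % 512)) * permOf (rep2 (fixTab.getD i 0 / 512)) ∈
      HH.map PP.subtype := by
    rw [stabilizer_map]
    exact mul_mem (r1 _ hy).2 (le21 (r2 _ hz).2)
  obtain ⟨σ, hσ, e⟩ := hm
  have hval : ∀ x : Fin 315, ((σ : Equiv.Perm (Fin 315)) x : ℕ) = qimg i x := fun x => by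
    rw [show (σ : Equiv.Perm (Fin 315)) = _ from e, Equiv.Perm.mul_apply, (r1 _ hy).1, (r2 _ hz).1]
    rfl
  refine ⟨⟨σ, hσ⟩, ?_, hval⟩
  refine Subtype.ext (Equiv.ext fun j => Fin.ext ?_)
  show ((blockPerm ⟨σ, hσ⟩ j : Fin 5) : ℕ) = _
  rw [blockPerm_val, show _ = qimg i (ptB j) from hval _, ptB_val]
  exact beq_eq (hb j j.2)

theorem extraspecial_ker : Cfsg.IsExtraspecial 2 blockHom.ker := by
  classical
  haveI := Fact.mk Nat.prime_two
  choose q hq hqv using fun i : Fin 32 => fix_mem i.2
  let Qe : Fin 32 → blockHom.ker := fun i => ⟨q i, hq i⟩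
  have hext : ∀ (a b : blockHom.ker), (∀ x : Fin 315,
      ((((a : HH) : PP) : Equiv.Perm (Fin 315)) x : ℕ) = (((b : HH) : PP) : Equiv.Perm (Fin 315)) x) → a = b :=
    fun a b h => Subtype.ext (Subtype.ext (Subtype.ext (Equiv.ext fun x => Fin.ext (h x))))
  have hmul : ∀ (a b : blockHom.ker) (x : Fin 315), ((((a * b : blockHom.ker) : HH) : PP) : Equiv.Perm (Fin 315)) x =
      (((a : HH) : PP) : Equiv.Perm (Fin 315)) ((((b : HH) : PP) : Equiv.Perm (Fin 315)) x) := fun a b x => rfl
  have hb1 : ∃ b1 b2 : Fin 315, (b1 : ℕ) = bpt 1 ∧ (b2 : ℕ) = bpt 2 := by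
    have h := check_bpt
    simp only [Bool.and_eq_true, Nat.blt_eq] at h
    exact ⟨⟨_, h.1.2⟩, ⟨_, h.2⟩, rfl, rfl⟩
  obtain ⟨b1, b2, eb1, eb2⟩ := hb1
  have hinj : Function.Injective Qe := by
    intro i j e
    have e' : ∀ x : Fin 315, qimg i x = qimg j x := fun x => by
      rw [← hqv i x, ← hqv j x, show q i = q j from congrArg Subtype.val e]
    rcases lt_trichotomy (i : ℕ) j with hlt | he | hlt
    · have := all_of (all_of check_core_distinct j.2) hlt
      rw [← eb1, ← eb2, e' b1, e' b2, Nat.beq_refl, Nat.beq_refl] at this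
      exact absurd this (by decide)
    · exact Fin.ext he
    · have := all_of (all_of check_core_distinct i.2) hlt
      rw [← eb1, ← eb2, e' b1, e' b2, Nat.beq_refl, Nat.beq_refl] at this
      exact absurd this (by decide)
  have hsurj : Function.Surjective Qe :=
    ((Fintype.bijective_iff_injective_and_card Qe).2 ⟨hinj, by
      rw [Fintype.card_fin, ← Nat.card_eq_fintype_card (α := blockHom.ker), card_ker_blockHom]⟩).2
  have hq0 : Qe 0 = 1 := hext _ _ fun x => by
    rw [show ((((Qe 0 : blockHom.ker) : HH) : PP) : Equiv.Perm (Fin 315)) = _ from rfl, hqv 0 x]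
    exact beq_eq (all_of check_core_one x.2)
  have hz : ∀ a, Qe 1 * a = a * Qe 1 := by
    intro a
    obtain ⟨i, rfl⟩ := hsurj a
    refine hext _ _ fun x => ?_
    rw [hmul, hmul, hqv 1, hqv i, hqv i, hqv 1]
    exact (beq_eq (all_of (all_of check_core_central i.2) x.2)).symm
  have hsq : ∀ i, Qe i * Qe i = 1 ∨ Qe i * Qe i = Qe 1 := by
    intro i
    have h := all_of check_core_sq i.2
    simp only [Bool.or_eq_true] at h
    rcases h with h | h
    · refine Or.inl (hext _ _ fun x => ?_)
      rw [hmul, hqv i, hqv i, beq_eq (all_of h x.2)]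
      rfl
    · refine Or.inr (hext _ _ fun x => ?_)
      rw [hmul, hqv i, hqv i, beq_eq (all_of h x.2), hqv 1]
      rfl
  have hcm : ∀ i j, Qe i * Qe j = Qe j * Qe i ∨ Qe i * Qe j = Qe j * Qe i * Qe 1 := by
    have key : ∀ i j : Fin 32, (j : ℕ) < i →
        Qe i * Qe j = Qe j * Qe i ∨ Qe i * Qe j = Qe j * Qe i * Qe 1 := by
      intro i j hji
      have h := all_of (all_of check_core_comm i.2) hji
      simp only [Bool.or_eq_true] at h
      rcases h with h | h
      · refine Or.inl (hext _ _ fun x => ?_)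
        rw [hmul, hmul, hqv i, hqv j, hqv j, hqv i, beq_eq (all_of h x.2)]
      · refine Or.inr (hext _ _ fun x => ?_)
        rw [hmul, hqv i, hqv j, beq_eq (all_of h x.2), hmul, hmul, hqv j, hqv i, hqv 1]
        rfl
    intro i j
    rcases lt_trichotomy (j : ℕ) i with h | h | h
    · exact key i j h
    · exact Or.inl (by rw [Fin.ext h])
    · rcases key j i h with e | e
      · exact Or.inl e.symm
      · refine Or.inr ?_
        have hz1 : Qe 1 * Qe 1 = 1 := by
          rcases hsq 1 with e | e
          · exact e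
          · exact absurd (hinj ((mul_eq_left.1 e).trans hq0.symm)) (by decide)
        rw [e, mul_assoc _ (Qe 1) (Qe 1), hz1, mul_one]
  have hcen : ∀ a : blockHom.ker, a ∈ Subgroup.center blockHom.ker ↔ a = 1 ∨ a = Qe 1 := by
    intro a
    rw [Subgroup.mem_center_iff]
    constructor
    · obtain ⟨i, rfl⟩ := hsurj a
      intro h
      have hc := all_of check_core_non i.2
      simp only [Bool.or_eq_true, Bool.and_eq_true, Nat.blt_eq] at hc
      rcases hc with hc | ⟨hx, hc⟩
      · rcases (show (i : ℕ) = 0 ∨ (i : ℕ) = 1 by omega) with e | e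
        · exact Or.inl ((congrArg Qe (Fin.ext (a := i) (b := 0) e)).trans hq0)
        · exact Or.inr (congrArg Qe (Fin.ext (a := i) (b := 1) e))
      · exfalso
        have e := congrArg (fun a : blockHom.ker =>
          ((((a : HH) : PP) : Equiv.Perm (Fin 315)) ⟨_, hx⟩ : ℕ)) (h (Qe ⟨fixNon.getD i 0 % 32, Nat.mod_lt _ (by norm_num)⟩))
        simp only [hmul] at e
        rw [hqv, hqv, hqv, hqv] at e
        simp only at e
        rw [e, Nat.beq_refl] at hc
        exact absurd hc (by decide)
    · rintro (rfl | rfl) b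
      · simp
      · exact (hz b).symm
  have hzc : Qe 1 ∈ Subgroup.center blockHom.ker := (hcen _).2 (Or.inr rfl)
  have hne1 : Qe 1 ≠ 1 := fun e => absurd (hinj (e.trans hq0.symm)) (by decide)
  have hcard : Nat.card (Subgroup.center blockHom.ker) = 2 := by
    rw [show Nat.card (Subgroup.center blockHom.ker) = ({1, Qe 1} : Set blockHom.ker).ncard from
      (Nat.card_coe_set_eq _).trans (congrArg Set.ncard (Set.ext fun a => (hcen a).trans (by simp)))]
    exact Set.ncard_pair (Ne.symm hne1)
  refine CfsgLib.Coprime.isExtraspecial_of_central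
    (IsPGroup.of_card (n := 5) (by rw [card_ker_blockHom]; norm_num)) _ hcard rfl ?_ ?_ ?_
  · intro a b
    obtain ⟨i, rfl⟩ := hsurj a
    obtain ⟨j, rfl⟩ := hsurj b
    rcases hcm i j with e | e
    · rw [commutatorElement_eq_one_iff_mul_comm.2 e]
      exact one_mem _
    · rw [commutatorElement_def, e, mul_assoc (Qe j * Qe i), hz,
        show Qe j * Qe i * ((Qe i)⁻¹ * Qe 1) * (Qe j)⁻¹ = Qe j * Qe 1 * (Qe j)⁻¹ by group,
        ← hz, mul_inv_cancel_right]
      exact hzc
  · intro a
    obtain ⟨i, rfl⟩ := hsurj a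
    rw [pow_two]
    rcases hsq i with e | e <;> rw [e]
    · exact one_mem _
    · exact hzc
  · intro h
    have h' := card_ker_blockHom
    rw [← Subgroup.card_top (G := blockHom.ker), ← h, hcard] at h'
    omega

theorem centralizer_core {f : Equiv.Perm icoLeech} (hf : IsIcoReflection f) (hfm : f ∈ twoJ2) :
    ∃ (Q : Subgroup ↥(Subgroup.centralizer {(QuotientGroup.mk ⟨f, hfm⟩ : J2)})) (_ : Q.Normal),
      IsCore Q := by
  obtain ⟨k, rfl⟩ := isRefl_iff.1 hf
  haveI := pretransitive
  obtain ⟨σ, hσ⟩ := exists_smul_eq PP pt0 k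
  have he : (Subgroup.centralizer {(QuotientGroup.mk (rElt k) : J2)}).map equivPP.toMonoidHom =
      Subgroup.centralizer {cP k} := by
    ext x
    rw [Subgroup.mem_map_equiv, Subgroup.mem_centralizer_singleton_iff,
      Subgroup.mem_centralizer_singleton_iff, ← equivPP_rElt]
    constructor
    · intro h
      simpa using congrArg equivPP h
    · intro h
      refine equivPP.injective ?_
      simpa using h
  let e := ((Subgroup.centralizer {(QuotientGroup.mk (rElt k) : J2)}).equivMapOfInjective
      equivPP.toMonoidHom equivPP.injective).trans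
    ((MulEquiv.subgroupCongr (he.trans (centralizer_cP σ hσ))).trans
      (HH.equivMapOfInjective (MulAut.conj σ).toMonoidHom (MulAut.conj σ).injective).symm)
  exact exists_core e blockHom_surjective card_ker_blockHom extraspecial_ker

end CfsgLib.Janko2
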