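import Cfsg.Agent.Lib.Fusion.TableSylow

/-!
Buckets of small icosians by classes and norm.
-/

set_option autoImplicit false
set_option maxRecDepth 100000

namespace CfsgLib.Janko2

open CfsgLib.Fusion.TableSylow

/-- Trees of lists. -/
inductive LTree where
  | leaf (v : List ℕ) : LTree
  | node (l r : LTree) : LTree

/-- The entry at an index. -/
def LTree.get : LTree → ℕ → List ℕ
  | .leaf v, _ => v
  | .node l r, k => bif Nat.beq (k % 2) 0 then l.get (k / 2) else r.get (k / 2)

/-- Buckets, part 0. -/
def bucketPart0 : LTree :=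
  .node (.node (.node (.node (.node (.node (.node (.leaf [6120]) (.leaf [])) (.leaf [])) (.leaf [])) (.leaf [])) (.leaf [])) (.node (.node (.node (.leaf []) (.node (.leaf []) (.node (.leaf [2470, 2491, 2626, 2637, 2645, 2654, 2776, 2792, 2933, 2954, 3028, 3047, 3214, 3230, 3259, 3275, 3415, 3436, 3517, 3538]) (.leaf [])))) (.node (.node (.leaf []) (.node (.leaf [310, 331]) (.leaf []))) (.leaf []))) (.node (.node (.node (.node (.leaf []) (.leaf [3732, 3737, 3744, 3753, 3804, 3815, 3824, 3831, 4331, 4336, 4343, 4352, 4402, 4413, 4422, 4429, 5683, 5693, 5696, 5704, 5707, 5714, 5717, 5728, 6011, 6016, 6023, 6032, 6082, 6093, 6102, 6109])) (.leaf [])) (.leaf [])) (.node (.node (.node (.leaf [2468, 2489, 2538, 2554, 2720, 2740, 2790, 2809, 2935, 2956, 3115, 3116, 3122, 3128, 3306, 3327, 3413, 3434, 3511, 3530]) (.leaf [])) (.leaf [])) (.leaf []))))) (.node (.node (.node (.node (.node (.node (.leaf []) (.leaf [54, 75])) (.leaf [])) (.node (.leaf []) (.node (.leaf [172, 193]) (.leaf [])))) (.leaf [])) (.node (.node (.node (.node (.leaf [2465,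 2486, 2563, 2584, 2707, 2728, 2801, 2822, 2882, 2888, 3009, 3021, 3175, 3196, 3292, 3313, 3454, 3470, 3549, 3570]) (.leaf [])) (.leaf [])) (.node (.node (.leaf [1685, 1694, 1881, 1901, 1972, 1993, 2083, 2104, 2225, 2246, 2374, 2390]) (.leaf [])) (.node (.leaf [724, 733, 762, 783, 785, 802, 806, 822]) (.leaf [])))) (.node (.leaf []) (.node (.node (.leaf [80, 100]) (.leaf [])) (.leaf []))))) (.node (.node (.node (.node (.leaf []) (.node (.leaf [600, 603, 619, 635, 680, 700, 707, 718]) (.leaf []))) (.node (.leaf []) (.node (.leaf [320, 340]) (.leaf [])))) (.leaf [])) (.node (.node (.node (.node (.leaf [3851, 3856, 3863, 3872, 3922, 3933, 3942, 3949, 4446, 4450, 4455, 4462, 4537, 4546, 4553, 4557, 5166, 5170, 5175, 5182, 5257, 5266, 5273, 5277, 5406, 5410, 5415, 5422, 5497, 5506, 5513, 5517]) (.leaf [])) (.leaf [])) (.node (.leaf []) (.node (.leaf [1016, 1037, 1084, 1093, 1205, 1214, 1351, 1370, 1458, 1474, 1577, 1593]) (.leaf [])))) (.leaf []))))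

/-- Buckets, part 1. -/
def bucketPart1 : LTree :=
  .node (.node (.node (.node (.node (.node (.node (.leaf []) (.leaf [1720, 1741, 1837, 1858, 1977, 1998, 2121, 2141, 2257, 2273, 2378, 2394])) (.leaf [])) (.node (.leaf []) (.node (.leaf [2440, 2461, 2526, 2535, 2736, 2752, 2853, 2869, 2936, 2957, 3083, 3103, 3157, 3178, 3321, 3341, 3387, 3406, 3574, 3590]) (.leaf [])))) (.node (.node (.node (.leaf [1028, 1049, 1099, 1115, 1240, 1261, 1403, 1423, 1450, 1462, 1562, 1568]) (.leaf [])) (.leaf [])) (.leaf []))) (.leaf [])) (.node (.leaf []) (.node (.node (.node (.node (.leaf [751, 760, 770, 781, 790, 800, 811, 820]) (.leaf [])) (.leaf [])) (.node (.node (.leaf [325, 345]) (.leaf [])) (.leaf []))) (.leaf [])))) (.node (.node (.leaf []) (.node (.node (.node (.node (.leaf []) (.leaf [842, 844, 848, 853, 938, 947, 954, 958])) (.leaf [])) (.leaf [])) (.leaf []))) (.node (.node (.node (.leaf []) (.node (.node (.leaf [1788, 1799, 1831, 1850, 1929, 1941, 2123, 2143, 2187, 2206, 2297, 2313]) (.leaf [])) (.leaf []))) (.node (.node (.node (.leaf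 [131, 143]) (.leaf [])) (.leaf [])) (.node (.leaf []) (.node (.leaf [3840, 3843, 3879, 3900, 3919, 3924, 3939, 3944, 4460, 4465, 4476, 4484, 4494, 4515, 4536, 4552, 5180, 5185, 5196, 5204, 5214, 5235, 5256, 5272, 5420, 5425, 5436, 5444, 5454, 5475, 5496, 5512]) (.leaf []))))) (.node (.node (.leaf []) (.node (.node (.leaf [4091, 4103, 4118, 4136, 4139, 4157, 4175, 4191, 4212, 4224, 4251, 4272, 4281, 4283, 4301, 4303, 5770, 5777, 5782, 5793, 5845, 5858, 5865, 5874, 5892, 5904, 5931, 5952, 5961, 5963, 5981, 5983]) (.leaf [])) (.leaf []))) (.leaf []))))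

/-- Buckets, part 2. -/
def bucketPart2 : LTree :=
  .node (.node (.node (.leaf []) (.node (.node (.node (.node (.leaf [380, 390, 396, 409, 428, 441, 449, 461]) (.leaf [])) (.leaf [])) (.leaf [])) (.node (.leaf []) (.node (.node (.leaf [2484, 2504, 2550, 2569, 2721, 2741, 2769, 2781, 2945, 2966, 3106, 3117, 3126, 3135, 3322, 3342, 3430, 3451, 3490, 3502]) (.leaf [])) (.leaf []))))) (.node (.node (.leaf []) (.node (.node (.node (.leaf [2439, 2460, 2536, 2552, 2723, 2743, 2817, 2838, 2886, 2895, 3018, 3034, 3185, 3206, 3309, 3330, 3428, 3449, 3565, 3585]) (.leaf [])) (.node (.leaf [970, 982, 1122, 1143, 1202, 1208, 1361, 1382, 1452, 1464, 1603, 1624]) (.leaf []))) (.leaf []))) (.node (.node (.node (.leaf []) (.node (.leaf [348, 359]) (.leaf []))) (.leaf [])) (.node (.node (.leaf []) (.node (.leaf [2479, 2499, 2627, 2638, 2652, 2664, 2788, 2807, 2950, 2971, 3043, 3064, 3188, 3209, 3271, 3290, 3425, 3446, 3497, 3513]) (.leaf []))) (.node (.node (.leaf [3857, 3865, 3873, 3882, 3884, 3903, 3955, 3956, 4445, 4454, 4481, 4502, 4506, 4519,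 4527, 4539, 5165, 5174, 5201, 5222, 5226, 5239, 5247, 5259, 5405, 5414, 5441, 5462, 5466, 5479, 5487, 5499]) (.leaf [])) (.node (.leaf [1787, 1798, 1825, 1844, 1921, 1927, 2124, 2144, 2171, 2183, 2285, 2294]) (.leaf []))))))) (.node (.node (.node (.node (.leaf []) (.node (.node (.leaf [1680, 1683, 1870, 1891, 2016, 2032, 2077, 2098, 2226, 2247, 2375, 2391]) (.leaf [])) (.leaf []))) (.leaf [])) (.leaf [])) (.node (.node (.node (.node (.node (.leaf [4690, 4696, 4702, 4712, 4735, 4756, 4788, 4799, 4800, 4803, 4838, 4859, 4883, 4885, 4903, 4905, 4921, 4927, 4946, 4965, 4990, 5011, 5018, 5034, 5057, 5065, 5073, 5082, 5084, 5103, 5155, 5156]) (.leaf [])) (.leaf [])) (.node (.leaf []) (.node (.leaf [966, 975, 1132, 1153, 1204, 1213, 1371, 1392, 1457, 1473, 1613, 1634]) (.leaf [])))) (.leaf [])) (.node (.node (.node (.node (.leaf [108, 119]) (.leaf [])) (.leaf [])) (.leaf [])) (.node (.leaf []) (.node (.node (.leaf [720, 723, 758, 779, 803, 805, 823, 825]) (.leaf [])) (.leaf []))))))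

/-- Buckets, part 3. -/
def bucketPart3 : LTree :=
  .node (.node (.node (.node (.leaf []) (.node (.leaf []) (.node (.leaf []) (.node (.leaf [725, 734, 757, 778, 788, 809, 828, 839]) (.leaf []))))) (.node (.node (.leaf []) (.node (.node (.leaf [616, 629, 632, 648, 667, 684, 688, 704]) (.leaf [])) (.leaf []))) (.node (.node (.leaf []) (.node (.leaf [2418, 2434, 2524, 2533, 2724, 2744, 2854, 2870, 2911, 2930, 3056, 3077, 3158, 3179, 3310, 3331, 3401, 3422, 3575, 3591]) (.leaf []))) (.node (.leaf []) (.node (.leaf [1710, 1729, 1854, 1875, 1947, 1966, 2119, 2139, 2198, 2219, 2347, 2368]) (.leaf [])))))) (.node (.node (.node (.node (.node (.leaf [386, 398, 402, 405, 415, 419, 423, 436]) (.leaf [])) (.leaf [])) (.leaf [])) (.node (.leaf []) (.node (.node (.leaf [2452, 2473, 2602, 2622, 2677, 2698, 2789, 2808, 2977, 2993, 3079, 3099, 3161, 3182, 3265, 3284, 3398, 3419, 3485, 3494]) (.leaf [])) (.leaf [])))) (.node (.node (.node (.node (.leaf []) (.leaf [149, 168])) (.leaf [])) (.node (.node (.leaf [1001, 1022, 1137, 1158, 1219, 1235, 1404,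 1424, 1442, 1448, 1580, 1596]) (.leaf [])) (.leaf []))) (.leaf [])))) (.node (.node (.node (.node (.node (.node (.leaf [4685, 4694, 4722, 4743, 4747, 4760, 4768, 4780, 4818, 4826, 4834, 4843, 4845, 4864, 4906, 4917, 4931, 4943, 4958, 4976, 4979, 4997, 5015, 5031, 5042, 5048, 5093, 5095, 5114, 5116, 5134, 5150]) (.leaf [])) (.node (.leaf [1722, 1743, 1851, 1872, 1986, 2007, 2058, 2074, 2228, 2249, 2333, 2354]) (.leaf []))) (.leaf [])) (.node (.node (.leaf []) (.node (.leaf [30, 49]) (.leaf []))) (.node (.node (.leaf [121, 127]) (.leaf [])) (.leaf [])))) (.node (.node (.node (.node (.leaf [1, 7]) (.leaf [])) (.node (.leaf [4100, 4105, 4116, 4124, 4134, 4155, 4176, 4192, 4201, 4207, 4227, 4246, 4293, 4297, 4309, 4313, 5779, 5789, 5795, 5808, 5812, 5826, 5833, 5847, 5881, 5887, 5907, 5926, 5973, 5977, 5989, 5993]) (.leaf []))) (.leaf [])) (.leaf []))) (.node (.node (.leaf []) (.node (.node (.leaf []) (.node (.leaf [216, 232]) (.leaf []))) (.node (.leaf []) (.node (.leaf [69, 90]) (.leaf []))))) (.node (.node (.node (.node (.leaf []) (.leaf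 [2508, 2519, 2585, 2606, 2694, 2715, 2761, 2767, 2918, 2939, 3081, 3101, 3151, 3170, 3323, 3343, 3457, 3473, 3482, 3488])) (.leaf [])) (.leaf [])) (.node (.node (.leaf []) (.node (.leaf [857, 873, 881, 902, 911, 932, 934, 950]) (.leaf []))) (.leaf [])))))

/-- Buckets, part 4. -/
def bucketPart4 : LTree :=
  .node (.node (.node (.node (.node (.node (.leaf []) (.node (.leaf [157, 178]) (.leaf []))) (.node (.node (.leaf [319, 339]) (.leaf [])) (.node (.leaf [26, 45]) (.leaf [])))) (.node (.leaf []) (.node (.node (.leaf [2419, 2435, 2551, 2570, 2709, 2730, 2826, 2847, 2973, 2989, 3084, 3104, 3136, 3152, 3294, 3315, 3371, 3383, 3547, 3568]) (.leaf [])) (.leaf [])))) (.node (.node (.node (.node (.leaf []) (.leaf [188, 209])) (.node (.leaf [486, 495, 545, 548, 550, 566, 569, 571]) (.leaf []))) (.leaf [])) (.leaf []))) (.node (.node (.node (.leaf []) (.node (.node (.leaf [484, 493, 523, 544, 546, 563, 567, 583]) (.leaf [])) (.leaf []))) (.leaf [])) (.node (.node (.node (.leaf []) (.node (.leaf [987, 1006, 1164, 1184, 1241, 1262, 1416, 1432,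 1451, 1463, 1602, 1623]) (.leaf []))) (.node (.leaf []) (.node (.leaf [481, 487, 510, 529, 549, 570, 575, 591]) (.leaf [])))) (.node (.node (.node (.leaf [228, 239]) (.leaf [])) (.leaf [])) (.leaf []))))) (.node (.node (.node (.node (.leaf []) (.node (.leaf []) (.node (.leaf [1733, 1754, 1884, 1904, 1991, 2012, 2050, 2062, 2191, 2210, 2300, 2316]) (.leaf [])))) (.node (.node (.node (.leaf [500, 508, 516, 527, 547, 568, 578, 594]) (.leaf [])) (.leaf [])) (.leaf []))) (.node (.node (.leaf []) (.node (.leaf []) (.node (.leaf [4089, 4101, 4131, 4135, 4149, 4152, 4156, 4170, 4206, 4211, 4215, 4223, 4266, 4287, 4315, 4316, 5787, 5799, 5806, 5817, 5820, 5831, 5838, 5852, 5886, 5891, 5895, 5903, 5946, 5967, 5995, 5996]) (.leaf [])))) (.node (.node (.leaf []) (.node (.leaf [490, 502, 534, 537, 555, 558, 560, 580]) (.leaf []))) (.node (.leaf []) (.node (.leaf [296, 317]) (.leaf [])))))) (.node (.node (.node (.node (.leaf []) (.node (.leaf [3721, 3727, 3749, 3768, 3814, 3816, 3830, 3832, 4340, 4348, 4356, 4367, 4387, 4408, 4418, 4434, 5656, 5665,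 5672, 5684, 5710, 5723, 5731, 5743, 6020, 6028, 6036, 6047, 6067, 6088, 6098, 6114]) (.leaf []))) (.leaf [])) (.node (.leaf []) (.node (.node (.leaf [497, 505, 513, 522, 524, 543, 595, 596]) (.leaf [])) (.leaf [])))) (.node (.node (.node (.leaf []) (.node (.leaf [19, 35]) (.leaf []))) (.leaf [])) (.node (.node (.node (.leaf [2481, 2501, 2600, 2620, 2658, 2674, 2780, 2796, 2896, 2912, 3017, 3033, 3213, 3229, 3281, 3302, 3442, 3462, 3523, 3544]) (.leaf [])) (.leaf [])) (.node (.leaf []) (.node (.leaf [499, 506, 515, 525, 551, 561, 572, 581]) (.leaf [])))))))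

/-- Buckets, part 5. -/
def bucketPart5 : LTree :=
  .node (.node (.node (.node (.leaf []) (.node (.node (.leaf []) (.node (.leaf [2437, 2458, 2605, 2625, 2650, 2662, 2829, 2850, 2922, 2943, 3002, 3008, 3235, 3236, 3244, 3253, 3385, 3404, 3561, 3581]) (.leaf []))) (.leaf []))) (.node (.node (.leaf []) (.node (.leaf []) (.node (.leaf [609, 621, 651, 655, 669, 672, 676, 690]) (.leaf [])))) (.node (.node (.node (.leaf [186, 207]) (.leaf [])) (.leaf [])) (.leaf [])))) (.node (.node (.node (.node (.leaf []) (.node (.leaf [846, 851, 855, 863, 906, 927, 955, 956]) (.leaf []))) (.node (.leaf []) (.node (.leaf [259, 275]) (.leaf [])))) (.node (.leaf []) (.node (.leaf []) (.node (.leaf [2507, 2518, 2558, 2579, 2695, 2716, 2766, 2775, 2897, 2913, 3054, 3075, 3145, 3164, 3324, 3344, 3475, 3476, 3500, 3516]) (.leaf []))))) (.node (.node (.node (.node (.leaf [4108, 4117, 4127, 4138, 4163, 4174, 4183, 4190, 4229, 4238, 4248, 4257, 4259, 4268, 4278, 4289, 5760, 5761, 5763, 5767, 5868, 5875, 5876, 5879, 5909, 5918, 5928, 5937, 5939, 5948, 5958, 5969])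 (.leaf [])) (.leaf [])) (.leaf [])) (.leaf [])))) (.node (.node (.leaf []) (.node (.node (.node (.node (.leaf []) (.leaf [3845, 3849, 3854, 3861, 3925, 3936, 3945, 3952, 4470, 4479, 4482, 4489, 4492, 4500, 4503, 4513, 5190, 5199, 5202, 5209, 5212, 5220, 5223, 5233, 5430, 5439, 5442, 5449, 5452, 5460, 5463, 5473])) (.node (.leaf [66, 87]) (.leaf []))) (.node (.node (.leaf [140, 156]) (.leaf [])) (.leaf []))) (.node (.node (.node (.leaf [2427, 2446, 2603, 2623, 2656, 2672, 2831, 2852, 2995, 2996, 3052, 3073, 3162, 3183, 3249, 3261, 3377, 3393, 3510, 3529]) (.leaf [])) (.leaf [])) (.leaf [])))) (.node (.node (.node (.node (.node (.leaf []) (.leaf [2456, 2477, 2520, 2523, 2748, 2759, 2827, 2848, 2905, 2924, 3093, 3109, 3137, 3153, 3337, 3353, 3402, 3423, 3548, 3569])) (.leaf [])) (.leaf [])) (.node (.node (.node (.leaf [1709, 1728, 1907, 1918, 1973, 1994, 2060, 2076, 2169, 2181, 2306, 2325]) (.leaf [])) (.leaf [])) (.leaf []))) (.node (.node (.leaf []) (.node (.node (.leaf [265, 284]) (.leaf [])) (.leaf []))) (.leaf []))))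

/-- Buckets, part 6. -/
def bucketPart6 : LTree :=
  .node (.node (.node (.node (.node (.node (.node (.leaf []) (.leaf [145, 164])) (.leaf [])) (.node (.node (.leaf [979, 995, 1131, 1152, 1206, 1215, 1377, 1398, 1441, 1447, 1576, 1592]) (.leaf [])) (.leaf []))) (.leaf [])) (.node (.node (.node (.node (.leaf [4699, 4708, 4715, 4727, 4745, 4766, 4775, 4791, 4802, 4808, 4852, 4854, 4873, 4875, 4893, 4909, 4925, 4934, 4961, 4982, 4986, 4999, 5007, 5019, 5069, 5080, 5088, 5091, 5101, 5112, 5146, 5157]) (.leaf [])) (.leaf [])) (.leaf [])) (.node (.leaf []) (.node (.node (.leaf [139, 155]) (.leaf [])) (.leaf []))))) (.node (.leaf []) (.node (.leaf []) (.node (.leaf []) (.node (.node (.leaf [252, 264]) (.leaf [])) (.node (.leaf [37, 58]) (.leaf []))))))) (.node (.node (.node (.node (.node (.node (.leaf []) (.leaf [2443, 2464, 2628, 2639, 2640, 2643, 2813, 2834, 2949, 2970, 3011, 3023, 3215, 3231, 3246, 3255, 3390, 3409, 3518, 3539])) (.leaf [])) (.leaf [])) (.node (.leaf []) (.node (.leaf []) (.node (.leaf [324, 344]) (.leaf []))))) (.node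 (.node (.leaf []) (.node (.leaf []) (.node (.leaf [27, 46]) (.leaf [])))) (.node (.leaf []) (.node (.node (.leaf [2404, 2413, 2588, 2609, 2660, 2676, 2857, 2873, 2975, 2991, 3051, 3072, 3189, 3210, 3252, 3264, 3361, 3367, 3535, 3556]) (.leaf [])) (.node (.leaf [1040, 1060, 1135, 1156, 1315, 1316, 1391, 1412, 1536, 1552, 1643, 1663]) (.leaf [])))))) (.node (.leaf []) (.node (.node (.node (.node (.leaf []) (.leaf [56, 77])) (.leaf [])) (.leaf [])) (.node (.leaf []) (.node (.node (.leaf [4081, 4087, 4106, 4125, 4150, 4171, 4178, 4194, 4231, 4239, 4243, 4250, 4260, 4264, 4296, 4312, 5771, 5778, 5783, 5794, 5840, 5854, 5860, 5870, 5911, 5919, 5923, 5930, 5940, 5944, 5976, 5992]) (.leaf [])) (.leaf []))))))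

/-- Buckets, part 7. -/
def bucketPart7 : LTree :=
  .node (.node (.node (.node (.leaf []) (.node (.leaf []) (.node (.leaf []) (.node (.leaf [4082, 4088, 4111, 4130, 4161, 4181, 4195, 4196, 4209, 4221, 4252, 4256, 4270, 4273, 4277, 4291, 5788, 5800, 5807, 5821, 5839, 5853, 5859, 5869, 5889, 5901, 5932, 5936, 5950, 5953, 5957, 5971]) (.leaf []))))) (.node (.node (.leaf []) (.node (.node (.leaf [3739, 3745, 3755, 3764, 3773, 3794, 3817, 3833, 4330, 4342, 4374, 4377, 4395, 4398, 4400, 4420, 5646, 5652, 5655, 5664, 5736, 5747, 5752, 5758, 6010, 6022, 6054, 6057, 6075, 6078, 6080, 6100]) (.leaf [])) (.leaf []))) (.leaf []))) (.node (.node (.node (.node (.node (.leaf [4697, 4713, 4721, 4742, 4751, 4772, 4774, 4790, 4811, 4823, 4839, 4851, 4860, 4872, 4898, 4914, 4938, 4947, 4954, 4966, 4985, 5005, 5006, 5025, 5050, 5062, 5094, 5097, 5115, 5118, 5120, 5140]) (.leaf [869, 878, 888, 897, 899, 908, 918, 929])) (.leaf [])) (.node (.leaf []) (.node (.leaf [1075, 1076, 1098, 1114, 1282, 1302, 1375, 1396, 1508, 1529, 1600, 1621]) (.leaf []))))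 (.node (.node (.node (.leaf [291, 312]) (.leaf [])) (.node (.leaf [68, 89]) (.leaf []))) (.leaf []))) (.node (.node (.node (.node (.leaf []) (.leaf [1735, 1756, 1839, 1860, 1924, 1933, 2125, 2145, 2197, 2218, 2305, 2324])) (.leaf [])) (.leaf [])) (.leaf [])))) (.node (.node (.node (.node (.node (.leaf []) (.node (.leaf [70, 91]) (.leaf []))) (.leaf [])) (.node (.leaf []) (.node (.node (.leaf [1689, 1701, 1871, 1892, 1962, 1983, 2093, 2114, 2214, 2235, 2363, 2383]) (.leaf [])) (.leaf [])))) (.leaf [])) (.node (.node (.node (.node (.node (.leaf [401, 411, 414, 422, 425, 432, 435, 446]) (.leaf [])) (.leaf [])) (.leaf [])) (.node (.node (.leaf []) (.node (.leaf [1749, 1770, 1857, 1878, 1985, 2006, 2080, 2101, 2186, 2205, 2296, 2312]) (.leaf []))) (.leaf []))) (.node (.node (.leaf []) (.node (.node (.leaf [1041, 1061, 1145, 1166, 1306, 1317, 1358, 1379, 1548, 1559, 1653, 1669]) (.leaf [])) (.leaf []))) (.node (.node (.leaf []) (.node (.leaf [3850, 3862, 3894, 3897, 3915, 3918, 3920, 3940, 4456, 4469, 4472, 4488, 4507, 4524, 4528, 4544,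 5176, 5189, 5192, 5208, 5227, 5244, 5248, 5264, 5416, 5429, 5432, 5448, 5467, 5484, 5488, 5504]) (.leaf []))) (.leaf [])))))

/-- Buckets, part 8. -/
def bucketPart8 : LTree :=
  .node (.node (.node (.node (.node (.node (.node (.leaf [3600, 3601, 3602, 3603, 3604, 3605, 3606, 3607, 3608, 3609, 3610, 3611, 3612, 3613, 3614, 3615, 3616, 3617, 3618, 3619, 3620, 3621, 3622, 3623, 3624, 3625, 3626, 3627, 3628, 3629, 3630, 3631, 3632, 3633, 3634, 3635, 3636, 3637, 3638, 3639, 3640, 3641, 3642, 3643, 3644, 3645, 3646, 3647, 3648, 3649, 3650, 3651, 3652, 3653, 3654, 3655, 3656, 3657, 3658, 3659, 3660, 3661, 3662, 3663, 3664, 3665, 3666, 3667, 3668, 3669, 3670, 3671, 3672, 3673, 3674, 3675, 3676, 3677, 3678, 3679, 3680, 3681, 3682, 3683, 3684, 3685, 3686, 3687, 3688, 3689, 3690, 3691, 3692, 3693, 3694, 3695, 3696, 3697, 3698, 3699, 3700, 3701, 3702, 3703, 3704, 3705, 3706, 3707, 3708, 3709, 3710, 3711, 3712, 3713, 3714, 3715, 3716, 3717, 3718, 3719]) (.leaf [])) (.node (.leaf [1745, 1766, 1855, 1876, 1931, 1943, 2092, 2113, 2177, 2193, 2320,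 2341]) (.leaf []))) (.leaf [])) (.node (.node (.node (.leaf [292, 313]) (.leaf [])) (.leaf [])) (.leaf []))) (.node (.node (.node (.node (.leaf []) (.leaf [1707, 1726, 1842, 1863, 2018, 2034, 2049, 2061, 2254, 2270, 2359, 2379])) (.node (.leaf [3972, 3984, 4011, 4032, 4041, 4043, 4061, 4063, 4578, 4586, 4594, 4603, 4605, 4624, 4666, 4677, 5298, 5306, 5314, 5323, 5325, 5344, 5386, 5397, 5538, 5546, 5554, 5563, 5565, 5584, 5626, 5637]) (.leaf []))) (.leaf [])) (.leaf []))) (.node (.node (.node (.leaf []) (.node (.node (.leaf [3969, 3981, 4012, 4016, 4030, 4033, 4037, 4051, 4565, 4574, 4597, 4618, 4628, 4649, 4668, 4679, 5285, 5294, 5317, 5338, 5348, 5369, 5388, 5399, 5525, 5534, 5557, 5578, 5588, 5609, 5628, 5639]) (.leaf [])) (.leaf []))) (.node (.leaf []) (.node (.node (.leaf [294, 315]) (.leaf [])) (.leaf [])))) (.node (.node (.node (.node (.leaf [227, 238]) (.leaf [])) (.leaf [])) (.node (.leaf []) (.node (.leaf [3960, 3963, 3980, 3996, 4042, 4062, 4066, 4077, 4571, 4583, 4599, 4611, 4620, 4632, 4658, 4674, 5291, 5303, 5319, 5331,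 5340, 5352, 5378, 5394, 5531, 5543, 5559, 5571, 5580, 5592, 5618, 5634]) (.leaf [])))) (.node (.node (.node (.leaf [1765, 1785, 1826, 1845, 1959, 1980, 2096, 2117, 2201, 2222, 2308, 2327]) (.leaf [])) (.node (.leaf [731, 743, 759, 771, 780, 792, 818, 834]) (.leaf []))) (.node (.node (.leaf [999, 1020, 1117, 1138, 1238, 1259, 1321, 1327, 1506, 1527, 1625, 1646]) (.leaf [])) (.leaf [])))))) (.node (.node (.node (.node (.node (.node (.leaf [366, 372, 375, 384, 456, 467, 472, 478]) (.leaf [])) (.leaf [])) (.node (.leaf []) (.node (.leaf [38, 59]) (.leaf [])))) (.node (.node (.node (.leaf [3990, 4000, 4009, 4013, 4021, 4034, 4045, 4065, 4561, 4567, 4589, 4608, 4654, 4656, 4670, 4672, 5281, 5287, 5309, 5328, 5374, 5376, 5390, 5392, 5521, 5527, 5549, 5568, 5614, 5616, 5630, 5632]) (.leaf [])) (.leaf [])) (.node (.leaf []) (.node (.leaf [1012, 1033, 1163, 1183, 1268, 1289, 1435, 1436, 1467, 1486, 1601, 1622]) (.leaf []))))) (.node (.leaf []) (.node (.node (.leaf []) (.node (.leaf [3977, 3993, 4001, 4022, 4031, 4052, 4054, 4070, 4579, 4585,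 4595, 4604, 4613, 4634, 4657, 4673, 5299, 5305, 5315, 5324, 5333, 5354, 5377, 5393, 5539, 5545, 5555, 5564, 5573, 5594, 5617, 5633]) (.leaf []))) (.leaf [])))) (.node (.node (.node (.node (.node (.leaf []) (.leaf [41, 62])) (.node (.leaf [333, 349]) (.leaf []))) (.node (.node (.leaf [849, 861, 892, 896, 910, 913, 917, 931]) (.leaf [])) (.node (.leaf [150, 169]) (.leaf [])))) (.node (.leaf []) (.node (.node (.leaf [3970, 3976, 3982, 3992, 4015, 4036, 4068, 4079, 4562, 4568, 4612, 4614, 4633, 4635, 4653, 4669, 5282, 5288, 5332, 5334, 5353, 5355, 5373, 5389, 5522, 5528, 5572, 5574, 5593, 5595, 5613, 5629]) (.leaf [])) (.leaf [])))) (.node (.node (.node (.node (.leaf [2441, 2462, 2576, 2597, 2693, 2714, 2825, 2846, 2978, 2994, 3096, 3112, 3140, 3156, 3279, 3300, 3388, 3407, 3505, 3524]) (.leaf [])) (.leaf [])) (.node (.leaf []) (.node (.leaf [602, 608, 631, 650, 681, 701, 715, 716]) (.leaf [])))) (.node (.node (.node (.leaf [136, 152]) (.leaf [])) (.leaf [])) (.node (.leaf []) (.node (.leaf [3989, 3998, 4008, 4017, 4019, 4028, 4038, 4049,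 4591, 4600, 4610, 4621, 4630, 4640, 4651, 4660, 5311, 5320, 5330, 5341, 5350, 5360, 5371, 5380, 5551, 5560, 5570, 5581, 5590, 5600, 5611, 5620]) (.leaf [])))))))

/-- Buckets, part 9. -/
def bucketPart9 : LTree :=
  .node (.node (.node (.node (.leaf []) (.node (.node (.leaf []) (.node (.leaf [162, 183]) (.leaf []))) (.node (.leaf []) (.node (.leaf [93, 109]) (.leaf []))))) (.node (.node (.leaf []) (.node (.leaf []) (.node (.leaf [3724, 3733, 3762, 3783, 3785, 3802, 3806, 3822, 4332, 4338, 4344, 4354, 4372, 4393, 4428, 4439, 5667, 5679, 5686, 5697, 5700, 5711, 5718, 5732, 6012, 6018, 6024, 6034, 6052, 6073, 6108, 6119]) (.leaf [])))) (.node (.node (.node (.leaf [1774, 1790, 1800, 1803, 1960, 1981, 2138, 2154, 2229, 2250, 2334, 2355]) (.leaf [])) (.node (.leaf [722, 728, 772, 774, 793, 795, 813, 829]) (.leaf []))) (.leaf [])))) (.node (.node (.node (.node (.leaf []) (.node (.leaf [3852, 3858, 3864, 3874, 3892, 3913, 3948, 3959, 4449, 4461, 4491, 4495, 4509, 4512, 4516, 4530, 5169, 5181, 5211, 5215, 5229, 5232, 5236, 5250, 5409, 5421,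 5451, 5455, 5469, 5472, 5476, 5490]) (.leaf []))) (.leaf [])) (.node (.node (.node (.leaf [1044, 1064, 1111, 1130, 1256, 1277, 1413, 1429, 1459, 1475, 1566, 1575]) (.leaf [])) (.leaf [])) (.leaf []))) (.node (.node (.leaf []) (.node (.node (.leaf [202, 222]) (.leaf [])) (.leaf []))) (.leaf [])))) (.node (.node (.node (.node (.leaf []) (.node (.node (.leaf [871, 879, 883, 890, 900, 904, 936, 952]) (.leaf [])) (.leaf []))) (.node (.node (.leaf []) (.node (.leaf [2480, 2500, 2617, 2633, 2649, 2661, 2771, 2783, 2923, 2944, 3037, 3058, 3203, 3223, 3266, 3285, 3426, 3447, 3508, 3527]) (.leaf []))) (.leaf []))) (.node (.node (.node (.node (.leaf [2454, 2475, 2573, 2594, 2696, 2717, 2811, 2832, 2884, 2893, 3005, 3014, 3186, 3207, 3282, 3303, 3443, 3463, 3559, 3579]) (.leaf [268, 287])) (.leaf [])) (.node (.node (.leaf [1717, 1738, 1915, 1916, 1990, 2011, 2044, 2053, 2178, 2194, 2321, 2342]) (.leaf [])) (.leaf []))) (.node (.leaf []) (.node (.node (.leaf [11, 23]) (.leaf [])) (.leaf []))))) (.node (.node (.leaf []) (.node (.leaf []) (.node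 (.leaf []) (.node (.leaf [2410, 2422, 2539, 2555, 2692, 2713, 2858, 2874, 2963, 2983, 3068, 3089, 3163, 3184, 3278, 3299, 3364, 3373, 3573, 3589]) (.leaf []))))) (.node (.leaf []) (.node (.leaf []) (.node (.node (.leaf [185, 206]) (.leaf [])) (.leaf []))))))

/-- Buckets, part 10. -/
def bucketPart10 : LTree :=
  .node (.node (.node (.node (.node (.node (.node (.leaf []) (.leaf [1711, 1730, 1828, 1847, 1988, 2009, 2111, 2132, 2266, 2277, 2387, 2398])) (.leaf [])) (.node (.leaf []) (.node (.leaf [2493, 2509, 2532, 2544, 2747, 2758, 2800, 2821, 2889, 2901, 3066, 3087, 3125, 3134, 3355, 3356, 3445, 3465, 3521, 3542]) (.leaf [])))) (.node (.node (.node (.leaf [1017, 1038, 1106, 1125, 1231, 1250, 1414, 1430, 1446, 1455, 1564, 1573]) (.leaf [])) (.leaf [])) (.node (.node (.leaf [611, 623, 638, 656, 659, 677, 695, 711]) (.leaf [])) (.leaf [])))) (.node (.leaf []) (.node (.leaf []) (.node (.node (.leaf [1682, 1688, 1879, 1899, 2028, 2039, 2057, 2073, 2242, 2262, 2376, 2392]) (.leaf [])) (.node (.leaf [729, 741, 748, 767, 777, 798, 835, 836])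 (.leaf [])))))) (.node (.node (.leaf []) (.node (.leaf []) (.node (.node (.leaf [972, 984, 1150, 1171, 1243, 1264, 1331, 1343, 1511, 1532, 1657, 1673]) (.leaf [])) (.node (.leaf [269, 288]) (.leaf []))))) (.node (.node (.node (.leaf []) (.node (.leaf [200, 220]) (.leaf []))) (.node (.leaf []) (.node (.leaf [79, 99]) (.leaf [])))) (.leaf [])))) (.node (.leaf []) (.node (.node (.node (.node (.leaf []) (.node (.leaf [1013, 1034, 1178, 1194, 1296, 1312, 1400, 1420, 1509, 1530, 1644, 1664]) (.leaf []))) (.leaf [])) (.leaf [])) (.node (.node (.node (.leaf []) (.node (.leaf [2482, 2502, 2537, 2553, 2738, 2754, 2791, 2810, 2885, 2894, 3055, 3076, 3129, 3141, 3348, 3359, 3456, 3472, 3531, 3552]) (.leaf []))) (.leaf [])) (.node (.node (.leaf []) (.node (.leaf [190, 211]) (.leaf []))) (.leaf [])))))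

/-- Buckets, part 11. -/
def bucketPart11 : LTree :=
  .node (.node (.node (.leaf []) (.node (.node (.node (.node (.leaf [387, 399, 406, 417, 420, 431, 438, 452]) (.leaf [])) (.leaf [])) (.node (.node (.leaf [267, 286]) (.leaf [])) (.leaf []))) (.leaf []))) (.node (.node (.node (.node (.node (.leaf []) (.leaf [3859, 3866, 3875, 3885, 3911, 3921, 3932, 3941, 4468, 4477, 4487, 4498, 4523, 4534, 4543, 4550, 5188, 5197, 5207, 5218, 5243, 5254, 5263, 5270, 5428, 5437, 5447, 5458, 5483, 5494, 5503, 5510])) (.node (.leaf [25, 44]) (.leaf []))) (.leaf [])) (.leaf [])) (.leaf []))) (.node (.node (.node (.leaf []) (.node (.node (.node (.leaf [235, 236]) (.leaf [])) (.leaf [])) (.node (.node (.leaf [17, 33]) (.leaf [])) (.leaf [])))) (.node (.node (.node (.node (.leaf []) (.leaf [985, 1004, 1091, 1103, 1212, 1224, 1330, 1342, 1470, 1489, 1589, 1608])) (.node (.leaf [2469, 2490, 2618, 2634, 2657, 2673, 2797, 2818, 2960, 2980, 3053, 3074, 3177, 3198, 3280, 3301, 3414, 3435, 3492, 3504]) (.leaf []))) (.leaf [])) (.node (.node (.node (.leaf [617,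 633, 643, 664, 668, 689, 693, 709]) (.leaf [])) (.node (.leaf [129, 141]) (.leaf []))) (.leaf [])))) (.node (.node (.node (.node (.node (.leaf [4709, 4718, 4728, 4737, 4739, 4748, 4758, 4769, 4820, 4827, 4836, 4846, 4855, 4866, 4876, 4887, 4950, 4959, 4962, 4969, 4972, 4980, 4983, 4993, 5059, 5066, 5075, 5085, 5111, 5121, 5132, 5141]) (.leaf [])) (.leaf [])) (.leaf [])) (.node (.node (.node (.leaf [295, 316]) (.leaf [])) (.leaf [])) (.node (.node (.leaf [148, 167]) (.leaf [])) (.leaf [])))) (.node (.node (.node (.node (.leaf [115, 116]) (.leaf [])) (.leaf [])) (.leaf [])) (.leaf []))))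

/-- Buckets, part 12. -/
def bucketPart12 : LTree :=
  .node (.node (.node (.leaf []) (.node (.node (.node (.node (.leaf []) (.leaf [53, 74])) (.leaf [])) (.node (.leaf []) (.node (.leaf [205, 225]) (.leaf [])))) (.leaf []))) (.node (.node (.node (.node (.node (.leaf [360, 361, 363, 367, 468, 475, 476, 479]) (.leaf [])) (.leaf [])) (.node (.node (.leaf [258, 274]) (.leaf [])) (.leaf []))) (.node (.leaf []) (.node (.leaf []) (.node (.leaf [969, 981, 1123, 1144, 1237, 1258, 1322, 1328, 1505, 1526, 1631, 1652]) (.leaf []))))) (.node (.node (.node (.node (.leaf [1775, 1791, 1810, 1822, 1938, 1954, 2133, 2149, 2202, 2223, 2309, 2328]) (.leaf [158, 179])) (.leaf [])) (.leaf [])) (.node (.node (.leaf []) (.node (.leaf [4098, 4107, 4114, 4126, 4145, 4165, 4166, 4185, 4200, 4203, 4220, 4236, 4282, 4302, 4306, 4317, 5786, 5798, 5802, 5805, 5815, 5819, 5823, 5836, 5880, 5883, 5900, 5916, 5962, 5982, 5986, 5997]) (.leaf []))) (.node (.leaf []) (.node (.leaf [2417, 2433, 2572, 2593, 2659, 2675, 2845, 2865, 2931, 2952, 3006, 3015, 3226, 3237, 3251,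 3263, 3400, 3421, 3577, 3593]) (.leaf []))))))) (.node (.node (.node (.node (.node (.node (.leaf [4689, 4701, 4732, 4736, 4750, 4753, 4757, 4771, 4819, 4825, 4835, 4844, 4853, 4874, 4897, 4913, 4936, 4949, 4952, 4968, 4987, 5004, 5008, 5024, 5044, 5053, 5083, 5104, 5106, 5123, 5127, 5143]) (.leaf [740, 747, 756, 766, 775, 786, 796, 807])) (.leaf [])) (.leaf [])) (.leaf [])) (.node (.node (.leaf []) (.node (.leaf []) (.node (.leaf [2425, 2444, 2522, 2528, 2735, 2751, 2843, 2863, 2920, 2941, 3067, 3088, 3149, 3168, 3320, 3340, 3411, 3432, 3564, 3584]) (.leaf [])))) (.node (.leaf []) (.node (.leaf []) (.node (.leaf [203, 223]) (.leaf [])))))) (.node (.node (.node (.leaf []) (.node (.node (.leaf [3844, 3853, 3883, 3904, 3906, 3923, 3927, 3943, 4442, 4448, 4471, 4490, 4521, 4541, 4555, 4556, 5162, 5168, 5191, 5210, 5241, 5261, 5275, 5276, 5402, 5408, 5431, 5450, 5481, 5501, 5515, 5516]) (.leaf [])) (.node (.leaf [1736, 1757, 1817, 1833, 1946, 1965, 2137, 2153, 2240, 2260, 2346, 2367]) (.leaf [])))) (.leaf [])) (.node (.node (.node (.node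 (.leaf []) (.leaf [2515, 2516, 2574, 2595, 2705, 2726, 2760, 2763, 2909, 2928, 3071, 3092, 3160, 3181, 3334, 3350, 3466, 3477, 3484, 3493])) (.leaf [])) (.node (.leaf []) (.node (.leaf [3725, 3734, 3757, 3778, 3788, 3809, 3828, 3839, 4324, 4333, 4363, 4384, 4386, 4403, 4407, 4423, 5668, 5680, 5687, 5701, 5719, 5733, 5739, 5749, 6004, 6013, 6043, 6064, 6066, 6083, 6087, 6103]) (.leaf [])))) (.node (.node (.node (.leaf [1718, 1739, 1898, 1914, 1963, 1984, 2067, 2086, 2165, 2174, 2299, 2315]) (.leaf [])) (.leaf [])) (.node (.leaf []) (.node (.leaf [346, 357]) (.leaf [])))))))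

/-- Buckets, part 13. -/
def bucketPart13 : LTree :=
  .node (.node (.node (.node (.node (.node (.node (.leaf [391, 397, 410, 418, 429, 442, 450, 462]) (.leaf [])) (.node (.leaf [146, 165]) (.leaf []))) (.leaf [])) (.node (.node (.leaf []) (.node (.leaf [1723, 1744, 1895, 1911, 2001, 2021, 2046, 2055, 2200, 2221, 2307, 2326]) (.leaf []))) (.leaf []))) (.node (.node (.node (.leaf []) (.node (.leaf [620, 625, 636, 644, 654, 675, 696, 712]) (.leaf []))) (.node (.node (.leaf [1054, 1070, 1090, 1102, 1225, 1244, 1387, 1408, 1471, 1490, 1560, 1563]) (.leaf [])) (.leaf []))) (.node (.node (.leaf []) (.node (.leaf [4085, 4094, 4121, 4142, 4146, 4159, 4167, 4179, 4210, 4216, 4222, 4232, 4255, 4276, 4308, 4319, 5780, 5790, 5796, 5809, 5828, 5841, 5849, 5861, 5890, 5896, 5902, 5912, 5935, 5956, 5988, 5999]) (.leaf []))) (.leaf [])))) (.node (.node (.leaf []) (.node (.node (.leaf []) (.node (.leaf [2494, 2510, 2529, 2541, 2737, 2753, 2778, 2794, 2919, 2940, 3107, 3118, 3120, 3123, 3338, 3354, 3439, 3459, 3499, 3515]) (.leaf []))) (.leaf [])))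 (.node (.node (.leaf []) (.node (.node (.leaf [1748, 1769, 1802, 1808, 1976, 1997, 2106, 2127, 2245, 2265, 2351, 2372]) (.leaf [])) (.leaf []))) (.leaf [])))) (.node (.node (.node (.node (.node (.leaf []) (.node (.leaf [2402, 2408, 2577, 2598, 2667, 2686, 2866, 2877, 2964, 2984, 3041, 3062, 3199, 3219, 3257, 3273, 3360, 3363, 3546, 3567]) (.leaf []))) (.node (.node (.leaf [3867, 3877, 3886, 3896, 3898, 3917, 3947, 3958, 4441, 4447, 4466, 4485, 4510, 4531, 4538, 4554, 5161, 5167, 5186, 5205, 5230, 5251, 5258, 5274, 5401, 5407, 5426, 5445, 5470, 5491, 5498, 5514]) (.leaf [])) (.leaf []))) (.node (.node (.leaf []) (.node (.leaf [163, 184]) (.leaf []))) (.node (.leaf []) (.node (.leaf [28, 47]) (.leaf []))))) (.leaf [])) (.node (.node (.leaf []) (.node (.node (.node (.leaf [997, 1018, 1177, 1193, 1279, 1299, 1363, 1384, 1520, 1540, 1675, 1676]) (.leaf [])) (.leaf [])) (.leaf []))) (.node (.leaf []) (.node (.leaf []) (.node (.node (.leaf [1773, 1789, 1805, 1814, 1930, 1942, 2155, 2156, 2213, 2234, 2319, 2340]) (.leaf [])) (.leaf []))))))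

/-- Buckets, part 14. -/
def bucketPart14 : LTree :=
  .node (.node (.node (.node (.node (.leaf []) (.node (.node (.leaf [726, 735, 787, 789, 791, 808, 810, 812]) (.leaf [])) (.node (.leaf [176, 197]) (.leaf [])))) (.node (.leaf []) (.node (.node (.leaf [3738, 3746, 3754, 3763, 3765, 3784, 3826, 3837, 4326, 4335, 4385, 4388, 4390, 4406, 4409, 4411, 5650, 5657, 5662, 5673, 5725, 5738, 5745, 5754, 6006, 6015, 6065, 6068, 6070, 6086, 6089, 6091]) (.leaf [])) (.leaf [])))) (.node (.leaf []) (.node (.leaf []) (.node (.leaf []) (.node (.leaf [4084, 4093, 4120, 4141, 4151, 4172, 4188, 4199, 4205, 4214, 4242, 4263, 4267, 4280, 4288, 4300, 5791, 5797, 5810, 5818, 5829, 5842, 5850, 5862, 5885, 5894, 5922, 5943, 5947, 5960, 5968, 5980]) (.leaf [])))))) (.node (.node (.node (.node (.node (.leaf []) (.leaf [199, 219])) (.leaf [])) (.node (.node (.leaf [1031, 1052, 1134, 1155, 1297, 1313, 1349, 1368, 1555, 1556, 1642, 1662]) (.leaf [])) (.node (.leaf [347, 358]) (.leaf [])))) (.node (.node (.node (.leaf [5, 14]) (.leaf [])) (.leaf [])) (.leaf [])))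 (.node (.node (.node (.leaf []) (.node (.leaf [1786, 1797, 1856, 1877, 1932, 1944, 2108, 2129, 2164, 2173, 2281, 2287]) (.leaf []))) (.leaf [])) (.node (.node (.node (.leaf [281, 302]) (.leaf [])) (.leaf [])) (.leaf []))))) (.node (.node (.node (.node (.leaf []) (.node (.leaf []) (.node (.leaf [2428, 2447, 2616, 2632, 2646, 2655, 2839, 2859, 2932, 2953, 3004, 3013, 3228, 3239, 3242, 3248, 3378, 3394, 3551, 3572]) (.leaf [])))) (.leaf [])) (.node (.node (.node (.node (.leaf [270, 289]) (.leaf [])) (.leaf [])) (.leaf [])) (.leaf []))) (.node (.node (.node (.node (.node (.leaf []) (.leaf [2467, 2488, 2521, 2527, 2755, 2756, 2816, 2837, 2898, 2914, 3082, 3102, 3132, 3144, 3346, 3357, 3412, 3433, 3537, 3558])) (.leaf [])) (.node (.node (.leaf [96, 112]) (.leaf [])) (.leaf []))) (.node (.node (.leaf []) (.node (.leaf [605, 614, 641, 662, 666, 679, 687, 699]) (.leaf []))) (.leaf []))) (.node (.leaf []) (.node (.node (.leaf []) (.node (.leaf [1777, 1793, 1867, 1888, 1937, 1953, 2097, 2118, 2162, 2168, 2280, 2283]) (.leaf []))) (.node (.leaf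 []) (.node (.leaf [964, 973, 1176, 1192, 1227, 1246, 1372, 1393, 1468, 1487, 1629, 1650]) (.leaf [])))))))

/-- Buckets, part 15. -/
def bucketPart15 : LTree :=
  .node (.node (.node (.node (.leaf []) (.node (.leaf []) (.node (.leaf []) (.node (.leaf [2496, 2512, 2575, 2596, 2678, 2699, 2772, 2784, 2951, 2972, 3080, 3100, 3139, 3155, 3307, 3328, 3441, 3461, 3480, 3483]) (.leaf []))))) (.node (.node (.node (.node (.leaf [4706, 4717, 4725, 4734, 4738, 4755, 4764, 4784, 4804, 4813, 4842, 4863, 4865, 4882, 4886, 4902, 4929, 4941, 4971, 4975, 4989, 4992, 4996, 5010, 5071, 5078, 5081, 5090, 5099, 5102, 5137, 5153]) (.leaf [])) (.leaf [])) (.leaf [])) (.node (.leaf []) (.node (.node (.leaf [215, 231]) (.leaf [])) (.leaf []))))) (.node (.leaf []) (.node (.leaf []) (.node (.leaf []) (.node (.node (.leaf [322, 342]) (.leaf [])) (.leaf [])))))) (.node (.node (.node (.leaf []) (.node (.node (.node (.leaf [1776, 1792, 1819, 1835, 1950, 1969, 2107, 2128, 2211, 2232, 2317, 2338]) (.leaf [])) (.leaf [])) (.leaf []))) (.node (.node (.leaf []) (.node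 (.node (.leaf [305, 326]) (.leaf [])) (.leaf []))) (.node (.node (.node (.leaf [3730, 3742, 3776, 3797, 3799, 3801, 3819, 3821, 4351, 4358, 4361, 4370, 4379, 4382, 4417, 4433, 5642, 5645, 5648, 5654, 5735, 5746, 5751, 5757, 6031, 6038, 6041, 6050, 6059, 6062, 6097, 6113]) (.leaf [])) (.node (.leaf [1705, 1724, 1829, 1848, 1961, 1982, 2120, 2140, 2241, 2261, 2362, 2382]) (.leaf []))) (.node (.node (.leaf [2409, 2421, 2540, 2556, 2708, 2729, 2844, 2864, 2899, 2915, 3040, 3061, 3191, 3212, 3293, 3314, 3386, 3405, 3588, 3599]) (.leaf [])) (.leaf []))))) (.node (.node (.leaf []) (.node (.leaf []) (.node (.node (.leaf [1734, 1755, 1866, 1887, 1936, 1952, 2082, 2103, 2172, 2184, 2311, 2330]) (.leaf [])) (.node (.leaf [604, 613, 640, 661, 671, 692, 708, 719]) (.leaf []))))) (.node (.node (.node (.leaf []) (.node (.leaf [244, 253]) (.leaf []))) (.node (.node (.leaf [845, 854, 882, 903, 907, 920, 928, 940]) (.leaf [])) (.node (.leaf [137, 153]) (.leaf [])))) (.leaf []))))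

/-- Buckets, part 16. -/
def bucketPart16 : LTree :=
  .node (.node (.node (.node (.leaf []) (.node (.node (.node (.leaf [122, 128]) (.leaf [])) (.leaf [])) (.node (.node (.leaf [10, 22]) (.leaf [])) (.leaf [])))) (.node (.node (.leaf []) (.node (.leaf []) (.node (.leaf [1759, 1779, 1868, 1889, 1974, 1995, 2071, 2090, 2179, 2195, 2291, 2303]) (.leaf [])))) (.node (.node (.node (.leaf [870, 880, 889, 893, 901, 914, 925, 945]) (.leaf [])) (.leaf [])) (.leaf [])))) (.node (.node (.node (.node (.node (.leaf [4698, 4705, 4714, 4724, 4749, 4759, 4770, 4779, 4831, 4840, 4850, 4861, 4870, 4880, 4891, 4900, 4948, 4957, 4967, 4978, 5003, 5014, 5023, 5030, 5051, 5056, 5063, 5072, 5122, 5133, 5142, 5149]) (.leaf [])) (.leaf [])) (.node (.leaf []) (.node (.leaf [971, 983, 1188, 1199, 1242, 1263, 1389, 1410, 1483, 1504, 1645, 1665]) (.leaf [])))) (.node (.leaf []) (.node (.node (.leaf [213, 229]) (.leaf [])) (.leaf [])))) (.node (.node (.node (.node (.leaf []) (.leaf [1746, 1767, 1830, 1849, 1922, 1928, 2136, 2152, 2188, 2207, 2298, 2314])) (.leaf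 [])) (.node (.leaf []) (.node (.leaf [2406, 2415, 2546, 2565, 2682, 2703, 2867, 2878, 2974, 2990, 3057, 3078, 3173, 3194, 3269, 3288, 3362, 3368, 3562, 3582]) (.leaf [])))) (.node (.node (.node (.leaf [1055, 1071, 1120, 1141, 1267, 1288, 1402, 1422, 1466, 1485, 1570, 1582]) (.leaf [])) (.node (.leaf [271, 290]) (.leaf []))) (.leaf []))))) (.node (.node (.node (.node (.node (.node (.leaf []) (.leaf [4110, 4119, 4122, 4129, 4132, 4140, 4143, 4153, 4202, 4204, 4208, 4213, 4298, 4307, 4314, 4318, 5801, 5811, 5814, 5822, 5825, 5832, 5835, 5846, 5882, 5884, 5888, 5893, 5978, 5987, 5994, 5998])) (.leaf [])) (.leaf [])) (.leaf [])) (.node (.node (.node (.node (.leaf [998, 1019, 1151, 1172, 1280, 1300, 1357, 1378, 1546, 1557, 1658, 1674]) (.leaf [])) (.node (.leaf [280, 301]) (.leaf []))) (.leaf [])) (.node (.leaf []) (.node (.leaf []) (.node (.leaf [1721, 1742, 1820, 1836, 2013, 2029, 2079, 2100, 2255, 2271, 2360, 2380]) (.leaf [])))))) (.node (.node (.node (.node (.node (.leaf [362, 365, 368, 374, 455, 466, 471, 477]) (.leaf [])) (.node (.leaf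 [174, 195]) (.leaf []))) (.node (.leaf []) (.node (.leaf [57, 78]) (.leaf [])))) (.leaf [])) (.leaf [])))

/-- Buckets, part 17. -/
def bucketPart17 : LTree :=
  .node (.node (.node (.node (.node (.node (.node (.leaf [4681, 4687, 4707, 4726, 4773, 4777, 4789, 4793, 4809, 4821, 4828, 4847, 4857, 4878, 4915, 4916, 4924, 4933, 4960, 4981, 4991, 5012, 5028, 5039, 5040, 5043, 5079, 5100, 5119, 5124, 5139, 5144]) (.leaf [630, 639, 642, 649, 652, 660, 663, 673])) (.node (.leaf [1684, 1693, 1869, 1890, 2035, 2036, 2052, 2064, 2253, 2269, 2365, 2385]) (.leaf []))) (.leaf [])) (.leaf [])) (.node (.node (.node (.leaf []) (.node (.leaf [3736, 3750, 3752, 3761, 3769, 3782, 3827, 3838, 4320, 4323, 4359, 4380, 4399, 4404, 4419, 4424, 5659, 5669, 5675, 5688, 5692, 5706, 5713, 5727, 6000, 6003, 6039, 6060, 6079, 6084, 6099, 6104]) (.leaf []))) (.leaf [])) (.node (.leaf []) (.node (.leaf []) (.node (.leaf [171, 192]) (.leaf [])))))) (.node (.node (.node (.node (.leaf []) (.node (.leaf [2506, 2517, 2591, 2612, 2679, 2700, 2762, 2768, 2917, 2938, 3038,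 3059, 3176, 3197, 3308, 3329, 3467, 3478, 3491, 3503]) (.leaf []))) (.leaf [])) (.node (.node (.leaf []) (.node (.leaf [159, 180]) (.leaf []))) (.leaf []))) (.node (.node (.node (.node (.leaf [218, 234]) (.leaf [])) (.leaf [])) (.leaf [])) (.node (.leaf []) (.node (.node (.leaf [1003, 1024, 1187, 1198, 1285, 1305, 1390, 1411, 1519, 1539, 1655, 1671]) (.leaf [])) (.node (.leaf [278, 299]) (.leaf []))))))) (.node (.node (.node (.node (.node (.node (.leaf [403, 413, 416, 424, 427, 434, 437, 448]) (.leaf [])) (.leaf [])) (.leaf [])) (.node (.node (.leaf []) (.node (.leaf [1751, 1772, 1882, 1902, 1948, 1967, 2091, 2112, 2161, 2167, 2290, 2302]) (.leaf []))) (.node (.node (.leaf [2429, 2448, 2589, 2610, 2671, 2690, 2812, 2833, 2907, 2926, 3000, 3003, 3227, 3238, 3260, 3276, 3416, 3437, 3560, 3580]) (.leaf [])) (.leaf [])))) (.node (.node (.leaf []) (.node (.node (.leaf [977, 993, 1160, 1180, 1253, 1274, 1336, 1352, 1521, 1541, 1666, 1677]) (.leaf [])) (.node (.leaf [240, 243]) (.leaf [])))) (.leaf []))) (.node (.leaf []) (.node (.node (.node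 (.node (.leaf [2451, 2472, 2587, 2608, 2683, 2704, 2814, 2835, 2987, 2998, 3085, 3105, 3147, 3166, 3270, 3289, 3397, 3418, 3498, 3514]) (.leaf [323, 343])) (.node (.leaf [1053, 1069, 1080, 1083, 1230, 1249, 1345, 1364, 1496, 1517, 1565, 1574]) (.leaf []))) (.leaf [])) (.leaf []))))

/-- Buckets, part 18. -/
def bucketPart18 : LTree :=
  .node (.node (.node (.node (.node (.leaf []) (.node (.node (.leaf [4092, 4104, 4133, 4137, 4154, 4158, 4162, 4182, 4219, 4228, 4235, 4247, 4265, 4286, 4295, 4311, 5764, 5769, 5773, 5781, 5844, 5857, 5864, 5873, 5899, 5908, 5915, 5927, 5945, 5966, 5975, 5991]) (.leaf [])) (.node (.leaf [1699, 1715, 1816, 1832, 2014, 2030, 2094, 2115, 2275, 2276, 2386, 2397]) (.leaf [])))) (.leaf [])) (.node (.node (.node (.node (.leaf []) (.leaf [2400, 2403, 2561, 2582, 2691, 2712, 2875, 2876, 2948, 2969, 3026, 3045, 3190, 3211, 3277, 3298, 3366, 3375, 3578, 3594])) (.leaf [])) (.node (.node (.leaf [12, 24]) (.leaf [])) (.leaf []))) (.node (.node (.leaf []) (.node (.leaf [859, 868, 875, 887, 905, 926, 935, 951]) (.leaf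 []))) (.leaf [])))) (.node (.node (.node (.node (.node (.leaf []) (.leaf [1760, 1780, 1883, 1903, 1949, 1968, 2066, 2085, 2166, 2175, 2282, 2288])) (.leaf [])) (.leaf [])) (.leaf [])) (.node (.node (.node (.leaf []) (.node (.leaf [52, 73]) (.leaf []))) (.leaf [])) (.node (.node (.leaf []) (.node (.leaf [1066, 1077, 1110, 1129, 1298, 1314, 1385, 1406, 1524, 1544, 1616, 1637]) (.leaf []))) (.leaf []))))) (.node (.node (.node (.node (.node (.leaf []) (.node (.leaf [308, 329]) (.leaf []))) (.node (.node (.leaf [612, 624, 653, 657, 674, 678, 682, 702]) (.leaf [])) (.leaf []))) (.leaf [])) (.node (.node (.node (.node (.leaf []) (.leaf [277, 298])) (.node (.leaf [1057, 1073, 1119, 1140, 1307, 1318, 1374, 1395, 1535, 1551, 1627, 1648]) (.leaf []))) (.leaf [])) (.node (.leaf []) (.node (.node (.leaf [18, 34]) (.leaf [])) (.leaf []))))) (.node (.node (.leaf []) (.node (.node (.leaf []) (.node (.leaf [3722, 3728, 3772, 3774, 3793, 3795, 3813, 3829, 4337, 4345, 4353, 4362, 4364, 4383, 4435, 4436, 5660, 5670, 5676, 5689, 5708, 5721, 5729, 5741,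 6017, 6025, 6033, 6042, 6044, 6063, 6115, 6116]) (.leaf []))) (.leaf []))) (.node (.leaf []) (.node (.node (.node (.leaf [245, 254]) (.leaf [])) (.leaf [])) (.leaf [])))))

/-- Buckets, part 19. -/
def bucketPart19 : LTree :=
  .node (.node (.node (.node (.leaf []) (.node (.leaf []) (.node (.leaf []) (.node (.leaf [214, 230]) (.leaf []))))) (.node (.leaf []) (.node (.leaf []) (.node (.node (.leaf [1732, 1753, 1841, 1862, 1975, 1996, 2065, 2084, 2217, 2238, 2323, 2344]) (.leaf [])) (.leaf []))))) (.node (.leaf []) (.node (.leaf []) (.node (.leaf []) (.node (.leaf []) (.node (.leaf [965, 974, 1133, 1154, 1228, 1247, 1324, 1333, 1494, 1515, 1641, 1661]) (.leaf []))))))) (.node (.node (.node (.leaf []) (.node (.node (.node (.leaf [95, 111]) (.leaf [])) (.leaf [])) (.node (.leaf []) (.node (.leaf [2412, 2424, 2562, 2583, 2666, 2685, 2856, 2872, 2921, 2942, 3010, 3022, 3217, 3233, 3256, 3272, 3391, 3410, 3586, 3597]) (.leaf []))))) (.node (.node (.leaf []) (.node (.leaf []) (.node (.leaf [1026, 1047, 1092, 1104, 1265, 1286, 1329, 1341, 1533,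 1549, 1590, 1609]) (.leaf [])))) (.leaf []))) (.node (.node (.leaf []) (.node (.leaf []) (.node (.leaf []) (.node (.leaf [3729, 3741, 3748, 3767, 3777, 3798, 3835, 3836, 4322, 4328, 4373, 4375, 4394, 4396, 4414, 4430, 5671, 5677, 5690, 5698, 5709, 5722, 5730, 5742, 6002, 6008, 6053, 6055, 6074, 6076, 6094, 6110]) (.leaf []))))) (.node (.node (.node (.node (.leaf []) (.leaf [1039, 1059, 1162, 1182, 1295, 1311, 1417, 1433, 1492, 1513, 1628, 1649])) (.leaf [])) (.node (.node (.leaf [3842, 3848, 3893, 3895, 3914, 3916, 3934, 3950, 4444, 4453, 4480, 4501, 4511, 4532, 4548, 4559, 5164, 5173, 5200, 5221, 5231, 5252, 5268, 5279, 5404, 5413, 5440, 5461, 5471, 5492, 5508, 5519]) (.leaf [])) (.node (.leaf [1719, 1740, 1865, 1886, 1940, 1956, 2109, 2130, 2189, 2208, 2336, 2357]) (.leaf [])))) (.leaf []))))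

/-- Buckets, part 20. -/
def bucketPart20 : LTree :=
  .node (.node (.node (.node (.leaf []) (.node (.node (.node (.leaf [1692, 1704, 1897, 1913, 1989, 2010, 2056, 2072, 2199, 2220, 2348, 2369]) (.leaf [])) (.node (.leaf [509, 520, 528, 531, 541, 552, 586, 597]) (.leaf []))) (.leaf []))) (.node (.node (.node (.node (.leaf [491, 496, 503, 512, 562, 573, 582, 589]) (.leaf [])) (.node (.leaf [125, 134]) (.leaf []))) (.node (.leaf []) (.node (.leaf [71, 92]) (.leaf [])))) (.node (.node (.node (.leaf [3860, 3868, 3876, 3887, 3907, 3928, 3938, 3954, 4440, 4443, 4459, 4475, 4520, 4540, 4547, 4558, 5160, 5163, 5179, 5195, 5240, 5260, 5267, 5278, 5400, 5403, 5419, 5435, 5480, 5500, 5507, 5518]) (.leaf [])) (.leaf [])) (.leaf [])))) (.node (.node (.leaf []) (.node (.node (.node (.leaf [2471, 2492, 2590, 2611, 2665, 2684, 2787, 2806, 2891, 2903, 3012, 3024, 3202, 3222, 3291, 3312, 3453, 3469, 3533, 3554]) (.leaf [])) (.leaf [])) (.node (.node (.leaf [1737, 1758, 1804, 1813, 1987, 2008, 2095, 2116, 2256, 2272, 2361, 2381]) (.leaf [])) (.node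 (.leaf [480, 483, 519, 540, 559, 564, 579, 584]) (.leaf []))))) (.node (.node (.leaf []) (.node (.node (.leaf [482, 488, 533, 535, 554, 556, 574, 590]) (.leaf [])) (.leaf []))) (.leaf [])))) (.node (.node (.node (.node (.node (.node (.leaf []) (.leaf [250, 262])) (.node (.leaf [1045, 1065, 1147, 1168, 1294, 1310, 1427, 1438, 1491, 1512, 1586, 1605]) (.leaf []))) (.node (.leaf []) (.node (.leaf [511, 518, 521, 530, 539, 542, 577, 593]) (.leaf [])))) (.leaf [])) (.node (.node (.node (.node (.leaf []) (.leaf [978, 994, 1096, 1112, 1217, 1233, 1326, 1335, 1479, 1500, 1598, 1619])) (.leaf [])) (.leaf [])) (.node (.node (.node (.leaf [507, 517, 526, 536, 538, 557, 587, 598]) (.leaf [])) (.leaf [])) (.leaf [])))) (.node (.node (.node (.node (.node (.leaf [4710, 4720, 4729, 4733, 4741, 4754, 4765, 4785, 4810, 4822, 4856, 4877, 4879, 4881, 4899, 4901, 4937, 4953, 4963, 4984, 4988, 5009, 5013, 5029, 5060, 5068, 5076, 5087, 5107, 5128, 5138, 5154]) (.leaf [485, 489, 494, 501, 565, 576, 585, 592])) (.node (.leaf [1762, 1782, 1809, 1821, 1926,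 1935, 2148, 2159, 2203, 2224, 2310, 2329]) (.leaf []))) (.node (.node (.leaf [2426, 2445, 2560, 2581, 2719, 2739, 2815, 2836, 2962, 2982, 3095, 3111, 3131, 3143, 3305, 3326, 3376, 3392, 3536, 3557]) (.leaf [])) (.leaf []))) (.node (.node (.leaf []) (.node (.leaf [81, 101]) (.leaf []))) (.leaf []))) (.node (.leaf []) (.node (.node (.node (.leaf [1025, 1046, 1109, 1128, 1271, 1292, 1332, 1344, 1538, 1554, 1615, 1636]) (.leaf [])) (.node (.leaf [321, 341]) (.leaf []))) (.node (.node (.leaf [492, 498, 504, 514, 532, 553, 588, 599]) (.leaf [])) (.leaf []))))))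

/-- Buckets, part 21. -/
def bucketPart21 : LTree :=
  .node (.node (.node (.node (.node (.node (.node (.leaf []) (.leaf [3740, 3747, 3756, 3766, 3775, 3786, 3796, 3807, 4325, 4329, 4334, 4341, 4405, 4416, 4425, 4432, 5681, 5691, 5694, 5702, 5705, 5712, 5715, 5726, 6005, 6009, 6014, 6021, 6085, 6096, 6105, 6112])) (.node (.leaf [83, 103]) (.leaf []))) (.node (.node (.leaf [175, 196]) (.leaf [])) (.leaf []))) (.leaf [])) (.node (.node (.node (.node (.leaf []) (.leaf [43, 64])) (.leaf [])) (.leaf [])) (.node (.leaf []) (.node (.leaf []) (.node (.leaf [1696, 1712, 1896, 1912, 2017, 2033, 2040, 2043, 2216, 2237, 2322, 2343]) (.leaf [])))))) (.node (.node (.node (.node (.node (.leaf [376, 385, 392, 404, 430, 443, 451, 463]) (.leaf [])) (.leaf [])) (.leaf [])) (.node (.node (.leaf []) (.node (.leaf [1747, 1768, 1812, 1824, 1939, 1955, 2146, 2157, 2230, 2251, 2335, 2356]) (.leaf []))) (.leaf []))) (.node (.node (.node (.node (.leaf [1764, 1784, 1806, 1815, 1945, 1964, 2122, 2142, 2212, 2233, 2318, 2339]) (.leaf [])) (.leaf [])) (.leaf []))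 (.node (.node (.node (.leaf [4, 13]) (.leaf [])) (.leaf [])) (.leaf []))))) (.node (.node (.node (.node (.node (.node (.leaf [4682, 4684, 4688, 4693, 4778, 4787, 4794, 4798, 4812, 4817, 4824, 4833, 4884, 4895, 4904, 4911, 4926, 4930, 4935, 4942, 5017, 5026, 5033, 5037, 5045, 5049, 5054, 5061, 5125, 5136, 5145, 5152]) (.leaf [])) (.leaf [])) (.leaf [])) (.node (.leaf []) (.node (.node (.leaf [147, 166]) (.leaf [])) (.leaf [])))) (.leaf [])) (.node (.node (.leaf []) (.node (.node (.node (.leaf [730, 742, 776, 797, 799, 801, 819, 821]) (.leaf [])) (.leaf [])) (.node (.node (.leaf [293, 314]) (.leaf [])) (.leaf [])))) (.node (.leaf []) (.node (.leaf []) (.node (.leaf []) (.node (.leaf [337, 353]) (.leaf [])))))))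

/-- Buckets, part 22. -/
def bucketPart22 : LTree :=
  .node (.node (.node (.node (.node (.node (.node (.leaf [388, 400, 407, 421, 439, 453, 459, 469]) (.leaf [])) (.leaf [])) (.leaf [])) (.node (.leaf []) (.node (.node (.leaf [2466, 2487, 2557, 2578, 2722, 2742, 2779, 2795, 2881, 2887, 3039, 3060, 3150, 3169, 3336, 3352, 3455, 3471, 3522, 3543]) (.leaf [])) (.leaf [])))) (.node (.leaf []) (.node (.node (.leaf []) (.node (.leaf [3869, 3880, 3888, 3891, 3901, 3912, 3946, 3957, 4452, 4464, 4493, 4497, 4514, 4518, 4522, 4542, 5172, 5184, 5213, 5217, 5234, 5238, 5242, 5262, 5412, 5424, 5453, 5457, 5474, 5478, 5482, 5502]) (.leaf []))) (.leaf [])))) (.node (.node (.node (.node (.leaf []) (.node (.leaf [257, 273]) (.leaf []))) (.node (.node (.leaf [739, 745, 755, 764, 773, 794, 817, 833]) (.leaf [])) (.node (.leaf [173, 194]) (.leaf [])))) (.leaf [])) (.node (.node (.leaf []) (.node (.leaf []) (.node (.leaf [840, 843, 860, 876, 922, 942, 946, 957]) (.leaf [])))) (.leaf [])))) (.node (.node (.node (.node (.node (.node (.leaf []) (.leaf [1067,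 1078, 1089, 1101, 1266, 1287, 1359, 1380, 1534, 1550, 1585, 1604])) (.leaf [])) (.node (.node (.leaf [3726, 3735, 3787, 3789, 3791, 3808, 3810, 3812, 4349, 4360, 4368, 4371, 4381, 4392, 4426, 4437, 5644, 5649, 5653, 5661, 5724, 5737, 5744, 5753, 6029, 6040, 6048, 6051, 6061, 6072, 6106, 6117]) (.leaf [])) (.leaf []))) (.leaf [])) (.node (.node (.leaf []) (.node (.node (.leaf [107, 118]) (.leaf [])) (.leaf []))) (.node (.node (.leaf []) (.node (.leaf [618, 627, 634, 646, 665, 685, 686, 705]) (.leaf []))) (.node (.leaf []) (.node (.leaf [335, 351]) (.leaf [])))))) (.node (.node (.node (.leaf []) (.node (.leaf []) (.node (.leaf [2483, 2503, 2525, 2534, 2746, 2757, 2785, 2804, 2910, 2929, 3098, 3114, 3121, 3127, 3347, 3358, 3429, 3450, 3506, 3525]) (.leaf [])))) (.leaf [])) (.node (.node (.leaf []) (.node (.node (.leaf [217, 233]) (.leaf [])) (.leaf []))) (.node (.node (.leaf []) (.node (.leaf [960, 963, 1149, 1170, 1211, 1223, 1347, 1366, 1469, 1488, 1630, 1651]) (.leaf []))) (.leaf [])))))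

/-- Buckets, part 23. -/
def bucketPart23 : LTree :=
  .node (.node (.node (.node (.node (.node (.node (.leaf []) (.leaf [65, 86])) (.leaf [])) (.leaf [])) (.node (.leaf []) (.node (.leaf []) (.node (.leaf [1731, 1752, 1827, 1846, 2002, 2022, 2070, 2089, 2244, 2264, 2350, 2371]) (.leaf []))))) (.node (.leaf []) (.node (.node (.node (.leaf [126, 135]) (.leaf [])) (.leaf [])) (.leaf [])))) (.node (.node (.node (.node (.node (.leaf []) (.leaf [189, 210])) (.leaf [])) (.leaf [])) (.leaf [])) (.node (.node (.node (.node (.leaf []) (.leaf [732, 737, 744, 753, 804, 815, 824, 831])) (.leaf [])) (.leaf [])) (.leaf [])))) (.node (.node (.node (.leaf []) (.node (.node (.leaf []) (.node (.leaf [338, 354]) (.leaf []))) (.node (.leaf []) (.node (.leaf [191, 212]) (.leaf []))))) (.node (.node (.node (.node (.leaf [279, 300]) (.leaf [])) (.leaf [])) (.leaf [])) (.leaf []))) (.node (.node (.node (.leaf []) (.node (.node (.leaf [6, 15]) (.leaf [])) (.leaf []))) (.node (.leaf []) (.node (.node (.leaf [991, 1010, 1107, 1126, 1200, 1203, 1346, 1365, 1445,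 1454, 1588, 1607]) (.leaf [])) (.node (.leaf [251, 263]) (.leaf []))))) (.node (.node (.node (.node (.leaf [628, 637, 647, 658, 683, 694, 703, 710]) (.leaf [])) (.node (.leaf [187, 208]) (.leaf []))) (.leaf [])) (.node (.leaf []) (.node (.leaf []) (.node (.leaf [962, 968, 1165, 1185, 1220, 1236, 1362, 1383, 1477, 1498, 1639, 1659]) (.leaf [])))))))

/-- Buckets, part 24. -/
def bucketPart24 : LTree :=
  .node (.node (.node (.node (.node (.leaf []) (.node (.leaf []) (.node (.leaf [242, 248]) (.leaf [])))) (.node (.node (.leaf []) (.node (.leaf [3979, 3988, 3995, 4007, 4025, 4046, 4055, 4071, 4566, 4575, 4627, 4629, 4631, 4648, 4650, 4652, 5286, 5295, 5347, 5349, 5351, 5368, 5370, 5372, 5526, 5535, 5587, 5589, 5591, 5608, 5610, 5612]) (.leaf []))) (.leaf []))) (.node (.node (.node (.node (.leaf [3978, 3985, 3994, 4004, 4029, 4039, 4050, 4059, 4572, 4577, 4584, 4593, 4644, 4655, 4664, 4671, 5292, 5297, 5304, 5313, 5364, 5375, 5384, 5391, 5532, 5537, 5544, 5553, 5604, 5615, 5624, 5631]) (.leaf [])) (.node (.leaf [1698, 1714, 1838, 1859,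 1971, 1992, 2110, 2131, 2231, 2252, 2373, 2389]) (.leaf []))) (.node (.node (.leaf [2438, 2459, 2599, 2619, 2680, 2701, 2802, 2823, 2900, 2916, 3001, 3007, 3218, 3234, 3267, 3286, 3427, 3448, 3550, 3571]) (.leaf [])) (.leaf []))) (.leaf []))) (.node (.node (.node (.node (.leaf []) (.node (.leaf [990, 1009, 1108, 1127, 1229, 1248, 1320, 1323, 1495, 1516, 1614, 1635]) (.leaf []))) (.leaf [])) (.node (.leaf []) (.node (.leaf []) (.node (.leaf [3961, 3967, 3987, 4006, 4053, 4057, 4069, 4073, 4576, 4590, 4592, 4601, 4609, 4622, 4667, 4678, 5296, 5310, 5312, 5321, 5329, 5342, 5387, 5398, 5536, 5550, 5552, 5561, 5569, 5582, 5627, 5638]) (.leaf []))))) (.node (.node (.node (.leaf []) (.node (.leaf [2431, 2450, 2530, 2542, 2725, 2745, 2842, 2862, 2947, 2968, 3094, 3110, 3148, 3167, 3311, 3332, 3380, 3396, 3563, 3583]) (.leaf []))) (.node (.node (.leaf [3965, 3974, 4002, 4023, 4027, 4040, 4048, 4060, 4569, 4581, 4588, 4607, 4617, 4638, 4675, 4676, 5289, 5301, 5308, 5327, 5337, 5358, 5395, 5396, 5529, 5541, 5548, 5567, 5577, 5598, 5635, 5636])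 (.leaf [])) (.leaf []))) (.node (.leaf []) (.node (.leaf []) (.node (.leaf [31, 50]) (.leaf []))))))) (.node (.node (.node (.node (.leaf []) (.node (.node (.leaf [97, 113]) (.leaf [])) (.node (.leaf [3986, 3997, 4005, 4014, 4018, 4035, 4044, 4064, 4570, 4582, 4616, 4637, 4639, 4641, 4659, 4661, 5290, 5302, 5336, 5357, 5359, 5361, 5379, 5381, 5530, 5542, 5576, 5597, 5599, 5601, 5619, 5621]) (.leaf [])))) (.leaf [])) (.node (.leaf []) (.node (.node (.node (.leaf [3991, 3999, 4003, 4010, 4020, 4024, 4056, 4072, 4560, 4563, 4598, 4619, 4643, 4645, 4663, 4665, 5280, 5283, 5318, 5339, 5363, 5365, 5383, 5385, 5520, 5523, 5558, 5579, 5603, 5605, 5623, 5625]) (.leaf [])) (.leaf [])) (.node (.node (.leaf [2497, 2513, 2601, 2621, 2670, 2689, 2764, 2773, 2908, 2927, 3029, 3048, 3187, 3208, 3297, 3318, 3458, 3474, 3496, 3512]) (.leaf [])) (.node (.leaf [1002, 1023, 1174, 1190, 1257, 1278, 1428, 1439, 1460, 1476, 1611, 1632]) (.leaf [])))))) (.node (.node (.node (.node (.node (.leaf []) (.leaf [3962, 3964, 3968, 3973, 4058, 4067, 4074, 4078, 4580,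 4587, 4596, 4606, 4615, 4626, 4636, 4647, 5300, 5307, 5316, 5326, 5335, 5346, 5356, 5367, 5540, 5547, 5556, 5566, 5575, 5586, 5596, 5607])) (.leaf [])) (.leaf [])) (.leaf [])) (.node (.node (.leaf []) (.node (.leaf []) (.node (.leaf [161, 182]) (.leaf [])))) (.node (.leaf []) (.node (.node (.leaf [3966, 3971, 3975, 3983, 4026, 4047, 4075, 4076, 4564, 4573, 4602, 4623, 4625, 4642, 4646, 4662, 5284, 5293, 5322, 5343, 5345, 5362, 5366, 5382, 5524, 5533, 5562, 5583, 5585, 5602, 5606, 5622]) (.leaf [])) (.leaf []))))))

/-- Buckets, part 25. -/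
def bucketPart25 : LTree :=
  .node (.node (.node (.node (.node (.leaf []) (.node (.node (.leaf [1763, 1783, 1801, 1807, 1951, 1970, 2147, 2158, 2239, 2259, 2345, 2366]) (.leaf [])) (.leaf []))) (.node (.node (.node (.leaf [124, 133]) (.leaf [])) (.leaf [])) (.leaf []))) (.node (.leaf []) (.node (.leaf []) (.node (.node (.leaf [297, 318]) (.leaf [])) (.node (.leaf [82, 102]) (.leaf [])))))) (.node (.node (.node (.node (.node (.leaf [4686, 4691, 4695, 4703, 4746, 4767, 4795, 4796, 4801, 4807, 4829, 4848, 4894, 4896, 4910, 4912, 4920, 4923, 4939, 4955, 5000, 5020, 5027, 5038, 5052, 5058, 5064, 5074, 5092, 5113, 5148, 5159]) (.leaf [])) (.leaf [])) (.leaf [])) (.node (.node (.node (.leaf [249, 261]) (.leaf [])) (.leaf [])) (.leaf []))) (.node (.leaf []) (.node (.node (.leaf []) (.node (.leaf [355, 356]) (.leaf []))) (.node (.node (.leaf [601, 607, 626, 645, 670, 691, 698, 714]) (.leaf [])) (.leaf [])))))) (.node (.node (.node (.node (.node (.leaf []) (.node (.leaf [16, 32]) (.leaf []))) (.leaf [])) (.node (.node (.node (.leaf [2457, 2478,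 2545, 2564, 2710, 2731, 2799, 2820, 2946, 2967, 3108, 3119, 3124, 3133, 3295, 3316, 3403, 3424, 3520, 3541]) (.leaf [])) (.node (.leaf [976, 992, 1195, 1196, 1252, 1273, 1399, 1419, 1493, 1514, 1656, 1672]) (.leaf []))) (.node (.node (.leaf [1708, 1727, 1908, 1919, 2000, 2020, 2042, 2048, 2185, 2204, 2331, 2352]) (.leaf [])) (.leaf [])))) (.node (.node (.node (.node (.leaf [989, 1008, 1161, 1181, 1270, 1291, 1348, 1367, 1537, 1553, 1667, 1678]) (.leaf [])) (.leaf [])) (.leaf [])) (.leaf []))) (.node (.node (.node (.node (.node (.leaf [364, 369, 373, 381, 444, 457, 464, 473]) (.leaf [])) (.leaf [])) (.leaf [])) (.node (.node (.node (.leaf [4097, 4113, 4123, 4144, 4148, 4169, 4173, 4189, 4226, 4237, 4245, 4254, 4258, 4275, 4284, 4304, 5762, 5765, 5768, 5774, 5855, 5866, 5871, 5877, 5906, 5917, 5925, 5934, 5938, 5955, 5964, 5984]) (.leaf [])) (.leaf [])) (.node (.leaf []) (.node (.leaf [1027, 1048, 1082, 1088, 1209, 1221, 1360, 1381, 1465, 1484, 1572, 1584]) (.leaf []))))) (.leaf [])))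

/-- Buckets, part 26. -/
def bucketPart26 : LTree :=
  .node (.node (.node (.node (.node (.node (.node (.leaf [4680, 4683, 4700, 4716, 4762, 4782, 4786, 4797, 4805, 4814, 4837, 4858, 4868, 4889, 4908, 4919, 4922, 4928, 4951, 4970, 5001, 5021, 5035, 5036, 5041, 5047, 5070, 5089, 5109, 5130, 5135, 5151]) (.leaf [])) (.leaf [])) (.node (.leaf []) (.node (.leaf [1042, 1062, 1081, 1087, 1239, 1260, 1338, 1354, 1507, 1528, 1569, 1581]) (.leaf [])))) (.leaf [])) (.node (.node (.node (.node (.leaf [0, 3]) (.leaf [])) (.leaf [])) (.node (.leaf []) (.node (.leaf [2416, 2432, 2615, 2631, 2642, 2648, 2830, 2851, 2965, 2985, 3020, 3036, 3216, 3232, 3240, 3243, 3369, 3381, 3534, 3555]) (.leaf [])))) (.node (.node (.leaf []) (.node (.leaf [241, 247]) (.leaf []))) (.leaf [])))) (.node (.node (.node (.leaf []) (.node (.node (.leaf [4096, 4109, 4112, 4128, 4147, 4164, 4168, 4184, 4217, 4233, 4241, 4262, 4271, 4292, 4294, 4310, 5766, 5772, 5775, 5784, 5856, 5867, 5872, 5878, 5897, 5913, 5921, 5942, 5951, 5972, 5974, 5990]) (.leaf [])) (.node (.leaf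 [1761, 1781, 1893, 1909, 1957, 1978, 2081, 2102, 2160, 2163, 2286, 2295]) (.leaf [])))) (.node (.node (.leaf []) (.node (.leaf [151, 170]) (.leaf []))) (.node (.node (.leaf [336, 352]) (.leaf [])) (.leaf [])))) (.node (.node (.leaf []) (.node (.leaf []) (.node (.leaf [3841, 3847, 3870, 3889, 3909, 3930, 3935, 3951, 4458, 4467, 4474, 4486, 4505, 4525, 4526, 4545, 5178, 5187, 5194, 5206, 5225, 5245, 5246, 5265, 5418, 5427, 5434, 5446, 5465, 5485, 5486, 5505]) (.leaf [])))) (.leaf [])))) (.node (.node (.node (.node (.node (.node (.leaf [379, 389, 395, 408, 412, 426, 433, 447]) (.leaf [])) (.leaf [])) (.node (.leaf []) (.node (.leaf [39, 60]) (.leaf [])))) (.leaf [])) (.node (.node (.node (.leaf []) (.node (.leaf [852, 864, 891, 912, 921, 923, 941, 943]) (.leaf []))) (.leaf [])) (.node (.node (.node (.leaf [84, 104]) (.leaf [])) (.node (.leaf [3731, 3743, 3759, 3771, 3780, 3792, 3818, 3834, 4321, 4327, 4350, 4369, 4389, 4410, 4415, 4431, 5666, 5678, 5682, 5685, 5695, 5699, 5703, 5716, 6001, 6007, 6030, 6049, 6069, 6090, 6095, 6111]) (.leaf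 []))) (.leaf [])))) (.node (.node (.node (.leaf []) (.node (.leaf []) (.node (.leaf [160, 181]) (.leaf [])))) (.node (.node (.leaf []) (.node (.leaf [2411, 2423, 2604, 2624, 2644, 2653, 2840, 2860, 2976, 2992, 3027, 3046, 3205, 3225, 3241, 3247, 3365, 3374, 3545, 3566]) (.leaf []))) (.leaf []))) (.node (.node (.node (.node (.leaf []) (.leaf [334, 350])) (.leaf [])) (.node (.node (.leaf [1795, 1796, 1840, 1861, 1925, 1934, 2134, 2150, 2180, 2196, 2292, 2304]) (.leaf [])) (.leaf []))) (.leaf []))))

/-- Buckets, part 27. -/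
def bucketPart27 : LTree :=
  .node (.node (.node (.node (.node (.node (.leaf []) (.node (.leaf [2495, 2511, 2559, 2580, 2711, 2732, 2765, 2774, 2934, 2955, 3097, 3113, 3130, 3142, 3333, 3349, 3440, 3460, 3486, 3495]) (.leaf []))) (.leaf [])) (.node (.leaf []) (.node (.node (.leaf [260, 276]) (.leaf [])) (.leaf [])))) (.node (.node (.node (.node (.leaf []) (.leaf [2401, 2407, 2571, 2592, 2681, 2702, 2868, 2879, 2937, 2958, 3019, 3035, 3200, 3220, 3268, 3287, 3370, 3382, 3587, 3598])) (.leaf [])) (.leaf [])) (.node (.node (.node (.leaf [1681, 1687, 1880, 1900, 2005, 2025, 2068, 2087, 2215, 2236, 2364, 2384]) (.leaf [])) (.leaf [])) (.node (.node (.leaf [1056, 1072, 1136, 1157, 1283, 1303, 1418, 1434, 1481, 1502, 1579, 1595]) (.leaf [])) (.leaf []))))) (.node (.node (.node (.node (.node (.leaf []) (.leaf [1750, 1771, 1894, 1910, 1958, 1979, 2059, 2075, 2170, 2182, 2284, 2293])) (.leaf [])) (.leaf [])) (.node (.node (.node (.leaf [1014, 1035, 1118, 1139, 1281, 1301, 1337, 1353, 1547, 1558, 1626, 1647]) (.leaf [])) (.leaf [])) (.leaf [])))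 (.node (.node (.node (.node (.leaf []) (.leaf [4086, 4090, 4095, 4102, 4177, 4186, 4193, 4197, 4218, 4225, 4234, 4244, 4269, 4279, 4290, 4299, 5803, 5813, 5816, 5824, 5827, 5834, 5837, 5848, 5898, 5905, 5914, 5924, 5949, 5959, 5970, 5979])) (.leaf [])) (.leaf [])) (.node (.node (.node (.leaf [2430, 2449, 2531, 2543, 2734, 2750, 2828, 2849, 2890, 2902, 3025, 3044, 3174, 3195, 3319, 3339, 3417, 3438, 3576, 3592]) (.leaf [])) (.node (.leaf [980, 996, 1175, 1191, 1251, 1272, 1405, 1425, 1456, 1472, 1612, 1633]) (.leaf []))) (.leaf []))))) (.node (.node (.node (.leaf []) (.node (.leaf []) (.node (.leaf []) (.node (.leaf [1778, 1794, 1818, 1834, 1920, 1923, 2135, 2151, 2176, 2192, 2289, 2301]) (.leaf []))))) (.node (.node (.leaf []) (.node (.leaf []) (.node (.leaf [866, 877, 885, 894, 898, 915, 924, 944]) (.leaf [])))) (.leaf []))) (.node (.node (.node (.node (.node (.leaf []) (.leaf [177, 198])) (.node (.leaf [721, 727, 749, 768, 814, 816, 830, 832]) (.leaf []))) (.leaf [])) (.leaf [])) (.node (.node (.node (.node (.leaf [3751, 3760, 3770,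 3781, 3790, 3800, 3811, 3820, 4339, 4346, 4355, 4365, 4391, 4401, 4412, 4421, 5640, 5641, 5643, 5647, 5748, 5755, 5756, 5759, 6019, 6026, 6035, 6045, 6071, 6081, 6092, 6101]) (.leaf [])) (.node (.leaf [1706, 1725, 1811, 1823, 2003, 2023, 2105, 2126, 2268, 2279, 2377, 2393]) (.leaf []))) (.leaf [])) (.node (.node (.node (.leaf [306, 327]) (.leaf [])) (.node (.leaf [42, 63]) (.leaf []))) (.leaf [])))))

/-- Buckets, part 28. -/
def bucketPart28 : LTree :=
  .node (.node (.node (.node (.leaf []) (.node (.node (.leaf []) (.node (.leaf [266, 285]) (.leaf []))) (.leaf []))) (.node (.node (.leaf []) (.node (.node (.leaf [120, 123]) (.leaf [])) (.leaf []))) (.node (.node (.leaf []) (.node (.leaf [1015, 1036, 1097, 1113, 1254, 1275, 1325, 1334, 1522, 1542, 1599, 1620]) (.leaf []))) (.leaf [])))) (.node (.node (.leaf []) (.node (.leaf []) (.node (.node (.leaf [1011, 1032, 1148, 1169, 1226, 1245, 1415, 1431, 1444, 1453, 1587, 1606]) (.leaf [])) (.leaf [])))) (.node (.node (.node (.node (.leaf [858, 865, 874, 884, 909, 919, 930, 939]) (.leaf []))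 (.leaf [])) (.leaf [])) (.leaf [])))) (.node (.node (.node (.leaf []) (.node (.node (.node (.leaf [2, 8]) (.leaf [])) (.leaf [])) (.leaf []))) (.node (.node (.node (.node (.leaf []) (.leaf [606, 610, 615, 622, 697, 706, 713, 717])) (.leaf [])) (.node (.node (.leaf [2442, 2463, 2613, 2629, 2668, 2687, 2798, 2819, 2986, 2997, 3069, 3090, 3171, 3192, 3258, 3274, 3389, 3408, 3489, 3501]) (.leaf [])) (.leaf []))) (.node (.node (.leaf []) (.node (.leaf [55, 76]) (.leaf []))) (.leaf [])))) (.node (.node (.leaf []) (.node (.leaf []) (.node (.node (.leaf [94, 110]) (.leaf [])) (.leaf [])))) (.node (.node (.node (.node (.leaf []) (.leaf [1029, 1050, 1173, 1189, 1284, 1304, 1426, 1437, 1482, 1503, 1617, 1638])) (.leaf [])) (.node (.leaf []) (.node (.leaf [1691, 1703, 1885, 1905, 2026, 2037, 2041, 2047, 2227, 2248, 2332, 2353]) (.leaf [])))) (.node (.leaf []) (.node (.node (.leaf [283, 304]) (.leaf [])) (.leaf []))))))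

/-- Buckets, part 29. -/
def bucketPart29 : LTree :=
  .node (.node (.node (.node (.node (.node (.node (.leaf []) (.leaf [2453, 2474, 2635, 2636, 2641, 2647, 2803, 2824, 2959, 2979, 3016, 3032, 3204, 3224, 3250, 3262, 3399, 3420, 3509, 3528])) (.leaf [])) (.leaf [])) (.node (.node (.node (.leaf [1697, 1713, 1906, 1917, 1999, 2019, 2051, 2063, 2190, 2209, 2337, 2358]) (.leaf [])) (.leaf [])) (.node (.node (.leaf [1043, 1063, 1086, 1095, 1218, 1234, 1376, 1397, 1480, 1501, 1561, 1567]) (.leaf [])) (.node (.leaf [307, 328]) (.leaf []))))) (.leaf [])) (.node (.node (.node (.leaf []) (.node (.node (.leaf [226, 237]) (.leaf [])) (.leaf []))) (.node (.leaf []) (.node (.leaf []) (.node (.leaf [841, 847, 867, 886, 933, 937, 949, 953]) (.leaf []))))) (.node (.node (.node (.node (.leaf []) (.leaf [67, 88])) (.node (.leaf [311, 332]) (.leaf []))) (.node (.node (.leaf [738, 746, 754, 763, 765, 784, 826, 837]) (.leaf [])) (.leaf []))) (.node (.leaf []) (.node (.node (.leaf [3720, 3723, 3758, 3779, 3803, 3805, 3823, 3825, 4347, 4357, 4366, 4376,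 4378, 4397, 4427, 4438, 5651, 5658, 5663, 5674, 5720, 5734, 5740, 5750, 6027, 6037, 6046, 6056, 6058, 6077, 6107, 6118]) (.leaf [])) (.leaf [])))))) (.node (.node (.node (.node (.node (.node (.leaf []) (.leaf [246, 255])) (.leaf [])) (.leaf [])) (.node (.leaf []) (.node (.node (.leaf [98, 114]) (.leaf [])) (.leaf [])))) (.leaf [])) (.node (.node (.node (.node (.node (.leaf [4711, 4719, 4723, 4730, 4740, 4744, 4776, 4792, 4806, 4815, 4867, 4869, 4871, 4888, 4890, 4892, 4932, 4944, 4973, 4977, 4994, 4998, 5002, 5022, 5067, 5077, 5086, 5096, 5098, 5117, 5147, 5158]) (.leaf [])) (.leaf [])) (.node (.node (.leaf [2455, 2476, 2548, 2567, 2733, 2749, 2786, 2805, 2880, 2883, 3030, 3049, 3159, 3180, 3325, 3345, 3444, 3464, 3532, 3553]) (.leaf [])) (.leaf []))) (.node (.node (.node (.leaf [309, 330]) (.leaf [])) (.node (.leaf [20, 36]) (.leaf []))) (.leaf []))) (.node (.leaf []) (.node (.node (.node (.leaf [988, 1007, 1186, 1197, 1269, 1290, 1373, 1394, 1510, 1531, 1668, 1679]) (.leaf [])) (.leaf [])) (.node (.leaf []) (.node (.leaf [138, 154])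 (.leaf [])))))))

/-- Buckets, part 30. -/
def bucketPart30 : LTree :=
  .node (.node (.node (.node (.node (.leaf []) (.node (.node (.leaf [130, 142]) (.leaf [])) (.leaf []))) (.node (.node (.leaf []) (.node (.leaf [1068, 1079, 1105, 1124, 1293, 1309, 1386, 1407, 1497, 1518, 1591, 1610]) (.leaf []))) (.leaf []))) (.leaf [])) (.node (.node (.node (.node (.node (.leaf [371, 378, 383, 394, 440, 454, 460, 470]) (.leaf [])) (.leaf [])) (.leaf [])) (.node (.node (.leaf []) (.node (.leaf [1686, 1695, 1853, 1874, 2015, 2031, 2069, 2088, 2258, 2274, 2388, 2399]) (.leaf []))) (.leaf []))) (.node (.node (.leaf []) (.node (.leaf []) (.node (.leaf [256, 272]) (.leaf [])))) (.node (.node (.node (.leaf [9, 21]) (.leaf [])) (.leaf [])) (.node (.leaf []) (.node (.leaf [2498, 2514, 2549, 2568, 2706, 2727, 2770, 2782, 2892, 2904, 3065, 3086, 3138, 3154, 3335, 3351, 3468, 3479, 3507, 3526]) (.leaf []))))))) (.node (.node (.node (.node (.node (.node (.leaf [4692, 4704, 4731, 4752, 4761, 4763, 4781, 4783, 4816, 4830, 4832, 4841, 4849, 4862, 4907, 4918,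 4940, 4945, 4956, 4964, 4974, 4995, 5016, 5032, 5046, 5055, 5105, 5108, 5110, 5126, 5129, 5131]) (.leaf [])) (.leaf [])) (.node (.node (.leaf [2420, 2436, 2614, 2630, 2651, 2663, 2841, 2861, 2988, 2999, 3042, 3063, 3172, 3193, 3245, 3254, 3372, 3384, 3519, 3540]) (.leaf [])) (.leaf []))) (.leaf [])) (.node (.node (.node (.leaf []) (.node (.leaf [3846, 3855, 3905, 3908, 3910, 3926, 3929, 3931, 4451, 4463, 4478, 4496, 4499, 4517, 4535, 4551, 5171, 5183, 5198, 5216, 5219, 5237, 5255, 5271, 5411, 5423, 5438, 5456, 5459, 5477, 5495, 5511]) (.leaf []))) (.leaf [])) (.node (.leaf []) (.node (.node (.leaf [850, 856, 862, 872, 895, 916, 948, 959]) (.leaf [])) (.node (.leaf [201, 221]) (.leaf [])))))) (.node (.node (.node (.leaf []) (.node (.leaf []) (.node (.leaf [1690, 1702, 1843, 1864, 2004, 2024, 2078, 2099, 2267, 2278, 2395, 2396]) (.leaf [])))) (.leaf [])) (.node (.node (.leaf []) (.node (.node (.leaf [85, 105]) (.leaf [])) (.leaf []))) (.node (.leaf []) (.node (.node (.leaf [1000, 1021, 1100, 1116, 1201, 1207, 1339, 1355, 1449, 1461,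 1597, 1618]) (.leaf [])) (.leaf []))))))

/-- Buckets, part 31. -/
def bucketPart31 : LTree :=
  .node (.node (.node (.node (.node (.node (.node (.leaf [370, 377, 382, 393, 445, 458, 465, 474]) (.leaf [])) (.node (.leaf [204, 224]) (.leaf []))) (.leaf [])) (.node (.leaf []) (.node (.leaf []) (.node (.leaf [1030, 1051, 1146, 1167, 1308, 1319, 1401, 1421, 1525, 1545, 1654, 1670]) (.leaf []))))) (.node (.node (.node (.leaf []) (.node (.leaf [736, 750, 752, 761, 769, 782, 827, 838]) (.leaf []))) (.leaf [])) (.node (.node (.node (.leaf [106, 117]) (.leaf [])) (.leaf [])) (.node (.leaf []) (.node (.leaf [2485, 2505, 2586, 2607, 2669, 2688, 2777, 2793, 2961, 2981, 3070, 3091, 3146, 3165, 3296, 3317, 3431, 3452, 3481, 3487]) (.leaf [])))))) (.node (.node (.node (.node (.node (.leaf []) (.leaf [51, 72])) (.leaf [])) (.leaf [])) (.leaf [])) (.node (.node (.node (.leaf []) (.node (.leaf [961, 967, 1159, 1179, 1216, 1232, 1340, 1356, 1478, 1499, 1640, 1660]) (.leaf []))) (.leaf [])) (.leaf [])))) (.node (.node (.node (.node (.node (.node (.leaf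 []) (.leaf [1058, 1074, 1085, 1094, 1255, 1276, 1350, 1369, 1523, 1543, 1578, 1594])) (.node (.leaf [2405, 2414, 2547, 2566, 2697, 2718, 2855, 2871, 2906, 2925, 3031, 3050, 3201, 3221, 3283, 3304, 3379, 3395, 3595, 3596]) (.leaf []))) (.leaf [])) (.node (.leaf []) (.node (.leaf []) (.node (.leaf [40, 61]) (.leaf []))))) (.node (.node (.leaf []) (.node (.leaf []) (.node (.leaf [3871, 3878, 3881, 3890, 3899, 3902, 3937, 3953, 4457, 4473, 4483, 4504, 4508, 4529, 4533, 4549, 5177, 5193, 5203, 5224, 5228, 5249, 5253, 5269, 5417, 5433, 5443, 5464, 5468, 5489, 5493, 5509]) (.leaf [])))) (.leaf []))) (.node (.node (.node (.node (.node (.leaf []) (.leaf [1700, 1716, 1852, 1873, 2027, 2038, 2045, 2054, 2243, 2263, 2349, 2370])) (.node (.leaf [4080, 4083, 4099, 4115, 4160, 4180, 4187, 4198, 4230, 4240, 4249, 4253, 4261, 4274, 4285, 4305, 5776, 5785, 5792, 5804, 5830, 5843, 5851, 5863, 5910, 5920, 5929, 5933, 5941, 5954, 5965, 5985]) (.leaf []))) (.leaf [])) (.node (.node (.node (.leaf [986, 1005, 1121, 1142, 1210, 1222, 1388, 1409, 1440, 1443,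 1571, 1583]) (.leaf [])) (.leaf [])) (.node (.leaf []) (.node (.leaf [132, 144]) (.leaf []))))) (.node (.node (.node (.node (.leaf [282, 303]) (.leaf [])) (.node (.leaf [29, 48]) (.leaf []))) (.leaf [])) (.leaf []))))

/-- The buckets. -/
def bucket : LTree :=
  .node (.node (.node (.node (.node (bucketPart0) (bucketPart16)) (.node (bucketPart8) (bucketPart24))) (.node (.node (bucketPart4) (bucketPart20)) (.node (bucketPart12) (bucketPart28)))) (.node (.node (.node (bucketPart2) (bucketPart18)) (.node (bucketPart10) (bucketPart26))) (.node (.node (bucketPart6) (bucketPart22)) (.node (bucketPart14) (bucketPart30))))) (.node (.node (.node (.node (bucketPart1) (bucketPart17)) (.node (bucketPart9) (bucketPart25))) (.node (.node (bucketPart5) (bucketPart21)) (.node (bucketPart13) (bucketPart29)))) (.node (.node (.node (bucketPart3) (bucketPart19)) (.node (bucketPart11) (bucketPart27))) (.node (.node (bucketPart7) (bucketPart23)) (.node (bucketPart15) (bucketPart31)))))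

/-- The minimal vectors up to units, packed, part 0. -/
def repKeyPart0 : Tree :=
  .node (.node (.node (.node (.node (.node (.node (.node (.leaf 410756386320) (.leaf 34359762944)) (.node (.leaf 7921672312) (.leaf 0))) (.node (.node (.leaf 6644671304) (.leaf 0)) (.node (.leaf 15705956352) (.leaf 0)))) (.node (.node (.node (.leaf 738853584) (.leaf 46574436352)) (.node (.leaf 7991771136) (.leaf 0))) (.node (.node (.leaf 4765958384) (.leaf 0)) (.node (.leaf 18724421632) (.leaf 0))))) (.node (.node (.node (.node (.leaf 31457083752) (.leaf 477380608)) (.node (.leaf 20468252792) (.leaf 0))) (.node (.node (.leaf 5503599072) (.leaf 0)) (.node (.leaf 7723827200) (.leaf 0)))) (.node (.node (.node (.leaf 1074586200) (.leaf 53016944640)) (.node (.leaf 7724072960) (.leaf 0))) (.node (.node (.leaf 15099715824) (.leaf 0)) (.node (.leaf 62411251712) (.leaf 0)))))) (.node (.node (.node (.node (.node (.leaf 410710081896) (.leaf 205389824)) (.node (.leaf 405151864) (.leaf 0))) (.node (.node (.leaf 4093870920) (.leaf 0)) (.node (.leaf 18121342976) (.leaf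 0)))) (.node (.node (.node (.leaf 7382123216) (.leaf 53016952832)) (.node (.leaf 7723917312) (.leaf 0))) (.node (.node (.leaf 4028121328) (.leaf 0)) (.node (.leaf 34359738368) (.leaf 0))))) (.node (.node (.node (.node (.leaf 31946774504) (.leaf 205348864)) (.node (.leaf 17314873464) (.leaf 0))) (.node (.node (.leaf 2483331552) (.leaf 0)) (.node (.leaf 15974121472) (.leaf 0)))) (.node (.node (.node (.leaf 6912344664) (.leaf 46574526464)) (.node (.leaf 206151680) (.leaf 0))) (.node (.node (.leaf 10738057456) (.leaf 0)) (.node (.leaf 62411300864) (.leaf 0))))))) (.node (.node (.node (.node (.node (.node (.leaf 410709221736) (.leaf 205930496)) (.node (.leaf 1612800120) (.leaf 0))) (.node (.node (.leaf 1879376712) (.leaf 0)) (.node (.leaf 21006090240) (.leaf 0)))) (.node (.node (.node (.leaf 5368898256) (.leaf 55030218752)) (.node (.leaf 7991099392) (.leaf 0))) (.node (.node (.leaf 1813618928) (.leaf 0)) (.node (.leaf 39527120896) (.leaf 0))))) (.node (.node (.node (.node (.leaf 24229255144) (.leaf 477003776)) (.node (.leaf 23153434744)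 (.leaf 0))) (.node (.node (.leaf 2080784864) (.leaf 0)) (.node (.leaf 8927870976) (.leaf 0)))) (.node (.node (.node (.leaf 6107112024) (.leaf 45836328960)) (.node (.leaf 477454336) (.leaf 0))) (.node (.node (.leaf 10067083504) (.leaf 0)) (.node (.leaf 61673103360) (.leaf 0)))))) (.node (.node (.node (.node (.node (.leaf 24410653032) (.leaf 476921856)) (.node (.leaf 19193233528) (.leaf 0))) (.node (.node (.leaf 4631249376) (.leaf 0)) (.node (.leaf 7991345152) (.leaf 0)))) (.node (.node (.node (.leaf 2953364056) (.leaf 55030210560)) (.node (.leaf 7991713792) (.leaf 0))) (.node (.node (.leaf 13019439344) (.leaf 0)) (.node (.leaf 61673054208) (.leaf 0))))) (.node (.node (.node (.node (.leaf 1208730320) (.leaf 45836238848)) (.node (.leaf 7724163072) (.leaf 0))) (.node (.node (.leaf 5235974384) (.leaf 0)) (.node (.leaf 20335771648) (.leaf 0)))) (.node (.node (.node (.leaf 7315514184) (.leaf 0)) (.node (.leaf 8592392192) (.leaf 0))) (.node (.node (.leaf 6444695672) (.leaf 0)) (.node (.leaf 39527145472) (.leaf 0)))))))) (.node (.node (.node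 (.node (.node (.node (.node (.leaf 410709254504) (.leaf 39057383424)) (.node (.leaf 6444564600) (.leaf 0))) (.node (.node (.leaf 7315678024) (.leaf 0)) (.node (.leaf 8592220160) (.leaf 0)))) (.node (.node (.node (.leaf 1208861392) (.leaf 42749231104)) (.node (.leaf 7991549952) (.leaf 0))) (.node (.node (.leaf 5235802352) (.leaf 0)) (.node (.leaf 20335902720) (.leaf 0))))) (.node (.node (.node (.node (.leaf 24162146280) (.leaf 476790784)) (.node (.leaf 19193331832) (.leaf 0))) (.node (.node (.leaf 4631077344) (.leaf 0)) (.node (.leaf 7991173120) (.leaf 0)))) (.node (.node (.node (.leaf 2953536088) (.leaf 51674767360)) (.node (.leaf 7723991040) (.leaf 0))) (.node (.node (.leaf 13019611376) (.leaf 0)) (.node (.leaf 59324243968) (.leaf 0)))))) (.node (.node (.node (.node (.node (.leaf 24679088488) (.leaf 476848128)) (.node (.leaf 1612955768) (.leaf 0))) (.node (.node (.leaf 1879548744) (.leaf 0)) (.node (.leaf 21006163968) (.leaf 0)))) (.node (.node (.node (.leaf 5368799952) (.leaf 51674775552)) (.node (.leaf 7991255040) (.leaf 0))) (.node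 (.node (.leaf 1813782768) (.leaf 0)) (.node (.leaf 39057358848) (.leaf 0))))) (.node (.node (.node (.node (.leaf 241642051560) (.leaf 206094336)) (.node (.leaf 23153524856) (.leaf 0))) (.node (.node (.leaf 2080629216) (.leaf 0)) (.node (.leaf 8928043008) (.leaf 0)))) (.node (.node (.node (.leaf 6107267672) (.leaf 42749321216)) (.node (.leaf 477290496) (.leaf 0))) (.node (.node (.leaf 10066911472) (.leaf 0)) (.node (.leaf 59324293120) (.leaf 0))))))) (.node (.node (.node (.node (.node (.node (.leaf 410710139240) (.leaf 205447168)) (.node (.leaf 405323896) (.leaf 0))) (.node (.node (.leaf 4094026568) (.leaf 0)) (.node (.leaf 18121252864) (.leaf 0)))) (.node (.node (.node (.leaf 7382254288) (.leaf 52412973056)) (.node (.leaf 7723745280) (.leaf 0))) (.node (.node (.leaf 4027949296) (.leaf 0)) (.node (.leaf 33755758592) (.leaf 0))))) (.node (.node (.node (.node (.leaf 32148101096) (.leaf 205520896)) (.node (.leaf 17315004536) (.leaf 0))) (.node (.node (.leaf 2483503584) (.leaf 0)) (.node (.leaf 15974277120) (.leaf 0)))) (.node (.node (.node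 (.leaf 6912475736) (.leaf 43420409856)) (.node (.leaf 206020608) (.leaf 0))) (.node (.node (.leaf 10737885424) (.leaf 0)) (.node (.leaf 58653204480) (.leaf 0)))))) (.node (.node (.node (.node (.node (.leaf 31926845800) (.leaf 477208576)) (.node (.leaf 20468326520) (.leaf 0))) (.node (.node (.leaf 5503762912) (.leaf 0)) (.node (.leaf 7723671552) (.leaf 0)))) (.node (.node (.node (.leaf 1074422360) (.leaf 52412964864)) (.node (.leaf 7991640064) (.leaf 0))) (.node (.node (.leaf 15099871472) (.leaf 0)) (.node (.leaf 58653155328) (.leaf 0))))) (.node (.node (.node (.node (.leaf 739017424) (.leaf 43420319744)) (.node (.leaf 7724236800) (.leaf 0))) (.node (.node (.leaf 4766114032) (.leaf 0)) (.node (.leaf 18724372480) (.leaf 0)))) (.node (.node (.node (.leaf 6644540232) (.leaf 0)) (.node (.leaf 15705784320) (.leaf 0))) (.node (.node (.leaf 7921508472) (.leaf 0)) (.node (.leaf 33755783168) (.leaf 0))))))))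

/-- The minimal vectors up to units, packed, part 1. -/
def repKeyPart1 : Tree :=
  .node (.node (.node (.node (.node (.node (.node (.node (.leaf 410709197160) (.leaf 32950476800)) (.node (.leaf 7518306424) (.leaf 0))) (.node (.node (.leaf 6241936200) (.leaf 0)) (.node (.leaf 8189566976) (.leaf 0)))) (.node (.node (.node (.leaf 2282603216) (.leaf 44158517248)) (.node (.leaf 7253352448) (.leaf 0))) (.node (.node (.leaf 3826516208) (.leaf 0)) (.node (.leaf 18926616576) (.leaf 0))))) (.node (.node (.node (.node (.leaf 410735745000) (.leaf 74137600)) (.node (.leaf 17918263416) (.leaf 0))) (.node (.node (.leaf 6040363488) (.leaf 0)) (.node (.leaf 7252975616) (.leaf 0)))) (.node (.node (.node (.leaf 1678467672) (.leaf 50399698944)) (.node (.leaf 7791099904) (.leaf 0))) (.node (.node (.leaf 11610325232) (.leaf 0)) (.node (.leaf 57579413504) (.leaf 0)))))) (.node (.node (.node (.node (.node (.leaf 24209326440) (.leaf 74194944)) (.node (.leaf 807649400) (.leaf 0))) (.node (.node (.leaf 3154617160) (.leaf 0)) (.node (.leaf 19596877824) (.leaf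 0)))) (.node (.node (.node (.leaf 6710977232) (.leaf 50399707136)) (.node (.leaf 7253057536) (.leaf 0))) (.node (.node (.leaf 3088851184) (.leaf 0)) (.node (.leaf 32950452224) (.leaf 0))))) (.node (.node (.node (.node (.leaf 31409903592) (.leaf 4767744)) (.node (.leaf 21811347576) (.leaf 0))) (.node (.node (.leaf 3355697632) (.leaf 0)) (.node (.leaf 8324063232) (.leaf 0)))) (.node (.node (.node (.leaf 4697981528) (.leaf 44158607360)) (.node (.leaf 74637312) (.leaf 0))) (.node (.node (.leaf 11341979888) (.leaf 0)) (.node (.leaf 57579462656) (.leaf 0))))))) (.node (.node (.node (.node (.node (.node (.leaf 410710172008) (.leaf 4120576)) (.node (.leaf 1009303672) (.leaf 0))) (.node (.node (.leaf 2684740424) (.leaf 0)) (.node (.leaf 19396321280) (.leaf 0)))) (.node (.node (.node (.leaf 6308512464) (.leaf 51003686912)) (.node (.leaf 7790854144) (.leaf 0))) (.node (.node (.leaf 2618663152) (.leaf 0)) (.node (.leaf 37715181568) (.leaf 0))))) (.node (.node (.node (.node (.leaf 24363472872) (.leaf 4194304)) (.node (.leaf 18388746360) (.leaf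 0))) (.node (.node (.leaf 3892789728) (.leaf 0)) (.node (.leaf 15236079616) (.leaf 0)))) (.node (.node (.node (.leaf 5570298456) (.leaf 42145341440)) (.node (.leaf 4694016) (.leaf 0))) (.node (.node (.leaf 12147171568) (.leaf 0)) (.node (.leaf 58049224704) (.leaf 0)))))) (.node (.node (.node (.node (.node (.leaf 32195281256) (.leaf 74555392)) (.node (.leaf 21877612664) (.leaf 0))) (.node (.node (.leaf 6845940192) (.leaf 0)) (.node (.leaf 7790780416) (.leaf 0)))) (.node (.node (.node (.leaf 2148164184) (.leaf 51003678720)) (.node (.leaf 7253442560) (.leaf 0))) (.node (.node (.leaf 13757694192) (.leaf 0)) (.node (.leaf 58049175552) (.leaf 0))))) (.node (.node (.node (.node (.leaf 1544323792) (.leaf 42145251328)) (.node (.leaf 7791345664) (.leaf 0))) (.node (.node (.leaf 6175400176) (.leaf 0)) (.node (.leaf 20133658624) (.leaf 0)))) (.node (.node (.node (.leaf 5302362952) (.leaf 0)) (.node (.leaf 14632042496) (.leaf 0))) (.node (.node (.leaf 7183310968) (.leaf 0)) (.node (.leaf 37715206144) (.leaf 0)))))))) (.node (.node (.node (.node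 (.node (.node (.node (.leaf 410709205352) (.leaf 4603904)) (.node (.leaf 807493752) (.leaf 0))) (.node (.node (.leaf 3154445128) (.leaf 0)) (.node (.leaf 19596804096) (.leaf 0)))) (.node (.node (.node (.leaf 6711075536) (.leaf 54426238976)) (.node (.leaf 7252901888) (.leaf 0))) (.node (.node (.leaf 3088687344) (.leaf 0)) (.node (.leaf 38453379072) (.leaf 0))))) (.node (.node (.node (.node (.leaf 24631908328) (.leaf 74350592)) (.node (.leaf 21811257464) (.leaf 0))) (.node (.node (.leaf 3355853280) (.leaf 0)) (.node (.leaf 8323891200) (.leaf 0)))) (.node (.node (.node (.leaf 4697825880) (.leaf 47648268288)) (.node (.leaf 74801152) (.leaf 0))) (.node (.node (.leaf 11342151920) (.leaf 0)) (.node (.leaf 63015280640) (.leaf 0)))))) (.node (.node (.node (.node (.node (.leaf 24276435304) (.leaf 74268672)) (.node (.leaf 17918165112) (.leaf 0))) (.node (.node (.leaf 6040535520) (.leaf 0)) (.node (.leaf 7253147648) (.leaf 0)))) (.node (.node (.node (.leaf 1678295640) (.leaf 54426230784)) (.node (.leaf 7253516288) (.leaf 0))) (.node (.node (.leaf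 11610153200) (.leaf 0)) (.node (.leaf 63015231488) (.leaf 0))))) (.node (.node (.node (.node (.leaf 2282472144) (.leaf 47648178176)) (.node (.leaf 7791271936) (.leaf 0))) (.node (.node (.leaf 3826688240) (.leaf 0)) (.node (.leaf 18926485504) (.leaf 0)))) (.node (.node (.node (.leaf 6241772360) (.leaf 0)) (.node (.leaf 8189739008) (.leaf 0))) (.node (.node (.leaf 7518437496) (.leaf 0)) (.node (.leaf 38453403648) (.leaf 0))))))) (.node (.node (.node (.node (.node (.node (.leaf 410710147432) (.leaf 4063232)) (.node (.leaf 1009131640) (.leaf 0))) (.node (.node (.leaf 2684584776) (.leaf 0)) (.node (.leaf 19396411392) (.leaf 0)))) (.node (.node (.node (.leaf 6308381392) (.leaf 53688041472)) (.node (.leaf 7791026176) (.leaf 0))) (.node (.node (.leaf 2618835184) (.leaf 0)) (.node (.leaf 33285996544) (.leaf 0))))) (.node (.node (.node (.node (.leaf 31879665640) (.leaf 4022272)) (.node (.leaf 18388615288) (.leaf 0))) (.node (.node (.leaf 3892617696) (.leaf 0)) (.node (.leaf 15235923968) (.leaf 0)))) (.node (.node (.node (.leaf 5570167384) (.leaf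 47178506240)) (.node (.leaf 4825088) (.leaf 0))) (.node (.node (.leaf 12147343600) (.leaf 0)) (.node (.leaf 61002014720) (.leaf 0)))))) (.node (.node (.node (.node (.node (.leaf 31993954664) (.leaf 74727424)) (.node (.leaf 21877538936) (.leaf 0))) (.node (.node (.leaf 6845776352) (.leaf 0)) (.node (.leaf 7790936064) (.leaf 0)))) (.node (.node (.node (.leaf 2148328024) (.leaf 53688033280)) (.node (.leaf 7791181824) (.leaf 0))) (.node (.node (.leaf 13757538544) (.leaf 0)) (.node (.leaf 61001965568) (.leaf 0))))) (.node (.node (.node (.node (.leaf 1544159952) (.leaf 47178416128)) (.node (.leaf 7253573632) (.leaf 0))) (.node (.node (.leaf 6175244528) (.leaf 0)) (.node (.leaf 20133707776) (.leaf 0)))) (.node (.node (.node (.leaf 5302494024) (.leaf 0)) (.node (.leaf 14632214528) (.leaf 0))) (.node (.node (.leaf 7183474808) (.leaf 0)) (.node (.leaf 33286021120) (.leaf 0))))))))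

/-- The minimal vectors up to units, packed -/
def repKey : Tree :=
  .node (repKeyPart0) (repKeyPart1)

/-- Index of a minimal vector., part 1. -/
def repDictPart1 : Dict :=
  .node 4027949296 102 (.node 1009303672 133 (.node 205520896 278 (.node 74194944 265 (.node 4603904 259 (.node 4120576 261 (.node 4063232 263 (.node 4022272 279 (.nil) (.nil)) (.nil)) (.node 4194304 277 (.nil) (.nil))) (.node 4825088 183 (.node 4767744 281 (.node 4694016 181 (.nil) (.nil)) (.nil)) (.node 74137600 273 (.nil) (.nil)))) (.node 74727424 271 (.node 74555392 269 (.node 74350592 275 (.node 74268672 267 (.nil) (.nil)) (.nil)) (.node 74637312 185 (.nil) (.nil))) (.node 205389824 264 (.node 205348864 280 (.node 74801152 179 (.nil) (.nil)) (.nil)) (.node 205447168 262 (.nil) (.nil))))) (.node 477003776 276 (.node 405151864 136 (.node 206094336 282 (.node 206020608 182 (.node 205930496 260 (.nil) (.nil)) (.nil)) (.node 206151680 184 (.nil) (.nil))) (.node 476848128 266 (.node 476790784 274 (.node 405323896 134 (.nil) (.nil)) (.nil)) (.node 476921856 268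 (.nil) (.nil)))) (.node 738853584 32 (.node 477380608 272 (.node 477290496 186 (.node 477208576 270 (.nil) (.nil)) (.nil)) (.node 477454336 180 (.nil) (.nil))) (.node 807649400 137 (.node 807493752 131 (.node 739017424 30 (.nil) (.nil)) (.nil)) (.node 1009131640 135 (.nil) (.nil)))))) (.node 2282603216 33 (.node 1678467672 49 (.node 1544159952 31 (.node 1208730320 28 (.node 1074586200 48 (.node 1074422360 46 (.nil) (.nil)) (.nil)) (.node 1208861392 34 (.nil) (.nil))) (.node 1612955768 138 (.node 1612800120 132 (.node 1544323792 29 (.nil) (.nil)) (.nil)) (.node 1678295640 43 (.nil) (.nil)))) (.node 2080629216 90 (.node 1879376712 68 (.node 1813782768 106 (.node 1813618928 100 (.nil) (.nil)) (.nil)) (.node 1879548744 74 (.nil) (.nil))) (.node 2148328024 47 (.node 2148164184 45 (.node 2080784864 84 (.nil) (.nil)) (.nil)) (.node 2282472144 27 (.nil) (.nil))))) (.node 3088851184 105 (.node 2684584776 71 (.node 2618663152 101 (.node 2483503584 86 (.node 2483331552 88 (.nil) (.nil)) (.nil)) (.node 2618835184 103 (.nil) (.nil))) (.node 2953536088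 50 (.node 2953364056 44 (.node 2684740424 69 (.nil) (.nil)) (.nil)) (.node 3088687344 99 (.nil) (.nil)))) (.node 3826516208 97 (.node 3355697632 89 (.node 3154617160 73 (.node 3154445128 67 (.nil) (.nil)) (.nil)) (.node 3355853280 83 (.nil) (.nil))) (.node 3892617696 87 (.node 3826688240 91 (.nil) (.nil)) (.node 3892789728 85 (.nil) (.nil))))))) (.node 7183310968 125 (.node 6040363488 81 (.node 5235802352 98 (.node 4631249376 76 (.node 4094026568 70 (.node 4093870920 72 (.node 4028121328 104 (.nil) (.nil)) (.nil)) (.node 4631077344 82 (.nil) (.nil))) (.node 4765958384 96 (.node 4697981528 57 (.node 4697825880 51 (.nil) (.nil)) (.nil)) (.node 4766114032 94 (.nil) (.nil)))) (.node 5368898256 36 (.node 5302494024 63 (.node 5302362952 61 (.node 5235974384 92 (.nil) (.nil)) (.nil)) (.node 5368799952 42 (.nil) (.nil))) (.node 5570167384 55 (.node 5503762912 78 (.node 5503599072 80 (.nil) (.nil)) (.nil)) (.node 5570298456 53 (.nil) (.nil))))) (.node 6444564600 130 (.node 6175400176 93 (.node 6107267672 58 (.node 6107112024 52 (.node 6040535520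 75 (.nil) (.nil)) (.nil)) (.node 6175244528 95 (.nil) (.nil))) (.node 6308381392 39 (.node 6241936200 65 (.node 6241772360 59 (.nil) (.nil)) (.nil)) (.node 6308512464 37 (.nil) (.nil)))) (.node 6711075536 35 (.node 6644671304 64 (.node 6644540232 62 (.node 6444695672 124 (.nil) (.nil)) (.nil)) (.node 6710977232 41 (.nil) (.nil))) (.node 6912344664 56 (.node 6845940192 77 (.node 6845776352 79 (.nil) (.nil)) (.nil)) (.node 6912475736 54 (.nil) (.nil)))))) (.node 7723991040 178 (.node 7315514184 60 (.node 7253147648 203 (.node 7252975616 209 (.node 7252901888 163 (.node 7183474808 127 (.nil) (.nil)) (.nil)) (.node 7253057536 169 (.nil) (.nil))) (.node 7253516288 171 (.node 7253442560 173 (.node 7253352448 161 (.nil) (.nil)) (.nil)) (.node 7253573632 159 (.nil) (.nil)))) (.node 7518437496 123 (.node 7382254288 38 (.node 7382123216 40 (.node 7315678024 66 (.nil) (.nil)) (.nil)) (.node 7518306424 129 (.nil) (.nil))) (.node 7723827200 208 (.node 7723745280 166 (.node 7723671552 206 (.nil) (.nil)) (.nil)) (.node 7723917312 168 (.nil) (.nil)))))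 (.node 7791271936 155 (.node 7790854144 165 (.node 7724236800 158 (.node 7724163072 156 (.node 7724072960 176 (.nil) (.nil)) (.nil)) (.node 7790780416 205 (.nil) (.nil))) (.node 7791099904 177 (.node 7791026176 167 (.node 7790936064 207 (.nil) (.nil)) (.nil)) (.node 7791181824 175 (.nil) (.nil)))) (.node 7991173120 210 (.node 7921672312 128 (.node 7921508472 126 (.node 7791345664 157 (.nil) (.nil)) (.nil)) (.node 7991099392 164 (.nil) (.nil))) (.node 7991345152 204 (.node 7991255040 170 (.nil) (.nil)) (.node 7991549952 162 (.nil) (.nil)))))))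

/-- Index of a minimal vector., part 2. -/
def repDictPart2 : Dict :=
  .node 31946774504 24 (.node 18121342976 200 (.node 12147343600 119 (.node 8928043008 218 (.node 8323891200 211 (.node 8189566976 193 (.node 7991771136 160 (.node 7991713792 172 (.nil) (.nil)) (.nil)) (.node 8189739008 187 (.nil) (.nil))) (.node 8592392192 188 (.node 8592220160 194 (.node 8324063232 217 (.nil) (.nil)) (.nil)) (.node 8927870976 212 (.nil) (.nil)))) (.node 11341979888 121 (.node 10737885424 118 (.node 10067083504 116 (.node 10066911472 122 (.nil) (.nil)) (.nil)) (.node 10738057456 120 (.nil) (.nil))) (.node 11610325232 113 (.node 11610153200 107 (.node 11342151920 115 (.nil) (.nil)) (.nil)) (.node 12147171568 117 (.nil) (.nil))))) (.node 15236079616 213 (.node 14632042496 189 (.node 13757538544 111 (.node 13019611376 114 (.node 13019439344 108 (.nil) (.nil)) (.nil)) (.node 13757694192 109 (.nil) (.nil))) (.node 15099871472 110 (.node 15099715824 112 (.node 14632214528 191 (.nil) (.nil)) (.nil)) (.node 15235923968 215 (.nil) (.nil)))) (.node 17314873464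 152 (.node 15974121472 216 (.node 15705956352 192 (.node 15705784320 190 (.nil) (.nil)) (.nil)) (.node 15974277120 214 (.nil) (.nil))) (.node 17918263416 145 (.node 17918165112 139 (.node 17315004536 150 (.nil) (.nil)) (.nil)) (.node 18121252864 198 (.nil) (.nil)))))) (.node 21006163968 202 (.node 19396411392 199 (.node 18926485504 219 (.node 18724372480 222 (.node 18388746360 149 (.node 18388615288 151 (.nil) (.nil)) (.nil)) (.node 18724421632 224 (.nil) (.nil))) (.node 19193331832 146 (.node 19193233528 140 (.node 18926616576 225 (.nil) (.nil)) (.nil)) (.node 19396321280 197 (.nil) (.nil)))) (.node 20335771648 220 (.node 20133658624 221 (.node 19596877824 201 (.node 19596804096 195 (.nil) (.nil)) (.nil)) (.node 20133707776 223 (.nil) (.nil))) (.node 20468326520 142 (.node 20468252792 144 (.node 20335902720 226 (.nil) (.nil)) (.nil)) (.node 21006090240 196 (.nil) (.nil))))) (.node 24276435304 11 (.node 23153434744 148 (.node 21877538936 143 (.node 21811347576 153 (.node 21811257464 147 (.nil) (.nil)) (.nil)) (.node 21877612664 141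 (.nil) (.nil))) (.node 24209326440 9 (.node 24162146280 18 (.node 23153524856 154 (.nil) (.nil)) (.nil)) (.node 24229255144 20 (.nil) (.nil)))) (.node 31409903592 25 (.node 24631908328 19 (.node 24410653032 12 (.node 24363472872 21 (.nil) (.nil)) (.nil)) (.node 24679088488 10 (.nil) (.nil))) (.node 31879665640 23 (.node 31457083752 16 (.nil) (.nil)) (.node 31926845800 14 (.nil) (.nil))))))) (.node 51674767360 306 (.node 42145251328 285 (.node 34359738368 232 (.node 32950476800 257 (.node 32195281256 13 (.node 32148101096 22 (.node 31993954664 15 (.nil) (.nil)) (.nil)) (.node 32950452224 233 (.nil) (.nil))) (.node 33755758592 230 (.node 33286021120 255 (.node 33285996544 231 (.nil) (.nil)) (.nil)) (.node 33755783168 254 (.nil) (.nil)))) (.node 38453403648 251 (.node 37715206144 253 (.node 37715181568 229 (.node 34359762944 256 (.nil) (.nil)) (.nil)) (.node 38453379072 227 (.nil) (.nil))) (.node 39527120896 228 (.node 39057383424 258 (.node 39057358848 234 (.nil) (.nil)) (.nil)) (.node 39527145472 252 (.nil) (.nil))))) (.node 46574436352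 288 (.node 43420409856 310 (.node 42749321216 314 (.node 42749231104 290 (.node 42145341440 309 (.nil) (.nil)) (.nil)) (.node 43420319744 286 (.nil) (.nil))) (.node 45836238848 284 (.node 44158607360 313 (.node 44158517248 289 (.nil) (.nil)) (.nil)) (.node 45836328960 308 (.nil) (.nil)))) (.node 47648268288 307 (.node 47178506240 311 (.node 47178416128 287 (.node 46574526464 312 (.nil) (.nil)) (.nil)) (.node 47648178176 283 (.nil) (.nil))) (.node 51003678720 301 (.node 50399707136 297 (.node 50399698944 305 (.nil) (.nil)) (.nil)) (.node 51003686912 293 (.nil) (.nil)))))) (.node 61001965568 239 (.node 55030210560 300 (.node 53016952832 296 (.node 52412973056 294 (.node 52412964864 302 (.node 51674775552 298 (.nil) (.nil)) (.nil)) (.node 53016944640 304 (.nil) (.nil))) (.node 54426230784 299 (.node 53688041472 295 (.node 53688033280 303 (.nil) (.nil)) (.nil)) (.node 54426238976 291 (.nil) (.nil)))) (.node 58049224704 245 (.node 57579462656 249 (.node 57579413504 241 (.node 55030218752 292 (.nil) (.nil)) (.nil)) (.node 58049175552 237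 (.nil) (.nil))) (.node 59324243968 242 (.node 58653204480 246 (.node 58653155328 238 (.nil) (.nil)) (.nil)) (.node 59324293120 250 (.nil) (.nil))))) (.node 410709205352 3 (.node 62411300864 248 (.node 61673103360 244 (.node 61673054208 236 (.node 61002014720 247 (.nil) (.nil)) (.nil)) (.node 62411251712 240 (.nil) (.nil))) (.node 241642051560 26 (.node 63015280640 243 (.node 63015231488 235 (.nil) (.nil)) (.nil)) (.node 410709197160 1 (.nil) (.nil)))) (.node 410710147432 7 (.node 410710081896 8 (.node 410709254504 2 (.node 410709221736 4 (.nil) (.nil)) (.nil)) (.node 410710139240 6 (.nil) (.nil))) (.node 410735745000 17 (.node 410710172008 5 (.nil) (.nil)) (.node 410756386320 0 (.nil) (.nil)))))))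

/-- Index of a minimal vector. -/
def repDict : Dict :=
  .node 7991640064 174 (repDictPart1) (repDictPart2)

/-- Signatures of the reflections. -/
def sigTab : List ℕ := [
  829387377693751510152563141973326305769964067399979246305808, 829387377687905503603244847212494710938293829008113336336912,
  829387377687905503603244847212489754342433409028497041015312, 829387377687905503603244847212499657862747692070696234009104,
  829387377687905503603244847212494701266887272091079938687504, 829387377687905503603244847217565308503503468155583450333712,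
  829387377687905503603244842020197847567762922019100308292112, 829387377687905503603244852404791564637418179080092966732304,
  829387377687905503603244847207424103701677632943609824690704, 829387377687905503603239530300511566439098935325753562645008,
  829387377687905503603239530300511566439098930817755888763408, 829387377687905503603239530300511566439098939824955143504400,
  829387377687905503603239530300511566439098935316957469622800, 829387377687905503603239530300511566439103547007373943521808,
  829387377687905503603239530300511566434376568838485870920208, 829387377687905503603239530300511566443821301804225161347600,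
  829387377687905503603239530300511566439094323635337088746000, 829387377682059497053926552451663106435217033699214028718608,
  829387377682059497053921235539679966771725418470972907340308, 829387377682059497053921235539679966771725418470972907336208,
  829387377682059497053921235539679966771725418470972907344400, 829387377682059497053921235539679966771725418470972907340300,
  829387377682059497053921235539679966771725418470972911534608, 829387377682059497053921235539679966771725418470968612373008,
  829387377682059497053921235539679966771725418470977202307600, 829387377682059497053921235539679966771725418470972903146000,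
  829387377682059497053915918627696827108233803242731785962000, 829387377687905503603242106979096504095321112503743028937232,
  829387377687905503603242106979096504097684743449376308347408, 829387377687905503603242187378568170552693409379823471051280,
  829387377687905503603242187378568170555052289168587362943504, 829387377687905503603242190134438101986637196702364794896912,
  829387377687905503603242190134438101988996076491128678400528, 829387377687905503603242270533909768444004742421575849493008,
  829387377687905503603242270533909768446368373367209120514576, 829387377687905503603242187459695258133746919551728546759184,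
  829387377687905503603242187459695258136253368653143037461008, 829387377687905503603242187457083281948984329001972936491536,
  829387377687905503603242187457083282097736565115358705893904, 829387377687905503603242190055922990443952920755593443557904,
  829387377687905503603242190055922990592705156868979221348880, 829387377687905503603242190053311014405436117217809111990800,
  829387377687905503603242190053311014407942566319223611081232, 829387377687905503603242106979094025799752155490793038561808,
  829387377687905503603242106979094025797393280482710003401232, 829387377687905503603242187378565697092827591354543514337808,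
  829387377687905503603242187378565697090464244131284421984784, 829387377687905503603242190134440575451225241739663436694032,
  829387377687905503603242190134440575448861894516412934275600, 829387377687905503603242270533912246744296205388246445212176,
  829387377687905503603242270533912246741937330380154820117008, 829387377687905503603242190053308386127581379254000974053904,
  829387377687905503603242190053308386276333619875380126564880, 829387377687905503603242190055767012489977493326597206852112,
  829387377687905503603242190055767012492483946927217577574928, 829387377687905503603242187457239260049205538943738871038480,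
  829387377687905503603242187457239260051711992544350651826704, 829387377687905503603242187459697886265355865995567732113936,
  829387377687905503603242187459697886414108106616955474559504, 829387377687905503603242106976558727017075857105943062399504,
  829387377687905503603242106976558727014859939720089865566736, 829387377687905503603242189974716602164759876617210016840208,
  829387377687905503603242189974716602313516728920213845199376, 829387377687905503603242187538289670228172756950738308450832,
  829387377687905503603242187538289670376929609253742136801808, 829387377687905503603242270536447545526829546150862288075280,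
  829387377687905503603242270536447545524613628765009091250704, 829387377687905503603242187457162432815801623826411345693200,
  829387377687905503603242187457162432813442888293573022202384, 829387377687905503603242190053231708871740878609064292530704,
  829387377687905503603242190053231708874104365580246980250128, 829387377687905503603242187459774563667585120290705173400080,
  829387377687905503603242187459774563669948607261887861111312, 829387377687905503603242190055843839728246597577379131439632,
  829387377687905503603242190055843839725887862044540807957008, 829387377687905503603242187538292148599373436653120608813586,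
  829387377687905503603242187538292148601589349530976131760654, 829387377687905503603242106976561200403816406042406789071378,
  829387377687905503603242106976561200552573253846209036567054, 829387377687905503603242270536445071989116232024743117079054,
  829387377687905503603242270536445072137873079828545364574738, 829387377687905503603242189974714123940100136339976021885454,
  829387377687905503603242189974714123942316049217831544832530, 829387377687905503603242187459618580804785757000394431021586,
  829387377687905503603242187459618580807144776264407325360654, 829387377687905503603242187457160109258015211143865706234386,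
  829387377687905503603242187457160109260378702341571091120654, 829387377687905503603242190055846163281310783529381062525454,
  829387377687905503603242190055846163283674274727086447411730, 829387377687905503603242190053387691734544709606544828285454,
  829387377687905503603242190053387691736903728870557722624530, 829387377594369398814149471286389740864910375772685869761072,
  829387377594369398814149471286389740791642283892476595454448, 829387377594369398814149473882538167714401069607151687156272,
  829387377594369398814149473882538167641275940129990408454640, 829387377594369398814149471283856915544461006528786916229616,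
  829387377594369398814149471283856915471335877051488332661296, 829387377594369398814149473880005342394094662766163424494064,
  829387377594369398814149473880005342320826570886091454792240, 829387377594369398814149473882540645939134599180649987817968,
  829387377594369398814149473882540646012402830536108403114544, 829387377594369398814149471286392214253940626751259377451568,
  829387377594369398814149471286392214327065895976485985436144, 829387377594369398814149473880002868858671050682291473334768,
  829387377594369398814149473880002868931796319907380508279344, 829387377594369398814149471283854437173334116122669055787568,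
  829387377594369398814149471283854437246602347477989897781744, 829387377594369398814064361790425408320065927596143337259568,
  829387377594369398814064361790425408322424802744899369222640, 829387377594369398814064361711831146061677704053990416237040,
  829387377594369398814064361711831146059314212715478756344368, 829387377594369398814064442271103467894691046639445245149744,
  829387377594369398814064442271103467892327555301071158559216, 829387377594369398814064442192509205631580456610024632402416,
  829387377594369398814064442192509205633939331758918237405744, 829387377594369398814064442192432378398105127915675783316016,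
  829387377594369398814064442192432378395741641085161931522544, 829387377594369398814064442271026790563294983676175762113072,
  829387377594369398814064442271026790565653863324270813757936, 829387377594369398814064361711907823388351396030790626689520,
  829387377594369398814064361711907823390710275678748373729840, 829387377594369398814064361790502235558263618269762204189168,
  829387377594369398814064361790502235555900131439385657262640, 829387377778518605117675758846200734335320039223668380255791,
  829387377778518605117675758846200734259836034461207551852017, 829387377778518605117675758848736033042366995001120369720817,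
  829387377778518605117675758848736033117998717831225676383791, 829387377778518605117675756250049829112269790401520712795695,
  829387377778518605117675756250049829187901513231759293595121, 829387377778518605117675756252585127970432473771538837454321,
  829387377778518605117675756252585127894948469009211282933295, 829387377778518605117675758848733559580213850516425931275823,
  829387377778518605117675758848733559655697999253337217156593, 829387377778518605117675756252587606192804892093093271617071,
  829387377778518605117675756252587606268436470667273144092145, 829387377778518605117675758846198255961832037565473375110641,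
  829387377778518605117675758846198256037463616139786261675567, 829387377778518605117675756250052302574570508979542316008945,
  829387377778518605117675756250052302650054657716320588054063, 829387377778518605117758128187281971433487441674859458315823,
  829387377778518605117758128187281971431123954839949705526769, 829387377778518605117758128106231561179033843326962481219119,
  829387377778518605117758128106231561181392718471455760236017, 829387377778518605117758211264031630617115861836898535783921,
  829387377778518605117758211264031630619474736981258800711215, 829387377778518605117758211182981220367384625468271576530417,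
  829387377778518605117758211182981220365021138633494837577263, 829387377778518605117758128106152255647628306892337490413041,
  829387377778518605117758128106152255645264815558359300750895, 829387377778518605117758211182902069576120512875735748754991,
  829387377778518605117758211182902069573761633223377939842545, 829387377778518605117758128187361122224746947084976486073841,
  829387377778518605117758128187361122222388067432485403278895, 829387377778518605117758211264110936153243764749995125292591,
  829387377778518605117758211264110936150880273415883661493745, 829387377684982500328583123153493971029349132855449241470481,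
  829387377684982500328583123153493971029353744541469818568207, 829387377684982500328583039998152373138035424235264321013327,
  829387377684982500328583039998152373138040035921280603012561, 829387377684982500328583123153496444489217186988317228940753,
  829387377684982500328583123153496444493939553471184728770127, 829387377684982500328583039998149894837746336847030566471185,
  829387377684982500328583039998149894842468703329898062233103, 829387377684982500328583040079281934179030773196427108042257,
  829387377684982500328583040079281934183753139679161463881231, 829387377684982500328583040076667479771819743561139309004305,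
  829387377684982500328583040076667479771824355247293025762831, 829387377684982500328583042675507193102491613773411808460303,
  829387377684982500328583042675507193102496225459294946477585, 829387377684982500328583042672892738690562829341272791596559,
  829387377684982500328583042672892738695285195824277726184977, 829387377684982500328583042754024778031847265690669333167631,
  829387377684982500328583042754024778036569632173541127833105, 829387377684982500328582959598678228380376415549382670698063,
  829387377684982500328582959598678228385098782032254461296081, 829387377684982500328583042754022299736275933099286796451281,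
  829387377684982500328583042754022299736280544785307369227855, 829387377684982500328582959598680701844962224479101875994127,
  829387377684982500328582959598680701844966836165118153672209, 829387377684982500328583123156031748109886470513803556046353,
  829387377684982500328583123156031748109886466010201913310735, 829387377684982500328583042594298326525372973585168843949585,
  829387377684982500328583042594298326525372973580772812799503, 829387377684982500328583040157876346348942995439798747414031,
  829387377684982500328583040157876346348942995435398685541905, 829387377684982500328582959596142924764429503010365616176655,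
  829387377684982500328582959596142924764429498506768004171281, 829387377684982500328498010985398925561464378615883900667407,
  829387377684982500328498010985398925485832799900902178176529, 829387377684982500328498011063916510493105120884972171312657,
  829387377684982500328498011063916510417621116263317613594127, 829387377684982500328497930504797693224963165453538192541199,
  829387377684982500328497930504797693149479160831879344045585, 829387377684982500328497930583315278156751481815953627954705,
  829387377684982500328497930583315278081119903100967614694927, 829387377684982500328665495009675703096041632587814408830481,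
  829387377684982500328665495009675703022916502974242886272527, 829387377684982500328665411932846738376356862701359446115855,
  829387377684982500328665411932846738303088631209628226043409, 829387377684982500328665495090805264139467409886413931953681,
  829387377684982500328665495090805264066199178394687011046927, 829387377684982500328665412013976299419639538121799271728655,
  829387377684982500328665412013976299346514408508232048328209, 829387377684982500328583040076823462632262463306675844038161,
  829387377684982500328583040076823462636984829789547768858127, 829387377684982500328583042672895062248347006057040970268177,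
  829387377684982500328583042672895062248351617743057118053903, 829387377684982500328583040079279610625964351277510147196431,
  829387377684982500328583040079279610625968962963530854186513, 829387377684982500328583042675351210237331139231024055600655,
  829387377684982500328583042675351210242053505713891421208081, 829387377684982500328498010985322248232355786227148184372753,
  829387377684982500328498010985322248156871637349568066633231, 829387377684982500328498011063993337653383766913479167458831,
  829387377684982500328498011063993337729015489602915772417553, 829387377684982500328497930504720865913568792113940037912081,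
  829387377684982500328497930504720865989200514803372343705103, 829387377684982500328497930583391955485712644367287743692303,
  829387377684982500328497930583391955410228495489703326795281, 829387377684982500328665495009596397562346393979069585180177,
  829387377684982500328665495009596397489078302235266259631631, 829387377684982500328665495090726113348134119683634371247631,
  829387377684982500328665495090726113275008850594813846242833, 829387377684982500328665411932925889167547190501228315952657,
  829387377684982500328665411932925889094421921412412081716751, 829387377684982500328665412014055604953477738860775902559759,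
  829387377684982500328665412014055604880209647116976867788305, 829387377684982500328580382920095769024371772566550353559057,
  829387377684982500328580382920095769022155859684294768739855, 829387377684982500328580382920095769097642240025192308424207,
  829387377684982500328580382920095769022084306495614064477713, 829387377684982500328580382920095769022082070388030328815057,
  829387377684982500328580382920095769024445561862814793483855, 829387377684982500328580382920095769024443325755231057821199,
  829387377684982500328580382920095768948885392225652813874705, 829387377684982500328580382920098242559869173810413939736081,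
  829387377684982500328580382920098242411112321503014080235023, 829387377684982500328580382920098242486670115425333269773777,
  829387377684982500328580382920098242484309004309662203856401, 829387377684982500328580382920098242486598706347509231928849,
  829387377684982500328580382920098242484382788965918788042255, 829387377684982500328580382920098242486672491003765816114703,
  829387377684982500328580382920098242484311379888094750197327, 829387377684982500328580382920093290799712032289316358604303,
  829387377684982500328580382920093290650955179981912468373009, 829387377684982500328580382920093290726512973904231523698255,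
  829387377684982500328580382920093290724151862788560462102031, 829387377684982500328580382920093290726441564826274341862927,
  829387377684982500328580382920093290724225647444954485114385, 829387377684982500328580382920093290726515349482668364875281,
  829387377684982500328580382920093290724154238366997303279057, 829387377684982500328580382920095764188668494108031639373327,
  829387377684982500328580382920095764186452581225780085276177, 829387377684982500328580382920095764261938961566540316034577,
  829387377684982500328580382920095764186381028037099511168527, 829387377684982500328580382920095764186378791929515779573327,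
  829387377684982500328580382920095764188742283404295945076177, 829387377684982500328580382920095764188740047296712213480977,
  829387377684982500328580382920095764113182113767271408614927, 829387377684982500328583123156029269811956258274325963490831,
  829387377684982500328583123156029269811956258270063210544657, 829387377684982500328583040079202783390130147438668019219985,
  829387377684982500328583040079202783390130147434267827193359, 829387377684982500328583040076744157100856926876451179349457,
  829387377684982500328583040076744157100856926872050983255631, 829387377684982500328583042672815911457087505150521420301777,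
  829387377684982500328583042672815911457087500646923942510159, 829387377684982500328583040076746785305588771329875633585681,
  829387377684982500328583040076746785305588766826278151472655, 829387377684982500328583042594300799987599907365994444111377,
  829387377684982500328583042594300799987599902862530110309903, 829387377684982500328583040157873872886716066158174728111631,
  829387377684982500328583040157873872886716061654439807172113, 829387377684982500328583042675427887568727202194293538637327,
  829387377684982500328583042675427887568727197690691766009361, 829387377684982500328583040079358761417228468373647751921231,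
  829387377684982500328583040079358761417228463870045974971857, 829387377684982500328583042675430515773459042148516412014159,
  829387377684982500328583042675430515773459042144120515085777, 829387377684982500328583042672971889484185821586299572143631,
  829387377684982500328583042672971889484185821581903671148049, 829387377684982500328582959596145403062359710750641627872785,
  829387377684982500328582959596145403062359710746108287796751, 829387377684982500328580380323947337412374482939407674918353,
  829387377684982500328580380323947337336745135828407911267857, 829387377684982500328580380323947337336818924988266272275985,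
  829387377684982500328580380323947337339177800273565821978127, 829387377684982500328580380323947337339251589433424182986255,
  829387377684982500328580380323947337263622242322424419335759, 829387377684982500328580380323947337336816689021488811492881,
  829387377684982500328580380323947337339180036240343282761231, 829387377684982500328580382917560465479331836152063790235153,
  829387377684982500328580382917560465403702493544661508439631, 829387377684982500328580382917560465403773902618222789148177,
  829387377684982500328580382917560465406137533568118821504527, 829387377684982500328580382917560465406208942641680102213073,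
  829387377684982500328580382917560465330579600034277820417551, 829387377684982500328580382917560465406135157849013144274449,
  829387377684982500328580382917560465403776278337328466378255, 829387377684982500328580382922631067880244753758048453346831,
  829387377684982500328580382922631067804615411150650466649553, 829387377684982500328580382922631067804686820224074312599055,
  829387377684982500328580382922631067807050451174240923696657, 829387377684982500328580382922631067807121860247664769646159,
  829387377684982500328580382922631067731492517640266782948881, 829387377684982500328580382922631067807048075455002236698127,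
  829387377684982500328580382922631067804689195943312999597585, 829387377684982500328580385516244195947202111469906149523023,
  829387377684982500328580385516244195871572764358906389939727, 829387377684982500328580385516244195871646553518897890870799,
  829387377684982500328580385516244195874005428803926861823505, 829387377684982500328580385516244195874079217963918362754577,
  829387377684982500328580385516244195798449870852918603171281, 829387377684982500328580385516244195871644317551982861106703,
  829387377684982500328580385516244195874007664770841891587601]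

/-- The generating reflections. -/
def genLines : List ℕ := [
  200, 158, 25, 11]

/-- Action of the generators on the minimal vectors, part 0. -/
def genActPart0 : Tree :=
  .node (.node (.node (.node (.node (.node (.node (.node (.leaf 23640) (.leaf 28269)) (.node (.leaf 28827) (.leaf 0))) (.node (.node (.leaf 25754) (.leaf 0)) (.node (.leaf 18120) (.leaf 0)))) (.node (.node (.node (.leaf 15360) (.leaf 21479)) (.node (.leaf 840) (.leaf 0))) (.node (.node (.leaf 4815) (.leaf 0)) (.node (.leaf 37440) (.leaf 0))))) (.node (.node (.node (.node (.leaf 35502) (.leaf 14446)) (.node (.leaf 36832) (.leaf 0))) (.node (.node (.leaf 17271) (.leaf 0)) (.node (.leaf 23280) (.leaf 0)))) (.node (.node (.node (.leaf 23040) (.leaf 32283)) (.node (.leaf 7200) (.leaf 0))) (.node (.node (.leaf 36061) (.leaf 0)) (.node (.leaf 1799) (.leaf 0)))))) (.node (.node (.node (.node (.node (.leaf 35010) (.leaf 16853)) (.node (.leaf 32316) (.leaf 0))) (.node (.node (.leaf 27711) (.leaf 0)) (.node (.leaf 28800) (.leaf 0)))) (.node (.node (.node (.leaf 36082) (.leaf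 9802)) (.node (.leaf 5040) (.leaf 0))) (.node (.node (.leaf 29854) (.leaf 0)) (.node (.leaf 21720) (.leaf 0))))) (.node (.node (.node (.node (.leaf 1695) (.leaf 20279)) (.node (.leaf 14400) (.leaf 0))) (.node (.node (.leaf 33151) (.leaf 0)) (.node (.leaf 19920) (.leaf 0)))) (.node (.node (.node (.leaf 3780) (.leaf 6454)) (.node (.leaf 14640) (.leaf 0))) (.node (.node (.leaf 1272) (.leaf 0)) (.node (.leaf 36164) (.leaf 0))))))) (.node (.node (.node (.node (.node (.node (.leaf 12480) (.leaf 26937)) (.node (.leaf 7080) (.leaf 0))) (.node (.node (.leaf 35203) (.leaf 0)) (.node (.leaf 16320) (.leaf 0)))) (.node (.node (.node (.leaf 11429) (.leaf 11322)) (.node (.leaf 2156) (.leaf 0))) (.node (.node (.leaf 13051) (.leaf 0)) (.node (.leaf 36240) (.leaf 0))))) (.node (.node (.node (.node (.leaf 34322) (.leaf 24596)) (.node (.leaf 29175) (.leaf 0))) (.node (.node (.leaf 16953) (.leaf 0)) (.node (.leaf 26520) (.leaf 0)))) (.node (.node (.node (.leaf 16440) (.leaf 4990)) (.node (.leaf 9360) (.leaf 0))) (.node (.node (.leaf 35953) (.leaf 0)) (.node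 (.leaf 37234) (.leaf 0)))))) (.node (.node (.node (.node (.node (.leaf 11716) (.leaf 23272)) (.node (.leaf 29400) (.leaf 0))) (.node (.node (.leaf 33539) (.leaf 0)) (.node (.leaf 37560) (.leaf 0)))) (.node (.node (.node (.leaf 28475) (.leaf 8425)) (.node (.leaf 6720) (.leaf 0))) (.node (.node (.leaf 22407) (.leaf 0)) (.node (.leaf 21600) (.leaf 0))))) (.node (.node (.node (.node (.leaf 23905) (.leaf 16442)) (.node (.leaf 33076) (.leaf 0))) (.node (.node (.leaf 15528) (.leaf 0)) (.node (.leaf 20760) (.leaf 0)))) (.node (.node (.node (.leaf 12854) (.leaf 0)) (.node (.leaf 12720) (.leaf 0))) (.node (.node (.leaf 34918) (.leaf 0)) (.node (.leaf 30453) (.leaf 0)))))))) (.node (.node (.node (.node (.node (.node (.node (.leaf 16893) (.leaf 28951)) (.node (.leaf 1517) (.leaf 0))) (.node (.node (.leaf 27794) (.leaf 0)) (.node (.leaf 15480) (.leaf 0)))) (.node (.node (.node (.leaf 20993) (.leaf 16324)) (.node (.leaf 2628) (.leaf 0))) (.node (.node (.leaf 13454) (.leaf 0)) (.node (.leaf 36960) (.leaf 0))))) (.node (.node (.node (.node (.leaf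 29801) (.leaf 13645)) (.node (.leaf 27500) (.leaf 0))) (.node (.node (.leaf 2120) (.leaf 0)) (.node (.leaf 28320) (.leaf 0)))) (.node (.node (.node (.leaf 24003) (.leaf 33361)) (.node (.leaf 10440) (.leaf 0))) (.node (.node (.leaf 2529) (.leaf 0)) (.node (.leaf 708) (.leaf 0)))))) (.node (.node (.node (.node (.node (.leaf 11321) (.leaf 17070)) (.node (.leaf 5614) (.leaf 0))) (.node (.node (.leaf 34266) (.leaf 0)) (.node (.leaf 27960) (.leaf 0)))) (.node (.node (.node (.leaf 31063) (.leaf 9082)) (.node (.leaf 5400) (.leaf 0))) (.node (.node (.leaf 24432) (.leaf 0)) (.node (.leaf 21840) (.leaf 0))))) (.node (.node (.node (.node (.leaf 1920) (.leaf 33841)) (.node (.leaf 17834) (.leaf 0))) (.node (.node (.leaf 2840) (.leaf 0)) (.node (.leaf 20880) (.leaf 0)))) (.node (.node (.node (.leaf 1146) (.leaf 4270)) (.node (.leaf 11640) (.leaf 0))) (.node (.node (.leaf 30571) (.leaf 0)) (.node (.leaf 35491) (.leaf 0))))))) (.node (.node (.node (.node (.node (.node (.leaf 5659) (.leaf 23446)) (.node (.leaf 15213) (.leaf 0))) (.node (.node (.leaf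 21027) (.leaf 0)) (.node (.leaf 28560) (.leaf 0)))) (.node (.node (.node (.leaf 12392) (.leaf 8665)) (.node (.leaf 3240) (.leaf 0))) (.node (.node (.leaf 16335) (.leaf 0)) (.node (.leaf 21480) (.leaf 0))))) (.node (.node (.node (.node (.leaf 2541) (.leaf 19079)) (.node (.leaf 32438) (.leaf 0))) (.node (.node (.leaf 2643) (.leaf 0)) (.node (.leaf 25920) (.leaf 0)))) (.node (.node (.node (.leaf 25920) (.leaf 6694)) (.node (.leaf 12960) (.leaf 0))) (.node (.node (.leaf 3236) (.leaf 0)) (.node (.leaf 34060) (.leaf 0)))))) (.node (.node (.node (.node (.node (.leaf 30093) (.leaf 25704)) (.node (.leaf 32009) (.leaf 0))) (.node (.node (.leaf 33105) (.leaf 0)) (.node (.leaf 24240) (.leaf 0)))) (.node (.node (.node (.leaf 19108) (.leaf 33601)) (.node (.leaf 8760) (.leaf 0))) (.node (.node (.leaf 4275) (.leaf 0)) (.node (.leaf 2756) (.leaf 0))))) (.node (.node (.node (.node (.leaf 37586) (.leaf 11113)) (.node (.leaf 1680) (.leaf 0))) (.node (.node (.leaf 33988) (.leaf 0)) (.node (.leaf 19800) (.leaf 0)))) (.node (.node (.node (.leaf 8717) (.leaf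 0)) (.node (.leaf 16800) (.leaf 0))) (.node (.node (.leaf 9861) (.leaf 0)) (.node (.leaf 30767) (.leaf 0))))))))

/-- Action of the generators on the minimal vectors, part 4. -/
def genActPart4 : Tree :=
  .node (.node (.node (.node (.node (.node (.node (.node (.leaf 33381) (.leaf 29458)) (.node (.leaf 15792) (.leaf 0))) (.node (.node (.leaf 33133) (.leaf 0)) (.node (.leaf 15120) (.leaf 0)))) (.node (.node (.node (.leaf 19445) (.leaf 15718)) (.node (.leaf 240) (.leaf 0))) (.node (.node (.leaf 6354) (.leaf 0)) (.node (.leaf 37200) (.leaf 0))))) (.node (.node (.node (.node (.leaf 27381) (.leaf 14658)) (.node (.leaf 8659) (.leaf 0))) (.node (.node (.leaf 24926) (.leaf 0)) (.node (.leaf 27240) (.leaf 0)))) (.node (.node (.node (.leaf 4312) (.leaf 31803)) (.node (.leaf 10800) (.leaf 0))) (.node (.node (.leaf 11143) (.leaf 0)) (.node (.leaf 120) (.leaf 0)))))) (.node (.node (.node (.node (.node (.leaf 27480) (.leaf 17821)) (.node (.leaf 28651) (.leaf 0))) (.node (.node (.leaf 28114) (.leaf 0)) (.node (.leaf 29040) (.leaf 0)))) (.node (.node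 (.node (.leaf 37140) (.leaf 9349)) (.node (.leaf 5280) (.leaf 0))) (.node (.node (.leaf 26248) (.leaf 0)) (.node (.leaf 33840) (.leaf 0))))) (.node (.node (.node (.node (.leaf 10528) (.leaf 22203)) (.node (.leaf 13694) (.leaf 0))) (.node (.node (.leaf 26113) (.leaf 0)) (.node (.leaf 19440) (.leaf 0)))) (.node (.node (.node (.leaf 8177) (.leaf 4520)) (.node (.leaf 11280) (.leaf 0))) (.node (.node (.leaf 9433) (.leaf 0)) (.node (.leaf 35003) (.leaf 0))))))) (.node (.node (.node (.node (.node (.node (.leaf 7917) (.leaf 27060)) (.node (.leaf 5012) (.leaf 0))) (.node (.node (.leaf 31224) (.leaf 0)) (.node (.leaf 27840) (.leaf 0)))) (.node (.node (.node (.leaf 209) (.leaf 7299)) (.node (.leaf 3600) (.leaf 0))) (.node (.node (.leaf 22243) (.leaf 0)) (.node (.leaf 32280) (.leaf 0))))) (.node (.node (.node (.node (.leaf 7552) (.leaf 19556)) (.node (.leaf 13578) (.leaf 0))) (.node (.node (.leaf 27940) (.leaf 0)) (.node (.leaf 25440) (.leaf 0)))) (.node (.node (.node (.leaf 21437) (.leaf 6223)) (.node (.leaf 13200) (.leaf 0))) (.node (.node (.leaf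 32874) (.leaf 0)) (.node (.leaf 37430) (.leaf 0)))))) (.node (.node (.node (.node (.node (.leaf 27981) (.leaf 22695)) (.node (.leaf 19291) (.leaf 0))) (.node (.node (.leaf 12162) (.leaf 0)) (.node (.leaf 23760) (.leaf 0)))) (.node (.node (.node (.leaf 19589) (.leaf 22081)) (.node (.leaf 8640) (.leaf 0))) (.node (.node (.leaf 973) (.leaf 0)) (.node (.leaf 2521) (.leaf 0))))) (.node (.node (.node (.node (.leaf 29134) (.leaf 12409)) (.node (.leaf 6977) (.leaf 0))) (.node (.node (.leaf 31586) (.leaf 0)) (.node (.leaf 18600) (.leaf 0)))) (.node (.node (.node (.leaf 24435) (.leaf 0)) (.node (.leaf 17040) (.leaf 0))) (.node (.node (.leaf 10752) (.leaf 0)) (.node (.leaf 30541) (.leaf 0)))))))) (.node (.node (.node (.node (.node (.node (.node (.leaf 12811) (.leaf 23831)) (.node (.leaf 18298) (.leaf 0))) (.node (.node (.leaf 9960) (.leaf 0)) (.node (.leaf 15720) (.leaf 0)))) (.node (.node (.node (.leaf 1050) (.leaf 12639)) (.node (.leaf 2640) (.leaf 0))) (.node (.node (.leaf 27029) (.leaf 0)) (.node (.leaf 36360) (.leaf 0))))) (.node (.node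 (.node (.node (.leaf 26398) (.leaf 25079)) (.node (.leaf 18472) (.leaf 0))) (.node (.node (.leaf 1660) (.leaf 0)) (.node (.leaf 27000) (.leaf 0)))) (.node (.node (.node (.leaf 17164) (.leaf 4760)) (.node (.leaf 9000) (.leaf 0))) (.node (.node (.leaf 31555) (.leaf 0)) (.node (.leaf 34811) (.leaf 0)))))) (.node (.node (.node (.node (.node (.leaf 5070) (.leaf 25558)) (.node (.leaf 19403) (.leaf 0))) (.node (.node (.leaf 19302) (.leaf 0)) (.node (.leaf 36720) (.leaf 0)))) (.node (.node (.node (.leaf 30598) (.leaf 8019)) (.node (.leaf 6840) (.leaf 0))) (.node (.node (.leaf 33760) (.leaf 0)) (.node (.leaf 32400) (.leaf 0))))) (.node (.node (.node (.node (.leaf 36870) (.leaf 15114)) (.node (.leaf 17530) (.leaf 0))) (.node (.node (.leaf 30940) (.leaf 0)) (.node (.leaf 19320) (.leaf 0)))) (.node (.node (.node (.leaf 11220) (.leaf 0)) (.node (.leaf 12120) (.leaf 0))) (.node (.node (.leaf 1687) (.leaf 0)) (.node (.leaf 30339) (.leaf 0))))))) (.node (.node (.node (.node (.node (.node (.leaf 9810) (.leaf 17985)) (.node (.leaf 9746) (.leaf 0)))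 (.node (.node (.leaf 18641) (.leaf 0)) (.node (.leaf 28080) (.leaf 0)))) (.node (.node (.node (.leaf 18122) (.leaf 9589)) (.node (.leaf 4680) (.leaf 0))) (.node (.node (.leaf 7231) (.leaf 0)) (.node (.leaf 33720) (.leaf 0))))) (.node (.node (.node (.node (.leaf 17604) (.leaf 19796)) (.node (.leaf 28322) (.leaf 0))) (.node (.node (.leaf 5263) (.leaf 0)) (.node (.leaf 18720) (.leaf 0)))) (.node (.node (.node (.leaf 8625) (.leaf 6943)) (.node (.leaf 14400) (.leaf 0))) (.node (.node (.leaf 29023) (.leaf 0)) (.node (.leaf 36752) (.leaf 0)))))) (.node (.node (.node (.node (.node (.leaf 7200) (.leaf 13286)) (.node (.leaf 5960) (.leaf 0))) (.node (.node (.leaf 30820) (.leaf 0)) (.node (.leaf 22800) (.leaf 0)))) (.node (.node (.node (.leaf 2843) (.leaf 32763)) (.node (.leaf 7320) (.leaf 0))) (.node (.node (.leaf 6405) (.leaf 0)) (.node (.leaf 1323) (.leaf 0))))) (.node (.node (.node (.node (.leaf 22286) (.leaf 20996)) (.node (.leaf 1320) (.leaf 0))) (.node (.node (.leaf 15954) (.leaf 0)) (.node (.leaf 36480) (.leaf 0)))) (.node (.node (.node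 (.leaf 14533) (.leaf 0)) (.node (.leaf 18360) (.leaf 0))) (.node (.node (.leaf 12493) (.leaf 0)) (.node (.leaf 29742) (.leaf 0))))))))

/-- Action of the generators on the minimal vectors, part 2. -/
def genActPart2 : Tree :=
  .node (.node (.node (.node (.node (.node (.node (.node (.leaf 17040) (.leaf 28782)) (.node (.leaf 6570) (.leaf 0))) (.node (.node (.leaf 20243) (.leaf 0)) (.node (.leaf 15600) (.leaf 0)))) (.node (.node (.node (.leaf 19054) (.leaf 19316)) (.node (.leaf 600) (.leaf 0))) (.node (.node (.leaf 30981) (.leaf 0)) (.node (.leaf 37320) (.leaf 0))))) (.node (.node (.node (.node (.leaf 12267) (.leaf 13526)) (.node (.leaf 6869) (.leaf 0))) (.node (.node (.leaf 7756) (.leaf 0)) (.node (.leaf 28200) (.leaf 0)))) (.node (.node (.node (.leaf 32323) (.leaf 32043)) (.node (.leaf 10560) (.leaf 0))) (.node (.node (.leaf 9210) (.leaf 0)) (.node (.leaf 2040) (.leaf 0)))))) (.node (.node (.node (.node (.node (.leaf 33962) (.leaf 18225)) (.node (.leaf 3700) (.leaf 0))) (.node (.node (.leaf 29938) (.leaf 0)) (.node (.leaf 28920) (.leaf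 0)))) (.node (.node (.node (.leaf 15850) (.leaf 10463)) (.node (.leaf 5520) (.leaf 0))) (.node (.node (.leaf 6746) (.leaf 0)) (.node (.leaf 31680) (.leaf 0))))) (.node (.node (.node (.node (.leaf 36212) (.leaf 24839)) (.node (.leaf 11548) (.leaf 0))) (.node (.node (.leaf 32610) (.leaf 0)) (.node (.leaf 25200) (.leaf 0)))) (.node (.node (.node (.leaf 4003) (.leaf 6037)) (.node (.leaf 11760) (.leaf 0))) (.node (.node (.leaf 1395) (.leaf 0)) (.node (.leaf 35792) (.leaf 0))))))) (.node (.node (.node (.node (.node (.node (.leaf 25571) (.leaf 24071)) (.node (.leaf 34141) (.leaf 0))) (.node (.node (.leaf 20063) (.leaf 0)) (.node (.leaf 27600) (.leaf 0)))) (.node (.node (.node (.leaf 11144) (.leaf 11919)) (.node (.leaf 3360) (.leaf 0))) (.node (.node (.leaf 16912) (.leaf 0)) (.node (.leaf 32760) (.leaf 0))))) (.node (.node (.node (.node (.leaf 24931) (.leaf 20516)) (.node (.leaf 10333) (.leaf 0))) (.node (.node (.leaf 5500) (.leaf 0)) (.node (.leaf 25800) (.leaf 0)))) (.node (.node (.node (.leaf 22995) (.leaf 4111)) (.node (.leaf 12840) (.leaf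 0))) (.node (.node (.leaf 9569) (.leaf 0)) (.node (.leaf 37691) (.leaf 0)))))) (.node (.node (.node (.node (.node (.leaf 34680) (.leaf 26278)) (.node (.leaf 14851) (.leaf 0))) (.node (.node (.leaf 13770) (.leaf 0)) (.node (.leaf 24120) (.leaf 0)))) (.node (.node (.node (.leaf 25481) (.leaf 8898)) (.node (.leaf 8880) (.leaf 0))) (.node (.node (.leaf 32069) (.leaf 0)) (.node (.leaf 2280) (.leaf 0))))) (.node (.node (.node (.node (.leaf 36813) (.leaf 15354)) (.node (.leaf 10937) (.leaf 0))) (.node (.node (.leaf 23323) (.leaf 0)) (.node (.leaf 24840) (.leaf 0)))) (.node (.node (.node (.leaf 14011) (.leaf 0)) (.node (.leaf 16680) (.leaf 0))) (.node (.node (.leaf 8957) (.leaf 0)) (.node (.leaf 27459) (.leaf 0)))))))) (.node (.node (.node (.node (.node (.node (.node (.leaf 11012) (.leaf 28498)) (.node (.leaf 1154) (.leaf 0))) (.node (.node (.leaf 3332) (.leaf 0)) (.node (.leaf 16200) (.leaf 0)))) (.node (.node (.node (.leaf 31901) (.leaf 14998)) (.node (.leaf 2395) (.leaf 0))) (.node (.node (.leaf 18196) (.leaf 0)) (.node (.leaf 36840) (.leaf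 0))))) (.node (.node (.node (.node (.leaf 3694) (.leaf 13938)) (.node (.leaf 4773) (.leaf 0))) (.node (.node (.leaf 18600) (.leaf 0)) (.node (.leaf 26640) (.leaf 0)))) (.node (.node (.node (.leaf 10710) (.leaf 21841)) (.node (.leaf 9240) (.leaf 0))) (.node (.node (.leaf 713) (.leaf 0)) (.node (.leaf 836) (.leaf 0)))))) (.node (.node (.node (.node (.node (.leaf 5307) (.leaf 18541)) (.node (.leaf 22623) (.leaf 0))) (.node (.node (.leaf 9074) (.leaf 0)) (.node (.leaf 37680) (.leaf 0)))) (.node (.node (.node (.leaf 15592) (.leaf 10223)) (.node (.leaf 6600) (.leaf 0))) (.node (.node (.leaf 20486) (.leaf 0)) (.node (.leaf 32880) (.leaf 0))))) (.node (.node (.node (.node (.leaf 1534) (.leaf 21483)) (.node (.leaf 26354) (.leaf 0))) (.node (.node (.leaf 334) (.leaf 0)) (.node (.leaf 25080) (.leaf 0)))) (.node (.node (.node (.leaf 35101) (.leaf 3391)) (.node (.leaf 12600) (.leaf 0))) (.node (.leaf 0) (.node (.leaf 35963) (.leaf 0))))))) (.node (.node (.node (.node (.node (.node (.leaf 13426) (.leaf 26340)) (.node (.leaf 25545) (.leaf 0))) (.node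 (.node (.leaf 8371) (.leaf 0)) (.node (.leaf 28680) (.leaf 0)))) (.node (.node (.node (.leaf 12688) (.leaf 8178)) (.node (.leaf 4920) (.leaf 0))) (.node (.node (.leaf 23146) (.leaf 0)) (.node (.leaf 31560) (.leaf 0))))) (.node (.node (.node (.node (.leaf 29619) (.leaf 20756)) (.node (.leaf 23545) (.leaf 0))) (.node (.node (.leaf 480) (.leaf 0)) (.node (.leaf 24960) (.leaf 0)))) (.node (.node (.node (.leaf 2359) (.leaf 5317)) (.node (.leaf 14520) (.leaf 0))) (.node (.node (.leaf 3454) (.leaf 0)) (.node (.leaf 34550) (.leaf 0)))))) (.node (.node (.node (.node (.node (.leaf 8493) (.leaf 22935)) (.node (.leaf 30600) (.leaf 0))) (.node (.node (.leaf 22040) (.leaf 0)) (.node (.leaf 23160) (.leaf 0)))) (.node (.node (.node (.leaf 8852) (.leaf 33003)) (.node (.leaf 7080) (.leaf 0))) (.node (.node (.leaf 30221) (.leaf 0)) (.node (.leaf 1441) (.leaf 0))))) (.node (.node (.node (.node (.leaf 37287) (.leaf 12169)) (.node (.leaf 1920) (.leaf 0))) (.node (.node (.leaf 7560) (.leaf 0)) (.node (.leaf 36120) (.leaf 0)))) (.node (.node (.node (.leaf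 6810) (.leaf 0)) (.node (.leaf 18240) (.leaf 0))) (.node (.node (.leaf 35114) (.leaf 0)) (.node (.leaf 27661) (.leaf 0))))))))

/-- Action of the generators on the minimal vectors, part 6. -/
def genActPart6 : Tree :=
  .node (.node (.node (.node (.node (.node (.node (.node (.leaf 18015) (.leaf 29911)) (.node (.leaf 13123) (.leaf 0))) (.node (.node (.leaf 3555) (.leaf 0)) (.node (.leaf 15000) (.leaf 0)))) (.node (.node (.node (.leaf 19993) (.leaf 16084)) (.node (.leaf 480) (.leaf 0))) (.node (.node (.leaf 11372) (.leaf 0)) (.node (.leaf 37080) (.leaf 0))))) (.node (.node (.node (.node (.leaf 7050) (.leaf 12925)) (.node (.leaf 14306) (.leaf 0))) (.node (.node (.leaf 20128) (.leaf 0)) (.node (.leaf 27360) (.leaf 0)))) (.node (.node (.node (.leaf 15274) (.leaf 31441)) (.node (.leaf 10680) (.leaf 0))) (.node (.node (.leaf 31080) (.leaf 0)) (.node (.leaf 367) (.leaf 0)))))) (.node (.node (.node (.node (.node (.leaf 4560) (.leaf 17310)) (.node (.leaf 21946) (.leaf 0))) (.node (.node (.leaf 1412) (.leaf 0)) (.node (.leaf 27720) (.leaf 0))))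 (.node (.node (.node (.leaf 16172) (.leaf 9992)) (.node (.leaf 5160) (.leaf 0))) (.node (.node (.leaf 33693) (.leaf 0)) (.node (.leaf 31440) (.leaf 0))))) (.node (.node (.node (.node (.leaf 7950) (.leaf 31201)) (.node (.leaf 17972) (.leaf 0))) (.node (.node (.leaf 4043) (.leaf 0)) (.node (.leaf 20400) (.leaf 0)))) (.node (.node (.node (.leaf 34673) (.leaf 3640)) (.node (.leaf 11160) (.leaf 0))) (.node (.node (.leaf 5280) (.leaf 0)) (.node (.leaf 36451) (.leaf 0))))))) (.node (.node (.node (.node (.node (.node (.leaf 4737) (.leaf 24166)) (.node (.leaf 36446) (.leaf 0))) (.node (.node (.leaf 497) (.leaf 0)) (.node (.leaf 28440) (.leaf 0)))) (.node (.node (.node (.leaf 722) (.leaf 7410)) (.node (.leaf 3480) (.leaf 0))) (.node (.node (.leaf 37341) (.leaf 0)) (.node (.leaf 31800) (.leaf 0))))) (.node (.node (.node (.node (.leaf 17728) (.leaf 21239)) (.node (.leaf 7345) (.leaf 0))) (.node (.node (.leaf 29520) (.leaf 0)) (.node (.leaf 25320) (.leaf 0)))) (.node (.node (.node (.leaf 30806) (.leaf 5447)) (.node (.leaf 13080) (.leaf 0))) (.node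 (.node (.leaf 1800) (.leaf 0)) (.node (.leaf 36940) (.leaf 0)))))) (.node (.node (.node (.node (.node (.leaf 9454) (.leaf 25944)) (.node (.leaf 15306) (.leaf 0))) (.node (.node (.leaf 14721) (.leaf 0)) (.node (.leaf 23640) (.leaf 0)))) (.node (.node (.node (.leaf 5240) (.leaf 31681)) (.node (.leaf 8520) (.leaf 0))) (.node (.node (.leaf 29734) (.leaf 0)) (.node (.leaf 2879) (.leaf 0))))) (.node (.node (.node (.node (.leaf 30391) (.leaf 11833)) (.leaf 0)) (.node (.node (.leaf 25560) (.leaf 0)) (.node (.leaf 18840) (.leaf 0)))) (.node (.node (.node (.leaf 10879) (.leaf 0)) (.node (.leaf 16920) (.leaf 0))) (.node (.node (.leaf 23795) (.leaf 0)) (.node (.leaf 27887) (.leaf 0)))))))) (.node (.node (.node (.node (.node (.node (.node (.leaf 11522) (.leaf 26697)) (.node (.leaf 27353) (.leaf 0))) (.node (.node (.leaf 614) (.leaf 0)) (.node (.leaf 15840) (.leaf 0)))) (.node (.node (.node (.leaf 240) (.leaf 11562)) (.node (.leaf 2761) (.leaf 0))) (.node (.node (.leaf 32968) (.leaf 0)) (.node (.leaf 35880) (.leaf 0))))) (.node (.node (.node (.node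 (.leaf 6571) (.leaf 20039)) (.node (.leaf 37169) (.leaf 0))) (.node (.node (.leaf 7486) (.leaf 0)) (.node (.leaf 27120) (.leaf 0)))) (.node (.node (.node (.leaf 36704) (.leaf 3880)) (.node (.leaf 9120) (.leaf 0))) (.node (.node (.leaf 21617) (.leaf 0)) (.node (.leaf 34354) (.leaf 0)))))) (.node (.node (.node (.node (.node (.leaf 5520) (.leaf 22552)) (.node (.leaf 33242) (.leaf 0))) (.node (.node (.leaf 22483) (.leaf 0)) (.node (.leaf 36600) (.leaf 0)))) (.node (.node (.node (.leaf 16431) (.leaf 7650)) (.node (.leaf 6960) (.leaf 0))) (.node (.node (.leaf 2264) (.leaf 0)) (.node (.leaf 31920) (.leaf 0))))) (.node (.node (.node (.node (.leaf 13200) (.leaf 15722)) (.node (.leaf 36840) (.leaf 0))) (.node (.node (.leaf 22156) (.leaf 0)) (.node (.leaf 20280) (.leaf 0)))) (.node (.node (.node (.leaf 14114) (.leaf 0)) (.node (.leaf 12240) (.leaf 0))) (.node (.node (.leaf 36341) (.leaf 0)) (.node (.leaf 27573) (.leaf 0))))))) (.node (.node (.node (.node (.node (.node (.leaf 8971) (.leaf 17573)) (.node (.leaf 25431) (.leaf 0))) (.node (.node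 (.leaf 9615) (.leaf 0)) (.node (.leaf 27480) (.leaf 0)))) (.node (.node (.node (.leaf 15691) (.leaf 10712)) (.node (.leaf 4800) (.leaf 0))) (.node (.node (.leaf 15419) (.leaf 0)) (.node (.leaf 31320) (.leaf 0))))) (.node (.node (.node (.node (.leaf 4877) (.leaf 25316)) (.node (.leaf 13229) (.leaf 0))) (.node (.node (.leaf 15088) (.leaf 0)) (.node (.leaf 18960) (.leaf 0)))) (.node (.node (.node (.leaf 6620) (.leaf 5687)) (.node (.leaf 14280) (.leaf 0))) (.node (.node (.leaf 36512) (.leaf 0)) (.node (.leaf 35204) (.leaf 0)))))) (.node (.node (.node (.node (.node (.leaf 10194) (.leaf 14206)) (.node (.leaf 16680) (.leaf 0))) (.node (.node (.leaf 30094) (.leaf 0)) (.node (.leaf 22680) (.leaf 0)))) (.node (.node (.node (.leaf 28275) (.leaf 32523)) (.node (.leaf 7440) (.leaf 0))) (.node (.node (.leaf 24163) (.leaf 0)) (.node (.leaf 2035) (.leaf 0))))) (.node (.node (.node (.node (.leaf 13082) (.leaf 18839)) (.node (.leaf 1080) (.leaf 0))) (.node (.node (.leaf 29374) (.leaf 0)) (.node (.leaf 36000) (.leaf 0)))) (.node (.node (.node (.leaf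 20747) (.leaf 0)) (.node (.leaf 18480) (.leaf 0))) (.node (.node (.leaf 26022) (.leaf 0)) (.node (.leaf 29229) (.leaf 0))))))))

/-- Action of the generators on the minimal vectors, part 1. -/
def genActPart1 : Tree :=
  .node (.node (.node (.node (.node (.node (.node (.node (.leaf 17836) (.leaf 29370)) (.node (.leaf 22459) (.leaf 0))) (.node (.node (.leaf 13635) (.leaf 0)) (.node (.leaf 14880) (.leaf 0)))) (.node (.node (.node (.leaf 20514) (.leaf 18708)) (.node (.leaf 720) (.leaf 0))) (.node (.node (.leaf 32713) (.leaf 0)) (.node (.leaf 34440) (.leaf 0))))) (.node (.node (.node (.node (.leaf 2506) (.leaf 14067)) (.node (.leaf 17516) (.leaf 0))) (.node (.node (.leaf 37474) (.leaf 0)) (.node (.leaf 29160) (.leaf 0)))) (.node (.node (.node (.leaf 23160) (.leaf 32640)) (.node (.leaf 10320) (.leaf 0))) (.node (.node (.leaf 26463) (.leaf 0)) (.node (.leaf 1676) (.leaf 0)))))) (.node (.node (.node (.node (.node (.leaf 27192) (.leaf 17474)) (.node (.leaf 19540) (.leaf 0))) (.node (.node (.leaf 6000) (.leaf 0)) (.node (.leaf 29880) (.leaf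 0)))) (.node (.node (.node (.leaf 6929) (.leaf 9222)) (.node (.leaf 5760) (.leaf 0))) (.node (.node (.leaf 14880) (.leaf 0)) (.node (.leaf 33600) (.leaf 0))))) (.node (.node (.node (.node (.leaf 5849) (.leaf 19908)) (.node (.leaf 32189) (.leaf 0))) (.node (.node (.leaf 37288) (.leaf 0)) (.node (.leaf 24480) (.leaf 0)))) (.node (.node (.node (.leaf 6208) (.leaf 6323)) (.node (.leaf 11040) (.leaf 0))) (.node (.node (.leaf 20279) (.leaf 0)) (.node (.leaf 35305) (.leaf 0))))))) (.node (.node (.node (.node (.node (.node (.leaf 15057) (.leaf 26598)) (.node (.leaf 11783) (.leaf 0))) (.node (.node (.leaf 28999) (.leaf 0)) (.node (.leaf 30480) (.leaf 0)))) (.node (.node (.node (.leaf 32632) (.leaf 11463)) (.node (.leaf 4080) (.leaf 0))) (.node (.node (.leaf 33504) (.leaf 0)) (.node (.leaf 33000) (.leaf 0))))) (.node (.node (.node (.node (.leaf 3453) (.leaf 25195)) (.node (.leaf 8234) (.leaf 0))) (.node (.node (.leaf 3483) (.leaf 0)) (.node (.leaf 25560) (.leaf 0)))) (.node (.node (.node (.leaf 373) (.leaf 4660)) (.node (.leaf 13560) (.leaf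 0))) (.node (.node (.leaf 19724) (.leaf 0)) (.node (.leaf 34218) (.leaf 0)))))) (.node (.node (.node (.node (.node (.leaf 24232) (.leaf 22656)) (.node (.leaf 3240) (.leaf 0))) (.node (.node (.leaf 24804) (.leaf 0)) (.node (.leaf 23400) (.leaf 0)))) (.node (.node (.node (.leaf 855) (.leaf 8564)) (.node (.leaf 8160) (.leaf 0))) (.node (.node (.leaf 10902) (.leaf 0)) (.node (.leaf 3127) (.leaf 0))))) (.node (.node (.node (.node (.leaf 30928) (.leaf 15848)) (.node (.leaf 4635) (.leaf 0))) (.node (.node (.leaf 23973) (.leaf 0)) (.node (.leaf 24600) (.leaf 0)))) (.node (.node (.node (.leaf 32859) (.leaf 0)) (.node (.leaf 17400) (.leaf 0))) (.node (.node (.leaf 28317) (.leaf 0)) (.node (.leaf 28189) (.leaf 0)))))))) (.node (.node (.node (.node (.node (.node (.node (.leaf 27941) (.leaf 29570)) (.node (.leaf 25075) (.leaf 0))) (.node (.node (.leaf 16626) (.leaf 0)) (.node (.leaf 15960) (.leaf 0)))) (.node (.node (.node (.leaf 24960) (.leaf 15973)) (.node (.leaf 2516) (.leaf 0))) (.node (.node (.leaf 20372) (.leaf 0)) (.node (.leaf 33960) (.leaf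 0))))) (.node (.node (.node (.node (.leaf 22393) (.leaf 13065)) (.node (.leaf 34259) (.leaf 0))) (.node (.node (.leaf 21241) (.leaf 0)) (.node (.leaf 26880) (.leaf 0)))) (.node (.node (.node (.leaf 5994) (.leaf 31567)) (.node (.leaf 9480) (.leaf 0))) (.node (.node (.leaf 14025) (.leaf 0)) (.node (.leaf 1079) (.leaf 0)))))) (.node (.node (.node (.node (.node (.leaf 19903) (.leaf 17209)) (.node (.leaf 28054) (.leaf 0))) (.node (.node (.leaf 29752) (.leaf 0)) (.node (.leaf 34800) (.leaf 0)))) (.node (.node (.node (.leaf 9329) (.leaf 9942)) (.node (.leaf 6360) (.leaf 0))) (.node (.node (.leaf 34946) (.leaf 0)) (.node (.leaf 33120) (.leaf 0))))) (.node (.node (.node (.node (.leaf 18555) (.leaf 31087)) (.node (.leaf 21546) (.leaf 0))) (.node (.node (.leaf 28531) (.leaf 0)) (.node (.leaf 24360) (.leaf 0)))) (.node (.node (.node (.leaf 6257) (.leaf 4900)) (.node (.leaf 11880) (.leaf 0))) (.node (.node (.leaf 6007) (.leaf 0)) (.node (.leaf 36070) (.leaf 0))))))) (.node (.node (.node (.node (.node (.node (.leaf 22711) (.leaf 24267)) (.node (.leaf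 4335) (.leaf 0))) (.node (.node (.leaf 15813) (.leaf 0)) (.node (.leaf 29640) (.leaf 0)))) (.node (.node (.node (.leaf 31678) (.leaf 8324)) (.node (.leaf 4200) (.leaf 0))) (.node (.node (.leaf 9073) (.leaf 0)) (.node (.leaf 33480) (.leaf 0))))) (.node (.node (.node (.node (.leaf 24267) (.leaf 21108)) (.node (.leaf 28169) (.leaf 0))) (.node (.node (.leaf 27800) (.leaf 0)) (.node (.leaf 24720) (.leaf 0)))) (.node (.node (.node (.leaf 37361) (.leaf 7043)) (.node (.leaf 13800) (.leaf 0))) (.node (.node (.leaf 18963) (.leaf 0)) (.node (.leaf 37520) (.leaf 0)))))) (.node (.node (.node (.node (.node (.leaf 19396) (.leaf 25812)) (.node (.leaf 20854) (.leaf 0))) (.node (.node (.leaf 14429) (.leaf 0)) (.node (.leaf 22440) (.leaf 0)))) (.node (.node (.node (.leaf 14954) (.leaf 31327)) (.node (.leaf 7800) (.leaf 0))) (.node (.node (.leaf 26610) (.leaf 0)) (.node (.leaf 2988) (.leaf 0))))) (.node (.node (.node (.node (.leaf 30264) (.leaf 11692)) (.node (.leaf 1800) (.leaf 0))) (.node (.node (.leaf 2329) (.leaf 0)) (.node (.leaf 35160) (.leaf 0))))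 (.node (.node (.node (.leaf 34832) (.leaf 0)) (.node (.leaf 18000) (.leaf 0))) (.node (.node (.leaf 27206) (.leaf 0)) (.node (.leaf 27748) (.leaf 0))))))))

/-- Action of the generators on the minimal vectors, part 5. -/
def genActPart5 : Tree :=
  .node (.node (.node (.node (.node (.node (.node (.node (.leaf 32422) (.leaf 29077)) (.node (.leaf 8002) (.leaf 0))) (.node (.node (.leaf 14823) (.leaf 0)) (.node (.leaf 15240) (.leaf 0)))) (.node (.node (.node (.leaf 21763) (.leaf 14867)) (.node (.leaf 360) (.leaf 0))) (.node (.node (.leaf 22001) (.leaf 0)) (.node (.leaf 34200) (.leaf 0))))) (.node (.node (.node (.node (.leaf 33934) (.leaf 13834)) (.node (.leaf 30436) (.leaf 0))) (.node (.node (.leaf 19843) (.leaf 0)) (.node (.leaf 30240) (.leaf 0)))) (.node (.node (.node (.leaf 0) (.leaf 33120)) (.node (.leaf 9960) (.leaf 0))) (.node (.node (.leaf 37073) (.leaf 0)) (.node (.leaf 483) (.leaf 0)))))) (.node (.node (.node (.node (.node (.leaf 17032) (.leaf 18400)) (.node (.leaf 34396) (.leaf 0))) (.node (.node (.leaf 32712) (.leaf 0)) (.node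 (.leaf 30600) (.leaf 0)))) (.node (.node (.node (.leaf 5003) (.leaf 9693)) (.node (.leaf 5880) (.leaf 0))) (.node (.node (.leaf 5133) (.leaf 0)) (.node (.leaf 33360) (.leaf 0))))) (.node (.node (.node (.node (.leaf 37038) (.leaf 21600)) (.node (.leaf 33862) (.leaf 0))) (.node (.node (.leaf 12810) (.leaf 0)) (.node (.leaf 19680) (.leaf 0)))) (.node (.node (.node (.leaf 4320) (.leaf 5131)) (.node (.leaf 11400) (.leaf 0))) (.node (.node (.leaf 13394) (.leaf 0)) (.node (.leaf 36583) (.leaf 0))))))) (.node (.node (.node (.node (.node (.node (.leaf 10577) (.leaf 26439)) (.node (.leaf 12675) (.leaf 0))) (.node (.node (.leaf 25886) (.leaf 0)) (.node (.leaf 29400) (.leaf 0)))) (.node (.node (.node (.leaf 7097) (.leaf 7879)) (.node (.leaf 3720) (.leaf 0))) (.node (.node (.leaf 14242) (.leaf 0)) (.node (.leaf 32040) (.leaf 0))))) (.node (.node (.node (.node (.leaf 10200) (.leaf 20635)) (.node (.leaf 35774) (.leaf 0))) (.node (.node (.leaf 18955) (.leaf 0)) (.node (.leaf 26040) (.leaf 0)))) (.node (.node (.node (.leaf 2210) (.leaf 6590)) (.node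 (.leaf 13320) (.leaf 0))) (.node (.node (.leaf 10115) (.leaf 0)) (.node (.leaf 34174) (.leaf 0)))))) (.node (.node (.node (.node (.node (.leaf 18883) (.leaf 23046)) (.node (.leaf 451) (.leaf 0))) (.node (.node (.leaf 19719) (.leaf 0)) (.node (.leaf 23880) (.leaf 0)))) (.node (.node (.node (.leaf 16032) (.leaf 21727)) (.node (.leaf 8280) (.leaf 0))) (.node (.node (.leaf 14640) (.leaf 0)) (.node (.leaf 2403) (.leaf 0))))) (.node (.node (.node (.node (.leaf 28646) (.leaf 12270)) (.node (.leaf 31695) (.leaf 0))) (.node (.node (.leaf 37581) (.leaf 0)) (.node (.leaf 21000) (.leaf 0)))) (.node (.node (.node (.leaf 27303) (.leaf 0)) (.node (.leaf 17160) (.leaf 0))) (.node (.node (.leaf 14121) (.leaf 0)) (.node (.leaf 28000) (.leaf 0)))))))) (.node (.node (.node (.node (.node (.node (.node (.leaf 34497) (.leaf 23972)) (.node (.leaf 9663) (.leaf 0))) (.node (.node (.leaf 23352) (.leaf 0)) (.node (.leaf 16560) (.leaf 0)))) (.node (.node (.node (.leaf 4554) (.leaf 12060)) (.node (.leaf 2887) (.leaf 0))) (.node (.node (.leaf 22697) (.leaf 0)) (.node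 (.leaf 34920) (.leaf 0))))) (.node (.node (.node (.node (.leaf 20356) (.leaf 24708)) (.node (.leaf 10035) (.leaf 0))) (.node (.node (.leaf 13884) (.leaf 0)) (.node (.leaf 26400) (.leaf 0)))) (.node (.node (.node (.leaf 20534) (.leaf 4411)) (.node (.leaf 9840) (.leaf 0))) (.node (.node (.leaf 36605) (.leaf 0)) (.node (.leaf 37583) (.leaf 0)))))) (.node (.node (.node (.node (.node (.leaf 16754) (.leaf 26147)) (.node (.leaf 2983) (.leaf 0))) (.node (.node (.leaf 11833) (.leaf 0)) (.node (.leaf 35640) (.leaf 0)))) (.node (.node (.node (.leaf 7320) (.leaf 7159)) (.node (.leaf 6240) (.leaf 0))) (.node (.node (.leaf 35662) (.leaf 0)) (.node (.leaf 32160) (.leaf 0))))) (.node (.node (.node (.node (.leaf 15135) (.leaf 15458)) (.node (.leaf 31434) (.leaf 0))) (.node (.node (.leaf 20881) (.leaf 0)) (.node (.leaf 19560) (.leaf 0)))) (.node (.node (.node (.leaf 21139) (.leaf 0)) (.node (.leaf 12480) (.leaf 0))) (.node (.node (.leaf 18727) (.leaf 0)) (.node (.leaf 27319) (.leaf 0))))))) (.node (.node (.node (.node (.node (.node (.leaf 31528) (.leaf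 18325)) (.node (.leaf 22874) (.leaf 0))) (.node (.node (.leaf 35621) (.leaf 0)) (.node (.leaf 30360) (.leaf 0)))) (.node (.node (.node (.leaf 6432) (.leaf 9453)) (.node (.leaf 4560) (.leaf 0))) (.node (.node (.leaf 25711) (.leaf 0)) (.node (.leaf 33240) (.leaf 0))))) (.node (.node (.node (.node (.leaf 28359) (.leaf 20395)) (.node (.leaf 21827) (.leaf 0))) (.node (.node (.leaf 20743) (.leaf 0)) (.node (.leaf 21120) (.leaf 0)))) (.node (.node (.node (.leaf 8126) (.leaf 6830)) (.node (.leaf 14040) (.leaf 0))) (.node (.node (.leaf 27680) (.leaf 0)) (.node (.leaf 35656) (.leaf 0)))))) (.node (.node (.node (.node (.node (.leaf 20760) (.leaf 13385)) (.node (.leaf 8537) (.leaf 0))) (.node (.node (.leaf 5731) (.leaf 0)) (.node (.leaf 22920) (.leaf 0)))) (.node (.node (.node (.leaf 3023) (.leaf 32160)) (.node (.leaf 7680) (.leaf 0))) (.node (.node (.leaf 24057) (.leaf 0)) (.node (.leaf 1087) (.leaf 0))))) (.node (.node (.node (.node (.leaf 2103) (.leaf 19195)) (.node (.leaf 1200) (.leaf 0))) (.node (.node (.leaf 24342) (.leaf 0)) (.node (.leaf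 35040) (.leaf 0)))) (.node (.node (.node (.leaf 14183) (.leaf 0)) (.node (.leaf 17760) (.leaf 0))) (.node (.node (.leaf 6672) (.leaf 0)) (.node (.leaf 28882) (.leaf 0))))))))

/-- Action of the generators on the minimal vectors, part 3. -/
def genActPart3 : Tree :=
  .node (.node (.node (.node (.node (.node (.node (.node (.leaf 25104) (.leaf 29842)) (.node (.leaf 15663) (.leaf 0))) (.node (.node (.leaf 28786) (.leaf 0)) (.node (.leaf 15360) (.leaf 0)))) (.node (.node (.node (.leaf 33810) (.leaf 20875)) (.node (.leaf 120) (.leaf 0))) (.node (.node (.leaf 31835) (.leaf 0)) (.node (.leaf 34320) (.leaf 0))))) (.node (.node (.node (.node (.leaf 26594) (.leaf 13145)) (.node (.leaf 37682) (.leaf 0))) (.node (.node (.leaf 14544) (.leaf 0)) (.node (.leaf 30120) (.leaf 0)))) (.node (.node (.node (.leaf 7587) (.leaf 32880)) (.node (.leaf 10080) (.leaf 0))) (.node (.node (.leaf 11162) (.leaf 0)) (.node (.leaf 241) (.leaf 0)))))) (.node (.node (.node (.node (.node (.leaf 23634) (.leaf 18085)) (.node (.leaf 3080) (.leaf 0))) (.node (.node (.leaf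 3933) (.leaf 0)) (.node (.leaf 30000) (.leaf 0)))) (.node (.node (.node (.leaf 21626) (.leaf 10096)) (.node (.leaf 6000) (.leaf 0))) (.node (.node (.leaf 23184) (.leaf 0)) (.node (.leaf 31200) (.leaf 0))))) (.node (.node (.node (.node (.leaf 30627) (.leaf 24948)) (.node (.leaf 24511) (.leaf 0))) (.node (.node (.leaf 8282) (.leaf 0)) (.node (.leaf 19200) (.leaf 0)))) (.node (.node (.node (.leaf 29457) (.leaf 5218)) (.node (.leaf 11520) (.leaf 0))) (.node (.node (.leaf 20028) (.leaf 0)) (.node (.leaf 36616) (.leaf 0))))))) (.node (.node (.node (.node (.node (.node (.leaf 26259) (.leaf 23732)) (.node (.leaf 23482) (.leaf 0))) (.node (.node (.leaf 37525) (.leaf 0)) (.node (.leaf 30720) (.leaf 0)))) (.node (.node (.node (.leaf 10395) (.leaf 12780)) (.node (.leaf 3840) (.leaf 0))) (.node (.node (.leaf 31312) (.leaf 0)) (.node (.leaf 32520) (.leaf 0))))) (.node (.node (.node (.node (.leaf 32160) (.leaf 19675)) (.node (.leaf 12930) (.leaf 0))) (.node (.node (.leaf 29123) (.leaf 0)) (.node (.leaf 26160) (.leaf 0)))) (.node (.node (.node (.leaf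 25320) (.leaf 3290)) (.node (.leaf 13440) (.leaf 0))) (.node (.node (.leaf 25112) (.leaf 0)) (.node (.leaf 34703) (.leaf 0)))))) (.node (.node (.node (.node (.node (.leaf 27075) (.leaf 25427)) (.node (.leaf 12211) (.leaf 0))) (.node (.node (.leaf 12987) (.leaf 0)) (.node (.leaf 24000) (.leaf 0)))) (.node (.node (.node (.leaf 30140) (.leaf 7509)) (.node (.leaf 8400) (.leaf 0))) (.node (.node (.leaf 35160) (.leaf 0)) (.node (.leaf 2167) (.leaf 0))))) (.node (.node (.node (.node (.leaf 35880) (.leaf 15218)) (.node (.leaf 781) (.leaf 0))) (.node (.node (.leaf 12389) (.leaf 0)) (.node (.leaf 20040) (.leaf 0)))) (.node (.node (.node (.leaf 1889) (.leaf 0)) (.node (.leaf 17280) (.leaf 0))) (.node (.node (.leaf 6209) (.leaf 0)) (.node (.leaf 30199) (.leaf 0)))))))) (.node (.node (.node (.node (.node (.node (.node (.leaf 35353) (.leaf 30037)) (.node (.leaf 24836) (.leaf 0))) (.node (.node (.leaf 16258) (.leaf 0)) (.node (.leaf 16440) (.leaf 0)))) (.node (.node (.node (.leaf 5486) (.leaf 15587)) (.node (.leaf 2279) (.leaf 0))) (.node (.node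 (.leaf 25257) (.leaf 0)) (.node (.leaf 35400) (.leaf 0))))) (.node (.node (.node (.node (.leaf 35846) (.leaf 14554)) (.node (.leaf 8492) (.leaf 0))) (.node (.node (.leaf 1920) (.leaf 0)) (.node (.leaf 26280) (.leaf 0)))) (.node (.node (.node (.leaf 29368) (.leaf 21967)) (.node (.leaf 9720) (.leaf 0))) (.node (.node (.leaf 17280) (.leaf 0)) (.node (.leaf 1) (.leaf 0)))))) (.node (.node (.node (.node (.node (.leaf 21940) (.leaf 17680)) (.node (.leaf 23670) (.leaf 0))) (.node (.node (.leaf 13800) (.leaf 0)) (.node (.leaf 35760) (.leaf 0)))) (.node (.node (.node (.leaf 24622) (.leaf 10816)) (.node (.leaf 6120) (.leaf 0))) (.node (.node (.leaf 9262) (.leaf 0)) (.node (.leaf 32640) (.leaf 0))))) (.node (.node (.node (.node (.leaf 28822) (.leaf 22320)) (.node (.leaf 19618) (.leaf 0))) (.node (.node (.leaf 5760) (.leaf 0)) (.node (.leaf 19080) (.leaf 0)))) (.node (.node (.node (.leaf 22888) (.leaf 4010)) (.node (.leaf 12360) (.leaf 0))) (.node (.node (.leaf 21120) (.leaf 0)) (.node (.leaf 35623) (.leaf 0))))))) (.node (.node (.node (.node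 (.node (.node (.leaf 31993) (.leaf 27159)) (.node (.leaf 27373) (.leaf 0))) (.node (.node (.leaf 4095) (.leaf 0)) (.node (.leaf 30960) (.leaf 0)))) (.node (.node (.node (.leaf 34157) (.leaf 7749)) (.node (.leaf 4440) (.leaf 0))) (.node (.node (.leaf 35425) (.leaf 0)) (.node (.leaf 31080) (.leaf 0))))) (.node (.node (.node (.node (.leaf 1273) (.leaf 19435)) (.node (.leaf 2509) (.leaf 0))) (.node (.node (.leaf 3840) (.leaf 0)) (.node (.leaf 20160) (.leaf 0)))) (.node (.node (.node (.leaf 9227) (.leaf 5938)) (.node (.leaf 14160) (.leaf 0))) (.node (.node (.leaf 29974) (.leaf 0)) (.node (.leaf 37054) (.leaf 0)))))) (.node (.node (.node (.node (.node (.leaf 17901) (.leaf 22806)) (.node (.leaf 200) (.leaf 0))) (.node (.node (.leaf 21000) (.leaf 0)) (.node (.leaf 23040) (.leaf 0)))) (.node (.node (.node (.leaf 36312) (.leaf 31920)) (.node (.leaf 7560) (.leaf 0))) (.node (.node (.leaf 11918) (.leaf 0)) (.node (.leaf 1200) (.leaf 0))))) (.node (.node (.node (.node (.leaf 31377) (.leaf 12510)) (.node (.leaf 1440) (.leaf 0))) (.node (.node (.leaf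 929) (.leaf 0)) (.node (.leaf 35520) (.leaf 0)))) (.node (.node (.node (.leaf 21516) (.leaf 0)) (.node (.leaf 17640) (.leaf 0))) (.node (.node (.leaf 11517) (.leaf 0)) (.node (.leaf 30880) (.leaf 0))))))))

/-- Action of the generators on the minimal vectors, part 7. -/
def genActPart7 : Tree :=
  .node (.node (.node (.node (.node (.node (.node (.node (.leaf 21242) (.leaf 28610)) (.node (.leaf 35543) (.leaf 0))) (.node (.node (.leaf 18467) (.leaf 0)) (.node (.leaf 14760) (.leaf 0)))) (.node (.node (.node (.leaf 32072) (.leaf 16213)) (.node (.leaf 3235) (.leaf 0))) (.node (.node (.leaf 16293) (.leaf 0)) (.node (.leaf 34080) (.leaf 0))))) (.node (.node (.node (.node (.leaf 26485) (.leaf 13785)) (.node (.leaf 35306) (.leaf 0))) (.node (.node (.leaf 24641) (.leaf 0)) (.node (.leaf 29280) (.leaf 0)))) (.node (.node (.node (.leaf 13468) (.leaf 33487)) (.node (.leaf 10200) (.leaf 0))) (.node (.node (.leaf 10554) (.leaf 0)) (.node (.leaf 955) (.leaf 0)))))) (.node (.node (.node (.node (.node (.leaf 2703) (.leaf 16969)) (.node (.leaf 34695)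 (.leaf 0))) (.node (.node (.leaf 7762) (.leaf 0)) (.node (.leaf 30840) (.leaf 0)))) (.node (.node (.node (.leaf 32911) (.leaf 10571)) (.node (.leaf 5640) (.leaf 0))) (.node (.node (.leaf 10294) (.leaf 0)) (.node (.leaf 22080) (.leaf 0))))) (.node (.node (.node (.node (.leaf 18298) (.leaf 33727)) (.node (.leaf 15994) (.leaf 0))) (.node (.node (.leaf 20520) (.leaf 0)) (.node (.leaf 20640) (.leaf 0)))) (.node (.node (.node (.leaf 31766) (.leaf 3781)) (.node (.leaf 10920) (.leaf 0))) (.node (.node (.leaf 4163) (.leaf 0)) (.node (.leaf 35110) (.leaf 0))))))) (.node (.node (.node (.node (.node (.node (.leaf 22663) (.leaf 23547)) (.node (.leaf 16137) (.leaf 0))) (.node (.node (.leaf 36518) (.leaf 0)) (.node (.leaf 29520) (.leaf 0)))) (.node (.node (.node (.leaf 18735) (.leaf 8794)) (.node (.leaf 3960) (.leaf 0))) (.node (.node (.leaf 16523) (.leaf 0)) (.node (.leaf 22200) (.leaf 0))))) (.node (.node (.node (.node (.leaf 12075) (.leaf 18948)) (.node (.leaf 25834) (.leaf 0))) (.node (.node (.leaf 19171) (.leaf 0)) (.node (.leaf 25680) (.leaf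 0)))) (.node (.node (.node (.leaf 33314) (.leaf 5788)) (.node (.leaf 13680) (.leaf 0))) (.node (.node (.leaf 21361) (.leaf 0)) (.node (.leaf 34640) (.leaf 0)))))) (.node (.node (.node (.node (.node (.leaf 26676) (.leaf 25572)) (.node (.leaf 12027) (.leaf 0))) (.node (.node (.leaf 26117) (.leaf 0)) (.node (.leaf 23520) (.leaf 0)))) (.node (.node (.node (.leaf 37780) (.leaf 33247)) (.node (.leaf 8040) (.leaf 0))) (.node (.node (.leaf 12240) (.leaf 0)) (.node (.leaf 3115) (.leaf 0))))) (.node (.node (.node (.node (.leaf 36381) (.leaf 10972)) (.node (.leaf 1560) (.leaf 0))) (.node (.node (.leaf 11663) (.leaf 0)) (.node (.leaf 21240) (.leaf 0)))) (.node (.node (.node (.leaf 35754) (.leaf 0)) (.node (.leaf 17520) (.leaf 0))) (.node (.node (.leaf 28737) (.leaf 0)) (.node (.leaf 30628) (.leaf 0)))))))) (.node (.node (.node (.node (.node (.node (.node (.leaf 29236) (.leaf 26838)) (.node (.leaf 26845) (.leaf 0))) (.node (.node (.leaf 17514) (.leaf 0)) (.node (.leaf 16080) (.leaf 0)))) (.node (.node (.node (.leaf 24492) (.leaf 11223)) (.node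 (.leaf 3003) (.leaf 0))) (.node (.node (.leaf 18499) (.leaf 0)) (.node (.leaf 35280) (.leaf 0))))) (.node (.node (.node (.node (.leaf 26837) (.leaf 20148)) (.node (.leaf 4463) (.leaf 0))) (.node (.node (.leaf 34629) (.leaf 0)) (.node (.leaf 26760) (.leaf 0)))) (.node (.node (.node (.leaf 9934) (.leaf 3541)) (.node (.leaf 9600) (.leaf 0))) (.node (.node (.leaf 36206) (.leaf 0)) (.node (.leaf 37098) (.leaf 0)))))) (.node (.node (.node (.node (.node (.leaf 2915) (.leaf 23376)) (.node (.leaf 8131) (.leaf 0))) (.node (.node (.leaf 14297) (.leaf 0)) (.node (.leaf 34680) (.leaf 0)))) (.node (.node (.node (.leaf 33630) (.leaf 8074)) (.node (.leaf 6480) (.leaf 0))) (.node (.node (.leaf 17125) (.leaf 0)) (.node (.leaf 22320) (.leaf 0))))) (.node (.node (.node (.node (.leaf 3237) (.leaf 16568)) (.node (.leaf 16671) (.leaf 0))) (.node (.node (.leaf 8872) (.leaf 0)) (.node (.leaf 20520) (.leaf 0)))) (.node (.node (.node (.leaf 31197) (.leaf 0)) (.node (.leaf 12000) (.leaf 0))) (.node (.node (.leaf 17661) (.leaf 0)) (.node (.leaf 31069) (.leaf 0)))))))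 (.node (.node (.node (.node (.node (.node (.leaf 26919) (.leaf 16754)) (.node (.leaf 26904) (.leaf 0))) (.node (.node (.leaf 1623) (.leaf 0)) (.node (.leaf 29760) (.leaf 0)))) (.node (.node (.node (.leaf 22105) (.leaf 10331)) (.node (.leaf 4320) (.leaf 0))) (.node (.node (.leaf 30270) (.leaf 0)) (.node (.leaf 21960) (.leaf 0))))) (.node (.node (.node (.node (.leaf 17306) (.leaf 24475)) (.node (.leaf 23006) (.leaf 0))) (.node (.node (.leaf 26642) (.leaf 0)) (.node (.leaf 21360) (.leaf 0)))) (.node (.node (.node (.leaf 9521) (.leaf 5548)) (.node (.leaf 13920) (.leaf 0))) (.node (.node (.leaf 18047) (.leaf 0)) (.node (.leaf 36265) (.leaf 0)))))) (.node (.node (.node (.node (.node (.leaf 23430) (.leaf 14307)) (.node (.leaf 10674) (.leaf 0))) (.node (.node (.leaf 3720) (.leaf 0)) (.node (.leaf 22560) (.leaf 0)))) (.node (.node (.node (.leaf 25288) (.leaf 32400)) (.node (.leaf 7920) (.leaf 0))) (.node (.node (.leaf 7912) (.leaf 0)) (.node (.leaf 1908) (.leaf 0))))) (.node (.node (.node (.node (.leaf 23821) (.leaf 21348)) (.node (.leaf 960)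 (.leaf 0))) (.node (.node (.leaf 33446) (.leaf 0)) (.node (.leaf 34560) (.leaf 0)))) (.node (.node (.node (.leaf 11910) (.leaf 0)) (.node (.leaf 17880) (.leaf 0))) (.node (.node (.leaf 34468) (.leaf 0)) (.node (.leaf 28410) (.leaf 0))))))))

/-- Action of the generators on the minimal vectors -/
def genAct : Tree :=
  .node (.node (.node (genActPart0) (genActPart4)) (.node (genActPart2) (genActPart6))) (.node (.node (genActPart1) (genActPart5)) (.node (genActPart3) (genActPart7)))

/-- A tree on the lines, part 0. -/
def parentTabPart0 : Tree :=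
  .node (.node (.node (.node (.node (.node (.node (.node (.leaf 107) (.leaf 630)) (.node (.leaf 755) (.leaf 0))) (.node (.node (.leaf 286) (.leaf 0)) (.node (.leaf 381) (.leaf 0)))) (.node (.node (.node (.leaf 1143) (.leaf 1062)) (.node (.leaf 997) (.leaf 0))) (.node (.node (.leaf 56) (.leaf 0)) (.node (.leaf 846) (.leaf 0))))) (.node (.node (.node (.node (.leaf 18) (.leaf 1238)) (.node (.leaf 380) (.leaf 0))) (.node (.node (.leaf 979) (.leaf 0)) (.node (.leaf 825) (.leaf 0)))) (.node (.node (.node (.leaf 388) (.leaf 653)) (.node (.leaf 926) (.leaf 0))) (.node (.node (.leaf 309) (.leaf 0)) (.node (.leaf 682) (.leaf 0)))))) (.node (.node (.node (.node (.node (.leaf 560) (.leaf 1047)) (.node (.leaf 618) (.leaf 0))) (.node (.node (.leaf 992) (.leaf 0)) (.leaf 0))) (.node (.node (.node (.leaf 277) (.leaf 1046)) (.node (.leaf 665) (.leaf 0))) (.node (.node (.leaf 64) (.leaf 0)) (.node (.leaf 634) (.leaf 0))))) (.node (.node (.node (.node (.leaf 35) (.leaf 700)) (.node (.leaf 530) (.leaf 0))) (.node (.node (.leaf 987) (.leaf 0)) (.node (.leaf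 906) (.leaf 0)))) (.node (.node (.node (.leaf 234) (.leaf 25)) (.node (.leaf 636) (.leaf 0))) (.node (.node (.leaf 575) (.leaf 0)) (.node (.leaf 331) (.leaf 0))))))) (.node (.node (.node (.node (.node (.node (.leaf 125) (.leaf 1206)) (.node (.leaf 771) (.leaf 0))) (.node (.node (.leaf 912) (.leaf 0)) (.node (.leaf 140) (.leaf 0)))) (.node (.node (.node (.leaf 1139) (.leaf 219)) (.node (.leaf 601) (.leaf 0))) (.node (.node (.leaf 348) (.leaf 0)) (.node (.leaf 897) (.leaf 0))))) (.node (.node (.node (.node (.leaf 19) (.leaf 149)) (.node (.leaf 1205) (.leaf 0))) (.node (.node (.leaf 617) (.leaf 0)) (.node (.leaf 712) (.leaf 0)))) (.node (.node (.node (.leaf 932) (.leaf 1098)) (.node (.leaf 1258) (.leaf 0))) (.node (.node (.leaf 968) (.leaf 0)) (.node (.leaf 269) (.leaf 0)))))) (.node (.node (.node (.node (.node (.leaf 39) (.leaf 1177)) (.node (.leaf 522) (.leaf 0))) (.node (.node (.leaf 963) (.leaf 0)) (.node (.leaf 639) (.leaf 0)))) (.node (.node (.node (.leaf 1191) (.leaf 1058)) (.node (.leaf 966) (.leaf 0))) (.node (.node (.leaf 394)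 (.leaf 0)) (.node (.leaf 315) (.leaf 0))))) (.node (.node (.node (.node (.leaf 637) (.leaf 1094)) (.node (.leaf 713) (.leaf 0))) (.node (.node (.leaf 584) (.leaf 0)) (.node (.leaf 403) (.leaf 0)))) (.node (.node (.node (.leaf 389) (.leaf 0)) (.node (.leaf 806) (.leaf 0))) (.node (.node (.leaf 871) (.leaf 0)) (.node (.leaf 830) (.leaf 0)))))))) (.node (.node (.node (.node (.node (.node (.node (.leaf 189) (.leaf 251)) (.node (.leaf 801) (.leaf 0))) (.node (.node (.leaf 1007) (.leaf 0)) (.node (.leaf 221) (.leaf 0)))) (.node (.node (.node (.leaf 689) (.leaf 111)) (.node (.leaf 655) (.leaf 0))) (.node (.node (.leaf 1204) (.leaf 0)) (.node (.leaf 132) (.leaf 0))))) (.node (.node (.node (.node (.leaf 11) (.leaf 668)) (.node (.leaf 518) (.leaf 0))) (.node (.node (.leaf 757) (.leaf 0)) (.node (.leaf 946) (.leaf 0)))) (.node (.node (.node (.leaf 1223) (.leaf 456)) (.node (.leaf 831) (.leaf 0))) (.node (.node (.leaf 390) (.leaf 0)) (.node (.leaf 97) (.leaf 0)))))) (.node (.node (.node (.node (.node (.leaf 364) (.leaf 1013)) (.node (.leaf 1233)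 (.leaf 0))) (.node (.node (.leaf 242) (.leaf 0)) (.node (.leaf 419) (.leaf 0)))) (.node (.node (.node (.leaf 176) (.leaf 199)) (.node (.leaf 445) (.leaf 0))) (.node (.node (.leaf 48) (.leaf 0)) (.node (.leaf 666) (.leaf 0))))) (.node (.node (.node (.node (.leaf 444) (.leaf 276)) (.node (.leaf 487) (.leaf 0))) (.node (.node (.leaf 473) (.leaf 0)) (.node (.leaf 519) (.leaf 0)))) (.node (.node (.node (.leaf 1187) (.leaf 135)) (.node (.leaf 469) (.leaf 0))) (.node (.node (.leaf 1240) (.leaf 0)) (.node (.leaf 363) (.leaf 0))))))) (.node (.node (.node (.node (.node (.node (.leaf 103) (.leaf 581)) (.node (.leaf 881) (.leaf 0))) (.node (.node (.leaf 1089) (.leaf 0)) (.node (.leaf 367) (.leaf 0)))) (.node (.node (.node (.leaf 1241) (.leaf 195)) (.node (.leaf 631) (.leaf 0))) (.node (.node (.leaf 497) (.leaf 0)) (.node (.leaf 626) (.leaf 0))))) (.node (.node (.node (.node (.leaf 31) (.leaf 16)) (.node (.leaf 526) (.leaf 0))) (.node (.node (.leaf 302) (.leaf 0)) (.node (.leaf 1024) (.leaf 0)))) (.node (.node (.node (.leaf 312) (.leaf 127)) (.node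 (.leaf 1127) (.leaf 0))) (.node (.node (.leaf 1012) (.leaf 0)) (.node (.leaf 646) (.leaf 0)))))) (.node (.node (.node (.node (.node (.leaf 709) (.leaf 1242)) (.node (.leaf 8) (.leaf 0))) (.node (.node (.leaf 677) (.leaf 0)) (.node (.leaf 910) (.leaf 0)))) (.node (.node (.node (.leaf 178) (.leaf 1130)) (.node (.leaf 970) (.leaf 0))) (.node (.node (.leaf 378) (.leaf 0)) (.node (.leaf 933) (.leaf 0))))) (.node (.node (.node (.node (.leaf 296) (.leaf 937)) (.node (.leaf 520) (.leaf 0))) (.node (.node (.leaf 160) (.leaf 0)) (.node (.leaf 850) (.leaf 0)))) (.node (.node (.node (.leaf 290) (.leaf 0)) (.node (.leaf 940) (.leaf 0))) (.node (.node (.leaf 570) (.leaf 0)) (.node (.leaf 688) (.leaf 0))))))))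

/-- A tree on the lines, part 1. -/
def parentTabPart1 : Tree :=
  .node (.node (.node (.node (.node (.node (.node (.node (.leaf 1025) (.leaf 299)) (.node (.leaf 680) (.leaf 0))) (.node (.node (.leaf 915) (.leaf 0)) (.node (.leaf 417) (.leaf 0)))) (.node (.node (.node (.leaf 173) (.leaf 139)) (.node (.leaf 965) (.leaf 0))) (.node (.node (.leaf 803) (.leaf 0)) (.node (.leaf 325) (.leaf 0))))) (.node (.node (.node (.node (.leaf 106) (.leaf 964)) (.node (.leaf 494) (.leaf 0))) (.node (.node (.leaf 959) (.leaf 0)) (.node (.leaf 609) (.leaf 0)))) (.node (.node (.node (.leaf 804) (.leaf 824)) (.node (.leaf 827) (.leaf 0))) (.node (.node (.leaf 1125) (.leaf 0)) (.node (.leaf 351) (.leaf 0)))))) (.node (.node (.node (.node (.node (.leaf 928) (.leaf 289)) (.node (.leaf 832) (.leaf 0))) (.node (.node (.leaf 923) (.leaf 0)) (.node (.leaf 525) (.leaf 0)))) (.node (.node (.node (.leaf 869) (.leaf 457)) (.node (.leaf 994) (.leaf 0))) (.node (.node (.leaf 616) (.leaf 0)) (.node (.leaf 714) (.leaf 0))))) (.node (.node (.node (.node (.leaf 756) (.leaf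 524)) (.node (.leaf 1093) (.leaf 0))) (.node (.node (.leaf 951) (.leaf 0)) (.node (.leaf 1244) (.leaf 0)))) (.node (.node (.node (.leaf 644) (.leaf 115)) (.node (.leaf 719) (.leaf 0))) (.node (.node (.leaf 33) (.leaf 0)) (.node (.leaf 686) (.leaf 0))))))) (.node (.node (.node (.node (.node (.node (.leaf 50) (.leaf 1225)) (.node (.leaf 724) (.leaf 0))) (.node (.node (.leaf 931) (.leaf 0)) (.leaf 0))) (.node (.node (.node (.leaf 564) (.leaf 183)) (.node (.leaf 1034) (.leaf 0))) (.node (.node (.leaf 993) (.leaf 0)) (.node (.leaf 144) (.leaf 0))))) (.node (.node (.node (.node (.leaf 565) (.leaf 860)) (.node (.leaf 236) (.leaf 0))) (.node (.node (.leaf 326) (.leaf 0)) (.node (.leaf 237) (.leaf 0)))) (.node (.node (.node (.leaf 628) (.leaf 656)) (.node (.leaf 1194) (.leaf 0))) (.node (.node (.leaf 579) (.leaf 0)) (.node (.leaf 908) (.leaf 0)))))) (.node (.node (.node (.node (.node (.leaf 69) (.leaf 1087)) (.node (.leaf 475) (.leaf 0))) (.node (.node (.leaf 676) (.leaf 0)) (.node (.leaf 49) (.leaf 0)))) (.node (.node (.node (.leaf 93) (.leaf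 191)) (.node (.leaf 1017) (.leaf 0))) (.node (.node (.leaf 587) (.leaf 0)) (.node (.leaf 185) (.leaf 0))))) (.node (.node (.node (.node (.leaf 89) (.leaf 1184)) (.node (.leaf 105) (.leaf 0))) (.node (.node (.leaf 545) (.leaf 0)) (.node (.leaf 874) (.leaf 0)))) (.node (.node (.node (.leaf 1133) (.leaf 0)) (.node (.leaf 802) (.leaf 0))) (.node (.node (.leaf 68) (.leaf 0)) (.node (.leaf 670) (.leaf 0)))))))) (.node (.node (.node (.node (.node (.node (.node (.leaf 1001) (.leaf 956)) (.node (.leaf 759) (.leaf 0))) (.node (.node (.leaf 262) (.leaf 0)) (.node (.leaf 252) (.leaf 0)))) (.node (.node (.node (.leaf 1247) (.leaf 441)) (.node (.leaf 990) (.leaf 0))) (.node (.node (.leaf 513) (.leaf 0)) (.node (.leaf 845) (.leaf 0))))) (.node (.node (.node (.node (.leaf 249) (.leaf 1248)) (.node (.leaf 491) (.leaf 0))) (.node (.node (.leaf 1097) (.leaf 0)) (.node (.leaf 523) (.leaf 0)))) (.node (.node (.node (.leaf 214) (.leaf 151)) (.node (.leaf 1209) (.leaf 0))) (.node (.node (.leaf 398) (.leaf 0)) (.node (.leaf 311) (.leaf 0)))))) (.node (.node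 (.node (.node (.node (.leaf 669) (.leaf 1095)) (.node (.leaf 180) (.leaf 0))) (.node (.node (.leaf 991) (.leaf 0)) (.node (.leaf 699) (.leaf 0)))) (.node (.node (.node (.leaf 194) (.leaf 231)) (.node (.leaf 659) (.leaf 0))) (.node (.node (.leaf 960) (.leaf 0)) (.node (.leaf 729) (.leaf 0))))) (.node (.node (.node (.node (.leaf 1064) (.leaf 1102)) (.node (.leaf 835) (.leaf 0))) (.node (.node (.leaf 454) (.leaf 0)) (.node (.leaf 423) (.leaf 0)))) (.node (.node (.node (.leaf 1011) (.leaf 0)) (.node (.leaf 1208) (.leaf 0))) (.node (.node (.leaf 1044) (.leaf 0)) (.node (.leaf 822) (.leaf 0))))))) (.node (.node (.node (.node (.node (.node (.leaf 708) (.leaf 612)) (.node (.leaf 1068) (.leaf 0))) (.node (.node (.leaf 880) (.leaf 0)) (.node (.leaf 448) (.leaf 0)))) (.node (.node (.node (.leaf 154) (.leaf 256)) (.node (.leaf 635) (.leaf 0))) (.node (.node (.leaf 783) (.leaf 0)) (.node (.leaf 291) (.leaf 0))))) (.node (.node (.node (.node (.leaf 98) (.leaf 1115)) (.node (.leaf 455) (.leaf 0))) (.node (.node (.leaf 561) (.leaf 0)) (.node (.leaf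 882) (.leaf 0)))) (.node (.node (.node (.leaf 888) (.leaf 1074)) (.node (.leaf 297) (.leaf 0))) (.node (.node (.leaf 1069) (.leaf 0)) (.node (.leaf 1188) (.leaf 0)))))) (.node (.node (.node (.node (.node (.leaf 621) (.leaf 580)) (.node (.leaf 21) (.leaf 0))) (.node (.node (.leaf 334) (.leaf 0)) (.node (.leaf 328) (.leaf 0)))) (.node (.node (.node (.leaf 96) (.leaf 215)) (.node (.leaf 1) (.leaf 0))) (.node (.node (.leaf 563) (.leaf 0)) (.node (.leaf 753) (.leaf 0))))) (.node (.node (.node (.node (.leaf 896) (.leaf 1070)) (.node (.leaf 982) (.leaf 0))) (.node (.node (.leaf 446) (.leaf 0)) (.node (.leaf 849) (.leaf 0)))) (.node (.node (.node (.leaf 278) (.leaf 0)) (.node (.leaf 551) (.leaf 0))) (.node (.node (.leaf 792) (.leaf 0)) (.node (.leaf 702) (.leaf 0))))))))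

/-- A tree on the lines -/
def parentTab : Tree :=
  .node (parentTabPart0) (parentTabPart1)

/-- Position in the tree, part 0. -/
def depthTabPart0 : Tree :=
  .node (.node (.node (.node (.node (.node (.node (.node (.leaf 84) (.leaf 155)) (.node (.leaf 112) (.leaf 0))) (.node (.node (.leaf 239) (.leaf 0)) (.node (.leaf 88) (.leaf 0)))) (.node (.node (.node (.leaf 292) (.leaf 190)) (.node (.leaf 286) (.leaf 0))) (.node (.node (.leaf 267) (.leaf 0)) (.node (.leaf 19) (.leaf 0))))) (.node (.node (.node (.node (.leaf 176) (.leaf 205)) (.node (.leaf 87) (.leaf 0))) (.node (.node (.leaf 311) (.leaf 0)) (.node (.leaf 91) (.leaf 0)))) (.node (.node (.node (.leaf 10) (.leaf 215)) (.node (.leaf 193) (.leaf 0))) (.node (.node (.leaf 194) (.leaf 0)) (.node (.leaf 86) (.leaf 0)))))) (.node (.node (.node (.node (.node (.leaf 15) (.leaf 120)) (.node (.leaf 138) (.leaf 0))) (.node (.node (.leaf 50) (.leaf 0)) (.leaf 0))) (.node (.node (.node (.leaf 68) (.leaf 119)) (.node (.leaf 254) (.leaf 0))) (.node (.node (.leaf 269) (.leaf 0)) (.node (.leaf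 13) (.leaf 0))))) (.node (.node (.node (.node (.leaf 37) (.leaf 256)) (.node (.leaf 262) (.leaf 0))) (.node (.node (.leaf 247) (.leaf 0)) (.node (.leaf 207) (.leaf 0)))) (.node (.node (.node (.leaf 293) (.leaf 47)) (.node (.leaf 167) (.leaf 0))) (.node (.node (.leaf 296) (.leaf 0)) (.node (.leaf 22) (.leaf 0))))))) (.node (.node (.node (.node (.node (.node (.leaf 93) (.leaf 235)) (.node (.leaf 166) (.leaf 0))) (.node (.node (.leaf 95) (.leaf 0)) (.node (.leaf 289) (.leaf 0)))) (.node (.node (.node (.leaf 242) (.leaf 278)) (.node (.leaf 57) (.leaf 0))) (.node (.node (.leaf 38) (.leaf 0)) (.node (.leaf 46) (.leaf 0))))) (.node (.node (.node (.node (.leaf 177) (.leaf 300)) (.node (.leaf 234) (.leaf 0))) (.node (.node (.leaf 137) (.leaf 0)) (.node (.leaf 99) (.leaf 0)))) (.node (.node (.node (.leaf 188) (.leaf 71)) (.node (.leaf 208) (.leaf 0))) (.node (.node (.leaf 141) (.leaf 0)) (.node (.leaf 272) (.leaf 0)))))) (.node (.node (.node (.node (.node (.leaf 66) (.leaf 59)) (.node (.leaf 5) (.leaf 0))) (.node (.node (.leaf 164) (.leaf 0))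 (.node (.leaf 169) (.leaf 0)))) (.node (.node (.node (.leaf 65) (.leaf 214)) (.node (.leaf 81) (.leaf 0))) (.node (.node (.leaf 303) (.leaf 0)) (.node (.leaf 197) (.leaf 0))))) (.node (.node (.node (.node (.leaf 168) (.leaf 148)) (.node (.leaf 100) (.leaf 0))) (.node (.node (.leaf 258) (.leaf 0)) (.node (.leaf 78) (.leaf 0)))) (.node (.node (.node (.leaf 11) (.leaf 0)) (.node (.leaf 56) (.leaf 0))) (.node (.node (.leaf 288) (.leaf 0)) (.node (.leaf 48) (.leaf 0)))))))) (.node (.node (.node (.node (.node (.node (.node (.leaf 139) (.leaf 192)) (.node (.leaf 1) (.leaf 0))) (.node (.node (.leaf 295) (.leaf 0)) (.node (.leaf 312) (.leaf 0)))) (.node (.node (.node (.leaf 153) (.leaf 228)) (.node (.leaf 216) (.leaf 0))) (.node (.node (.leaf 233) (.leaf 0)) (.node (.leaf 115) (.leaf 0))))) (.node (.node (.node (.node (.leaf 232) (.leaf 33)) (.node (.leaf 161) (.leaf 0))) (.node (.node (.leaf 8) (.leaf 0)) (.node (.leaf 279) (.leaf 0)))) (.node (.node (.node (.leaf 170) (.leaf 29)) (.node (.leaf 49) (.leaf 0))) (.node (.node (.leaf 12) (.leaf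 0)) (.node (.leaf 76) (.leaf 0)))))) (.node (.node (.node (.node (.node (.leaf 198) (.leaf 73)) (.node (.leaf 132) (.leaf 0))) (.node (.node (.leaf 28) (.leaf 0)) (.node (.leaf 310) (.leaf 0)))) (.node (.node (.node (.leaf 123) (.leaf 110)) (.node (.leaf 41) (.leaf 0))) (.node (.node (.leaf 125) (.leaf 0)) (.node (.leaf 255) (.leaf 0))))) (.node (.node (.node (.node (.leaf 40) (.leaf 67)) (.node (.leaf 74) (.leaf 0))) (.node (.node (.leaf 133) (.leaf 0)) (.node (.leaf 162) (.leaf 0)))) (.node (.node (.node (.leaf 213) (.leaf 116)) (.node (.leaf 261) (.leaf 0))) (.node (.node (.leaf 178) (.leaf 0)) (.node (.leaf 225) (.leaf 0))))))) (.node (.node (.node (.node (.node (.node (.leaf 20) (.leaf 291)) (.node (.leaf 145) (.leaf 0))) (.node (.node (.leaf 285) (.leaf 0)) (.node (.leaf 199) (.leaf 0)))) (.node (.node (.node (.leaf 179) (.leaf 27)) (.node (.leaf 156) (.leaf 0))) (.node (.node (.leaf 313) (.leaf 0)) (.node (.leaf 187) (.leaf 0))))) (.node (.node (.node (.node (.leaf 266) (.leaf 175)) (.node (.leaf 25) (.leaf 0))) (.node (.node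 (.leaf 217) (.leaf 0)) (.node (.leaf 252) (.leaf 0)))) (.node (.node (.node (.leaf 196) (.leaf 94)) (.node (.leaf 54) (.leaf 0))) (.node (.node (.leaf 72) (.leaf 0)) (.node (.leaf 151) (.leaf 0)))))) (.node (.node (.node (.node (.node (.leaf 174) (.leaf 180)) (.node (.leaf 231) (.leaf 0))) (.node (.node (.leaf 106) (.leaf 0)) (.node (.leaf 44) (.leaf 0)))) (.node (.node (.node (.leaf 124) (.leaf 128)) (.node (.leaf 142) (.leaf 0))) (.node (.node (.leaf 223) (.leaf 0)) (.node (.leaf 189) (.leaf 0))))) (.node (.node (.node (.node (.leaf 60) (.leaf 306)) (.node (.leaf 4) (.leaf 0))) (.node (.node (.leaf 129) (.leaf 0)) (.node (.leaf 186) (.leaf 0)))) (.node (.node (.node (.leaf 103) (.leaf 0)) (.node (.leaf 200) (.leaf 0))) (.node (.node (.leaf 302) (.leaf 0)) (.node (.leaf 152) (.leaf 0))))))))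

/-- Position in the tree, part 1. -/
def depthTabPart1 : Tree :=
  .node (.node (.node (.node (.node (.node (.node (.node (.leaf 253) (.leaf 62)) (.node (.leaf 85) (.leaf 0))) (.node (.node (.leaf 96) (.leaf 0)) (.node (.leaf 309) (.leaf 0)))) (.node (.node (.node (.leaf 58) (.leaf 249)) (.node (.leaf 80) (.leaf 0))) (.node (.node (.leaf 3) (.leaf 0)) (.node (.leaf 282) (.leaf 0))))) (.node (.node (.node (.node (.leaf 83) (.leaf 79)) (.node (.leaf 211) (.leaf 0))) (.node (.node (.leaf 203) (.leaf 0)) (.node (.leaf 307) (.leaf 0)))) (.node (.node (.node (.leaf 55) (.leaf 90)) (.node (.leaf 92) (.leaf 0))) (.node (.node (.leaf 53) (.leaf 0)) (.node (.leaf 39) (.leaf 0)))))) (.node (.node (.node (.node (.node (.leaf 31) (.leaf 102)) (.node (.leaf 171) (.leaf 0))) (.node (.node (.leaf 275) (.leaf 0)) (.node (.leaf 24) (.leaf 0)))) (.node (.node (.node (.leaf 287) (.leaf 30)) (.node (.leaf 52) (.leaf 0))) (.node (.node (.leaf 136) (.leaf 0)) (.node (.leaf 101) (.leaf 0))))) (.node (.node (.node (.node (.leaf 7) (.leaf 23)) (.node (.leaf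 147) (.leaf 0))) (.node (.node (.leaf 294) (.leaf 0)) (.node (.leaf 209) (.leaf 0)))) (.node (.node (.node (.leaf 150) (.leaf 263)) (.node (.leaf 297) (.leaf 0))) (.node (.node (.leaf 36) (.leaf 0)) (.node (.leaf 206) (.leaf 0))))))) (.node (.node (.node (.node (.node (.node (.leaf 127) (.leaf 63)) (.node (.leaf 281) (.leaf 0))) (.node (.node (.leaf 32) (.leaf 0)) (.node (.leaf 159) (.leaf 0)))) (.node (.node (.node (.leaf 226) (.leaf 238)) (.node (.leaf 276) (.leaf 0))) (.node (.node (.leaf 51) (.leaf 0)) (.node (.leaf 305) (.leaf 0))))) (.node (.node (.node (.node (.leaf 227) (.leaf 240)) (.node (.leaf 183) (.leaf 0))) (.node (.node (.leaf 283) (.leaf 0)) (.node (.leaf 184) (.leaf 0)))) (.node (.node (.node (.leaf 154) (.leaf 113)) (.node (.leaf 201) (.leaf 0))) (.node (.node (.leaf 165) (.leaf 0)) (.node (.leaf 43) (.leaf 0)))))) (.node (.node (.node (.node (.node (.leaf 158) (.leaf 314)) (.node (.leaf 134) (.leaf 0))) (.node (.node (.leaf 105) (.leaf 0)) (.node (.leaf 126) (.leaf 0)))) (.node (.node (.node (.leaf 143) (.leaf 140))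 (.node (.leaf 248) (.leaf 0))) (.node (.node (.leaf 259) (.leaf 0)) (.node (.leaf 218) (.leaf 0))))) (.node (.node (.node (.node (.leaf 308) (.leaf 212)) (.node (.leaf 82) (.leaf 0))) (.node (.node (.leaf 230) (.leaf 0)) (.node (.leaf 260) (.leaf 0)))) (.node (.node (.node (.leaf 273) (.leaf 0)) (.node (.leaf 2) (.leaf 0))) (.node (.node (.leaf 157) (.leaf 0)) (.node (.leaf 35) (.leaf 0)))))))) (.node (.node (.node (.node (.node (.node (.node (.leaf 299) (.leaf 202)) (.node (.leaf 9) (.leaf 0))) (.node (.node (.leaf 181) (.leaf 0)) (.node (.leaf 130) (.leaf 0)))) (.node (.node (.node (.leaf 210) (.leaf 298)) (.node (.leaf 121) (.leaf 0))) (.node (.node (.leaf 204) (.leaf 0)) (.node (.leaf 18) (.leaf 0))))) (.node (.node (.node (.node (.leaf 191) (.leaf 97)) (.node (.leaf 270) (.leaf 0))) (.node (.node (.leaf 70) (.leaf 0)) (.node (.leaf 6) (.leaf 0)))) (.node (.node (.node (.leaf 250) (.leaf 301)) (.node (.leaf 222) (.leaf 0))) (.node (.node (.leaf 284) (.leaf 0)) (.node (.leaf 195) (.leaf 0)))))) (.node (.node (.node (.node (.node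 (.leaf 34) (.leaf 149)) (.node (.leaf 237) (.leaf 0))) (.node (.node (.leaf 122) (.leaf 0)) (.node (.leaf 236) (.leaf 0)))) (.node (.node (.node (.leaf 26) (.leaf 246)) (.node (.leaf 114) (.leaf 0))) (.node (.node (.leaf 163) (.leaf 0)) (.node (.leaf 109) (.leaf 0))))) (.node (.node (.node (.node (.leaf 135) (.leaf 182)) (.node (.leaf 172) (.leaf 0))) (.node (.node (.leaf 107) (.leaf 0)) (.node (.leaf 229) (.leaf 0)))) (.node (.node (.node (.leaf 98) (.leaf 0)) (.node (.leaf 221) (.leaf 0))) (.node (.node (.leaf 118) (.leaf 0)) (.node (.leaf 219) (.leaf 0))))))) (.node (.node (.node (.node (.node (.node (.leaf 173) (.leaf 241)) (.node (.leaf 243) (.leaf 0))) (.node (.node (.leaf 144) (.leaf 0)) (.node (.leaf 277) (.leaf 0)))) (.node (.node (.node (.leaf 271) (.leaf 304)) (.node (.leaf 14) (.leaf 0))) (.node (.node (.leaf 224) (.leaf 0)) (.node (.leaf 104) (.leaf 0))))) (.node (.node (.node (.node (.leaf 77) (.leaf 268)) (.node (.leaf 108) (.leaf 0))) (.node (.node (.leaf 16) (.leaf 0)) (.node (.leaf 146) (.leaf 0)))) (.node (.node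 (.node (.leaf 274) (.leaf 117)) (.node (.leaf 61) (.leaf 0))) (.node (.node (.leaf 244) (.leaf 0)) (.node (.leaf 64) (.leaf 0)))))) (.node (.node (.node (.node (.node (.leaf 265) (.leaf 290)) (.node (.leaf 220) (.leaf 0))) (.node (.node (.leaf 131) (.leaf 0)) (.node (.leaf 21) (.leaf 0)))) (.node (.node (.node (.leaf 75) (.leaf 251)) (.node (.leaf 160) (.leaf 0))) (.node (.node (.leaf 17) (.leaf 0)) (.node (.leaf 111) (.leaf 0))))) (.node (.node (.node (.node (.leaf 45) (.leaf 245)) (.node (.leaf 89) (.leaf 0))) (.node (.node (.leaf 42) (.leaf 0)) (.node (.leaf 185) (.leaf 0)))) (.node (.node (.node (.leaf 69) (.leaf 0)) (.node (.leaf 264) (.leaf 0))) (.node (.node (.leaf 280) (.leaf 0)) (.node (.leaf 257) (.leaf 0))))))))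

/-- Position in the tree -/
def depthTab : Tree :=
  .node (depthTabPart0) (depthTabPart1)

end CfsgLib.Janko2
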