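import Cfsg.Agent.Lib.Janko2.DataChain
import Cfsg.Agent.Lib.Janko2.DataVec

/-!
Kernel evaluation: the stabiliser chain.
-/

set_option autoImplicit false
set_option maxRecDepth 100000
set_option maxHeartbeats 0

namespace CfsgLib.Janko2

/-- The image of a point under a packed permutation. -/
def pimg (p x : ℕ) : ℕ := (p >>> (9 * x)) &&& 511

/-- An entry of a chunked table. -/
def tget (t : List (List ℕ)) (i : ℕ) : ℕ := (t.getD (i / 40) []).getD (i % 40) 0

/-- A base point. -/
def bpt (k : ℕ) : ℕ := chainBase.getD k 0

/-- A generator at the first level. -/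
def gen0 (a : ℕ) : ℕ := chainGen0.getD a 0

/-- A generator at the second level. -/
def gen1 (a : ℕ) : ℕ := chainGen1.getD a 0

/-- A generator at the third level. -/
def gen2 (a : ℕ) : ℕ := chainGen2.getD a 0

/-- A representative at the first level. -/
def rep0 (y : ℕ) : ℕ := tget chainRep0 y

/-- A representative at the second level. -/
def rep1 (y : ℕ) : ℕ := tget chainRep1 y

/-- A representative at the third level. -/
def rep2 (y : ℕ) : ℕ := tget chainRep2 y

/-- The Schreier tree is consistent. -/
def treeOK (n ng : ℕ) (g r : ℕ → ℕ) (par : List ℕ) : Bool :=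
  ((List.range 315).all fun x => Nat.beq (pimg (r 0) x) x) &&
  (List.range n).all fun y => Nat.beq y 0 ||
    (Nat.blt (par.getD y 0 / 4) y && Nat.blt (par.getD y 0 % 4) ng &&
      (List.range 315).all fun x => Nat.beq (pimg (r y) x) (pimg (g (par.getD y 0 % 4)) (pimg (r (par.getD y 0 / 4)) x)))

/-- The images of the base point are distinct. -/
def distinctOK (n b : ℕ) (r : ℕ → ℕ) : Bool :=
  (List.range n).all fun y => (List.range y).all fun z => !Nat.beq (pimg (r y) b) (pimg (r z) b)

/-- A generator at the next level fixes the base point and comes from the previous level. -/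
def witOK (n ng n' b : ℕ) (g r g' : ℕ → ℕ) (wit : List ℕ) : Bool :=
  (List.range n').all fun i =>
    Nat.beq (pimg (g' i) b) b && Nat.blt (wit.getD i 0 % 4) ng &&
    Nat.blt (wit.getD i 0 / 4 % 512) n && Nat.blt (wit.getD i 0 / 2048) n &&
    (List.range 315).all fun x => Nat.beq (pimg (r (wit.getD i 0 / 2048)) (pimg (g' i) x))
      (pimg (g (wit.getD i 0 % 4)) (pimg (r (wit.getD i 0 / 4 % 512)) x))

theorem check_chain_gen : ((List.range 4).all fun a => (List.range 315).all fun j =>
    Nat.beq (pimg (gen0 a) j) (genAct.get (315 * a + j) / 120)) = true := by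
  decide +kernel

theorem check_tree0 : treeOK 315 4 gen0 rep0 chainPar0 = true := by
  decide +kernel

theorem check_tree1 : (treeOK 160 2 gen1 rep1 chainPar1 && treeOK 12 2 gen2 rep2 chainPar2) = true := by
  decide +kernel

theorem check_distinct : (distinctOK 315 (bpt 0) rep0 && distinctOK 160 (bpt 1) rep1 &&
    distinctOK 12 (bpt 2) rep2 && Nat.blt (bpt 0) 315 && Nat.blt (bpt 1) 315 && Nat.blt (bpt 2) 315) =
    true := by
  decide +kernel

theorem check_wit : (witOK 315 4 2 (bpt 0) gen0 rep0 gen1 chainWit0 &&
    witOK 160 2 2 (bpt 1) gen1 rep1 gen2 chainWit1) = true := by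
  decide +kernel

theorem check_closure0 : ((List.range 1260).all fun i =>
    let v := tget chainClo0 i
    Nat.blt (v % 512) 315 && Nat.blt (v / 512 % 512) 160 && Nat.blt (v / 262144) 12 &&
      (List.range 315).all fun x => Nat.beq (pimg (gen0 (i / 315)) (pimg (rep0 (i % 315)) x))
        (pimg (rep0 (v % 512)) (pimg (rep1 (v / 512 % 512)) (pimg (rep2 (v / 262144)) x)))) = true := by
  decide +kernel

theorem check_closure1 : (((List.range 320).all fun i =>
    let v := tget chainClo1 i
    Nat.blt (v % 512) 160 && Nat.blt (v / 512) 12 &&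
      (List.range 315).all fun x => Nat.beq (pimg (gen1 (i / 160)) (pimg (rep1 (i % 160)) x))
        (pimg (rep1 (v % 512)) (pimg (rep2 (v / 512)) x))) &&
    (List.range 24).all fun i =>
      Nat.blt (tget chainClo2 i) 12 &&
      (List.range 315).all fun x => Nat.beq (pimg (gen2 (i / 12)) (pimg (rep2 (i % 12)) x))
        (pimg (rep2 (tget chainClo2 i)) x)) = true := by
  decide +kernel

end CfsgLib.Janko2
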