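import Cfsg.Agent.Lib.Janko2.Perm
import Cfsg.Agent.Lib.Janko2.ChecksChain
import Cfsg.Agent.Lib.Recog.PermChain

/-!
The order of the permutation group on the reflections.
-/

set_option autoImplicit false
set_option maxRecDepth 100000

namespace CfsgLib.Janko2

open Cfsg.Spor CfsgLib.Fusion.TableSylow CfsgLib.Recog

open Classical in
/-- The permutation of a packed code (junk: `1`). -/
noncomputable def permOf (p : ℕ) : Equiv.Perm (Fin 315) :=
  if h : ∃ π : Equiv.Perm (Fin 315), ∀ x : Fin 315, ((π x : Fin 315) : ℕ) = pimg p x then Classical.choose h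
  else 1

theorem permOf_eq {p : ℕ} {π : Equiv.Perm (Fin 315)}
    (h : ∀ x : Fin 315, ((π x : Fin 315) : ℕ) = pimg p x) : permOf p = π := by
  classical
  have he : ∃ π : Equiv.Perm (Fin 315), ∀ x : Fin 315, ((π x : Fin 315) : ℕ) = pimg p x := ⟨π, h⟩
  rw [permOf, dif_pos he]
  exact Equiv.ext fun x => Fin.ext ((Classical.choose_spec he x).trans (h x).symm)

/-- The code describes its permutation. -/
def Good (p : ℕ) : Prop := ∀ x : Fin 315, ((permOf p x : Fin 315) : ℕ) = pimg p x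

theorem good_of {p : ℕ} {π : Equiv.Perm (Fin 315)}
    (h : ∀ x : Fin 315, ((π x : Fin 315) : ℕ) = pimg p x) : Good p ∧ permOf p = π := by
  have e := permOf_eq h
  exact ⟨fun x => by rw [e]; exact h x, e⟩

/-- The generators on the reflections. -/
def genP : Set (Equiv.Perm (Fin 315)) := {σ | ∃ a < 4, σ = permOf (gen0 a)}

theorem check_gen_lt :
    ((List.range 2).all fun i => (List.range 315).all fun x => Nat.blt (pimg (gen1 i) x) 315) = true ∧
    ((List.range 2).all fun i => (List.range 315).all fun x => Nat.blt (pimg (gen2 i) x) 315) = true := by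
  decide +kernel

theorem gen0_spec {a : ℕ} (ha : a < 4) : Good (gen0 a) ∧ permOf (gen0 a) = psi (gElt ⟨a, ha⟩) := by
  refine good_of fun x => ?_
  rw [psi_gen]
  have h := all_of (all_of check_chain_gen ha) x.2
  have h' := all_of check_act ha
  simp only [Bool.and_eq_true, Nat.blt_eq] at h'
  have h2 := all_of h'.2 x.2
  simp only [Bool.and_eq_true, Nat.blt_eq] at h2
  rw [beq_eq h]
  show genAct.get (315 * a + (x : ℕ)) / 120 % 315 = _
  exact Nat.mod_eq_of_lt (by omega)

theorem range_psi : psi.range = Subgroup.closure genP := by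
  rw [MonoidHom.range_eq_map, ← closure_gElt, MonoidHom.map_closure]
  congr 1
  ext σ
  constructor
  · rintro ⟨_, ⟨a, rfl⟩, rfl⟩
    exact ⟨a, a.2, (gen0_spec a.2).2.symm⟩
  · rintro ⟨a, ha, rfl⟩
    exact ⟨gElt ⟨a, ha⟩, ⟨_, rfl⟩, (gen0_spec ha).2.symm⟩

section level

variable {n ng : ℕ} {g r : ℕ → ℕ} {par : List ℕ}

/-- The generators of a level. -/
def genOf (ng : ℕ) (g : ℕ → ℕ) : Set (Equiv.Perm (Fin 315)) := {σ | ∃ a < ng, σ = permOf (g a)}

theorem tree_spec (hg : ∀ a < ng, Good (g a)) (h : treeOK n ng g r par = true) {y : ℕ} (hy : y < n) :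
    Good (r y) ∧ permOf (r y) ∈ Subgroup.closure (genOf ng g) := by
  simp only [treeOK, Bool.and_eq_true] at h
  induction y using Nat.strong_induction_on with
  | _ y ih =>
    have h' := all_of h.2 hy
    simp only [Bool.or_eq_true, Bool.and_eq_true, Nat.blt_eq] at h'
    rcases h' with h' | ⟨⟨h1, h2⟩, h3⟩
    · obtain rfl := beq_eq h'
      obtain ⟨hG, e⟩ := good_of (p := r 0) (π := 1) fun x => (beq_eq (all_of h.1 x.2)).symm
      exact ⟨hG, e ▸ one_mem _⟩
    · obtain ⟨hp, hm⟩ := ih _ h1 (by omega)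
      obtain ⟨hG, e⟩ := good_of (p := r y) (π := permOf (g (par.getD y 0 % 4)) * permOf (r (par.getD y 0 / 4)))
        fun x => by rw [beq_eq (all_of h3 x.2), Equiv.Perm.mul_apply, hg _ h2, hp]
      exact ⟨hG, e ▸ mul_mem (Subgroup.subset_closure ⟨_, h2, rfl⟩) hm⟩

theorem wit_spec {n' b : ℕ} (hb : b < 315) {g' : ℕ → ℕ} {wit : List ℕ}
    (hg : ∀ a < ng, Good (g a)) (hr : ∀ y < n, Good (r y) ∧ permOf (r y) ∈ Subgroup.closure (genOf ng g))
    (h : witOK n ng n' b g r g' wit = true)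
    (hlt : ((List.range n').all fun i => (List.range 315).all fun x => Nat.blt (pimg (g' i) x) 315) = true)
    {i : ℕ} (hi : i < n') :
    Good (g' i) ∧ permOf (g' i) ∈ Subgroup.closure (genOf ng g) ∧
      permOf (g' i) ⟨b, hb⟩ = ⟨b, hb⟩ := by
  have h' := all_of h hi
  simp only [Bool.and_eq_true, Nat.blt_eq] at h'
  obtain ⟨⟨⟨⟨h1, h2⟩, h3⟩, h4⟩, h5⟩ := h'
  set ga := permOf (g (wit.getD i 0 % 4))
  set rx := permOf (r (wit.getD i 0 / 4 % 512))
  set ry := permOf (r (wit.getD i 0 / 2048))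
  obtain ⟨hG, e⟩ := good_of (p := g' i) (π := ry⁻¹ * (ga * rx)) fun x => by
    obtain ⟨z, hz⟩ : ∃ z : Fin 315, (z : ℕ) = pimg (g' i) x :=
      ⟨⟨_, Nat.le_of_ble_eq_true (all_of (all_of hlt hi) x.2)⟩, rfl⟩
    have e1 := beq_eq (all_of h5 x.2)
    have key : ry z = ga (rx x) := Fin.ext (by rw [(hr _ h4).1 z, hz, e1, hg _ h2, (hr _ h3).1 x])
    rw [Equiv.Perm.mul_apply, Equiv.Perm.mul_apply, ← key, ← hz]
    simp
  refine ⟨hG, e ▸ mul_mem (inv_mem (hr _ h4).2) (mul_mem (Subgroup.subset_closure ⟨_, h2, rfl⟩) (hr _ h3).2),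
    Fin.ext ?_⟩
  rw [hG]
  exact beq_eq h1

theorem distinct_nodup {b : ℕ} (hb : b < 315) (hr : ∀ y < n, Good (r y))
    (h : distinctOK n b r = true) :
    (((List.range n).map fun y => permOf (r y)).map fun π => π ⟨b, hb⟩).Nodup := by
  rw [List.map_map]
  refine List.Nodup.map_on ?_ List.nodup_range
  intro y hy z hz e
  rw [List.mem_range] at hy hz
  have e' := congrArg Fin.val e
  simp only [Function.comp_apply, hr y hy _, hr z hz _] at e'
  rcases lt_trichotomy y z with hlt | he | hlt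
  · have := all_of (all_of h hz) hlt
    rw [e', Nat.beq_refl] at this
    exact absurd this (by decide)
  · exact he
  · have := all_of (all_of h hy) hlt
    rw [e', Nat.beq_refl] at this
    exact absurd this (by decide)

end level

theorem chain_facts :
    (∀ a < 4, Good (gen0 a)) ∧ (∀ a < 2, Good (gen1 a)) ∧ (∀ a < 2, Good (gen2 a)) ∧
    (∀ y < 315, Good (rep0 y) ∧ permOf (rep0 y) ∈ Subgroup.closure (genOf 4 gen0)) ∧
    (∀ y < 160, Good (rep1 y) ∧ permOf (rep1 y) ∈ Subgroup.closure (genOf 2 gen1)) ∧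
    (∀ y < 12, Good (rep2 y) ∧ permOf (rep2 y) ∈ Subgroup.closure (genOf 2 gen2)) := by
  have hw := check_wit
  have ht := check_tree1
  have hd := check_distinct
  simp only [Bool.and_eq_true, Nat.blt_eq] at hw ht hd
  have h0 : ∀ a < 4, Good (gen0 a) := fun a ha => (gen0_spec ha).1
  have r0 := fun y (hy : y < 315) => tree_spec h0 check_tree0 hy
  have h1 : ∀ a < 2, Good (gen1 a) := fun a ha =>
    (wit_spec hd.1.1.2 h0 r0 hw.1 check_gen_lt.1 ha).1
  have r1 := fun y (hy : y < 160) => tree_spec h1 ht.1 hy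
  have h2 : ∀ a < 2, Good (gen2 a) := fun a ha => (wit_spec hd.1.2 h1 r1 hw.2 check_gen_lt.2 ha).1
  exact ⟨h0, h1, h2, r0, r1, fun y hy => tree_spec h2 ht.2 hy⟩

/-- The stabiliser of the base point. -/
theorem chain_top : (∀ σ ∈ Subgroup.closure (genOf 2 gen1), ∀ h : bpt 0 < 315, σ ⟨bpt 0, h⟩ = ⟨bpt 0, h⟩) ∧
    Subgroup.closure genP ⊓ MulAction.stabilizer (Equiv.Perm (Fin 315))
      (⟨bpt 0 % 315, Nat.mod_lt _ (by norm_num)⟩ : Fin 315) = Subgroup.closure (genOf 2 gen1) ∧
    Nat.card (Subgroup.closure genP) = 604800 ∧ Nat.card (Subgroup.closure (genOf 2 gen1)) = 1920 := by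
  obtain ⟨h0, h1, h2, r0, r1, r2⟩ := chain_facts
  have hw := check_wit
  have hd := check_distinct
  simp only [Bool.and_eq_true, Nat.blt_eq] at hw hd
  obtain ⟨⟨⟨⟨⟨d0, d1⟩, d2⟩, b0⟩, b1⟩, b2⟩ := hd
  have hgP : genP = genOf 4 gen0 := rfl
  have fix1 : ∀ σ ∈ Subgroup.closure (genOf 2 gen1), σ ⟨bpt 0, b0⟩ = ⟨bpt 0, b0⟩ := by
    intro σ hσ
    refine (Subgroup.closure_le (K := MulAction.stabilizer (Equiv.Perm (Fin 315)) (⟨bpt 0, b0⟩ : Fin 315))).2 ?_ hσ
    rintro _ ⟨a, ha, rfl⟩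
    exact (wit_spec b0 h0 r0 hw.1 check_gen_lt.1 ha).2.2
  have fix2 : ∀ σ ∈ Subgroup.closure (genOf 2 gen2), σ ⟨bpt 1, b1⟩ = ⟨bpt 1, b1⟩ := by
    intro σ hσ
    refine (Subgroup.closure_le (K := MulAction.stabilizer (Equiv.Perm (Fin 315)) (⟨bpt 1, b1⟩ : Fin 315))).2 ?_ hσ
    rintro _ ⟨a, ha, rfl⟩
    exact (wit_spec b1 h1 r1 hw.2 check_gen_lt.2 ha).2.2
  have le21 : Subgroup.closure (genOf 2 gen2) ≤ Subgroup.closure (genOf 2 gen1) := by
    refine (Subgroup.closure_le _).2 ?_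
    rintro _ ⟨a, ha, rfl⟩
    exact (wit_spec b1 h1 r1 hw.2 check_gen_lt.2 ha).2.1
  have le10 : Subgroup.closure (genOf 2 gen1) ≤ Subgroup.closure (genOf 4 gen0) := by
    refine (Subgroup.closure_le _).2 ?_
    rintro _ ⟨a, ha, rfl⟩
    exact (wit_spec b0 h0 r0 hw.1 check_gen_lt.1 ha).2.1
  have hz : ∀ {n ng : ℕ} {g r : ℕ → ℕ} {par : List ℕ}, 0 < n → treeOK n ng g r par = true →
      (1 : Equiv.Perm (Fin 315)) ∈ (List.range n).map fun y => permOf (r y) := by
    intro n ng g r par hn h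
    simp only [treeOK, Bool.and_eq_true] at h
    exact List.mem_map.2 ⟨0, List.mem_range.2 hn,
      (good_of (p := r 0) (π := 1) fun x => (beq_eq (all_of h.1 x.2)).symm).2⟩
  have ht := check_tree1
  simp only [Bool.and_eq_true] at ht
  have hc := check_closure1
  simp only [Bool.and_eq_true] at hc
  obtain ⟨hc1, hc2⟩ := hc
  have L2 := PermChain.level (S := genOf 2 gen2) (H := ⊥) (⟨bpt 2, b2⟩ : Fin 315)
    ((List.range 12).map fun y => permOf (rep2 y)) bot_le
    (fun h hh => by rw [Subgroup.mem_bot.1 hh]; rfl)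
    (fun π hπ => by
      obtain ⟨y, hy, rfl⟩ := List.mem_map.1 hπ
      exact (r2 y (List.mem_range.1 hy)).2)
    (hz (by norm_num) ht.2) (distinct_nodup b2 (fun y hy => (r2 y hy).1) d2)
    (by
      rintro _ ⟨a, ha, rfl⟩ π hπ
      obtain ⟨y, hy, rfl⟩ := List.mem_map.1 hπ
      rw [List.mem_range] at hy
      have h := all_of hc2 (show 12 * a + y < 24 by omega)
      simp only [Bool.and_eq_true, Nat.blt_eq] at h
      obtain ⟨hv, he⟩ := h
      refine ⟨_, List.mem_map.2 ⟨_, List.mem_range.2 hv, rfl⟩, ?_⟩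
      rw [Subgroup.mem_bot, inv_mul_eq_one]
      refine Equiv.ext fun x => Fin.ext ?_
      have := beq_eq (all_of he x.2)
      rw [show (12 * a + y) / 12 = a by omega, show (12 * a + y) % 12 = y by omega] at this
      rw [(r2 _ hv).1 x, Equiv.Perm.mul_apply, h2 a ha, (r2 y hy).1 x]
      exact this.symm)
  have L1 := PermChain.level (S := genOf 2 gen1) (H := Subgroup.closure (genOf 2 gen2)) (⟨bpt 1, b1⟩ : Fin 315)
    ((List.range 160).map fun y => permOf (rep1 y)) le21 fix2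
    (fun π hπ => by
      obtain ⟨y, hy, rfl⟩ := List.mem_map.1 hπ
      exact (r1 y (List.mem_range.1 hy)).2)
    (hz (by norm_num) ht.1) (distinct_nodup b1 (fun y hy => (r1 y hy).1) d1)
    (by
      rintro _ ⟨a, ha, rfl⟩ π hπ
      obtain ⟨y, hy, rfl⟩ := List.mem_map.1 hπ
      rw [List.mem_range] at hy
      have h := all_of hc1 (show 160 * a + y < 320 by omega)
      simp only [Bool.and_eq_true, Nat.blt_eq] at h
      obtain ⟨⟨hv, hw'⟩, he⟩ := h
      refine ⟨_, List.mem_map.2 ⟨_, List.mem_range.2 hv, rfl⟩, ?_⟩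
      set v := tget chainClo1 (160 * a + y)
      have hprod : permOf (gen1 a) * permOf (rep1 y) = permOf (rep1 (v % 512)) * permOf (rep2 (v / 512)) := by
        refine Equiv.ext fun x => Fin.ext ?_
        have := beq_eq (all_of he x.2)
        rw [show (160 * a + y) / 160 = a by omega, show (160 * a + y) % 160 = y by omega] at this
        rw [Equiv.Perm.mul_apply, Equiv.Perm.mul_apply, h1 a ha, (r1 y hy).1 x, (r1 _ hv).1,
          (r2 _ hw').1 x]
        exact this
      rw [hprod, inv_mul_cancel_left]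
      exact (r2 _ hw').2)
  have L0 := PermChain.level (S := genOf 4 gen0) (H := Subgroup.closure (genOf 2 gen1)) (⟨bpt 0, b0⟩ : Fin 315)
    ((List.range 315).map fun y => permOf (rep0 y)) le10 fix1
    (fun π hπ => by
      obtain ⟨y, hy, rfl⟩ := List.mem_map.1 hπ
      exact (r0 y (List.mem_range.1 hy)).2)
    (hz (by norm_num) check_tree0) (distinct_nodup b0 (fun y hy => (r0 y hy).1) d0)
    (by
      rintro _ ⟨a, ha, rfl⟩ π hπ
      obtain ⟨y, hy, rfl⟩ := List.mem_map.1 hπ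
      rw [List.mem_range] at hy
      have h := all_of check_closure0 (show 315 * a + y < 1260 by omega)
      simp only [Bool.and_eq_true, Nat.blt_eq] at h
      obtain ⟨⟨⟨hv, hw1⟩, hw2⟩, he⟩ := h
      refine ⟨_, List.mem_map.2 ⟨_, List.mem_range.2 hv, rfl⟩, ?_⟩
      set v := tget chainClo0 (315 * a + y)
      have hprod : permOf (gen0 a) * permOf (rep0 y) =
          permOf (rep0 (v % 512)) * (permOf (rep1 (v / 512 % 512)) * permOf (rep2 (v / 262144))) := by
        refine Equiv.ext fun x => Fin.ext ?_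
        have := beq_eq (all_of he x.2)
        rw [show (315 * a + y) / 315 = a by omega, show (315 * a + y) % 315 = y by omega] at this
        rw [Equiv.Perm.mul_apply, Equiv.Perm.mul_apply, Equiv.Perm.mul_apply, h0 a ha, (r0 y hy).1 x,
          (r0 _ hv).1, (r1 _ hw1).1, (r2 _ hw2).1 x]
        exact this
      rw [hprod, inv_mul_cancel_left]
      exact mul_mem (r1 _ hw1).2 (le21 (r2 _ hw2).2))
  have c2 : Nat.card (Subgroup.closure (genOf 2 gen2)) = 12 := by
    rw [L2.2, List.length_map, List.length_range, Subgroup.card_bot]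
  have c1 : Nat.card (Subgroup.closure (genOf 2 gen1)) = 1920 := by
    rw [L1.2, List.length_map, List.length_range, c2]
  refine ⟨fun σ hσ _ => fix1 σ hσ, ?_, ?_, c1⟩
  · rw [show (⟨bpt 0 % 315, Nat.mod_lt _ (by norm_num)⟩ : Fin 315) = ⟨bpt 0, b0⟩ from
      Fin.ext (Nat.mod_eq_of_lt b0)]
    exact L0.1
  · rw [hgP, L0.2, List.length_map, List.length_range, c1]

end CfsgLib.Janko2
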