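import Cfsg.Agent.Lib.Janko2.ChecksChain
import Cfsg.Agent.Lib.Janko2.DataSylow

/-!
Kernel evaluation: a Sylow 2-subgroup.
-/

set_option autoImplicit false
set_option maxRecDepth 100000
set_option maxHeartbeats 0
set_option Elab.async false

namespace CfsgLib.Janko2

open CfsgLib.Fusion

/-- An element of the certificate, as a packed permutation. -/
def sylP (i : ℕ) : ℕ := tget sylPerms i

theorem check_sylP : ((List.range 136).all fun i =>
    Nat.blt (sylDecomp.getD i 0 % 512) 315 && Nat.blt (sylDecomp.getD i 0 / 512 % 512) 160 &&
      Nat.blt (sylDecomp.getD i 0 / 262144) 12 &&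
      (List.range 315).all fun v => Nat.beq (pimg (sylP i) v)
        (pimg (rep0 (sylDecomp.getD i 0 % 512)) (pimg (rep1 (sylDecomp.getD i 0 / 512 % 512))
          (pimg (rep2 (sylDecomp.getD i 0 / 262144)) v)))) = true := by
  decide +kernel

theorem check_syl_nxt : TableSylow.okNxt sylData = true := by
  decide +kernel

theorem check_syl_inv : TableSylow.okInv sylData = true := by
  decide +kernel

theorem check_syl_start : TableSylow.okStart sylData = true := by
  decide +kernel

theorem check_syl_mark : TableSylow.okMark sylData = true := by
  decide +kernel

theorem check_syl_series : TableSylow.okSeries sylData = true := by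
  decide +kernel

theorem check_syl_comm : TableSylow.okComm sylData = true := by
  decide +kernel

theorem check_syl_reach : TableSylow.movesOK sylData sylData.moves [0, 64] = true := by
  decide +kernel

theorem check_syl_mul : ((List.range 128).all fun d => (List.range 7).all fun i =>
    Nat.blt (TableSylow.nx sylData d i) 136 &&
    (List.range 315).all fun v => Nat.beq (pimg (sylP (TableSylow.nx sylData d i)) v)
      (pimg (sylP d) (pimg (sylP (2 ^ i)) v))) = true := by
  decide +kernel

theorem check_syl_one : (((List.range 315).all fun v => Nat.beq (pimg (sylP 0) v) v) &&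
    (List.range 128).all fun d => Nat.beq d 0 ||
      (List.range 315).any fun v => !Nat.beq (pimg (sylP d) v) v) = true := by
  decide +kernel

theorem check_syl_x : ((List.range 128).all fun d => Nat.blt (sylData.xc.get d) 128 &&
    (List.range 315).all fun v => Nat.beq (pimg (sylP 128) (pimg (sylP 129) (pimg (sylP d) v)))
      (pimg (sylP (sylData.xc.get d)) (pimg (sylP 128) (pimg (sylP 129) v)))) = true := by
  decide +kernel

theorem check_syl_y : ((List.range 2).all fun k =>
    ((List.range 315).all fun v =>
      let q := fun w => pimg (sylP (128 + k)) (pimg (sylP (128 + k)) w)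
      Nat.beq (q (q (q (q v)))) v) &&
    (List.range 128).all fun r => !TableSylow.inR sylData r ||
      (Nat.blt (sylYConj.getD (128 * k + r) 0) 128 &&
        TableSylow.inR sylData (sylYConj.getD (128 * k + r) 0) &&
        (List.range 315).all fun v => Nat.beq (pimg (sylP (128 + k)) (pimg (sylP r) v))
          (pimg (sylP (sylYConj.getD (128 * k + r) 0)) (pimg (sylP (128 + k)) v)))) = true := by
  decide +kernel

/-- A move is witnessed. -/
def moveOK : TableSylow.Move → Bool
  | .conj g e d => Nat.blt g 6 && Nat.blt e 128 && Nat.blt d 128 &&
      (List.range 315).all fun v => Nat.beq (pimg (sylP (130 + g)) (pimg (sylP e) v))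
        (pimg (sylP d) (pimg (sylP (130 + g)) v))
  | .prod _ _ => true

theorem check_syl_moves : sylData.moves.all moveOK = true := by
  decide +kernel

end CfsgLib.Janko2
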