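import Cfsg.Agent.Lib.Janko2.ChecksSmall
import Cfsg.Agent.Lib.Janko2.DataVec

/-!
Kernel evaluation: the minimal vectors and the generating reflections.
-/

set_option autoImplicit false
set_option maxRecDepth 100000
set_option maxHeartbeats 0
-- one kernel evaluation at a time
set_option Elab.async false

namespace CfsgLib.Janko2

open CfsgLib.Fusion.TableSylow

/-- Packed indices. -/
def key3 (i j m : ℕ) : ℕ := i + 8192 * (j + 8192 * m)

/-- A minimal vector up to units. -/
def repV (k : ℕ) : Vec :=
  ⟨elQ (repKey.get k % 8192), elQ (repKey.get k / 8192 % 8192), elQ (repKey.get k / 67108864)⟩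

/-- A triple is a listed one. -/
def tripleOK (i j m : ℕ) : Bool :=
  Nat.blt (repDict.find (key3 i j m)) 315 &&
    Nat.beq (repKey.get (repDict.find (key3 i j m))) (key3 i j m)

/-- The third-coordinate buckets compatible with two coordinates. -/
def pairOK (i j : ℕ) : Bool :=
  let rem := (sixteen.sub (normVals.getD (normIdx.get i) ⟨99, 99⟩)).sub
    (normVals.getD (normIdx.get j) ⟨99, 99⟩)
  let cb := negTab.getD (addTab.getD (16 * clsB.get i + clsB.get j) 0) 0
  (List.range 9).all fun k => !decide (normVals.getD k ⟨99, 99⟩ = rem) ||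
    (bucket.get ((16 * clsA.get j + cb) * 9 + k)).all fun m => tripleOK i j m

/-- Second coordinates with a given first one. -/
def headOK (i : ℕ) : Bool :=
  (List.range 6120).all fun j => !Nat.beq (clsA.get i) (clsA.get j) || pairOK i j

theorem check_bucket : ((List.range 6121).all fun i =>
    (bucket.get ((16 * clsA.get i + clsB.get i) * 9 + normIdx.get i)).any fun m => Nat.beq m i) =
    true := by
  decide +kernel

theorem check_heads_part0 : ((List.range' 0 25).all fun r => headOK (120 * r) &&
    (!Nat.beq (clsA.get (120 * r)) (clsA.get 6120) || pairOK (120 * r) 6120) &&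
    (!Nat.beq (clsA.get 6120) (clsA.get (120 * r)) || pairOK 6120 (120 * r)) &&
    (!Nat.beq (clsA.get 6120) (clsA.get (120 * r)) || !Nat.beq (clsB.get (120 * r)) (clsB.get 6120) ||
      !decide (normVals.getD (normIdx.get (120 * r)) ⟨99, 99⟩ = sixteen) ||
      tripleOK 6120 6120 (120 * r))) = true := by
  decide +kernel

theorem check_heads_part1 : ((List.range' 25 26).all fun r => headOK (120 * r) &&
    (!Nat.beq (clsA.get (120 * r)) (clsA.get 6120) || pairOK (120 * r) 6120) &&
    (!Nat.beq (clsA.get 6120) (clsA.get (120 * r)) || pairOK 6120 (120 * r)) &&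
    (!Nat.beq (clsA.get 6120) (clsA.get (120 * r)) || !Nat.beq (clsB.get (120 * r)) (clsB.get 6120) ||
      !decide (normVals.getD (normIdx.get (120 * r)) ⟨99, 99⟩ = sixteen) ||
      tripleOK 6120 6120 (120 * r))) = true := by
  decide +kernel

theorem check_heads : ((List.range 51).all fun r => headOK (120 * r) &&
    (!Nat.beq (clsA.get (120 * r)) (clsA.get 6120) || pairOK (120 * r) 6120) &&
    (!Nat.beq (clsA.get 6120) (clsA.get (120 * r)) || pairOK 6120 (120 * r)) &&
    (!Nat.beq (clsA.get 6120) (clsA.get (120 * r)) || !Nat.beq (clsB.get (120 * r)) (clsB.get 6120) ||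
      !decide (normVals.getD (normIdx.get (120 * r)) ⟨99, 99⟩ = sixteen) ||
      tripleOK 6120 6120 (120 * r))) = true := by
  rw [show List.range 51 = List.range' 0 25 ++ List.range' 25 26 from rfl, List.all_append, check_heads_part0, check_heads_part1]
  rfl

/-- A generator of the lattice. -/
def latGen (t : ℕ) : Vec :=
  bif Nat.beq t 0 then ⟨qh.neg, Quad.zero, qh.neg⟩
  else bif Nat.beq t 1 then ⟨qh.neg, qh.neg, Quad.zero⟩ else ⟨qh.conj, qh.conj, qh.conj⟩

/-- A generating reflection line. -/
def gLine (a : ℕ) : ℕ := genLines.getD a 0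

/-- Signature of a reflection. -/
def sigOf (v : Vec) : ℕ :=
  [v.x.conj.mul v.x, v.y.conj.mul v.y, v.x.conj.mul v.y, v.x.conj.mul v.z, v.y.conj.mul v.z].foldl
    (fun k p => k * 1099511627776 + p.code) 0

theorem check_reps : ((List.range 315).all fun k => (repV k).inLat &&
    decide ((repV k).ip (repV k) = qd 8 0 0 0 0 0 0 0) &&
    (List.range 3).all fun t => ((latGen t).ip (repV k)).isTwoIco) = true := by
  decide +kernel

theorem check_lat_gens : ((List.range 3).all fun t => (latGen t).inLat) = true := by
  decide +kernel

theorem check_act_part0 : ((List.range' 0 1).all fun a => Nat.blt (gLine a) 315 && (List.range 315).all fun j =>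
    Nat.blt (genAct.get (315 * a + j)) 37800 &&
    ((repV j).ip (repV (gLine a))).isTwoIco &&
    decide (Vec.refl (repV (gLine a)) (repV j) =
      (repV (genAct.get (315 * a + j) / 120)).smul (uQ (genAct.get (315 * a + j) % 120)))) = true := by
  decide +kernel

theorem check_act_part1 : ((List.range' 1 1).all fun a => Nat.blt (gLine a) 315 && (List.range 315).all fun j =>
    Nat.blt (genAct.get (315 * a + j)) 37800 &&
    ((repV j).ip (repV (gLine a))).isTwoIco &&
    decide (Vec.refl (repV (gLine a)) (repV j) =
      (repV (genAct.get (315 * a + j) / 120)).smul (uQ (genAct.get (315 * a + j) % 120)))) = true := by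
  decide +kernel

theorem check_act_part2 : ((List.range' 2 1).all fun a => Nat.blt (gLine a) 315 && (List.range 315).all fun j =>
    Nat.blt (genAct.get (315 * a + j)) 37800 &&
    ((repV j).ip (repV (gLine a))).isTwoIco &&
    decide (Vec.refl (repV (gLine a)) (repV j) =
      (repV (genAct.get (315 * a + j) / 120)).smul (uQ (genAct.get (315 * a + j) % 120)))) = true := by
  decide +kernel

theorem check_act_part3 : ((List.range' 3 1).all fun a => Nat.blt (gLine a) 315 && (List.range 315).all fun j =>
    Nat.blt (genAct.get (315 * a + j)) 37800 &&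
    ((repV j).ip (repV (gLine a))).isTwoIco &&
    decide (Vec.refl (repV (gLine a)) (repV j) =
      (repV (genAct.get (315 * a + j) / 120)).smul (uQ (genAct.get (315 * a + j) % 120)))) = true := by
  decide +kernel

theorem check_act : ((List.range 4).all fun a => Nat.blt (gLine a) 315 && (List.range 315).all fun j =>
    Nat.blt (genAct.get (315 * a + j)) 37800 &&
    ((repV j).ip (repV (gLine a))).isTwoIco &&
    decide (Vec.refl (repV (gLine a)) (repV j) =
      (repV (genAct.get (315 * a + j) / 120)).smul (uQ (genAct.get (315 * a + j) % 120)))) = true := by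
  rw [show List.range 4 = List.range' 0 1 ++ List.range' 1 1 ++ List.range' 2 1 ++ List.range' 3 1 from rfl]
  simp only [List.all_append, Bool.and_eq_true]
  exact ⟨⟨⟨check_act_part0, check_act_part1⟩, check_act_part2⟩, check_act_part3⟩

theorem check_tree : ((List.range 315).all fun y => Nat.beq y (gLine 0) ||
    (Nat.blt (depthTab.get (parentTab.get y / 4)) (depthTab.get y) &&
      Nat.blt (parentTab.get y / 4) 315 &&
      Nat.beq (genAct.get (315 * (parentTab.get y % 4) + parentTab.get y / 4) / 120) y)) = true := by
  decide +kernel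

theorem check_sig : (((List.range 315).all fun k => Nat.beq (sigOf (repV k)) (sigTab.getD k 0)) &&
    ((List.range 315).all fun a => (List.range a).all fun b =>
      !Nat.beq (sigTab.getD a 0) (sigTab.getD b 0))) = true := by
  decide +kernel

end CfsgLib.Janko2
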