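import Cfsg.Agent.Lib.Janko2.ChecksStab
import Cfsg.Agent.Lib.Janko2.DataOut
import Cfsg.Agent.Lib.Janko2.ChecksVec
import Cfsg.Agent.Lib.Janko2.ChecksSylow

/-!
Kernel evaluation for the automorphism group.
-/

set_option autoImplicit false
set_option maxRecDepth 100000
set_option maxHeartbeats 0
set_option Elab.async false

namespace CfsgLib.Janko2

open CfsgLib.Fusion.TableSylow

/-- The permutation induced by a reflection. -/
def ckP (k : ℕ) : ℕ := tget conjPerms k

theorem check_ck_root : ((List.range 315).all fun v =>
    Nat.beq (pimg (ckP (gLine 0)) v) (pimg (gen0 0) v)) = true := by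
  decide +kernel

theorem check_ck_edge : ((List.range 315).all fun y => Nat.beq y (gLine 0) ||
    (Nat.blt (parentTab.get y / 4) 315 &&
      (List.range 315).all fun v => Nat.beq (pimg (ckP y) (pimg (gen0 (parentTab.get y % 4)) v))
        (pimg (gen0 (parentTab.get y % 4)) (pimg (ckP (parentTab.get y / 4)) v)))) = true := by
  decide +kernel

theorem check_out : (((List.range 315).all fun v =>
      Nat.blt (pimg outPerm v) 315 && Nat.blt (pimg outPermInv v) 315 &&
      Nat.beq (pimg outPerm (pimg outPermInv v)) v && Nat.beq (pimg outPermInv (pimg outPerm v)) v) &&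
    ((List.range 4).all fun a => (List.range 315).all fun v =>
      Nat.beq (pimg outPerm (pimg (gen0 a) v)) (pimg (ckP (pimg outPerm (gLine a))) (pimg outPerm v))) &&
    Nat.beq (pimg outPerm 0) 0 && Nat.blt outMoved 315 &&
      !Nat.beq (stabLab.get (pimg outPerm outMoved)) (stabLab.get outMoved)) = true := by
  decide +kernel

theorem check_lab_inv : ((List.range 2).all fun a => (List.range 315).all fun x =>
    Nat.beq (stabLab.get (pimg (gen1 a) x)) (stabLab.get x)) = true := by
  decide +kernel

/-- The image of a point under a word in the reflections. -/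
def cword : List ℕ → ℕ → ℕ
  | [], v => v
  | k :: w, v => pimg (ckP k) (cword w v)

/-- A power of a word fixes some test points. -/
def relOK (w : List ℕ) (n : ℕ) : Bool :=
  [0, 155, 1, 200, 158].all fun v => Nat.beq (cword (List.flatten (List.replicate n w)) v) v

/-- The second point of a normalised quadruple. -/
def quadOne : ℕ := stabRoot.getD 5 0

/-- A possible third point. -/
def thirdOK (c : ℕ) : Bool :=
  !Nat.beq c 0 && !Nat.beq c quadOne && relOK [0, c] 3 && relOK [quadOne, c] 3 && relOK [0, quadOne, c] 10

/-- A possible fourth point. -/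
def fourthOK (c d : ℕ) : Bool :=
  !Nat.beq d 0 && !Nat.beq d quadOne && !Nat.beq d c && relOK [0, d] 5 && relOK [quadOne, d] 3 &&
    relOK [c, d] 3 && relOK [0, quadOne, d] 3

theorem check_second : ((List.range 315).all fun x =>
    Nat.beq x 0 || !relOK [0, x] 3 || Nat.beq (stabLab.get x) 5) = true := by
  decide +kernel

theorem check_count : ((List.range 315).map fun c =>
    bif thirdOK c then (List.range 315).countP (fourthOK c) else 0).sum = 24 := by
  decide +kernel

theorem check_lab_count : ((List.range 315).countP fun x => Nat.beq (stabLab.get x) 5) = 160 := by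
  decide +kernel

theorem check_gen_rels : (((List.range 4).all fun a => (List.range a).all fun b => !Nat.beq (gLine a) (gLine b)) &&
    ([([0, 1], 3), ([0, 2], 3), ([1, 2], 3), ([0, 3], 5), ([1, 3], 3), ([2, 3], 3), ([0, 1, 2], 10),
      ([0, 1, 3], 3)] : List (List ℕ × ℕ)).all fun p => (List.range 315).all fun v =>
        Nat.beq ((List.flatten (List.replicate p.2 p.1)).foldr (fun a y => pimg (gen0 a) y) v) v) = true := by
  decide +kernel

theorem check_syl_centre : ((List.range 315).all fun v => Nat.beq (pimg (sylP 64) v) (pimg (ckP 0) v)) = true ∧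
    ((List.range 128).all fun d => Nat.beq d 0 || Nat.beq d 64 || (List.range 7).any fun i =>
      (List.range 315).any fun v => !Nat.beq (pimg (sylP (2 ^ i)) (pimg (sylP d) v))
        (pimg (sylP d) (pimg (sylP (2 ^ i)) v))) = true := by
  decide +kernel

theorem check_syl_sixtyfour : ((List.range 128).all fun d => (List.range 315).all fun v =>
    Nat.beq (pimg (sylP d) (pimg (sylP 64) v)) (pimg (sylP 64) (pimg (sylP d) v))) = true := by
  decide +kernel

end CfsgLib.Janko2
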