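import Cfsg.Agent.Lib.Janko2.SmallDefs

/-!
Kernel evaluation: norms and classes of the small icosians.
-/

set_option autoImplicit false
set_option maxRecDepth 100000
set_option maxHeartbeats 0
set_option Elab.async false

namespace CfsgLib.Janko2

open CfsgLib.Fusion.TableSylow

theorem check_el_norm0 : (((List.range 6121).drop (0 * 1536)).take 1536).all (fun i =>
    decide ((elQ i).norm4 = normVals.getD (normIdx.get i) ⟨99, 99⟩) && Nat.blt (normIdx.get i) 9) = true := by
  decide +kernel

theorem check_el_norm1 : (((List.range 6121).drop (1 * 1536)).take 1536).all (fun i =>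
    decide ((elQ i).norm4 = normVals.getD (normIdx.get i) ⟨99, 99⟩) && Nat.blt (normIdx.get i) 9) = true := by
  decide +kernel

theorem check_el_norm2 : (((List.range 6121).drop (2 * 1536)).take 1536).all (fun i =>
    decide ((elQ i).norm4 = normVals.getD (normIdx.get i) ⟨99, 99⟩) && Nat.blt (normIdx.get i) 9) = true := by
  decide +kernel

theorem check_el_norm3 : (((List.range 6121).drop (3 * 1536)).take 1536).all (fun i =>
    decide ((elQ i).norm4 = normVals.getD (normIdx.get i) ⟨99, 99⟩) && Nat.blt (normIdx.get i) 9) = true := by
  decide +kernel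

end CfsgLib.Janko2
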