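import Cfsg.Agent.Lib.Janko2.SmallDefs

/-!
Kernel evaluation: norms and classes of the small icosians.
-/

set_option autoImplicit false
set_option maxRecDepth 100000
set_option maxHeartbeats 0
set_option Elab.async false

namespace CfsgLib.Janko2

open CfsgLib.Fusion.TableSylow

theorem check_el_clsB0 : (((List.range 6121).drop (0 * 880)).take 880).all (fun i => Nat.blt (clsB.get i) 16 &&
    ((elQ i).sub (repB (clsB.get i))).inIdeal qh) = true := by
  decide +kernel

theorem check_el_clsB1 : (((List.range 6121).drop (1 * 880)).take 880).all (fun i => Nat.blt (clsB.get i) 16 &&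
    ((elQ i).sub (repB (clsB.get i))).inIdeal qh) = true := by
  decide +kernel

theorem check_el_clsB2 : (((List.range 6121).drop (2 * 880)).take 880).all (fun i => Nat.blt (clsB.get i) 16 &&
    ((elQ i).sub (repB (clsB.get i))).inIdeal qh) = true := by
  decide +kernel

theorem check_el_clsB3 : (((List.range 6121).drop (3 * 880)).take 880).all (fun i => Nat.blt (clsB.get i) 16 &&
    ((elQ i).sub (repB (clsB.get i))).inIdeal qh) = true := by
  decide +kernel

theorem check_el_clsB4 : (((List.range 6121).drop (4 * 880)).take 880).all (fun i => Nat.blt (clsB.get i) 16 &&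
    ((elQ i).sub (repB (clsB.get i))).inIdeal qh) = true := by
  decide +kernel

theorem check_el_clsB5 : (((List.range 6121).drop (5 * 880)).take 880).all (fun i => Nat.blt (clsB.get i) 16 &&
    ((elQ i).sub (repB (clsB.get i))).inIdeal qh) = true := by
  decide +kernel

theorem check_el_clsB6 : (((List.range 6121).drop (6 * 880)).take 880).all (fun i => Nat.blt (clsB.get i) 16 &&
    ((elQ i).sub (repB (clsB.get i))).inIdeal qh) = true := by
  decide +kernel

end CfsgLib.Janko2
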