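import Cfsg.Agent.Lib.Janko2.ChecksSmallA
import Cfsg.Agent.Lib.Janko2.ChecksSmallB
import Cfsg.Agent.Lib.Janko2.ChecksSmallC
import Cfsg.Agent.Lib.Janko2.ChecksSmallD
import Cfsg.Agent.Lib.Janko2.ChecksSmallE
import Cfsg.Agent.Lib.KnownA.Chunks

/-!
Kernel evaluation: the icosians of small norm.
-/

set_option autoImplicit false
set_option maxRecDepth 100000
set_option maxHeartbeats 0
set_option Elab.async false

namespace CfsgLib.Janko2

open CfsgLib.Fusion.TableSylow

theorem check_small_zt : ((List.range 13).all fun m => (List.range 7).all fun n =>
    !(sixteen.sub (Zt.sq ⟨(m : ℤ) - 6, (n : ℤ) - 3⟩)).tn ||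
      smallZt.any fun e => decide (e = ⟨(m : ℤ) - 6, (n : ℤ) - 3⟩)) = true := by
  decide +kernel

theorem check_small_pairs0 : (((smallZt).drop (0 * 16)).take 16).all (fun a => smallZt.all fun b =>
    !((sixteen.sub a.sq).sub b.sq).tn || smallPairs.any fun p => decide (p = (a, b))) = true := by
  decide +kernel

theorem check_small_pairs1 : (((smallZt).drop (1 * 16)).take 16).all (fun a => smallZt.all fun b =>
    !((sixteen.sub a.sq).sub b.sq).tn || smallPairs.any fun p => decide (p = (a, b))) = true := by
  decide +kernel

theorem check_small_pairs : (smallZt.all fun a => smallZt.all fun b =>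
    !((sixteen.sub a.sq).sub b.sq).tn || smallPairs.any fun p => decide (p = (a, b))) = true := by
  refine KnownA.Chunks.all_of_chunks 16 2 (by decide +kernel) fun i hi => ?_
  match i, hi with
  | 0, _ => exact check_small_pairs0
  | 1, _ => exact check_small_pairs1
  | _ + 2, h => omega

theorem check_units : (unitTab.length == 120 && decide (uQ 0 = Quad.one) &&
    (List.range 120).all fun u => (uQ u).isIco && decide ((uQ u).norm4 = ⟨4, 0⟩) &&
      decide ((uQ u).conj.mul (uQ u) = Quad.one) && decide ((uQ u).mul (uQ u).conj = Quad.one)) = true := by
  decide +kernel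

theorem check_small_complete : (smallPairs.all fun p => smallPairs.all fun q =>
    let e : Quad := ⟨p.1, p.2, q.1, q.2⟩
    !e.isIco || !(sixteen.sub e.norm4).tn ||
      (Nat.blt (elDict.find e.code) 6121 && decide (elQ (elDict.find e.code) = e))) = true := by
  refine KnownA.Chunks.all_of_chunks 28 20 (by decide +kernel) fun i hi => ?_
  match i, hi with
  | 0, _ => exact check_small_complete0
  | 1, _ => exact check_small_complete1
  | 2, _ => exact check_small_complete2
  | 3, _ => exact check_small_complete3
  | 4, _ => exact check_small_complete4
  | 5, _ => exact check_small_complete5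
  | 6, _ => exact check_small_complete6
  | 7, _ => exact check_small_complete7
  | 8, _ => exact check_small_complete8
  | 9, _ => exact check_small_complete9
  | 10, _ => exact check_small_complete10
  | 11, _ => exact check_small_complete11
  | 12, _ => exact check_small_complete12
  | 13, _ => exact check_small_complete13
  | 14, _ => exact check_small_complete14
  | 15, _ => exact check_small_complete15
  | 16, _ => exact check_small_complete16
  | 17, _ => exact check_small_complete17
  | 18, _ => exact check_small_complete18
  | 19, _ => exact check_small_complete19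
  | _ + 20, h => omega

theorem check_el_norm : ((List.range 6121).all fun i =>
    decide ((elQ i).norm4 = normVals.getD (normIdx.get i) ⟨99, 99⟩) && Nat.blt (normIdx.get i) 9) =
    true := by
  refine KnownA.Chunks.all_of_chunks 1536 4 (by decide +kernel) fun i hi => ?_
  match i, hi with
  | 0, _ => exact check_el_norm0
  | 1, _ => exact check_el_norm1
  | 2, _ => exact check_el_norm2
  | 3, _ => exact check_el_norm3
  | _ + 4, h => omega

theorem check_el_clsA : ((List.range 6121).all fun i => Nat.blt (clsA.get i) 16 &&
    ((elQ i).sub (repA (clsA.get i))).inIdeal qh.conj) = true := by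
  refine KnownA.Chunks.all_of_chunks 880 7 (by decide +kernel) fun i hi => ?_
  match i, hi with
  | 0, _ => exact check_el_clsA0
  | 1, _ => exact check_el_clsA1
  | 2, _ => exact check_el_clsA2
  | 3, _ => exact check_el_clsA3
  | 4, _ => exact check_el_clsA4
  | 5, _ => exact check_el_clsA5
  | 6, _ => exact check_el_clsA6
  | _ + 7, h => omega

theorem check_el_clsB : ((List.range 6121).all fun i => Nat.blt (clsB.get i) 16 &&
    ((elQ i).sub (repB (clsB.get i))).inIdeal qh) = true := by
  refine KnownA.Chunks.all_of_chunks 880 7 (by decide +kernel) fun i hi => ?_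
  match i, hi with
  | 0, _ => exact check_el_clsB0
  | 1, _ => exact check_el_clsB1
  | 2, _ => exact check_el_clsB2
  | 3, _ => exact check_el_clsB3
  | 4, _ => exact check_el_clsB4
  | 5, _ => exact check_el_clsB5
  | 6, _ => exact check_el_clsB6
  | _ + 7, h => omega

theorem check_cls_distinct : ((List.range 16).all fun a => (List.range 16).all fun b =>
    (Nat.beq a b || !((repA a).sub (repA b)).inIdeal qh.conj) &&
    Nat.blt (addTab.getD (16 * a + b) 0) 16 && Nat.blt (negTab.getD a 0) 16 &&
    (((repB a).add (repB b)).sub (repB (addTab.getD (16 * a + b) 0))).inIdeal qh &&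
    (!((repB a).add (repB b)).inIdeal qh || Nat.beq b (negTab.getD a 0))) = true := by
  decide +kernel

theorem check_core : ((List.range 51).all fun r => (cQ r).isIco) = true := by
  decide +kernel

end CfsgLib.Janko2
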