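import Cfsg.Agent.Lib.Janko2.SmallDefs

/-!
Kernel evaluation: completeness of the list of small icosians.
-/

set_option autoImplicit false
set_option maxRecDepth 100000
set_option maxHeartbeats 0
set_option Elab.async false

namespace CfsgLib.Janko2

open CfsgLib.Fusion.TableSylow

theorem check_small_complete0 : (((smallPairs).drop (0 * 28)).take 28).all (fun p => smallPairs.all fun q =>
    let e : Quad := ⟨p.1, p.2, q.1, q.2⟩
    !e.isIco || !(sixteen.sub e.norm4).tn ||
      (Nat.blt (elDict.find e.code) 6121 && decide (elQ (elDict.find e.code) = e))) = true := by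
  decide +kernel

theorem check_small_complete1 : (((smallPairs).drop (1 * 28)).take 28).all (fun p => smallPairs.all fun q =>
    let e : Quad := ⟨p.1, p.2, q.1, q.2⟩
    !e.isIco || !(sixteen.sub e.norm4).tn ||
      (Nat.blt (elDict.find e.code) 6121 && decide (elQ (elDict.find e.code) = e))) = true := by
  decide +kernel

theorem check_small_complete2 : (((smallPairs).drop (2 * 28)).take 28).all (fun p => smallPairs.all fun q =>
    let e : Quad := ⟨p.1, p.2, q.1, q.2⟩
    !e.isIco || !(sixteen.sub e.norm4).tn ||
      (Nat.blt (elDict.find e.code) 6121 && decide (elQ (elDict.find e.code) = e))) = true := by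
  decide +kernel

theorem check_small_complete3 : (((smallPairs).drop (3 * 28)).take 28).all (fun p => smallPairs.all fun q =>
    let e : Quad := ⟨p.1, p.2, q.1, q.2⟩
    !e.isIco || !(sixteen.sub e.norm4).tn ||
      (Nat.blt (elDict.find e.code) 6121 && decide (elQ (elDict.find e.code) = e))) = true := by
  decide +kernel

theorem check_small_complete4 : (((smallPairs).drop (4 * 28)).take 28).all (fun p => smallPairs.all fun q =>
    let e : Quad := ⟨p.1, p.2, q.1, q.2⟩
    !e.isIco || !(sixteen.sub e.norm4).tn ||
      (Nat.blt (elDict.find e.code) 6121 && decide (elQ (elDict.find e.code) = e))) = true := by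
  decide +kernel

theorem check_small_complete5 : (((smallPairs).drop (5 * 28)).take 28).all (fun p => smallPairs.all fun q =>
    let e : Quad := ⟨p.1, p.2, q.1, q.2⟩
    !e.isIco || !(sixteen.sub e.norm4).tn ||
      (Nat.blt (elDict.find e.code) 6121 && decide (elQ (elDict.find e.code) = e))) = true := by
  decide +kernel

theorem check_small_complete6 : (((smallPairs).drop (6 * 28)).take 28).all (fun p => smallPairs.all fun q =>
    let e : Quad := ⟨p.1, p.2, q.1, q.2⟩
    !e.isIco || !(sixteen.sub e.norm4).tn ||
      (Nat.blt (elDict.find e.code) 6121 && decide (elQ (elDict.find e.code) = e))) = true := by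
  decide +kernel

theorem check_small_complete7 : (((smallPairs).drop (7 * 28)).take 28).all (fun p => smallPairs.all fun q =>
    let e : Quad := ⟨p.1, p.2, q.1, q.2⟩
    !e.isIco || !(sixteen.sub e.norm4).tn ||
      (Nat.blt (elDict.find e.code) 6121 && decide (elQ (elDict.find e.code) = e))) = true := by
  decide +kernel

theorem check_small_complete8 : (((smallPairs).drop (8 * 28)).take 28).all (fun p => smallPairs.all fun q =>
    let e : Quad := ⟨p.1, p.2, q.1, q.2⟩
    !e.isIco || !(sixteen.sub e.norm4).tn ||
      (Nat.blt (elDict.find e.code) 6121 && decide (elQ (elDict.find e.code) = e))) = true := by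
  decide +kernel

theorem check_small_complete9 : (((smallPairs).drop (9 * 28)).take 28).all (fun p => smallPairs.all fun q =>
    let e : Quad := ⟨p.1, p.2, q.1, q.2⟩
    !e.isIco || !(sixteen.sub e.norm4).tn ||
      (Nat.blt (elDict.find e.code) 6121 && decide (elQ (elDict.find e.code) = e))) = true := by
  decide +kernel

end CfsgLib.Janko2
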