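import Cfsg.Agent.Lib.Fusion.TableSylow

/-!
Suborbits and the structure of the point stabiliser.
-/

set_option autoImplicit false
set_option maxRecDepth 100000

namespace CfsgLib.Janko2

open CfsgLib.Fusion.TableSylow

/-- Representatives of the suborbits. -/
def stabRoot : List ℕ := [
  0, 1, 17, 91, 123, 155]

/-- The suborbit of a point. -/
def stabLab : Tree :=
  .node (.node (.node (.node (.node (.node (.node (.node (.node (.leaf 0) (.leaf 5)) (.node (.leaf 4)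
  (.leaf 0))) (.node (.node (.leaf 1) (.leaf 0)) (.node (.leaf 5) (.leaf 0)))) (.node (.node (.node
  (.leaf 1) (.leaf 5)) (.node (.leaf 5) (.leaf 0))) (.node (.node (.leaf 3) (.leaf 0)) (.node (.leaf 5)
  (.leaf 0))))) (.node (.node (.node (.node (.leaf 1) (.leaf 5)) (.node (.leaf 4) (.leaf 0))) (.node
  (.node (.leaf 1) (.leaf 0)) (.node (.leaf 5) (.leaf 0)))) (.node (.node (.node (.leaf 1) (.leaf 5))
  (.node (.leaf 5) (.leaf 0))) (.node (.node (.leaf 3) (.leaf 0)) (.node (.leaf 5) (.leaf 0))))))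
  (.node (.node (.node (.node (.node (.leaf 1) (.leaf 5)) (.node (.leaf 4) (.leaf 0))) (.node (.node
  (.leaf 1) (.leaf 0)) (.node (.leaf 5) (.leaf 0)))) (.node (.node (.node (.leaf 1) (.leaf 5)) (.node
  (.leaf 5) (.leaf 0))) (.node (.node (.leaf 3) (.leaf 0)) (.node (.leaf 5) (.leaf 0))))) (.node (.node
  (.node (.node (.leaf 2) (.leaf 5)) (.node (.leaf 4) (.leaf 0))) (.node (.node (.leaf 1) (.leaf 0))
  (.node (.leaf 5) (.leaf 0)))) (.node (.node (.node (.leaf 1) (.leaf 5)) (.node (.leaf 5) (.leaf 0)))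
  (.node (.node (.leaf 3) (.leaf 0)) (.node (.leaf 5) (.leaf 0))))))) (.node (.node (.node (.node
  (.node (.node (.leaf 1) (.leaf 5)) (.node (.leaf 4) (.leaf 0))) (.node (.node (.leaf 1) (.leaf 0))
  (.node (.leaf 5) (.leaf 0)))) (.node (.node (.node (.leaf 1) (.leaf 5)) (.node (.leaf 5) (.leaf 0)))
  (.node (.node (.leaf 3) (.leaf 0)) (.node (.leaf 5) (.leaf 0))))) (.node (.node (.node (.node (.leaf
  2) (.leaf 5)) (.node (.leaf 4) (.leaf 0))) (.node (.node (.leaf 1) (.leaf 0)) (.node (.leaf 5) (.leaf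
  0)))) (.node (.node (.node (.leaf 1) (.leaf 5)) (.node (.leaf 5) (.leaf 0))) (.node (.node (.leaf 3)
  (.leaf 0)) (.node (.leaf 5) (.leaf 0)))))) (.node (.node (.node (.node (.node (.leaf 1) (.leaf 5))
  (.node (.leaf 4) (.leaf 0))) (.node (.node (.leaf 1) (.leaf 0)) (.node (.leaf 5) (.leaf 0)))) (.node
  (.node (.node (.leaf 1) (.leaf 5)) (.node (.leaf 5) (.leaf 0))) (.node (.node (.leaf 3) (.leaf 0))
  (.node (.leaf 5) (.leaf 0))))) (.node (.node (.node (.node (.leaf 1) (.leaf 5)) (.node (.leaf 5)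
  (.leaf 0))) (.node (.node (.leaf 3) (.leaf 0)) (.node (.leaf 5) (.leaf 0)))) (.node (.node (.node
  (.leaf 1) (.leaf 0)) (.node (.leaf 5) (.leaf 0))) (.node (.node (.leaf 4) (.leaf 0)) (.node (.leaf 5)
  (.leaf 0)))))))) (.node (.node (.node (.node (.node (.node (.node (.leaf 1) (.leaf 5)) (.node (.leaf
  4) (.leaf 0))) (.node (.node (.leaf 1) (.leaf 0)) (.node (.leaf 5) (.leaf 0)))) (.node (.node (.node
  (.leaf 1) (.leaf 5)) (.node (.leaf 5) (.leaf 0))) (.node (.node (.leaf 3) (.leaf 0)) (.node (.leaf 5)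
  (.leaf 0))))) (.node (.node (.node (.node (.leaf 2) (.leaf 5)) (.node (.leaf 4) (.leaf 0))) (.node
  (.node (.leaf 1) (.leaf 0)) (.node (.leaf 5) (.leaf 0)))) (.node (.node (.node (.leaf 1) (.leaf 5))
  (.node (.leaf 5) (.leaf 0))) (.node (.node (.leaf 3) (.leaf 0)) (.node (.leaf 5) (.leaf 0))))))
  (.node (.node (.node (.node (.node (.leaf 1) (.leaf 5)) (.node (.leaf 4) (.leaf 0))) (.node (.node
  (.leaf 1) (.leaf 0)) (.node (.leaf 5) (.leaf 0)))) (.node (.node (.node (.leaf 1) (.leaf 5)) (.node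
  (.leaf 5) (.leaf 0))) (.node (.node (.leaf 3) (.leaf 0)) (.node (.leaf 5) (.leaf 0))))) (.node (.node
  (.node (.node (.leaf 2) (.leaf 5)) (.node (.leaf 4) (.leaf 0))) (.node (.node (.leaf 1) (.leaf 0))
  (.node (.leaf 5) (.leaf 0)))) (.node (.node (.node (.leaf 1) (.leaf 5)) (.node (.leaf 5) (.leaf 0)))
  (.node (.node (.leaf 3) (.leaf 0)) (.node (.leaf 5) (.leaf 0))))))) (.node (.node (.node (.node
  (.node (.node (.leaf 1) (.leaf 5)) (.node (.leaf 4) (.leaf 0))) (.node (.node (.leaf 1) (.leaf 0))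
  (.node (.leaf 5) (.leaf 0)))) (.node (.node (.node (.leaf 1) (.leaf 5)) (.node (.leaf 5) (.leaf 0)))
  (.node (.node (.leaf 3) (.leaf 0)) (.node (.leaf 5) (.leaf 0))))) (.node (.node (.node (.node (.leaf
  2) (.leaf 5)) (.node (.leaf 4) (.leaf 0))) (.node (.node (.leaf 1) (.leaf 0)) (.node (.leaf 5) (.leaf
  0)))) (.node (.node (.node (.leaf 1) (.leaf 5)) (.node (.leaf 5) (.leaf 0))) (.node (.node (.leaf 3)
  (.leaf 0)) (.node (.leaf 5) (.leaf 0)))))) (.node (.node (.node (.node (.node (.leaf 1) (.leaf 5))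
  (.node (.leaf 4) (.leaf 0))) (.node (.node (.leaf 1) (.leaf 0)) (.node (.leaf 5) (.leaf 0)))) (.node
  (.node (.node (.leaf 1) (.leaf 5)) (.node (.leaf 5) (.leaf 0))) (.node (.node (.leaf 3) (.leaf 0))
  (.node (.leaf 5) (.leaf 0))))) (.node (.node (.node (.node (.leaf 1) (.leaf 5)) (.node (.leaf 5)
  (.leaf 0))) (.node (.node (.leaf 3) (.leaf 0)) (.node (.leaf 5) (.leaf 0)))) (.node (.node (.node
  (.leaf 1) (.leaf 0)) (.node (.leaf 5) (.leaf 0))) (.node (.node (.leaf 4) (.leaf 0)) (.node (.leaf 5)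
  (.leaf 0))))))))) (.node (.node (.node (.node (.node (.node (.node (.node (.leaf 1) (.leaf 5)) (.node
  (.leaf 4) (.leaf 0))) (.node (.node (.leaf 1) (.leaf 0)) (.node (.leaf 5) (.leaf 0)))) (.node (.node
  (.node (.leaf 1) (.leaf 5)) (.node (.leaf 5) (.leaf 0))) (.node (.node (.leaf 3) (.leaf 0)) (.node
  (.leaf 5) (.leaf 0))))) (.node (.node (.node (.node (.leaf 2) (.leaf 5)) (.node (.leaf 4) (.leaf 0)))
  (.node (.node (.leaf 1) (.leaf 0)) (.node (.leaf 5) (.leaf 0)))) (.node (.node (.node (.leaf 1)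
  (.leaf 5)) (.node (.leaf 5) (.leaf 0))) (.node (.node (.leaf 3) (.leaf 0)) (.node (.leaf 5) (.leaf
  0)))))) (.node (.node (.node (.node (.node (.leaf 1) (.leaf 5)) (.node (.leaf 4) (.leaf 0))) (.node
  (.node (.leaf 1) (.leaf 0)) (.node (.leaf 5) (.leaf 0)))) (.node (.node (.node (.leaf 1) (.leaf 5))
  (.node (.leaf 5) (.leaf 0))) (.node (.node (.leaf 3) (.leaf 0)) (.node (.leaf 5) (.leaf 0))))) (.node
  (.node (.node (.node (.leaf 2) (.leaf 5)) (.node (.leaf 4) (.leaf 0))) (.node (.node (.leaf 1) (.leaf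
  0)) (.node (.leaf 5) (.leaf 0)))) (.node (.node (.node (.leaf 1) (.leaf 5)) (.node (.leaf 5) (.leaf
  0))) (.node (.node (.leaf 3) (.leaf 0)) (.node (.leaf 5) (.leaf 0))))))) (.node (.node (.node (.node
  (.node (.node (.leaf 1) (.leaf 5)) (.node (.leaf 4) (.leaf 0))) (.node (.node (.leaf 1) (.leaf 0))
  (.node (.leaf 5) (.leaf 0)))) (.node (.node (.node (.leaf 1) (.leaf 5)) (.node (.leaf 5) (.leaf 0)))
  (.node (.node (.leaf 3) (.leaf 0)) (.node (.leaf 5) (.leaf 0))))) (.node (.node (.node (.node (.leaf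
  2) (.leaf 5)) (.node (.leaf 4) (.leaf 0))) (.node (.node (.leaf 1) (.leaf 0)) (.node (.leaf 5) (.leaf
  0)))) (.node (.node (.node (.leaf 1) (.leaf 5)) (.node (.leaf 5) (.leaf 0))) (.node (.node (.leaf 3)
  (.leaf 0)) (.node (.leaf 5) (.leaf 0)))))) (.node (.node (.node (.node (.node (.leaf 1) (.leaf 5))
  (.node (.leaf 4) (.leaf 0))) (.node (.node (.leaf 1) (.leaf 0)) (.node (.leaf 5) (.leaf 0)))) (.node
  (.node (.node (.leaf 1) (.leaf 5)) (.node (.leaf 5) (.leaf 0))) (.node (.node (.leaf 3) (.leaf 0))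
  (.node (.leaf 5) (.leaf 0))))) (.node (.node (.node (.node (.leaf 1) (.leaf 5)) (.node (.leaf 5)
  (.leaf 0))) (.node (.node (.leaf 3) (.leaf 0)) (.node (.leaf 5) (.leaf 0)))) (.node (.node (.node
  (.leaf 1) (.leaf 0)) (.node (.leaf 5) (.leaf 0))) (.node (.node (.leaf 4) (.leaf 0)) (.node (.leaf 5)
  (.leaf 0)))))))) (.node (.node (.node (.node (.node (.node (.node (.leaf 1) (.leaf 5)) (.node (.leaf
  4) (.leaf 0))) (.node (.node (.leaf 1) (.leaf 0)) (.node (.leaf 5) (.leaf 0)))) (.node (.node (.node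
  (.leaf 1) (.leaf 5)) (.node (.leaf 5) (.leaf 0))) (.node (.node (.leaf 3) (.leaf 0)) (.node (.leaf 5)
  (.leaf 0))))) (.node (.node (.node (.node (.leaf 2) (.leaf 5)) (.node (.leaf 4) (.leaf 0))) (.node
  (.node (.leaf 1) (.leaf 0)) (.node (.leaf 5) (.leaf 0)))) (.node (.node (.node (.leaf 1) (.leaf 5))
  (.node (.leaf 5) (.leaf 0))) (.node (.node (.leaf 3) (.leaf 0)) (.node (.leaf 5) (.leaf 0))))))
  (.node (.node (.node (.node (.node (.leaf 1) (.leaf 5)) (.node (.leaf 4) (.leaf 0))) (.node (.node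
  (.leaf 1) (.leaf 0)) (.node (.leaf 5) (.leaf 0)))) (.node (.node (.node (.leaf 1) (.leaf 5)) (.node
  (.leaf 5) (.leaf 0))) (.node (.node (.leaf 3) (.leaf 0)) (.node (.leaf 5) (.leaf 0))))) (.node (.node
  (.node (.node (.leaf 1) (.leaf 5)) (.node (.leaf 5) (.leaf 0))) (.node (.node (.leaf 3) (.leaf 0))
  (.node (.leaf 5) (.leaf 0)))) (.node (.node (.node (.leaf 1) (.leaf 0)) (.node (.leaf 5) (.leaf 0)))
  (.node (.node (.leaf 4) (.leaf 0)) (.node (.leaf 5) (.leaf 0))))))) (.node (.node (.node (.node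
  (.node (.node (.leaf 1) (.leaf 5)) (.node (.leaf 4) (.leaf 0))) (.node (.node (.leaf 1) (.leaf 0))
  (.node (.leaf 5) (.leaf 0)))) (.node (.node (.node (.leaf 1) (.leaf 5)) (.node (.leaf 5) (.leaf 0)))
  (.node (.node (.leaf 3) (.leaf 0)) (.node (.leaf 5) (.leaf 0))))) (.node (.node (.node (.node (.leaf
  2) (.leaf 5)) (.node (.leaf 4) (.leaf 0))) (.node (.node (.leaf 1) (.leaf 0)) (.node (.leaf 5) (.leaf
  0)))) (.node (.node (.node (.leaf 1) (.leaf 5)) (.node (.leaf 5) (.leaf 0))) (.node (.node (.leaf 3)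
  (.leaf 0)) (.node (.leaf 5) (.leaf 0)))))) (.node (.node (.node (.node (.node (.leaf 1) (.leaf 5))
  (.node (.leaf 4) (.leaf 0))) (.node (.node (.leaf 1) (.leaf 0)) (.node (.leaf 5) (.leaf 0)))) (.node
  (.node (.node (.leaf 1) (.leaf 5)) (.node (.leaf 5) (.leaf 0))) (.node (.node (.leaf 3) (.leaf 0))
  (.node (.leaf 5) (.leaf 0))))) (.node (.node (.node (.node (.leaf 1) (.leaf 5)) (.node (.leaf 5)
  (.leaf 0))) (.node (.node (.leaf 3) (.leaf 0)) (.node (.leaf 5) (.leaf 0)))) (.node (.node (.node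
  (.leaf 1) (.leaf 0)) (.node (.leaf 5) (.leaf 0))) (.node (.node (.leaf 4) (.leaf 0)) (.node (.leaf 5)
  (.leaf 0)))))))))

/-- The depth in a suborbit. -/
def stabRank : Tree :=
  .node (.node (.node (.node (.node (.node (.node (.node (.node (.leaf 0) (.leaf 4)) (.node (.leaf 1)
  (.leaf 0))) (.node (.node (.leaf 9) (.leaf 0)) (.node (.leaf 9) (.leaf 0)))) (.node (.node (.node
  (.leaf 5) (.leaf 5)) (.node (.leaf 7) (.leaf 0))) (.node (.node (.leaf 4) (.leaf 0)) (.node (.leaf 5)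
  (.leaf 0))))) (.node (.node (.node (.node (.leaf 3) (.leaf 6)) (.node (.leaf 4) (.leaf 0))) (.node
  (.node (.leaf 8) (.leaf 0)) (.node (.leaf 8) (.leaf 0)))) (.node (.node (.node (.leaf 6) (.leaf 5))
  (.node (.leaf 6) (.leaf 0))) (.node (.node (.leaf 4) (.leaf 0)) (.node (.leaf 10) (.leaf 0))))))
  (.node (.node (.node (.node (.node (.leaf 7) (.leaf 4)) (.node (.leaf 3) (.leaf 0))) (.node (.node
  (.leaf 3) (.leaf 0)) (.node (.leaf 6) (.leaf 0)))) (.node (.node (.node (.leaf 8) (.leaf 5)) (.node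
  (.leaf 7) (.leaf 0))) (.node (.node (.leaf 6) (.leaf 0)) (.node (.leaf 5) (.leaf 0))))) (.node (.node
  (.node (.node (.leaf 4) (.leaf 8)) (.node (.leaf 3) (.leaf 0))) (.node (.node (.leaf 7) (.leaf 0))
  (.node (.leaf 1) (.leaf 0)))) (.node (.node (.node (.leaf 3) (.leaf 8)) (.node (.leaf 6) (.leaf 0)))
  (.node (.node (.leaf 3) (.leaf 0)) (.node (.leaf 9) (.leaf 0))))))) (.node (.node (.node (.node
  (.node (.node (.leaf 9) (.leaf 8)) (.node (.leaf 8) (.leaf 0))) (.node (.node (.leaf 4) (.leaf 0))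
  (.node (.leaf 9) (.leaf 0)))) (.node (.node (.node (.leaf 3) (.leaf 9)) (.node (.leaf 6) (.leaf 0)))
  (.node (.node (.leaf 5) (.leaf 0)) (.node (.leaf 5) (.leaf 0))))) (.node (.node (.node (.node (.leaf
  5) (.leaf 7)) (.node (.leaf 2) (.leaf 0))) (.node (.node (.leaf 5) (.leaf 0)) (.node (.leaf 7) (.leaf
  0)))) (.node (.node (.node (.leaf 1) (.leaf 6)) (.node (.leaf 7) (.leaf 0))) (.node (.node (.leaf 2)
  (.leaf 0)) (.node (.leaf 7) (.leaf 0)))))) (.node (.node (.node (.node (.node (.leaf 4) (.leaf 9))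
  (.node (.leaf 3) (.leaf 0))) (.node (.node (.leaf 7) (.leaf 0)) (.node (.leaf 6) (.leaf 0)))) (.node
  (.node (.node (.leaf 5) (.leaf 5)) (.node (.leaf 8) (.leaf 0))) (.node (.node (.leaf 1) (.leaf 0))
  (.node (.leaf 6) (.leaf 0))))) (.node (.node (.node (.node (.leaf 7) (.leaf 8)) (.node (.leaf 7)
  (.leaf 0))) (.node (.node (.leaf 7) (.leaf 0)) (.node (.leaf 6) (.leaf 0)))) (.node (.node (.node
  (.leaf 2) (.leaf 0)) (.node (.leaf 6) (.leaf 0))) (.node (.node (.leaf 6) (.leaf 0)) (.node (.leaf 8)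
  (.leaf 0)))))))) (.node (.node (.node (.node (.node (.node (.node (.leaf 8) (.leaf 4)) (.node (.leaf
  2) (.leaf 0))) (.node (.node (.leaf 7) (.leaf 0)) (.node (.leaf 7) (.leaf 0)))) (.node (.node (.node
  (.leaf 7) (.leaf 3)) (.node (.leaf 5) (.leaf 0))) (.node (.node (.leaf 6) (.leaf 0)) (.node (.leaf 7)
  (.leaf 0))))) (.node (.node (.node (.node (.leaf 5) (.leaf 8)) (.node (.leaf 6) (.leaf 0))) (.node
  (.node (.leaf 9) (.leaf 0)) (.node (.leaf 2) (.leaf 0)))) (.node (.node (.node (.leaf 3) (.leaf 8))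
  (.node (.leaf 8) (.leaf 0))) (.node (.node (.leaf 5) (.leaf 0)) (.node (.leaf 9) (.leaf 0))))))
  (.node (.node (.node (.node (.node (.leaf 6) (.leaf 6)) (.node (.leaf 4) (.leaf 0))) (.node (.node
  (.leaf 8) (.leaf 0)) (.node (.leaf 6) (.leaf 0)))) (.node (.node (.node (.leaf 8) (.leaf 7)) (.node
  (.leaf 8) (.leaf 0))) (.node (.node (.leaf 7) (.leaf 0)) (.node (.leaf 6) (.leaf 0))))) (.node (.node
  (.node (.node (.leaf 3) (.leaf 5)) (.node (.leaf 4) (.leaf 0))) (.node (.node (.leaf 6) (.leaf 0))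
  (.node (.leaf 8) (.leaf 0)))) (.node (.node (.node (.leaf 6) (.leaf 5)) (.node (.leaf 6) (.leaf 0)))
  (.node (.node (.leaf 6) (.leaf 0)) (.node (.leaf 6) (.leaf 0))))))) (.node (.node (.node (.node
  (.node (.node (.leaf 8) (.leaf 4)) (.node (.leaf 5) (.leaf 0))) (.node (.node (.leaf 7) (.leaf 0))
  (.node (.leaf 6) (.leaf 0)))) (.node (.node (.node (.leaf 4) (.leaf 8)) (.node (.leaf 7) (.leaf 0)))
  (.node (.node (.leaf 6) (.leaf 0)) (.node (.leaf 7) (.leaf 0))))) (.node (.node (.node (.node (.leaf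
  6) (.leaf 8)) (.node (.leaf 3) (.leaf 0))) (.node (.node (.leaf 8) (.leaf 0)) (.node (.leaf 7) (.leaf
  0)))) (.node (.node (.node (.leaf 4) (.leaf 8)) (.node (.leaf 8) (.leaf 0))) (.node (.node (.leaf 4)
  (.leaf 0)) (.node (.leaf 9) (.leaf 0)))))) (.node (.node (.node (.node (.node (.leaf 5) (.leaf 8))
  (.node (.leaf 4) (.leaf 0))) (.node (.node (.leaf 6) (.leaf 0)) (.node (.leaf 8) (.leaf 0)))) (.node
  (.node (.node (.leaf 2) (.leaf 7)) (.node (.leaf 9) (.leaf 0))) (.node (.node (.leaf 3) (.leaf 0))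
  (.node (.leaf 5) (.leaf 0))))) (.node (.node (.node (.node (.leaf 6) (.leaf 3)) (.node (.leaf 8)
  (.leaf 0))) (.node (.node (.leaf 1) (.leaf 0)) (.node (.leaf 9) (.leaf 0)))) (.node (.node (.node
  (.leaf 6) (.leaf 0)) (.node (.leaf 6) (.leaf 0))) (.node (.node (.leaf 5) (.leaf 0)) (.node (.leaf 6)
  (.leaf 0))))))))) (.node (.node (.node (.node (.node (.node (.node (.node (.leaf 0) (.leaf 8)) (.node
  (.leaf 5) (.leaf 0))) (.node (.node (.leaf 5) (.leaf 0)) (.node (.leaf 7) (.leaf 0)))) (.node (.node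
  (.node (.leaf 7) (.leaf 8)) (.node (.leaf 7) (.leaf 0))) (.node (.node (.leaf 3) (.leaf 0)) (.node
  (.leaf 9) (.leaf 0))))) (.node (.node (.node (.node (.leaf 0) (.leaf 7)) (.node (.leaf 4) (.leaf 0)))
  (.node (.node (.leaf 4) (.leaf 0)) (.node (.leaf 5) (.leaf 0)))) (.node (.node (.node (.leaf 5)
  (.leaf 4)) (.node (.leaf 8) (.leaf 0))) (.node (.node (.leaf 5) (.leaf 0)) (.node (.leaf 9) (.leaf
  0)))))) (.node (.node (.node (.node (.node (.leaf 4) (.leaf 3)) (.node (.leaf 6) (.leaf 0))) (.node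
  (.node (.leaf 4) (.leaf 0)) (.node (.leaf 5) (.leaf 0)))) (.node (.node (.node (.leaf 6) (.leaf 9))
  (.node (.leaf 8) (.leaf 0))) (.node (.node (.leaf 6) (.leaf 0)) (.node (.leaf 3) (.leaf 0))))) (.node
  (.node (.node (.node (.leaf 3) (.leaf 9)) (.node (.leaf 3) (.leaf 0))) (.node (.node (.leaf 5) (.leaf
  0)) (.node (.leaf 8) (.leaf 0)))) (.node (.node (.node (.leaf 4) (.leaf 7)) (.node (.leaf 6) (.leaf
  0))) (.node (.node (.leaf 6) (.leaf 0)) (.node (.leaf 7) (.leaf 0))))))) (.node (.node (.node (.node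
  (.node (.node (.leaf 1) (.leaf 4)) (.node (.leaf 1) (.leaf 0))) (.node (.node (.leaf 3) (.leaf 0))
  (.node (.leaf 5) (.leaf 0)))) (.node (.node (.node (.leaf 7) (.leaf 2)) (.node (.leaf 6) (.leaf 0)))
  (.node (.node (.leaf 2) (.leaf 0)) (.node (.leaf 6) (.leaf 0))))) (.node (.node (.node (.node (.leaf
  4) (.leaf 8)) (.node (.leaf 5) (.leaf 0))) (.node (.node (.leaf 7) (.leaf 0)) (.node (.leaf 9) (.leaf
  0)))) (.node (.node (.node (.leaf 9) (.leaf 7)) (.node (.leaf 7) (.leaf 0))) (.node (.node (.leaf 7)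
  (.leaf 0)) (.node (.leaf 8) (.leaf 0)))))) (.node (.node (.node (.node (.node (.leaf 6) (.leaf 7))
  (.node (.leaf 5) (.leaf 0))) (.node (.node (.leaf 5) (.leaf 0)) (.node (.leaf 6) (.leaf 0)))) (.node
  (.node (.node (.leaf 6) (.leaf 7)) (.node (.leaf 7) (.leaf 0))) (.node (.node (.leaf 5) (.leaf 0))
  (.node (.leaf 4) (.leaf 0))))) (.node (.node (.node (.node (.leaf 5) (.leaf 7)) (.node (.leaf 7)
  (.leaf 0))) (.node (.node (.leaf 8) (.leaf 0)) (.node (.leaf 9) (.leaf 0)))) (.node (.node (.node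
  (.leaf 4) (.leaf 0)) (.node (.leaf 5) (.leaf 0))) (.node (.node (.leaf 2) (.leaf 0)) (.node (.leaf 8)
  (.leaf 0)))))))) (.node (.node (.node (.node (.node (.node (.node (.leaf 8) (.leaf 7)) (.node (.leaf
  6) (.leaf 0))) (.node (.node (.leaf 5) (.leaf 0)) (.node (.leaf 7) (.leaf 0)))) (.node (.node (.node
  (.leaf 8) (.leaf 7)) (.node (.leaf 7) (.leaf 0))) (.node (.node (.leaf 3) (.leaf 0)) (.node (.leaf 4)
  (.leaf 0))))) (.node (.node (.node (.node (.leaf 2) (.leaf 7)) (.node (.leaf 6) (.leaf 0))) (.node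
  (.node (.leaf 6) (.leaf 0)) (.node (.leaf 6) (.leaf 0)))) (.node (.node (.node (.leaf 6) (.leaf 5))
  (.node (.leaf 7) (.leaf 0))) (.node (.node (.leaf 4) (.leaf 0)) (.node (.leaf 5) (.leaf 0))))))
  (.node (.node (.node (.node (.node (.leaf 5) (.leaf 8)) (.node (.leaf 4) (.leaf 0))) (.node (.node
  (.leaf 6) (.leaf 0)) (.node (.leaf 9) (.leaf 0)))) (.node (.node (.node (.leaf 3) (.leaf 6)) (.node
  (.leaf 8) (.leaf 0))) (.node (.node (.leaf 3) (.leaf 0)) (.node (.leaf 8) (.leaf 0))))) (.node (.node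
  (.node (.node (.leaf 4) (.leaf 7)) (.node (.leaf 0) (.leaf 0))) (.node (.node (.leaf 0) (.leaf 0))
  (.node (.leaf 4) (.leaf 0)))) (.node (.node (.node (.leaf 7) (.leaf 0)) (.node (.leaf 9) (.leaf 0)))
  (.node (.node (.leaf 0) (.leaf 0)) (.node (.leaf 9) (.leaf 0))))))) (.node (.node (.node (.node
  (.node (.node (.leaf 2) (.leaf 6)) (.node (.leaf 6) (.leaf 0))) (.node (.node (.leaf 7) (.leaf 0))
  (.node (.leaf 9) (.leaf 0)))) (.node (.node (.node (.leaf 4) (.leaf 6)) (.node (.leaf 9) (.leaf 0)))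
  (.node (.node (.leaf 2) (.leaf 0)) (.node (.leaf 5) (.leaf 0))))) (.node (.node (.node (.node (.leaf
  1) (.leaf 8)) (.node (.leaf 5) (.leaf 0))) (.node (.node (.leaf 5) (.leaf 0)) (.node (.leaf 8) (.leaf
  0)))) (.node (.node (.node (.leaf 7) (.leaf 4)) (.node (.leaf 9) (.leaf 0))) (.node (.node (.leaf 5)
  (.leaf 0)) (.node (.leaf 7) (.leaf 0)))))) (.node (.node (.node (.node (.node (.leaf 5) (.leaf 9))
  (.node (.leaf 2) (.leaf 0))) (.node (.node (.leaf 6) (.leaf 0)) (.node (.leaf 1) (.leaf 0)))) (.node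
  (.node (.node (.leaf 2) (.leaf 3)) (.node (.leaf 2) (.leaf 0))) (.node (.node (.leaf 4) (.leaf 0))
  (.node (.leaf 8) (.leaf 0))))) (.node (.node (.node (.node (.leaf 9) (.leaf 7)) (.node (.leaf 10)
  (.leaf 0))) (.node (.node (.leaf 5) (.leaf 0)) (.node (.leaf 8) (.leaf 0)))) (.node (.node (.node
  (.leaf 6) (.leaf 0)) (.node (.leaf 7) (.leaf 0))) (.node (.node (.leaf 7) (.leaf 0)) (.node (.leaf 7)
  (.leaf 0)))))))))

/-- The parent in a suborbit. -/
def stabPar : Tree :=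
  .node (.node (.node (.node (.node (.node (.node (.node (.node (.leaf 0) (.leaf 580)) (.node (.leaf
  247) (.leaf 0))) (.node (.node (.leaf 172) (.leaf 0)) (.node (.leaf 559) (.leaf 0)))) (.node (.node
  (.node (.leaf 146) (.leaf 513)) (.node (.leaf 368) (.leaf 0))) (.node (.node (.leaf 194) (.leaf 0))
  (.node (.leaf 623) (.leaf 0))))) (.node (.node (.node (.node (.leaf 121) (.leaf 403)) (.node (.leaf
  280) (.leaf 0))) (.node (.node (.leaf 153) (.leaf 0)) (.node (.leaf 312) (.leaf 0)))) (.node (.node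
  (.node (.leaf 29) (.leaf 517)) (.node (.leaf 601) (.leaf 0))) (.node (.node (.leaf 215) (.leaf 0))
  (.node (.leaf 399) (.leaf 0)))))) (.node (.node (.node (.node (.node (.leaf 125) (.leaf 531)) (.node
  (.leaf 260) (.leaf 0))) (.node (.node (.leaf 95) (.leaf 0)) (.node (.leaf 609) (.leaf 0)))) (.node
  (.node (.node (.leaf 142) (.leaf 512)) (.node (.leaf 401) (.leaf 0))) (.node (.node (.leaf 191)
  (.leaf 0)) (.node (.leaf 475) (.leaf 0))))) (.node (.node (.node (.node (.leaf 53) (.leaf 619))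
  (.node (.leaf 287) (.leaf 0))) (.node (.node (.leaf 159) (.leaf 0)) (.node (.leaf 311) (.leaf 0))))
  (.node (.node (.node (.leaf 15) (.leaf 551)) (.node (.leaf 419) (.leaf 0))) (.node (.node (.leaf 207)
  (.leaf 0)) (.node (.leaf 435) (.leaf 0))))))) (.node (.node (.node (.node (.node (.node (.leaf 149)
  (.leaf 389)) (.node (.leaf 255) (.leaf 0))) (.node (.node (.leaf 101) (.leaf 0)) (.node (.leaf 561)
  (.leaf 0)))) (.node (.node (.node (.leaf 120) (.leaf 317)) (.node (.leaf 564) (.leaf 0))) (.node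
  (.node (.leaf 225) (.leaf 0)) (.node (.leaf 622) (.leaf 0))))) (.node (.node (.node (.node (.leaf 49)
  (.leaf 353)) (.node (.leaf 257) (.leaf 0))) (.node (.node (.leaf 76) (.leaf 0)) (.node (.leaf 380)
  (.leaf 0)))) (.node (.node (.node (.leaf 3) (.leaf 600)) (.node (.leaf 369) (.leaf 0))) (.node (.node
  (.leaf 216) (.leaf 0)) (.node (.leaf 371) (.leaf 0)))))) (.node (.node (.node (.node (.node (.leaf
  139) (.leaf 507)) (.node (.leaf 297) (.leaf 0))) (.node (.node (.leaf 82) (.leaf 0)) (.node (.leaf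
  629) (.leaf 0)))) (.node (.node (.node (.leaf 19) (.leaf 454)) (.node (.leaf 603) (.leaf 0))) (.node
  (.node (.leaf 183) (.leaf 0)) (.node (.leaf 476) (.leaf 0))))) (.node (.node (.node (.node (.leaf
  124) (.leaf 333)) (.node (.leaf 352) (.leaf 0))) (.node (.node (.leaf 211) (.leaf 0)) (.node (.leaf
  402) (.leaf 0)))) (.node (.node (.node (.leaf 105) (.leaf 0)) (.node (.leaf 593) (.leaf 0))) (.node
  (.node (.leaf 252) (.leaf 0)) (.node (.leaf 627) (.leaf 0)))))))) (.node (.node (.node (.node (.node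
  (.node (.node (.leaf 119) (.leaf 572)) (.node (.leaf 256) (.leaf 0))) (.node (.node (.leaf 97) (.leaf
  0)) (.node (.leaf 422) (.leaf 0)))) (.node (.node (.node (.leaf 83) (.leaf 421)) (.node (.leaf 528)
  (.leaf 0))) (.node (.node (.leaf 227) (.leaf 0)) (.node (.leaf 509) (.leaf 0))))) (.node (.node
  (.node (.node (.leaf 43) (.leaf 346)) (.node (.leaf 302) (.leaf 0))) (.node (.node (.leaf 173) (.leaf
  0)) (.node (.leaf 415) (.leaf 0)))) (.node (.node (.node (.leaf 94) (.leaf 460)) (.node (.leaf 519)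
  (.leaf 0))) (.node (.node (.leaf 224) (.leaf 0)) (.node (.leaf 470) (.leaf 0)))))) (.node (.node
  (.node (.node (.node (.leaf 28) (.leaf 418)) (.node (.leaf 301) (.leaf 0))) (.node (.node (.leaf 111)
  (.leaf 0)) (.node (.leaf 394) (.leaf 0)))) (.node (.node (.node (.leaf 132) (.leaf 508)) (.node
  (.leaf 383) (.leaf 0))) (.node (.node (.leaf 209) (.leaf 0)) (.node (.leaf 449) (.leaf 0))))) (.node
  (.node (.node (.node (.leaf 39) (.leaf 439)) (.node (.leaf 305) (.leaf 0))) (.node (.node (.leaf 179)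
  (.leaf 0)) (.node (.leaf 547) (.leaf 0)))) (.node (.node (.node (.leaf 98) (.leaf 611)) (.node (.leaf
  487) (.leaf 0))) (.node (.node (.leaf 239) (.leaf 0)) (.node (.leaf 486) (.leaf 0))))))) (.node
  (.node (.node (.node (.node (.node (.leaf 141) (.leaf 530)) (.node (.leaf 289) (.leaf 0))) (.node
  (.node (.leaf 166) (.leaf 0)) (.node (.leaf 325) (.leaf 0)))) (.node (.node (.node (.leaf 138) (.leaf
  391)) (.node (.leaf 423) (.leaf 0))) (.node (.node (.leaf 190) (.leaf 0)) (.node (.leaf 329) (.leaf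
  0))))) (.node (.node (.node (.node (.leaf 40) (.leaf 358)) (.node (.leaf 286) (.leaf 0))) (.node
  (.node (.leaf 68) (.leaf 0)) (.node (.leaf 617) (.leaf 0)))) (.node (.node (.node (.leaf 33) (.leaf
  602)) (.node (.leaf 546) (.leaf 0))) (.node (.node (.leaf 221) (.leaf 0)) (.node (.leaf 490) (.leaf
  0)))))) (.node (.node (.node (.node (.node (.leaf 137) (.leaf 326)) (.node (.leaf 273) (.leaf 0)))
  (.node (.node (.leaf 58) (.leaf 0)) (.node (.leaf 359) (.leaf 0)))) (.node (.node (.node (.leaf 104)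
  (.leaf 458)) (.node (.leaf 364) (.leaf 0))) (.node (.node (.leaf 232) (.leaf 0)) (.node (.leaf 474)
  (.leaf 0))))) (.node (.node (.node (.node (.leaf 134) (.leaf 586)) (.node (.leaf 321) (.leaf 0)))
  (.node (.node (.leaf 182) (.leaf 0)) (.node (.leaf 355) (.leaf 0)))) (.node (.node (.node (.leaf 99)
  (.leaf 0)) (.node (.leaf 477) (.leaf 0))) (.node (.node (.leaf 309) (.leaf 0)) (.node (.leaf 576)
  (.leaf 0))))))))) (.node (.node (.node (.node (.node (.node (.node (.node (.leaf 0) (.leaf 566))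
  (.node (.leaf 279) (.leaf 0))) (.node (.node (.leaf 115) (.leaf 0)) (.node (.leaf 599) (.leaf 0))))
  (.node (.node (.node (.leaf 126) (.leaf 582)) (.node (.leaf 526) (.leaf 0))) (.node (.node (.leaf
  202) (.leaf 0)) (.node (.leaf 549) (.leaf 0))))) (.node (.node (.node (.node (.leaf 0) (.leaf 469))
  (.node (.leaf 307) (.leaf 0))) (.node (.node (.leaf 72) (.leaf 0)) (.node (.leaf 522) (.leaf 0))))
  (.node (.node (.node (.leaf 25) (.leaf 466)) (.node (.leaf 314) (.leaf 0))) (.node (.node (.leaf 222)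
  (.leaf 0)) (.node (.leaf 521) (.leaf 0)))))) (.node (.node (.node (.node (.node (.leaf 145) (.leaf
  420)) (.node (.leaf 253) (.leaf 0))) (.node (.node (.leaf 87) (.leaf 0)) (.node (.leaf 523) (.leaf
  0)))) (.node (.node (.node (.leaf 130) (.leaf 365)) (.node (.leaf 518) (.leaf 0))) (.node (.node
  (.leaf 219) (.leaf 0)) (.node (.leaf 587) (.leaf 0))))) (.node (.node (.node (.node (.leaf 38) (.leaf
  540)) (.node (.leaf 251) (.leaf 0))) (.node (.node (.leaf 78) (.leaf 0)) (.node (.leaf 382) (.leaf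
  0)))) (.node (.node (.node (.leaf 100) (.leaf 598)) (.node (.leaf 324) (.leaf 0))) (.node (.node
  (.leaf 226) (.leaf 0)) (.node (.leaf 500) (.leaf 0))))))) (.node (.node (.node (.node (.node (.node
  (.leaf 2) (.leaf 573)) (.node (.leaf 246) (.leaf 0))) (.node (.node (.leaf 93) (.leaf 0)) (.node
  (.leaf 438) (.leaf 0)))) (.node (.node (.node (.leaf 61) (.leaf 433)) (.node (.leaf 395) (.leaf 0)))
  (.node (.node (.leaf 189) (.leaf 0)) (.node (.leaf 379) (.leaf 0))))) (.node (.node (.node (.node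
  (.leaf 50) (.leaf 553)) (.node (.leaf 285) (.leaf 0))) (.node (.node (.leaf 157) (.leaf 0)) (.node
  (.leaf 357) (.leaf 0)))) (.node (.node (.node (.leaf 13) (.leaf 377)) (.node (.leaf 409) (.leaf 0)))
  (.node (.node (.leaf 205) (.leaf 0)) (.node (.leaf 488) (.leaf 0)))))) (.node (.node (.node (.node
  (.node (.leaf 131) (.leaf 328)) (.node (.leaf 290) (.leaf 0))) (.node (.node (.leaf 163) (.leaf 0))
  (.node (.leaf 457) (.leaf 0)))) (.node (.node (.node (.leaf 31) (.leaf 468)) (.node (.leaf 527)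
  (.leaf 0))) (.node (.node (.leaf 230) (.leaf 0)) (.node (.leaf 607) (.leaf 0))))) (.node (.node
  (.node (.node (.leaf 136) (.leaf 441)) (.node (.leaf 410) (.leaf 0))) (.node (.node (.leaf 184)
  (.leaf 0)) (.node (.leaf 569) (.leaf 0)))) (.node (.node (.node (.leaf 113) (.leaf 0)) (.node (.leaf
  525) (.leaf 0))) (.node (.node (.leaf 266) (.leaf 0)) (.node (.leaf 570) (.leaf 0)))))))) (.node
  (.node (.node (.node (.node (.node (.node (.leaf 133) (.leaf 544)) (.node (.leaf 303) (.leaf 0)))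
  (.node (.node (.leaf 109) (.leaf 0)) (.node (.leaf 400) (.leaf 0)))) (.node (.node (.node (.leaf 118)
  (.leaf 459)) (.node (.leaf 381) (.leaf 0))) (.node (.node (.leaf 203) (.leaf 0)) (.node (.leaf 581)
  (.leaf 0))))) (.node (.node (.node (.node (.leaf 47) (.leaf 408)) (.node (.leaf 299) (.leaf 0)))
  (.node (.node (.leaf 169) (.leaf 0)) (.node (.leaf 378) (.leaf 0)))) (.node (.node (.node (.leaf 23)
  (.leaf 610)) (.node (.leaf 473) (.leaf 0))) (.node (.node (.leaf 214) (.leaf 0)) (.node (.leaf 455)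
  (.leaf 0)))))) (.node (.node (.node (.node (.node (.leaf 123) (.leaf 320)) (.node (.leaf 300) (.leaf
  0))) (.node (.node (.leaf 175) (.leaf 0)) (.node (.leaf 413) (.leaf 0)))) (.node (.node (.node (.leaf
  92) (.leaf 462)) (.node (.leaf 327) (.leaf 0))) (.node (.node (.leaf 233) (.leaf 0)) (.node (.leaf
  361) (.leaf 0))))) (.node (.node (.node (.node (.leaf 73) (.leaf 533)) (.node (.leaf 0) (.leaf 0)))
  (.node (.node (.leaf 0) (.leaf 0)) (.node (.leaf 467) (.leaf 0)))) (.node (.node (.node (.leaf 91)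
  (.leaf 0)) (.node (.leaf 345) (.leaf 0))) (.node (.node (.leaf 0) (.leaf 0)) (.node (.leaf 568)
  (.leaf 0))))))) (.node (.node (.node (.node (.node (.node (.leaf 10) (.leaf 465)) (.node (.leaf 283)
  (.leaf 0))) (.node (.node (.leaf 103) (.leaf 0)) (.node (.leaf 343) (.leaf 0)))) (.node (.node (.node
  (.leaf 144) (.leaf 615)) (.node (.leaf 437) (.leaf 0))) (.node (.node (.leaf 188) (.leaf 0)) (.node
  (.leaf 529) (.leaf 0))))) (.node (.node (.node (.node (.leaf 35) (.leaf 552)) (.node (.leaf 284)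
  (.leaf 0))) (.node (.node (.leaf 54) (.leaf 0)) (.node (.leaf 575) (.leaf 0)))) (.node (.node (.node
  (.leaf 27) (.leaf 606)) (.node (.leaf 613) (.leaf 0))) (.node (.node (.leaf 223) (.leaf 0)) (.node
  (.leaf 397) (.leaf 0)))))) (.node (.node (.node (.node (.node (.leaf 147) (.leaf 340)) (.node (.leaf
  267) (.leaf 0))) (.node (.node (.leaf 64) (.leaf 0)) (.node (.leaf 310) (.leaf 0)))) (.node (.node
  (.node (.leaf 11) (.leaf 351)) (.node (.leaf 414) (.leaf 0))) (.node (.node (.leaf 199) (.leaf 0))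
  (.node (.leaf 425) (.leaf 0))))) (.node (.node (.node (.node (.leaf 148) (.leaf 590)) (.node (.leaf
  485) (.leaf 0))) (.node (.node (.leaf 231) (.leaf 0)) (.node (.leaf 313) (.leaf 0)))) (.node (.node
  (.node (.leaf 89) (.leaf 0)) (.node (.leaf 376) (.leaf 0))) (.node (.node (.leaf 270) (.leaf 0))
  (.node (.leaf 501) (.leaf 0)))))))))

/-- One point from each of the five blocks. -/
def blkPts : List ℕ := [
  17, 18, 19, 22, 23]

/-- The block of a point of the suborbit of length 10 (junk: 5). -/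
def blkTab : Tree :=
  .node (.node (.node (.node (.node (.node (.node (.node (.node (.leaf 5) (.leaf 5)) (.node (.leaf 5)
  (.leaf 0))) (.node (.node (.leaf 5) (.leaf 0)) (.node (.leaf 5) (.leaf 0)))) (.node (.node (.node
  (.leaf 5) (.leaf 5)) (.node (.leaf 5) (.leaf 0))) (.node (.node (.leaf 5) (.leaf 0)) (.node (.leaf 5)
  (.leaf 0))))) (.node (.node (.node (.node (.leaf 5) (.leaf 5)) (.node (.leaf 5) (.leaf 0))) (.node
  (.node (.leaf 5) (.leaf 0)) (.node (.leaf 5) (.leaf 0)))) (.node (.node (.node (.leaf 5) (.leaf 5))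
  (.node (.leaf 5) (.leaf 0))) (.node (.node (.leaf 5) (.leaf 0)) (.node (.leaf 5) (.leaf 0))))))
  (.node (.node (.node (.node (.node (.leaf 5) (.leaf 5)) (.node (.leaf 5) (.leaf 0))) (.node (.node
  (.leaf 5) (.leaf 0)) (.node (.leaf 5) (.leaf 0)))) (.node (.node (.node (.leaf 5) (.leaf 5)) (.node
  (.leaf 5) (.leaf 0))) (.node (.node (.leaf 5) (.leaf 0)) (.node (.leaf 5) (.leaf 0))))) (.node (.node
  (.node (.node (.leaf 4) (.leaf 5)) (.node (.leaf 5) (.leaf 0))) (.node (.node (.leaf 5) (.leaf 0))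
  (.node (.leaf 5) (.leaf 0)))) (.node (.node (.node (.leaf 5) (.leaf 5)) (.node (.leaf 5) (.leaf 0)))
  (.node (.node (.leaf 5) (.leaf 0)) (.node (.leaf 5) (.leaf 0))))))) (.node (.node (.node (.node
  (.node (.node (.leaf 5) (.leaf 5)) (.node (.leaf 5) (.leaf 0))) (.node (.node (.leaf 5) (.leaf 0))
  (.node (.leaf 5) (.leaf 0)))) (.node (.node (.node (.leaf 5) (.leaf 5)) (.node (.leaf 5) (.leaf 0)))
  (.node (.node (.leaf 5) (.leaf 0)) (.node (.leaf 5) (.leaf 0))))) (.node (.node (.node (.node (.leaf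
  2) (.leaf 5)) (.node (.leaf 5) (.leaf 0))) (.node (.node (.leaf 5) (.leaf 0)) (.node (.leaf 5) (.leaf
  0)))) (.node (.node (.node (.leaf 5) (.leaf 5)) (.node (.leaf 5) (.leaf 0))) (.node (.node (.leaf 5)
  (.leaf 0)) (.node (.leaf 5) (.leaf 0)))))) (.node (.node (.node (.node (.node (.leaf 5) (.leaf 5))
  (.node (.leaf 5) (.leaf 0))) (.node (.node (.leaf 5) (.leaf 0)) (.node (.leaf 5) (.leaf 0)))) (.node
  (.node (.node (.leaf 5) (.leaf 5)) (.node (.leaf 5) (.leaf 0))) (.node (.node (.leaf 5) (.leaf 0))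
  (.node (.leaf 5) (.leaf 0))))) (.node (.node (.node (.node (.leaf 5) (.leaf 5)) (.node (.leaf 5)
  (.leaf 0))) (.node (.node (.leaf 5) (.leaf 0)) (.node (.leaf 5) (.leaf 0)))) (.node (.node (.node
  (.leaf 5) (.leaf 0)) (.node (.leaf 5) (.leaf 0))) (.node (.node (.leaf 5) (.leaf 0)) (.node (.leaf 5)
  (.leaf 0)))))))) (.node (.node (.node (.node (.node (.node (.node (.leaf 5) (.leaf 5)) (.node (.leaf
  5) (.leaf 0))) (.node (.node (.leaf 5) (.leaf 0)) (.node (.leaf 5) (.leaf 0)))) (.node (.node (.node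
  (.leaf 5) (.leaf 5)) (.node (.leaf 5) (.leaf 0))) (.node (.node (.leaf 5) (.leaf 0)) (.node (.leaf 5)
  (.leaf 0))))) (.node (.node (.node (.node (.leaf 1) (.leaf 5)) (.node (.leaf 5) (.leaf 0))) (.node
  (.node (.leaf 5) (.leaf 0)) (.node (.leaf 5) (.leaf 0)))) (.node (.node (.node (.leaf 5) (.leaf 5))
  (.node (.leaf 5) (.leaf 0))) (.node (.node (.leaf 5) (.leaf 0)) (.node (.leaf 5) (.leaf 0))))))
  (.node (.node (.node (.node (.node (.leaf 5) (.leaf 5)) (.node (.leaf 5) (.leaf 0))) (.node (.node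
  (.leaf 5) (.leaf 0)) (.node (.leaf 5) (.leaf 0)))) (.node (.node (.node (.leaf 5) (.leaf 5)) (.node
  (.leaf 5) (.leaf 0))) (.node (.node (.leaf 5) (.leaf 0)) (.node (.leaf 5) (.leaf 0))))) (.node (.node
  (.node (.node (.leaf 0) (.leaf 5)) (.node (.leaf 5) (.leaf 0))) (.node (.node (.leaf 5) (.leaf 0))
  (.node (.leaf 5) (.leaf 0)))) (.node (.node (.node (.leaf 5) (.leaf 5)) (.node (.leaf 5) (.leaf 0)))
  (.node (.node (.leaf 5) (.leaf 0)) (.node (.leaf 5) (.leaf 0))))))) (.node (.node (.node (.node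
  (.node (.node (.leaf 5) (.leaf 5)) (.node (.leaf 5) (.leaf 0))) (.node (.node (.leaf 5) (.leaf 0))
  (.node (.leaf 5) (.leaf 0)))) (.node (.node (.node (.leaf 5) (.leaf 5)) (.node (.leaf 5) (.leaf 0)))
  (.node (.node (.leaf 5) (.leaf 0)) (.node (.leaf 5) (.leaf 0))))) (.node (.node (.node (.node (.leaf
  3) (.leaf 5)) (.node (.leaf 5) (.leaf 0))) (.node (.node (.leaf 5) (.leaf 0)) (.node (.leaf 5) (.leaf
  0)))) (.node (.node (.node (.leaf 5) (.leaf 5)) (.node (.leaf 5) (.leaf 0))) (.node (.node (.leaf 5)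
  (.leaf 0)) (.node (.leaf 5) (.leaf 0)))))) (.node (.node (.node (.node (.node (.leaf 5) (.leaf 5))
  (.node (.leaf 5) (.leaf 0))) (.node (.node (.leaf 5) (.leaf 0)) (.node (.leaf 5) (.leaf 0)))) (.node
  (.node (.node (.leaf 5) (.leaf 5)) (.node (.leaf 5) (.leaf 0))) (.node (.node (.leaf 5) (.leaf 0))
  (.node (.leaf 5) (.leaf 0))))) (.node (.node (.node (.node (.leaf 5) (.leaf 5)) (.node (.leaf 5)
  (.leaf 0))) (.node (.node (.leaf 5) (.leaf 0)) (.node (.leaf 5) (.leaf 0)))) (.node (.node (.node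
  (.leaf 5) (.leaf 0)) (.node (.leaf 5) (.leaf 0))) (.node (.node (.leaf 5) (.leaf 0)) (.node (.leaf 5)
  (.leaf 0))))))))) (.node (.node (.node (.node (.node (.node (.node (.node (.leaf 5) (.leaf 5)) (.node
  (.leaf 5) (.leaf 0))) (.node (.node (.leaf 5) (.leaf 0)) (.node (.leaf 5) (.leaf 0)))) (.node (.node
  (.node (.leaf 5) (.leaf 5)) (.node (.leaf 5) (.leaf 0))) (.node (.node (.leaf 5) (.leaf 0)) (.node
  (.leaf 5) (.leaf 0))))) (.node (.node (.node (.node (.leaf 0) (.leaf 5)) (.node (.leaf 5) (.leaf 0)))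
  (.node (.node (.leaf 5) (.leaf 0)) (.node (.leaf 5) (.leaf 0)))) (.node (.node (.node (.leaf 5)
  (.leaf 5)) (.node (.leaf 5) (.leaf 0))) (.node (.node (.leaf 5) (.leaf 0)) (.node (.leaf 5) (.leaf
  0)))))) (.node (.node (.node (.node (.node (.leaf 5) (.leaf 5)) (.node (.leaf 5) (.leaf 0))) (.node
  (.node (.leaf 5) (.leaf 0)) (.node (.leaf 5) (.leaf 0)))) (.node (.node (.node (.leaf 5) (.leaf 5))
  (.node (.leaf 5) (.leaf 0))) (.node (.node (.leaf 5) (.leaf 0)) (.node (.leaf 5) (.leaf 0))))) (.node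
  (.node (.node (.node (.leaf 3) (.leaf 5)) (.node (.leaf 5) (.leaf 0))) (.node (.node (.leaf 5) (.leaf
  0)) (.node (.leaf 5) (.leaf 0)))) (.node (.node (.node (.leaf 5) (.leaf 5)) (.node (.leaf 5) (.leaf
  0))) (.node (.node (.leaf 5) (.leaf 0)) (.node (.leaf 5) (.leaf 0))))))) (.node (.node (.node (.node
  (.node (.node (.leaf 5) (.leaf 5)) (.node (.leaf 5) (.leaf 0))) (.node (.node (.leaf 5) (.leaf 0))
  (.node (.leaf 5) (.leaf 0)))) (.node (.node (.node (.leaf 5) (.leaf 5)) (.node (.leaf 5) (.leaf 0)))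
  (.node (.node (.leaf 5) (.leaf 0)) (.node (.leaf 5) (.leaf 0))))) (.node (.node (.node (.node (.leaf
  1) (.leaf 5)) (.node (.leaf 5) (.leaf 0))) (.node (.node (.leaf 5) (.leaf 0)) (.node (.leaf 5) (.leaf
  0)))) (.node (.node (.node (.leaf 5) (.leaf 5)) (.node (.leaf 5) (.leaf 0))) (.node (.node (.leaf 5)
  (.leaf 0)) (.node (.leaf 5) (.leaf 0)))))) (.node (.node (.node (.node (.node (.leaf 5) (.leaf 5))
  (.node (.leaf 5) (.leaf 0))) (.node (.node (.leaf 5) (.leaf 0)) (.node (.leaf 5) (.leaf 0)))) (.node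
  (.node (.node (.leaf 5) (.leaf 5)) (.node (.leaf 5) (.leaf 0))) (.node (.node (.leaf 5) (.leaf 0))
  (.node (.leaf 5) (.leaf 0))))) (.node (.node (.node (.node (.leaf 5) (.leaf 5)) (.node (.leaf 5)
  (.leaf 0))) (.node (.node (.leaf 5) (.leaf 0)) (.node (.leaf 5) (.leaf 0)))) (.node (.node (.node
  (.leaf 5) (.leaf 0)) (.node (.leaf 5) (.leaf 0))) (.node (.node (.leaf 5) (.leaf 0)) (.node (.leaf 5)
  (.leaf 0)))))))) (.node (.node (.node (.node (.node (.node (.node (.leaf 5) (.leaf 5)) (.node (.leaf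
  5) (.leaf 0))) (.node (.node (.leaf 5) (.leaf 0)) (.node (.leaf 5) (.leaf 0)))) (.node (.node (.node
  (.leaf 5) (.leaf 5)) (.node (.leaf 5) (.leaf 0))) (.node (.node (.leaf 5) (.leaf 0)) (.node (.leaf 5)
  (.leaf 0))))) (.node (.node (.node (.node (.leaf 2) (.leaf 5)) (.node (.leaf 5) (.leaf 0))) (.node
  (.node (.leaf 5) (.leaf 0)) (.node (.leaf 5) (.leaf 0)))) (.node (.node (.node (.leaf 5) (.leaf 5))
  (.node (.leaf 5) (.leaf 0))) (.node (.node (.leaf 5) (.leaf 0)) (.node (.leaf 5) (.leaf 0))))))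
  (.node (.node (.node (.node (.node (.leaf 5) (.leaf 5)) (.node (.leaf 5) (.leaf 0))) (.node (.node
  (.leaf 5) (.leaf 0)) (.node (.leaf 5) (.leaf 0)))) (.node (.node (.node (.leaf 5) (.leaf 5)) (.node
  (.leaf 5) (.leaf 0))) (.node (.node (.leaf 5) (.leaf 0)) (.node (.leaf 5) (.leaf 0))))) (.node (.node
  (.node (.node (.leaf 5) (.leaf 5)) (.node (.leaf 5) (.leaf 0))) (.node (.node (.leaf 5) (.leaf 0))
  (.node (.leaf 5) (.leaf 0)))) (.node (.node (.node (.leaf 5) (.leaf 0)) (.node (.leaf 5) (.leaf 0)))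
  (.node (.node (.leaf 5) (.leaf 0)) (.node (.leaf 5) (.leaf 0))))))) (.node (.node (.node (.node
  (.node (.node (.leaf 5) (.leaf 5)) (.node (.leaf 5) (.leaf 0))) (.node (.node (.leaf 5) (.leaf 0))
  (.node (.leaf 5) (.leaf 0)))) (.node (.node (.node (.leaf 5) (.leaf 5)) (.node (.leaf 5) (.leaf 0)))
  (.node (.node (.leaf 5) (.leaf 0)) (.node (.leaf 5) (.leaf 0))))) (.node (.node (.node (.node (.leaf
  4) (.leaf 5)) (.node (.leaf 5) (.leaf 0))) (.node (.node (.leaf 5) (.leaf 0)) (.node (.leaf 5) (.leaf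
  0)))) (.node (.node (.node (.leaf 5) (.leaf 5)) (.node (.leaf 5) (.leaf 0))) (.node (.node (.leaf 5)
  (.leaf 0)) (.node (.leaf 5) (.leaf 0)))))) (.node (.node (.node (.node (.node (.leaf 5) (.leaf 5))
  (.node (.leaf 5) (.leaf 0))) (.node (.node (.leaf 5) (.leaf 0)) (.node (.leaf 5) (.leaf 0)))) (.node
  (.node (.node (.leaf 5) (.leaf 5)) (.node (.leaf 5) (.leaf 0))) (.node (.node (.leaf 5) (.leaf 0))
  (.node (.leaf 5) (.leaf 0))))) (.node (.node (.node (.node (.leaf 5) (.leaf 5)) (.node (.leaf 5)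
  (.leaf 0))) (.node (.node (.leaf 5) (.leaf 0)) (.node (.leaf 5) (.leaf 0)))) (.node (.node (.node
  (.leaf 5) (.leaf 0)) (.node (.leaf 5) (.leaf 0))) (.node (.node (.leaf 5) (.leaf 0)) (.node (.leaf 5)
  (.leaf 0)))))))))

/-- A word acting as an involution on the blocks. -/
def blkWit2 : List ℕ := [
  1, 0, 1, 0, 0]

/-- A word acting as an element of order 3 on the blocks. -/
def blkWit3 : List ℕ := [
  0]

/-- A word acting as an element of order 5 on the blocks. -/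
def blkWit5 : List ℕ := [
  1, 0]

/-- The elements fixing all blocks: coset representative indices. -/
def fixTab : List ℕ := [
  0, 5252, 10, 3083, 525, 2066, 1047, 3610, 1564, 5152, 2608, 5170, 51, 3139, 3143,
  588, 3158, 600, 3169, 2149, 4710, 616, 1135, 1136, 2162, 1656, 1147, 5758, 3711, 4753,
  1172, 2715]

/-- Elements that do not commute. -/
def fixNon : List ℕ := [
  0, 0, 36, 37, 34, 35, 35, 35, 35, 34, 35, 36, 34, 36, 34,
  34, 34, 35, 34, 34, 34, 34, 35, 34, 37, 35, 34, 34, 34, 34,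
  34, 36]

end CfsgLib.Janko2
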