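import Cfsg.Agent.Lib.Janko2.ChecksChain
import Cfsg.Agent.Lib.Janko2.DataStab

/-!
Kernel evaluation: suborbits and the structure of the point stabiliser.
-/

set_option autoImplicit false
set_option maxRecDepth 100000
set_option maxHeartbeats 0

namespace CfsgLib.Janko2

open CfsgLib.Fusion.TableSylow

/-- The representative of the suborbit of a point. -/
def subRoot (x : ℕ) : ℕ := stabRoot.getD (stabLab.get x) 0

/-- The block of a point. -/
def blk (x : ℕ) : ℕ := blkTab.get x

/-- A point of a block. -/
def blkPt (j : ℕ) : ℕ := blkPts.getD j 0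

/-- The action of a word in the stabiliser. -/
def wimg : List ℕ → ℕ → ℕ
  | [], x => x
  | a :: w, x => pimg (gen1 a) (wimg w x)

/-- The action of an element of the kernel on the blocks. -/
def qimg (i x : ℕ) : ℕ :=
  pimg (rep1 (fixTab.getD i 0 % 512)) (pimg (rep2 (fixTab.getD i 0 / 512)) x)

theorem check_bpt : (Nat.beq (bpt 0) 0 && Nat.blt (bpt 1) 315 && Nat.blt (bpt 2) 315) = true := by
  decide +kernel

theorem check_relator : ((List.range 315).all fun x =>
    Nat.beq ((List.flatten (List.replicate 3 [0, 1, 3])).foldr (fun a y => pimg (gen0 a) y) x) x) = true := by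
  decide +kernel

theorem check_suborbit : ((List.range 315).all fun x =>
    Nat.blt (stabLab.get x) 6 && Nat.blt (subRoot x) 315 &&
    (Nat.beq x (subRoot x) ||
      (Nat.blt (stabPar.get x / 2) 315 &&
        Nat.blt (stabRank.get (stabPar.get x / 2)) (stabRank.get x) &&
        Nat.beq (stabLab.get (stabPar.get x / 2)) (stabLab.get x) &&
        Nat.beq (pimg (gen1 (stabPar.get x % 2)) (stabPar.get x / 2)) x))) = true := by
  decide +kernel

theorem check_root_lab : ((List.range 6).all fun t => Nat.blt (stabRoot.getD t 0) 315 &&
    Nat.beq (stabLab.get (stabRoot.getD t 0)) t) = true := by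
  decide +kernel

/-- The points in some suborbits. -/
def unionCount (m : ℕ) : ℕ := (List.range 315).countP fun x => m.testBit (stabLab.get x)

theorem check_union : ((List.range 64).all fun m => !m.testBit (stabLab.get 0) ||
    !Nat.beq (315 % unionCount m) 0 || Nat.beq (unionCount m) 1 || Nat.beq (unionCount m) 315) = true := by
  decide +kernel

theorem check_blk : (((List.range 2).all fun a => (List.range 315).all fun x =>
      !Nat.blt (blk x) 5 || (Nat.blt (blk (pimg (gen1 a) x)) 5 &&
        Nat.beq (blk (pimg (gen1 a) x)) (blk (pimg (gen1 a) (blkPt (blk x)))))) &&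
    (List.range 5).all fun j => Nat.blt (blkPt j) 315 && Nat.beq (blk (blkPt j)) j) = true := by
  decide +kernel

/-- The inversions of a permutation of the blocks. -/
def blkInv (a : ℕ) : ℕ :=
  (List.range 25).countP fun t => Nat.blt (t / 5) (t % 5) &&
    Nat.blt (blk (pimg (gen1 a) (blkPt (t % 5)))) (blk (pimg (gen1 a) (blkPt (t / 5))))

theorem check_even : ((List.range 2).all fun a => Nat.beq (blkInv a % 2) 0) = true := by
  decide +kernel

/-- A word has the given prime order on the blocks. -/
def ordOK (w : List ℕ) (p : ℕ) : Bool :=
  ((List.range 5).all fun j => Nat.beq (blk (wimg (List.flatten (List.replicate p w)) (blkPt j))) j) &&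
    (List.range 5).any fun j => !Nat.beq (blk (wimg w (blkPt j))) j

theorem check_ord : (((blkWit2 ++ blkWit3 ++ blkWit5).all fun a => Nat.blt a 2) &&
    ordOK blkWit2 2 && ordOK blkWit3 3 && ordOK blkWit5 5) = true := by
  decide +kernel

theorem check_core_range : ((List.range 32).all fun i => Nat.blt (fixTab.getD i 0 % 512) 160 &&
    Nat.blt (fixTab.getD i 0 / 512) 12 && (List.range 5).all fun j => Nat.beq (blk (qimg i (blkPt j))) j) =
    true := by
  decide +kernel

theorem check_core_distinct : ((List.range 32).all fun i => (List.range i).all fun j =>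
    !(Nat.beq (qimg i (bpt 1)) (qimg j (bpt 1)) && Nat.beq (qimg i (bpt 2)) (qimg j (bpt 2)))) = true := by
  decide +kernel

theorem check_core_one : ((List.range 315).all fun x => Nat.beq (qimg 0 x) x) = true := by
  decide +kernel

theorem check_core_sq : ((List.range 32).all fun i =>
    ((List.range 315).all fun x => Nat.beq (qimg i (qimg i x)) x) ||
    (List.range 315).all fun x => Nat.beq (qimg i (qimg i x)) (qimg 1 x)) = true := by
  decide +kernel

theorem check_core_comm : ((List.range 32).all fun i => (List.range i).all fun j =>
    ((List.range 315).all fun x => Nat.beq (qimg i (qimg j x)) (qimg j (qimg i x))) ||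
    (List.range 315).all fun x => Nat.beq (qimg i (qimg j x)) (qimg j (qimg i (qimg 1 x)))) = true := by
  decide +kernel

theorem check_core_central : ((List.range 32).all fun i =>
    (List.range 315).all fun x => Nat.beq (qimg i (qimg 1 x)) (qimg 1 (qimg i x))) = true := by
  decide +kernel

theorem check_core_non : ((List.range 32).all fun i => Nat.blt i 2 ||
    (Nat.blt (fixNon.getD i 0 / 32) 315 &&
      !Nat.beq (qimg i (qimg (fixNon.getD i 0 % 32) (fixNon.getD i 0 / 32)))
        (qimg (fixNon.getD i 0 % 32) (qimg i (fixNon.getD i 0 / 32))))) = true := by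
  decide +kernel

end CfsgLib.Janko2
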