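import Cfsg.Agent.Lib.Janko2.Norm
import Cfsg.Agent.Lib.Janko2.ChecksVec

/-!
The minimal vectors of the icosian Leech lattice are the unit multiples of the listed ones.
-/

set_option autoImplicit false
set_option maxRecDepth 100000

namespace CfsgLib.Janko2

open Quaternion Cfsg.Spor CfsgLib.Fusion.TableSylow

theorem beq_eq {a b : ℕ} (h : Nat.beq a b = true) : a = b := Nat.eq_of_beq_eq_true h

theorem leftIdeal_add {q a b : ℍ[ℝ]} (ha : a ∈ leftIdeal q) (hb : b ∈ leftIdeal q) :
    a + b ∈ leftIdeal q := by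
  obtain ⟨x, hx, rfl⟩ := ha
  obtain ⟨y, hy, rfl⟩ := hb
  exact ⟨x + y, add_mem hx hy, (add_mul x y q).symm⟩

theorem leftIdeal_neg {q a : ℍ[ℝ]} (ha : a ∈ leftIdeal q) : -a ∈ leftIdeal q := by
  obtain ⟨x, hx, rfl⟩ := ha
  exact ⟨-x, neg_mem hx, (neg_mul x q).symm⟩

theorem leftIdeal_sub {q a b : ℍ[ℝ]} (ha : a ∈ leftIdeal q) (hb : b ∈ leftIdeal q) :
    a - b ∈ leftIdeal q := sub_eq_add_neg a b ▸ leftIdeal_add ha (leftIdeal_neg hb)

theorem leftIdeal_mul {q a u : ℍ[ℝ]} (hu : u ∈ icosians) (ha : a ∈ leftIdeal q) :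
    u * a ∈ leftIdeal q := by
  obtain ⟨x, hx, rfl⟩ := ha
  exact ⟨u * x, mul_mem hu hx, (mul_assoc u x q).symm⟩

theorem icoLeech_smul {u : ℍ[ℝ]} (hu : u ∈ icosians) {v : Fin 3 → ℍ[ℝ]} (hv : v ∈ icoLeech) :
    (fun t => u * v t) ∈ icoLeech := by
  obtain ⟨h1, h2, h3, h4⟩ := hv
  refine ⟨fun t => mul_mem hu (h1 t), ?_, ?_, ?_⟩
  · rw [← mul_sub]; exact leftIdeal_mul hu h2
  · rw [← mul_sub]; exact leftIdeal_mul hu h3
  · rw [← mul_add, ← mul_add]; exact leftIdeal_mul hu h4

theorem uQ_spec {u : ℕ} (hu : u < 120) : (uQ u).isIco = true ∧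
    star (uQ u).dec * (uQ u).dec = 1 ∧ (uQ u).dec * star (uQ u).dec = 1 := by
  have h := check_units
  simp only [Bool.and_eq_true] at h
  have h' := all_of h.2 hu
  simp only [Bool.and_eq_true, decide_eq_true_eq] at h'
  obtain ⟨⟨⟨h1, -⟩, h3⟩, h4⟩ := h'
  refine ⟨h1, ?_, ?_⟩
  · rw [← Quad.dec_conj, ← (Quad.ico_mul (Quad.conj_isIco h1) h1).1, h3, Quad.dec_one]
  · rw [← Quad.dec_conj, ← (Quad.ico_mul h1 (Quad.conj_isIco h1)).1, h4, Quad.dec_one]

theorem uQ_zero : uQ 0 = Quad.one := by
  have h := check_units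
  simp only [Bool.and_eq_true, decide_eq_true_eq] at h
  exact h.1.2

theorem elQ_spec {i : ℕ} (hi : i < 6120) : elQ i = (uQ (i % 120)).mul (cQ (i / 120)) ∧
    (cQ (i / 120)).isIco = true := by
  refine ⟨?_, all_of check_core (show i / 120 < 51 by omega)⟩
  rw [elQ, show Nat.beq i 6120 = false by
    cases h : Nat.beq i 6120
    · rfl
    · exact absurd (beq_eq h) (by omega)]
  rfl

theorem elQ_isIco {i : ℕ} (hi : i < 6121) : (elQ i).isIco = true := by
  rcases Nat.lt_or_ge i 6120 with h | h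
  · rw [(elQ_spec h).1]
    exact (Quad.ico_mul (uQ_spec (Nat.mod_lt _ (by norm_num))).1 (elQ_spec h).2).2
  · obtain rfl : i = 6120 := by omega
    decide

theorem elQ_last : elQ 6120 = Quad.zero := by decide

theorem clsA_eq {i j : ℕ} (hi : i < 6121) (hj : j < 6121)
    (h : (elQ i).dec - (elQ j).dec ∈ leftIdeal icoH) : clsA.get i = clsA.get j := by
  have hA := all_of check_el_clsA hi
  have hB := all_of check_el_clsA hj
  simp only [Bool.and_eq_true, Nat.blt_eq, Quad.inIdealA_iff, Quad.dec_sub] at hA hB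
  have hd := all_of (all_of check_cls_distinct hA.1) hB.1
  simp only [Bool.and_eq_true, Bool.or_eq_true, Bool.not_eq_true'] at hd
  rcases hd.1.1.1.1 with hd | hd
  · exact beq_eq hd
  · exfalso
    have h2 : ((repA (clsA.get i)).sub (repA (clsA.get j))).inIdeal qh.conj = true := by
      rw [Quad.inIdealA_iff, Quad.dec_sub]
      have := leftIdeal_add (leftIdeal_sub h hA.2) hB.2
      convert this using 1
      abel
    rw [h2] at hd
    exact absurd hd (by decide)

theorem clsB_eq {i j m : ℕ} (hi : i < 6121) (hj : j < 6121) (hm : m < 6121)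
    (h : (elQ i).dec + (elQ j).dec + (elQ m).dec ∈ leftIdeal (star icoH)) :
    clsB.get m = negTab.getD (addTab.getD (16 * clsB.get i + clsB.get j) 0) 0 := by
  have hA := all_of check_el_clsB hi
  have hB := all_of check_el_clsB hj
  have hC := all_of check_el_clsB hm
  simp only [Bool.and_eq_true, Nat.blt_eq, Quad.inIdealB_iff, Quad.dec_sub] at hA hB hC
  have hd := all_of (all_of check_cls_distinct hA.1) hB.1
  simp only [Bool.and_eq_true, Nat.blt_eq, Quad.inIdealB_iff, Quad.dec_sub, Quad.dec_add] at hd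
  have hs := all_of (all_of check_cls_distinct hd.1.1.1.2) hC.1
  simp only [Bool.and_eq_true, Bool.or_eq_true, Bool.not_eq_true'] at hs
  rcases hs.2 with hs | hs
  · exfalso
    have h2 : ((repB (addTab.getD (16 * clsB.get i + clsB.get j) 0)).add
        (repB (clsB.get m))).inIdeal qh = true := by
      rw [Quad.inIdealB_iff, Quad.dec_add]
      have := leftIdeal_sub (leftIdeal_sub (leftIdeal_sub (leftIdeal_sub h hA.2) hB.2) hC.2) hd.1.2
      convert this using 1
      abel
    rw [h2] at hs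
    exact absurd hs (by decide)
  · exact beq_eq hs

theorem norm4_elQ {i : ℕ} (hi : i < 6121) :
    (elQ i).norm4 = normVals.getD (normIdx.get i) ⟨99, 99⟩ ∧ normIdx.get i < 9 := by
  have h := all_of check_el_norm hi
  simp only [Bool.and_eq_true, decide_eq_true_eq, Nat.blt_eq] at h
  exact h

theorem tripleOK_spec {i j m : ℕ} (hi : i < 6121) (hj : j < 6121) (h : tripleOK i j m = true) :
    ∃ k < 315, (repV k).x = elQ i ∧ (repV k).y = elQ j ∧ (repV k).z = elQ m := by
  simp only [tripleOK, Bool.and_eq_true, Nat.blt_eq] at h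
  refine ⟨_, h.1, ?_⟩
  simp only [repV]
  rw [beq_eq h.2]
  simp only [key3]
  refine ⟨?_, ?_, ?_⟩ <;> congr 1 <;> omega

theorem pair_spec {i j m : ℕ} (hi : i < 6121) (hj : j < 6121) (hm : m < 6121)
    (hp : pairOK i j = true) (hlat : (⟨elQ i, elQ j, elQ m⟩ : Vec).inLat = true)
    (hn : ((elQ i).norm4.add (elQ j).norm4).add (elQ m).norm4 = sixteen) :
    tripleOK i j m = true := by
  have hl := Vec.mem_icoLeech_iff.2 hlat
  obtain ⟨-, -, h3, h4⟩ := hl
  have hA : clsA.get j = clsA.get m := clsA_eq hj hm h3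
  have hB := clsB_eq hi hj hm h4
  simp only [pairOK, List.all_eq_true, List.mem_range, Bool.or_eq_true, Bool.not_eq_true',
    decide_eq_false_iff_not] at hp
  have hb := all_of check_bucket hm
  simp only [List.any_eq_true] at hb
  obtain ⟨m', hm', e⟩ := hb
  obtain rfl := beq_eq e
  rcases hp (normIdx.get m') (norm4_elQ hm).2 with hp | hp
  · exfalso
    apply hp
    rw [← (norm4_elQ hm).1, ← (norm4_elQ hi).1, ← (norm4_elQ hj).1]
    revert hn
    generalize (elQ i).norm4 = u
    generalize (elQ j).norm4 = v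
    generalize (elQ m').norm4 = w
    intro hn
    obtain ⟨a, b⟩ := u
    obtain ⟨c, d⟩ := v
    obtain ⟨e, f⟩ := w
    simp only [Zt.add, sixteen, Zt.mk.injEq] at hn
    simp only [Zt.sub, sixteen, Zt.mk.injEq]
    omega
  · refine hp m' ?_
    rw [hA, ← hB]
    exact hm'

theorem norm4_sum {v : Vec} (h : qip v.dec v.dec = 4) :
    (v.x.norm4.add v.y.norm4).add v.z.norm4 = sixteen := by
  rw [qip_self_dec, show (4 : ℍ[ℝ]) = ((4 : ℝ) : ℍ[ℝ]) from rfl] at h
  have h' := Quaternion.coe_injective h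
  exact Zt.val_injective (by simp [sixteen, Zt.val] at h' ⊢; linarith)

/-- A normalised minimal vector is listed. -/
theorem head_listed {v : Vec} (hlat : v.inLat = true) (hq : qip v.dec v.dec = 4)
    (hhead : (∃ r < 51, v.x = elQ (120 * r)) ∨ (v.x = Quad.zero ∧ ∃ r < 51, v.y = elQ (120 * r)) ∨
      (v.x = Quad.zero ∧ v.y = Quad.zero ∧ ∃ r < 51, v.z = elQ (120 * r))) :
    ∃ k < 315, v = repV k := by
  have hl := hlat
  simp only [Vec.inLat, Bool.and_eq_true, Vec.isIco_iff] at hl
  obtain ⟨⟨⟨⟨ix, iy, iz⟩, h3⟩, h4⟩, h5⟩ := hl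
  have hn := norm4_sum hq
  have hsmall : ∀ p : Quad, p.isIco = true → (sixteen.sub p.norm4).tn = true → ∃ i < 6121, elQ i = p :=
    fun p hp h => small_complete hp h
  have tx : (sixteen.sub v.x.norm4).tn = true := by
    have := Zt.tn_add v.y.tn_norm4 v.z.tn_norm4
    convert this using 2
    rw [← hn]; simp [Zt.add, Zt.sub]; constructor <;> ring
  have ty : (sixteen.sub v.y.norm4).tn = true := by
    have := Zt.tn_add v.x.tn_norm4 v.z.tn_norm4
    convert this using 2
    rw [← hn]; simp [Zt.add, Zt.sub]; constructor <;> ring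
  have tz : (sixteen.sub v.z.norm4).tn = true := by
    have := Zt.tn_add v.x.tn_norm4 v.y.tn_norm4
    convert this using 2
    rw [← hn]; simp [Zt.add, Zt.sub]
  have key : ∀ i j m, i < 6121 → j < 6121 → m < 6121 → elQ i = v.x → elQ j = v.y → elQ m = v.z →
      (pairOK i j = true ∨ tripleOK i j m = true) → ∃ k < 315, v = repV k := by
    intro i j m hi hj hm ei ej em hp
    have ht : tripleOK i j m = true := by
      rcases hp with hp | hp
      · refine pair_spec hi hj hm hp ?_ (by rw [ei, ej, em]; exact hn)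
        rw [ei, ej, em]; exact hlat
      · exact hp
    obtain ⟨k, hk, e1, e2, e3⟩ := tripleOK_spec hi hj ht
    refine ⟨k, hk, ?_⟩
    rw [ei] at e1; rw [ej] at e2; rw [em] at e3
    cases v
    cases hv : repV k
    simp_all
  obtain ⟨j, hj, ej⟩ := hsmall _ iy ty
  obtain ⟨m, hm, em⟩ := hsmall _ iz tz
  rcases hhead with ⟨r, hr, e⟩ | ⟨ex, r, hr, e⟩ | ⟨ex, ey, r, hr, e⟩
  · have hh := all_of check_heads hr
    simp only [Bool.and_eq_true, Bool.or_eq_true, Bool.not_eq_true'] at hh
    have hd := Vec.mem_icoLeech_iff.2 hlat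
    have hA : clsA.get (120 * r) = clsA.get j := by
      refine clsA_eq (by omega) hj ?_
      rw [← e, ej]; exact hd.2.1
    refine key _ _ _ (by omega) hj hm e.symm ej em (Or.inl ?_)
    rcases Nat.lt_or_ge j 6120 with h | h
    · have := hh.1.1.1
      simp only [headOK, List.all_eq_true, List.mem_range, Bool.or_eq_true, Bool.not_eq_true'] at this
      rcases this j h with h' | h'
      · rw [hA, Nat.beq_refl] at h'; exact absurd h' (by decide)
      · exact h'
    · obtain rfl : j = 6120 := by omega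
      rcases hh.1.1.2 with h' | h'
      · rw [hA, Nat.beq_refl] at h'; exact absurd h' (by decide)
      · exact h'
  · have hh := all_of check_heads hr
    simp only [Bool.and_eq_true, Bool.or_eq_true, Bool.not_eq_true'] at hh
    have hd := Vec.mem_icoLeech_iff.2 hlat
    have hA : clsA.get 6120 = clsA.get (120 * r) := by
      refine clsA_eq (by omega) (by omega) ?_
      rw [← e, elQ_last, ← ex]; exact hd.2.1
    refine key 6120 (120 * r) m (by omega) (by omega) hm (elQ_last.trans ex.symm) e.symm em (Or.inl ?_)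
    rcases hh.1.2 with h' | h'
    · rw [hA, Nat.beq_refl] at h'; exact absurd h' (by decide)
    · exact h'
  · have hh := all_of check_heads hr
    simp only [Bool.and_eq_true, Bool.or_eq_true, Bool.not_eq_true', decide_eq_false_iff_not] at hh
    have hd := Vec.mem_icoLeech_iff.2 hlat
    have hA : clsA.get 6120 = clsA.get (120 * r) := by
      refine clsA_eq (by omega) (by omega) ?_
      rw [← e, elQ_last, ← ey]; exact hd.2.2.1
    have hB : clsB.get (120 * r) = clsB.get 6120 := by
      have h1 := clsB_eq (m := 120 * r) (show 6120 < 6121 by omega) (show 6120 < 6121 by omega) (by omega)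
        (by
          have h8 := hd.2.2.2
          rw [elQ_last, ← e, Quad.dec_zero, zero_add, zero_add]
          simpa [Vec.dec, ex, ey, Quad.dec_zero] using h8)
      rw [h1]
      decide +kernel
    refine key 6120 6120 (120 * r) (by omega) (by omega) (by omega) (elQ_last.trans ex.symm)
      (elQ_last.trans ey.symm) e.symm (Or.inr ?_)
    rcases hh.2 with ((h' | h') | h') | h'
    · rw [hA, Nat.beq_refl] at h'; exact absurd h' (by decide)
    · rw [hB, Nat.beq_refl] at h'; exact absurd h' (by decide)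
    · exfalso
      apply h'
      rw [← (norm4_elQ (show 120 * r < 6121 by omega)).1, ← e]
      rw [ex, ey] at hn
      rw [← hn]
      simp [Zt.add, Quad.norm4, Quad.zero, Zt.sq, Zt.mul]
    · exact h'

/-- Every minimal vector is a unit multiple of a listed one. -/
theorem minimal_listed {f : Fin 3 → ℍ[ℝ]} (hf : f ∈ icoLeech) (hq : qip f f = 4) :
    ∃ k < 315, ∃ u < 120, f = fun t => (uQ u).dec * (repV k).dec t := by
  obtain ⟨v, hv, rfl⟩ := Vec.exists_code hf
  have hl := hv
  simp only [Vec.inLat, Bool.and_eq_true, Vec.isIco_iff] at hl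
  obtain ⟨⟨⟨⟨ix, iy, iz⟩, -⟩, -⟩, -⟩ := hl
  have hn := norm4_sum hq
  have key : ∀ u < 120, ∀ w : Vec, w.inLat = true →
      v.dec = (fun t => (uQ u).dec * w.dec t) →
      ((∃ r < 51, w.x = elQ (120 * r)) ∨ (w.x = Quad.zero ∧ ∃ r < 51, w.y = elQ (120 * r)) ∨
        (w.x = Quad.zero ∧ w.y = Quad.zero ∧ ∃ r < 51, w.z = elQ (120 * r))) →
      ∃ k < 315, ∃ u < 120, v.dec = fun t => (uQ u).dec * (repV k).dec t := by
    intro u hu w hw e hhead
    have hq' : qip w.dec w.dec = 4 := by
      obtain ⟨-, h1, -⟩ := uQ_spec hu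
      rw [e, qip_smul_left, qip_smul_right] at hq
      have h2 := congrArg (fun x => star (uQ u).dec * x * (uQ u).dec) hq
      simp only [← mul_assoc, h1, one_mul] at h2
      rw [mul_assoc, h1, mul_one] at h2
      rw [h2, show (4 : ℍ[ℝ]) = ((4 : ℝ) : ℍ[ℝ]) from rfl, mul_assoc, Quaternion.coe_commutes,
        ← mul_assoc, h1, one_mul]
    obtain ⟨k, hk, rfl⟩ := head_listed hw hq' hhead
    exact ⟨k, hk, u, hu, e⟩
  -- normalise at the first nonzero entry
  have norm_at : ∀ p : Quad, p.isIco = true → (sixteen.sub p.norm4).tn = true → p ≠ Quad.zero →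
      ∃ u < 120, ∃ r < 51, (uQ u).conj.mul p = elQ (120 * r) := by
    intro p hp ht hne
    obtain ⟨i, hi, rfl⟩ := small_complete hp ht
    have hi' : i < 6120 := by
      rcases Nat.lt_or_ge i 6120 with h | h
      · exact h
      · obtain rfl : i = 6120 := by omega
        exact absurd elQ_last hne
    obtain ⟨e1, hc⟩ := elQ_spec hi'
    have hu : i % 120 < 120 := Nat.mod_lt _ (by norm_num)
    obtain ⟨hui, hu1, -⟩ := uQ_spec hu
    refine ⟨i % 120, hu, i / 120, by omega, Quad.dec_injective ?_⟩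
    obtain ⟨e2, hc2⟩ := elQ_spec (show 120 * (i / 120) < 6120 by omega)
    rw [(Quad.ico_mul (Quad.conj_isIco hui) hp).1, e1, (Quad.ico_mul hui hc).1, Quad.dec_conj,
      ← mul_assoc, hu1, one_mul, e2, show 120 * (i / 120) % 120 = 0 by omega,
      show 120 * (i / 120) / 120 = i / 120 by omega, uQ_zero,
      (Quad.ico_mul (by decide) hc).1, Quad.dec_one, one_mul]
  have hw : ∀ u < 120, (v.smul (uQ u).conj).inLat = true ∧
      v.dec = fun t => (uQ u).dec * (v.smul (uQ u).conj).dec t := by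
    intro u hu
    obtain ⟨hui, -, hu2⟩ := uQ_spec hu
    obtain ⟨e, -⟩ := Vec.smul_spec (Quad.conj_isIco hui) (Vec.isIco_iff.2 ⟨ix, iy, iz⟩)
    refine ⟨Vec.mem_icoLeech_iff.1 (e ▸ icoLeech_smul (Quad.mem_icosians (Quad.conj_isIco hui)) hf), ?_⟩
    rw [e]
    funext t
    show v.dec t = _
    rw [Quad.dec_conj, ← mul_assoc, hu2, one_mul]
  have hmz : ∀ u < 120, (uQ u).conj.mul Quad.zero = Quad.zero := fun u hu => Quad.dec_injective (by
    rw [(Quad.ico_mul (Quad.conj_isIco (uQ_spec hu).1) (by decide)).1, Quad.dec_zero, mul_zero])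
  have tn3 : (sixteen.sub v.x.norm4).tn = true ∧ (sixteen.sub v.y.norm4).tn = true ∧
      (sixteen.sub v.z.norm4).tn = true := by
    refine ⟨?_, ?_, ?_⟩
    · have := Zt.tn_add v.y.tn_norm4 v.z.tn_norm4
      convert this using 2
      rw [← hn]; simp [Zt.add, Zt.sub]; constructor <;> ring
    · have := Zt.tn_add v.x.tn_norm4 v.z.tn_norm4
      convert this using 2
      rw [← hn]; simp [Zt.add, Zt.sub]; constructor <;> ring
    · have := Zt.tn_add v.x.tn_norm4 v.y.tn_norm4
      convert this using 2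
      rw [← hn]; simp [Zt.add, Zt.sub]
  by_cases hx : v.x = Quad.zero
  · by_cases hy : v.y = Quad.zero
    · have hz : v.z ≠ Quad.zero := by
        intro hz
        rw [hx, hy, hz] at hn
        exact absurd hn (by decide)
      obtain ⟨u, hu, r, hr, e⟩ := norm_at _ iz tn3.2.2 hz
      refine key u hu _ (hw u hu).1 (hw u hu).2 (Or.inr (Or.inr ⟨?_, ?_, r, hr, e⟩))
      · show (uQ u).conj.mul v.x = _; rw [hx]; exact hmz u hu
      · show (uQ u).conj.mul v.y = _; rw [hy]; exact hmz u hu
    · obtain ⟨u, hu, r, hr, e⟩ := norm_at _ iy tn3.2.1 hy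
      refine key u hu _ (hw u hu).1 (hw u hu).2 (Or.inr (Or.inl ⟨?_, r, hr, e⟩))
      show (uQ u).conj.mul v.x = _; rw [hx]; exact hmz u hu
  · obtain ⟨u, hu, r, hr, e⟩ := norm_at _ ix tn3.1 hx
    exact key u hu _ (hw u hu).1 (hw u hu).2 (Or.inl ⟨r, hr, e⟩)

end CfsgLib.Janko2
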