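import Cfsg.Agent.Lib.Janko2.Quad

/-!
Small elements of the ring of integers and compatible pairs.
-/

set_option autoImplicit false
set_option maxRecDepth 100000

namespace CfsgLib.Janko2

/-- Elements with both squares at most sixteen. -/
def smallZt : List Zt := [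
  ⟨-4, 0⟩, ⟨-3, 0⟩, ⟨-3, 1⟩, ⟨-2, -1⟩, ⟨-2, 0⟩, ⟨-2, 1⟩, ⟨-2, 2⟩, ⟨-2, 3⟩,
  ⟨-1, -1⟩, ⟨-1, 0⟩, ⟨-1, 1⟩, ⟨-1, 2⟩, ⟨-1, 3⟩, ⟨0, -2⟩, ⟨0, -1⟩, ⟨0, 0⟩,
  ⟨0, 1⟩, ⟨0, 2⟩, ⟨1, -3⟩, ⟨1, -2⟩, ⟨1, -1⟩, ⟨1, 0⟩, ⟨1, 1⟩, ⟨2, -3⟩,
  ⟨2, -2⟩, ⟨2, -1⟩, ⟨2, 0⟩, ⟨2, 1⟩, ⟨3, -1⟩, ⟨3, 0⟩, ⟨4, 0⟩]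

/-- Compatible pairs, part 0. -/
def smallPairPart0 : List (Zt × Zt) := [
  (⟨-4, 0⟩, ⟨0, 0⟩), (⟨-3, 0⟩, ⟨-2, 0⟩), (⟨-3, 0⟩, ⟨-2, 1⟩), (⟨-3, 0⟩, ⟨-1, -1⟩),
  (⟨-3, 0⟩, ⟨-1, 0⟩), (⟨-3, 0⟩, ⟨-1, 1⟩), (⟨-3, 0⟩, ⟨-1, 2⟩), (⟨-3, 0⟩, ⟨0, -1⟩),
  (⟨-3, 0⟩, ⟨0, 0⟩), (⟨-3, 0⟩, ⟨0, 1⟩), (⟨-3, 0⟩, ⟨1, -2⟩), (⟨-3, 0⟩, ⟨1, -1⟩),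
  (⟨-3, 0⟩, ⟨1, 0⟩), (⟨-3, 0⟩, ⟨1, 1⟩), (⟨-3, 0⟩, ⟨2, -1⟩), (⟨-3, 0⟩, ⟨2, 0⟩),
  (⟨-3, 1⟩, ⟨-2, -1⟩), (⟨-3, 1⟩, ⟨-1, -1⟩), (⟨-3, 1⟩, ⟨-1, 0⟩), (⟨-3, 1⟩, ⟨-1, 1⟩),
  (⟨-3, 1⟩, ⟨0, -2⟩), (⟨-3, 1⟩, ⟨0, -1⟩), (⟨-3, 1⟩, ⟨0, 0⟩), (⟨-3, 1⟩, ⟨0, 1⟩),
  (⟨-3, 1⟩, ⟨0, 2⟩), (⟨-3, 1⟩, ⟨1, -1⟩), (⟨-3, 1⟩, ⟨1, 0⟩), (⟨-3, 1⟩, ⟨1, 1⟩),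
  (⟨-3, 1⟩, ⟨2, 1⟩), (⟨-2, -1⟩, ⟨-3, 1⟩), (⟨-2, -1⟩, ⟨-2, 1⟩), (⟨-2, -1⟩, ⟨-2, 2⟩),
  (⟨-2, -1⟩, ⟨-1, 0⟩), (⟨-2, -1⟩, ⟨-1, 1⟩), (⟨-2, -1⟩, ⟨0, -1⟩), (⟨-2, -1⟩, ⟨0, 0⟩),
  (⟨-2, -1⟩, ⟨0, 1⟩), (⟨-2, -1⟩, ⟨1, -1⟩), (⟨-2, -1⟩, ⟨1, 0⟩), (⟨-2, -1⟩, ⟨2, -2⟩),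
  (⟨-2, -1⟩, ⟨2, -1⟩), (⟨-2, -1⟩, ⟨3, -1⟩), (⟨-2, 0⟩, ⟨-3, 0⟩), (⟨-2, 0⟩, ⟨-2, 0⟩),
  (⟨-2, 0⟩, ⟨-2, 1⟩), (⟨-2, 0⟩, ⟨-2, 2⟩), (⟨-2, 0⟩, ⟨-1, -1⟩), (⟨-2, 0⟩, ⟨-1, 0⟩),
  (⟨-2, 0⟩, ⟨-1, 1⟩), (⟨-2, 0⟩, ⟨-1, 2⟩), (⟨-2, 0⟩, ⟨0, -2⟩), (⟨-2, 0⟩, ⟨0, -1⟩),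
  (⟨-2, 0⟩, ⟨0, 0⟩), (⟨-2, 0⟩, ⟨0, 1⟩), (⟨-2, 0⟩, ⟨0, 2⟩), (⟨-2, 0⟩, ⟨1, -2⟩),
  (⟨-2, 0⟩, ⟨1, -1⟩), (⟨-2, 0⟩, ⟨1, 0⟩), (⟨-2, 0⟩, ⟨1, 1⟩), (⟨-2, 0⟩, ⟨2, -2⟩),
  (⟨-2, 0⟩, ⟨2, -1⟩), (⟨-2, 0⟩, ⟨2, 0⟩), (⟨-2, 0⟩, ⟨3, 0⟩), (⟨-2, 1⟩, ⟨-3, 0⟩),
  (⟨-2, 1⟩, ⟨-2, -1⟩), (⟨-2, 1⟩, ⟨-2, 0⟩), (⟨-2, 1⟩, ⟨-2, 1⟩), (⟨-2, 1⟩, ⟨-1, -1⟩),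
  (⟨-2, 1⟩, ⟨-1, 0⟩), (⟨-2, 1⟩, ⟨-1, 1⟩), (⟨-2, 1⟩, ⟨-1, 2⟩), (⟨-2, 1⟩, ⟨-1, 3⟩),
  (⟨-2, 1⟩, ⟨0, -2⟩), (⟨-2, 1⟩, ⟨0, -1⟩), (⟨-2, 1⟩, ⟨0, 0⟩), (⟨-2, 1⟩, ⟨0, 1⟩),
  (⟨-2, 1⟩, ⟨0, 2⟩), (⟨-2, 1⟩, ⟨1, -3⟩), (⟨-2, 1⟩, ⟨1, -2⟩), (⟨-2, 1⟩, ⟨1, -1⟩),
  (⟨-2, 1⟩, ⟨1, 0⟩), (⟨-2, 1⟩, ⟨1, 1⟩), (⟨-2, 1⟩, ⟨2, -1⟩), (⟨-2, 1⟩, ⟨2, 0⟩),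
  (⟨-2, 1⟩, ⟨2, 1⟩), (⟨-2, 1⟩, ⟨3, 0⟩), (⟨-2, 2⟩, ⟨-2, -1⟩), (⟨-2, 2⟩, ⟨-2, 0⟩),
  (⟨-2, 2⟩, ⟨-1, -1⟩), (⟨-2, 2⟩, ⟨-1, 0⟩), (⟨-2, 2⟩, ⟨-1, 1⟩), (⟨-2, 2⟩, ⟨-1, 2⟩),
  (⟨-2, 2⟩, ⟨0, -2⟩), (⟨-2, 2⟩, ⟨0, -1⟩), (⟨-2, 2⟩, ⟨0, 0⟩), (⟨-2, 2⟩, ⟨0, 1⟩),
  (⟨-2, 2⟩, ⟨0, 2⟩), (⟨-2, 2⟩, ⟨1, -2⟩), (⟨-2, 2⟩, ⟨1, -1⟩), (⟨-2, 2⟩, ⟨1, 0⟩)]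

/-- Compatible pairs, part 1. -/
def smallPairPart1 : List (Zt × Zt) := [
  (⟨-2, 2⟩, ⟨1, 1⟩), (⟨-2, 2⟩, ⟨2, 0⟩), (⟨-2, 2⟩, ⟨2, 1⟩), (⟨-2, 3⟩, ⟨-1, -1⟩),
  (⟨-2, 3⟩, ⟨-1, 0⟩), (⟨-2, 3⟩, ⟨0, -1⟩), (⟨-2, 3⟩, ⟨0, 0⟩), (⟨-2, 3⟩, ⟨0, 1⟩),
  (⟨-2, 3⟩, ⟨1, 0⟩), (⟨-2, 3⟩, ⟨1, 1⟩), (⟨-1, -1⟩, ⟨-3, 0⟩), (⟨-1, -1⟩, ⟨-3, 1⟩),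
  (⟨-1, -1⟩, ⟨-2, 0⟩), (⟨-1, -1⟩, ⟨-2, 1⟩), (⟨-1, -1⟩, ⟨-2, 2⟩), (⟨-1, -1⟩, ⟨-2, 3⟩),
  (⟨-1, -1⟩, ⟨-1, -1⟩), (⟨-1, -1⟩, ⟨-1, 0⟩), (⟨-1, -1⟩, ⟨-1, 1⟩), (⟨-1, -1⟩, ⟨-1, 2⟩),
  (⟨-1, -1⟩, ⟨0, -1⟩), (⟨-1, -1⟩, ⟨0, 0⟩), (⟨-1, -1⟩, ⟨0, 1⟩), (⟨-1, -1⟩, ⟨1, -2⟩),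
  (⟨-1, -1⟩, ⟨1, -1⟩), (⟨-1, -1⟩, ⟨1, 0⟩), (⟨-1, -1⟩, ⟨1, 1⟩), (⟨-1, -1⟩, ⟨2, -3⟩),
  (⟨-1, -1⟩, ⟨2, -2⟩), (⟨-1, -1⟩, ⟨2, -1⟩), (⟨-1, -1⟩, ⟨2, 0⟩), (⟨-1, -1⟩, ⟨3, -1⟩),
  (⟨-1, -1⟩, ⟨3, 0⟩), (⟨-1, 0⟩, ⟨-3, 0⟩), (⟨-1, 0⟩, ⟨-3, 1⟩), (⟨-1, 0⟩, ⟨-2, -1⟩),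
  (⟨-1, 0⟩, ⟨-2, 0⟩), (⟨-1, 0⟩, ⟨-2, 1⟩), (⟨-1, 0⟩, ⟨-2, 2⟩), (⟨-1, 0⟩, ⟨-2, 3⟩),
  (⟨-1, 0⟩, ⟨-1, -1⟩), (⟨-1, 0⟩, ⟨-1, 0⟩), (⟨-1, 0⟩, ⟨-1, 1⟩), (⟨-1, 0⟩, ⟨-1, 2⟩),
  (⟨-1, 0⟩, ⟨-1, 3⟩), (⟨-1, 0⟩, ⟨0, -2⟩), (⟨-1, 0⟩, ⟨0, -1⟩), (⟨-1, 0⟩, ⟨0, 0⟩),
  (⟨-1, 0⟩, ⟨0, 1⟩), (⟨-1, 0⟩, ⟨0, 2⟩), (⟨-1, 0⟩, ⟨1, -3⟩), (⟨-1, 0⟩, ⟨1, -2⟩),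
  (⟨-1, 0⟩, ⟨1, -1⟩), (⟨-1, 0⟩, ⟨1, 0⟩), (⟨-1, 0⟩, ⟨1, 1⟩), (⟨-1, 0⟩, ⟨2, -3⟩),
  (⟨-1, 0⟩, ⟨2, -2⟩), (⟨-1, 0⟩, ⟨2, -1⟩), (⟨-1, 0⟩, ⟨2, 0⟩), (⟨-1, 0⟩, ⟨2, 1⟩),
  (⟨-1, 0⟩, ⟨3, -1⟩), (⟨-1, 0⟩, ⟨3, 0⟩), (⟨-1, 1⟩, ⟨-3, 0⟩), (⟨-1, 1⟩, ⟨-3, 1⟩),
  (⟨-1, 1⟩, ⟨-2, -1⟩), (⟨-1, 1⟩, ⟨-2, 0⟩), (⟨-1, 1⟩, ⟨-2, 1⟩), (⟨-1, 1⟩, ⟨-2, 2⟩),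
  (⟨-1, 1⟩, ⟨-1, -1⟩), (⟨-1, 1⟩, ⟨-1, 0⟩), (⟨-1, 1⟩, ⟨-1, 1⟩), (⟨-1, 1⟩, ⟨-1, 2⟩),
  (⟨-1, 1⟩, ⟨-1, 3⟩), (⟨-1, 1⟩, ⟨0, -2⟩), (⟨-1, 1⟩, ⟨0, -1⟩), (⟨-1, 1⟩, ⟨0, 0⟩),
  (⟨-1, 1⟩, ⟨0, 1⟩), (⟨-1, 1⟩, ⟨0, 2⟩), (⟨-1, 1⟩, ⟨1, -3⟩), (⟨-1, 1⟩, ⟨1, -2⟩),
  (⟨-1, 1⟩, ⟨1, -1⟩), (⟨-1, 1⟩, ⟨1, 0⟩), (⟨-1, 1⟩, ⟨1, 1⟩), (⟨-1, 1⟩, ⟨2, -2⟩),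
  (⟨-1, 1⟩, ⟨2, -1⟩), (⟨-1, 1⟩, ⟨2, 0⟩), (⟨-1, 1⟩, ⟨2, 1⟩), (⟨-1, 1⟩, ⟨3, -1⟩),
  (⟨-1, 1⟩, ⟨3, 0⟩), (⟨-1, 2⟩, ⟨-3, 0⟩), (⟨-1, 2⟩, ⟨-2, 0⟩), (⟨-1, 2⟩, ⟨-2, 1⟩),
  (⟨-1, 2⟩, ⟨-2, 2⟩), (⟨-1, 2⟩, ⟨-1, -1⟩), (⟨-1, 2⟩, ⟨-1, 0⟩), (⟨-1, 2⟩, ⟨-1, 1⟩),
  (⟨-1, 2⟩, ⟨-1, 2⟩), (⟨-1, 2⟩, ⟨0, -2⟩), (⟨-1, 2⟩, ⟨0, -1⟩), (⟨-1, 2⟩, ⟨0, 0⟩)]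

/-- Compatible pairs, part 2. -/
def smallPairPart2 : List (Zt × Zt) := [
  (⟨-1, 2⟩, ⟨0, 1⟩), (⟨-1, 2⟩, ⟨0, 2⟩), (⟨-1, 2⟩, ⟨1, -2⟩), (⟨-1, 2⟩, ⟨1, -1⟩),
  (⟨-1, 2⟩, ⟨1, 0⟩), (⟨-1, 2⟩, ⟨1, 1⟩), (⟨-1, 2⟩, ⟨2, -2⟩), (⟨-1, 2⟩, ⟨2, -1⟩),
  (⟨-1, 2⟩, ⟨2, 0⟩), (⟨-1, 2⟩, ⟨3, 0⟩), (⟨-1, 3⟩, ⟨-2, 1⟩), (⟨-1, 3⟩, ⟨-1, 0⟩),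
  (⟨-1, 3⟩, ⟨-1, 1⟩), (⟨-1, 3⟩, ⟨0, 0⟩), (⟨-1, 3⟩, ⟨1, -1⟩), (⟨-1, 3⟩, ⟨1, 0⟩),
  (⟨-1, 3⟩, ⟨2, -1⟩), (⟨0, -2⟩, ⟨-3, 1⟩), (⟨0, -2⟩, ⟨-2, 0⟩), (⟨0, -2⟩, ⟨-2, 1⟩),
  (⟨0, -2⟩, ⟨-2, 2⟩), (⟨0, -2⟩, ⟨-1, 0⟩), (⟨0, -2⟩, ⟨-1, 1⟩), (⟨0, -2⟩, ⟨-1, 2⟩),
  (⟨0, -2⟩, ⟨0, -1⟩), (⟨0, -2⟩, ⟨0, 0⟩), (⟨0, -2⟩, ⟨0, 1⟩), (⟨0, -2⟩, ⟨1, -2⟩),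
  (⟨0, -2⟩, ⟨1, -1⟩), (⟨0, -2⟩, ⟨1, 0⟩), (⟨0, -2⟩, ⟨2, -2⟩), (⟨0, -2⟩, ⟨2, -1⟩),
  (⟨0, -2⟩, ⟨2, 0⟩), (⟨0, -2⟩, ⟨3, -1⟩), (⟨0, -1⟩, ⟨-3, 0⟩), (⟨0, -1⟩, ⟨-3, 1⟩),
  (⟨0, -1⟩, ⟨-2, -1⟩), (⟨0, -1⟩, ⟨-2, 0⟩), (⟨0, -1⟩, ⟨-2, 1⟩), (⟨0, -1⟩, ⟨-2, 2⟩),
  (⟨0, -1⟩, ⟨-2, 3⟩), (⟨0, -1⟩, ⟨-1, -1⟩), (⟨0, -1⟩, ⟨-1, 0⟩), (⟨0, -1⟩, ⟨-1, 1⟩),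
  (⟨0, -1⟩, ⟨-1, 2⟩), (⟨0, -1⟩, ⟨0, -2⟩), (⟨0, -1⟩, ⟨0, -1⟩), (⟨0, -1⟩, ⟨0, 0⟩),
  (⟨0, -1⟩, ⟨0, 1⟩), (⟨0, -1⟩, ⟨0, 2⟩), (⟨0, -1⟩, ⟨1, -2⟩), (⟨0, -1⟩, ⟨1, -1⟩),
  (⟨0, -1⟩, ⟨1, 0⟩), (⟨0, -1⟩, ⟨1, 1⟩), (⟨0, -1⟩, ⟨2, -3⟩), (⟨0, -1⟩, ⟨2, -2⟩),
  (⟨0, -1⟩, ⟨2, -1⟩), (⟨0, -1⟩, ⟨2, 0⟩), (⟨0, -1⟩, ⟨2, 1⟩), (⟨0, -1⟩, ⟨3, -1⟩),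
  (⟨0, -1⟩, ⟨3, 0⟩), (⟨0, 0⟩, ⟨-4, 0⟩), (⟨0, 0⟩, ⟨-3, 0⟩), (⟨0, 0⟩, ⟨-3, 1⟩),
  (⟨0, 0⟩, ⟨-2, -1⟩), (⟨0, 0⟩, ⟨-2, 0⟩), (⟨0, 0⟩, ⟨-2, 1⟩), (⟨0, 0⟩, ⟨-2, 2⟩),
  (⟨0, 0⟩, ⟨-2, 3⟩), (⟨0, 0⟩, ⟨-1, -1⟩), (⟨0, 0⟩, ⟨-1, 0⟩), (⟨0, 0⟩, ⟨-1, 1⟩),
  (⟨0, 0⟩, ⟨-1, 2⟩), (⟨0, 0⟩, ⟨-1, 3⟩), (⟨0, 0⟩, ⟨0, -2⟩), (⟨0, 0⟩, ⟨0, -1⟩),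
  (⟨0, 0⟩, ⟨0, 0⟩), (⟨0, 0⟩, ⟨0, 1⟩), (⟨0, 0⟩, ⟨0, 2⟩), (⟨0, 0⟩, ⟨1, -3⟩),
  (⟨0, 0⟩, ⟨1, -2⟩), (⟨0, 0⟩, ⟨1, -1⟩), (⟨0, 0⟩, ⟨1, 0⟩), (⟨0, 0⟩, ⟨1, 1⟩),
  (⟨0, 0⟩, ⟨2, -3⟩), (⟨0, 0⟩, ⟨2, -2⟩), (⟨0, 0⟩, ⟨2, -1⟩), (⟨0, 0⟩, ⟨2, 0⟩),
  (⟨0, 0⟩, ⟨2, 1⟩), (⟨0, 0⟩, ⟨3, -1⟩), (⟨0, 0⟩, ⟨3, 0⟩), (⟨0, 0⟩, ⟨4, 0⟩),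
  (⟨0, 1⟩, ⟨-3, 0⟩), (⟨0, 1⟩, ⟨-3, 1⟩), (⟨0, 1⟩, ⟨-2, -1⟩), (⟨0, 1⟩, ⟨-2, 0⟩),
  (⟨0, 1⟩, ⟨-2, 1⟩), (⟨0, 1⟩, ⟨-2, 2⟩), (⟨0, 1⟩, ⟨-2, 3⟩), (⟨0, 1⟩, ⟨-1, -1⟩)]

/-- Compatible pairs, part 3. -/
def smallPairPart3 : List (Zt × Zt) := [
  (⟨0, 1⟩, ⟨-1, 0⟩), (⟨0, 1⟩, ⟨-1, 1⟩), (⟨0, 1⟩, ⟨-1, 2⟩), (⟨0, 1⟩, ⟨0, -2⟩),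
  (⟨0, 1⟩, ⟨0, -1⟩), (⟨0, 1⟩, ⟨0, 0⟩), (⟨0, 1⟩, ⟨0, 1⟩), (⟨0, 1⟩, ⟨0, 2⟩),
  (⟨0, 1⟩, ⟨1, -2⟩), (⟨0, 1⟩, ⟨1, -1⟩), (⟨0, 1⟩, ⟨1, 0⟩), (⟨0, 1⟩, ⟨1, 1⟩),
  (⟨0, 1⟩, ⟨2, -3⟩), (⟨0, 1⟩, ⟨2, -2⟩), (⟨0, 1⟩, ⟨2, -1⟩), (⟨0, 1⟩, ⟨2, 0⟩),
  (⟨0, 1⟩, ⟨2, 1⟩), (⟨0, 1⟩, ⟨3, -1⟩), (⟨0, 1⟩, ⟨3, 0⟩), (⟨0, 2⟩, ⟨-3, 1⟩),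
  (⟨0, 2⟩, ⟨-2, 0⟩), (⟨0, 2⟩, ⟨-2, 1⟩), (⟨0, 2⟩, ⟨-2, 2⟩), (⟨0, 2⟩, ⟨-1, 0⟩),
  (⟨0, 2⟩, ⟨-1, 1⟩), (⟨0, 2⟩, ⟨-1, 2⟩), (⟨0, 2⟩, ⟨0, -1⟩), (⟨0, 2⟩, ⟨0, 0⟩),
  (⟨0, 2⟩, ⟨0, 1⟩), (⟨0, 2⟩, ⟨1, -2⟩), (⟨0, 2⟩, ⟨1, -1⟩), (⟨0, 2⟩, ⟨1, 0⟩),
  (⟨0, 2⟩, ⟨2, -2⟩), (⟨0, 2⟩, ⟨2, -1⟩), (⟨0, 2⟩, ⟨2, 0⟩), (⟨0, 2⟩, ⟨3, -1⟩),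
  (⟨1, -3⟩, ⟨-2, 1⟩), (⟨1, -3⟩, ⟨-1, 0⟩), (⟨1, -3⟩, ⟨-1, 1⟩), (⟨1, -3⟩, ⟨0, 0⟩),
  (⟨1, -3⟩, ⟨1, -1⟩), (⟨1, -3⟩, ⟨1, 0⟩), (⟨1, -3⟩, ⟨2, -1⟩), (⟨1, -2⟩, ⟨-3, 0⟩),
  (⟨1, -2⟩, ⟨-2, 0⟩), (⟨1, -2⟩, ⟨-2, 1⟩), (⟨1, -2⟩, ⟨-2, 2⟩), (⟨1, -2⟩, ⟨-1, -1⟩),
  (⟨1, -2⟩, ⟨-1, 0⟩), (⟨1, -2⟩, ⟨-1, 1⟩), (⟨1, -2⟩, ⟨-1, 2⟩), (⟨1, -2⟩, ⟨0, -2⟩),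
  (⟨1, -2⟩, ⟨0, -1⟩), (⟨1, -2⟩, ⟨0, 0⟩), (⟨1, -2⟩, ⟨0, 1⟩), (⟨1, -2⟩, ⟨0, 2⟩),
  (⟨1, -2⟩, ⟨1, -2⟩), (⟨1, -2⟩, ⟨1, -1⟩), (⟨1, -2⟩, ⟨1, 0⟩), (⟨1, -2⟩, ⟨1, 1⟩),
  (⟨1, -2⟩, ⟨2, -2⟩), (⟨1, -2⟩, ⟨2, -1⟩), (⟨1, -2⟩, ⟨2, 0⟩), (⟨1, -2⟩, ⟨3, 0⟩),
  (⟨1, -1⟩, ⟨-3, 0⟩), (⟨1, -1⟩, ⟨-3, 1⟩), (⟨1, -1⟩, ⟨-2, -1⟩), (⟨1, -1⟩, ⟨-2, 0⟩),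
  (⟨1, -1⟩, ⟨-2, 1⟩), (⟨1, -1⟩, ⟨-2, 2⟩), (⟨1, -1⟩, ⟨-1, -1⟩), (⟨1, -1⟩, ⟨-1, 0⟩),
  (⟨1, -1⟩, ⟨-1, 1⟩), (⟨1, -1⟩, ⟨-1, 2⟩), (⟨1, -1⟩, ⟨-1, 3⟩), (⟨1, -1⟩, ⟨0, -2⟩),
  (⟨1, -1⟩, ⟨0, -1⟩), (⟨1, -1⟩, ⟨0, 0⟩), (⟨1, -1⟩, ⟨0, 1⟩), (⟨1, -1⟩, ⟨0, 2⟩),
  (⟨1, -1⟩, ⟨1, -3⟩), (⟨1, -1⟩, ⟨1, -2⟩), (⟨1, -1⟩, ⟨1, -1⟩), (⟨1, -1⟩, ⟨1, 0⟩),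
  (⟨1, -1⟩, ⟨1, 1⟩), (⟨1, -1⟩, ⟨2, -2⟩), (⟨1, -1⟩, ⟨2, -1⟩), (⟨1, -1⟩, ⟨2, 0⟩),
  (⟨1, -1⟩, ⟨2, 1⟩), (⟨1, -1⟩, ⟨3, -1⟩), (⟨1, -1⟩, ⟨3, 0⟩), (⟨1, 0⟩, ⟨-3, 0⟩),
  (⟨1, 0⟩, ⟨-3, 1⟩), (⟨1, 0⟩, ⟨-2, -1⟩), (⟨1, 0⟩, ⟨-2, 0⟩), (⟨1, 0⟩, ⟨-2, 1⟩),
  (⟨1, 0⟩, ⟨-2, 2⟩), (⟨1, 0⟩, ⟨-2, 3⟩), (⟨1, 0⟩, ⟨-1, -1⟩), (⟨1, 0⟩, ⟨-1, 0⟩)]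

/-- Compatible pairs, part 4. -/
def smallPairPart4 : List (Zt × Zt) := [
  (⟨1, 0⟩, ⟨-1, 1⟩), (⟨1, 0⟩, ⟨-1, 2⟩), (⟨1, 0⟩, ⟨-1, 3⟩), (⟨1, 0⟩, ⟨0, -2⟩),
  (⟨1, 0⟩, ⟨0, -1⟩), (⟨1, 0⟩, ⟨0, 0⟩), (⟨1, 0⟩, ⟨0, 1⟩), (⟨1, 0⟩, ⟨0, 2⟩),
  (⟨1, 0⟩, ⟨1, -3⟩), (⟨1, 0⟩, ⟨1, -2⟩), (⟨1, 0⟩, ⟨1, -1⟩), (⟨1, 0⟩, ⟨1, 0⟩),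
  (⟨1, 0⟩, ⟨1, 1⟩), (⟨1, 0⟩, ⟨2, -3⟩), (⟨1, 0⟩, ⟨2, -2⟩), (⟨1, 0⟩, ⟨2, -1⟩),
  (⟨1, 0⟩, ⟨2, 0⟩), (⟨1, 0⟩, ⟨2, 1⟩), (⟨1, 0⟩, ⟨3, -1⟩), (⟨1, 0⟩, ⟨3, 0⟩),
  (⟨1, 1⟩, ⟨-3, 0⟩), (⟨1, 1⟩, ⟨-3, 1⟩), (⟨1, 1⟩, ⟨-2, 0⟩), (⟨1, 1⟩, ⟨-2, 1⟩),
  (⟨1, 1⟩, ⟨-2, 2⟩), (⟨1, 1⟩, ⟨-2, 3⟩), (⟨1, 1⟩, ⟨-1, -1⟩), (⟨1, 1⟩, ⟨-1, 0⟩),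
  (⟨1, 1⟩, ⟨-1, 1⟩), (⟨1, 1⟩, ⟨-1, 2⟩), (⟨1, 1⟩, ⟨0, -1⟩), (⟨1, 1⟩, ⟨0, 0⟩),
  (⟨1, 1⟩, ⟨0, 1⟩), (⟨1, 1⟩, ⟨1, -2⟩), (⟨1, 1⟩, ⟨1, -1⟩), (⟨1, 1⟩, ⟨1, 0⟩),
  (⟨1, 1⟩, ⟨1, 1⟩), (⟨1, 1⟩, ⟨2, -3⟩), (⟨1, 1⟩, ⟨2, -2⟩), (⟨1, 1⟩, ⟨2, -1⟩),
  (⟨1, 1⟩, ⟨2, 0⟩), (⟨1, 1⟩, ⟨3, -1⟩), (⟨1, 1⟩, ⟨3, 0⟩), (⟨2, -3⟩, ⟨-1, -1⟩),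
  (⟨2, -3⟩, ⟨-1, 0⟩), (⟨2, -3⟩, ⟨0, -1⟩), (⟨2, -3⟩, ⟨0, 0⟩), (⟨2, -3⟩, ⟨0, 1⟩),
  (⟨2, -3⟩, ⟨1, 0⟩), (⟨2, -3⟩, ⟨1, 1⟩), (⟨2, -2⟩, ⟨-2, -1⟩), (⟨2, -2⟩, ⟨-2, 0⟩),
  (⟨2, -2⟩, ⟨-1, -1⟩), (⟨2, -2⟩, ⟨-1, 0⟩), (⟨2, -2⟩, ⟨-1, 1⟩), (⟨2, -2⟩, ⟨-1, 2⟩),
  (⟨2, -2⟩, ⟨0, -2⟩), (⟨2, -2⟩, ⟨0, -1⟩), (⟨2, -2⟩, ⟨0, 0⟩), (⟨2, -2⟩, ⟨0, 1⟩),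
  (⟨2, -2⟩, ⟨0, 2⟩), (⟨2, -2⟩, ⟨1, -2⟩), (⟨2, -2⟩, ⟨1, -1⟩), (⟨2, -2⟩, ⟨1, 0⟩),
  (⟨2, -2⟩, ⟨1, 1⟩), (⟨2, -2⟩, ⟨2, 0⟩), (⟨2, -2⟩, ⟨2, 1⟩), (⟨2, -1⟩, ⟨-3, 0⟩),
  (⟨2, -1⟩, ⟨-2, -1⟩), (⟨2, -1⟩, ⟨-2, 0⟩), (⟨2, -1⟩, ⟨-2, 1⟩), (⟨2, -1⟩, ⟨-1, -1⟩),
  (⟨2, -1⟩, ⟨-1, 0⟩), (⟨2, -1⟩, ⟨-1, 1⟩), (⟨2, -1⟩, ⟨-1, 2⟩), (⟨2, -1⟩, ⟨-1, 3⟩),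
  (⟨2, -1⟩, ⟨0, -2⟩), (⟨2, -1⟩, ⟨0, -1⟩), (⟨2, -1⟩, ⟨0, 0⟩), (⟨2, -1⟩, ⟨0, 1⟩),
  (⟨2, -1⟩, ⟨0, 2⟩), (⟨2, -1⟩, ⟨1, -3⟩), (⟨2, -1⟩, ⟨1, -2⟩), (⟨2, -1⟩, ⟨1, -1⟩),
  (⟨2, -1⟩, ⟨1, 0⟩), (⟨2, -1⟩, ⟨1, 1⟩), (⟨2, -1⟩, ⟨2, -1⟩), (⟨2, -1⟩, ⟨2, 0⟩),
  (⟨2, -1⟩, ⟨2, 1⟩), (⟨2, -1⟩, ⟨3, 0⟩), (⟨2, 0⟩, ⟨-3, 0⟩), (⟨2, 0⟩, ⟨-2, 0⟩),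
  (⟨2, 0⟩, ⟨-2, 1⟩), (⟨2, 0⟩, ⟨-2, 2⟩), (⟨2, 0⟩, ⟨-1, -1⟩), (⟨2, 0⟩, ⟨-1, 0⟩),
  (⟨2, 0⟩, ⟨-1, 1⟩), (⟨2, 0⟩, ⟨-1, 2⟩), (⟨2, 0⟩, ⟨0, -2⟩), (⟨2, 0⟩, ⟨0, -1⟩)]

/-- Compatible pairs, part 5. -/
def smallPairPart5 : List (Zt × Zt) := [
  (⟨2, 0⟩, ⟨0, 0⟩), (⟨2, 0⟩, ⟨0, 1⟩), (⟨2, 0⟩, ⟨0, 2⟩), (⟨2, 0⟩, ⟨1, -2⟩),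
  (⟨2, 0⟩, ⟨1, -1⟩), (⟨2, 0⟩, ⟨1, 0⟩), (⟨2, 0⟩, ⟨1, 1⟩), (⟨2, 0⟩, ⟨2, -2⟩),
  (⟨2, 0⟩, ⟨2, -1⟩), (⟨2, 0⟩, ⟨2, 0⟩), (⟨2, 0⟩, ⟨3, 0⟩), (⟨2, 1⟩, ⟨-3, 1⟩),
  (⟨2, 1⟩, ⟨-2, 1⟩), (⟨2, 1⟩, ⟨-2, 2⟩), (⟨2, 1⟩, ⟨-1, 0⟩), (⟨2, 1⟩, ⟨-1, 1⟩),
  (⟨2, 1⟩, ⟨0, -1⟩), (⟨2, 1⟩, ⟨0, 0⟩), (⟨2, 1⟩, ⟨0, 1⟩), (⟨2, 1⟩, ⟨1, -1⟩),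
  (⟨2, 1⟩, ⟨1, 0⟩), (⟨2, 1⟩, ⟨2, -2⟩), (⟨2, 1⟩, ⟨2, -1⟩), (⟨2, 1⟩, ⟨3, -1⟩),
  (⟨3, -1⟩, ⟨-2, -1⟩), (⟨3, -1⟩, ⟨-1, -1⟩), (⟨3, -1⟩, ⟨-1, 0⟩), (⟨3, -1⟩, ⟨-1, 1⟩),
  (⟨3, -1⟩, ⟨0, -2⟩), (⟨3, -1⟩, ⟨0, -1⟩), (⟨3, -1⟩, ⟨0, 0⟩), (⟨3, -1⟩, ⟨0, 1⟩),
  (⟨3, -1⟩, ⟨0, 2⟩), (⟨3, -1⟩, ⟨1, -1⟩), (⟨3, -1⟩, ⟨1, 0⟩), (⟨3, -1⟩, ⟨1, 1⟩),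
  (⟨3, -1⟩, ⟨2, 1⟩), (⟨3, 0⟩, ⟨-2, 0⟩), (⟨3, 0⟩, ⟨-2, 1⟩), (⟨3, 0⟩, ⟨-1, -1⟩),
  (⟨3, 0⟩, ⟨-1, 0⟩), (⟨3, 0⟩, ⟨-1, 1⟩), (⟨3, 0⟩, ⟨-1, 2⟩), (⟨3, 0⟩, ⟨0, -1⟩),
  (⟨3, 0⟩, ⟨0, 0⟩), (⟨3, 0⟩, ⟨0, 1⟩), (⟨3, 0⟩, ⟨1, -2⟩), (⟨3, 0⟩, ⟨1, -1⟩),
  (⟨3, 0⟩, ⟨1, 0⟩), (⟨3, 0⟩, ⟨1, 1⟩), (⟨3, 0⟩, ⟨2, -1⟩), (⟨3, 0⟩, ⟨2, 0⟩),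
  (⟨4, 0⟩, ⟨0, 0⟩)]

/-- Compatible pairs. -/
def smallPairs : List (Zt × Zt) := smallPairPart0 ++ smallPairPart1 ++ smallPairPart2 ++ smallPairPart3 ++ smallPairPart4 ++ smallPairPart5

end CfsgLib.Janko2
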