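import Cfsg.Agent.Lib.Janko2.Quad
import Cfsg.Agent.Lib.Fusion.TableSylow

/-!
Tables for icosians of small norm.
-/

set_option autoImplicit false
set_option maxRecDepth 100000

namespace CfsgLib.Janko2

open CfsgLib.Fusion.TableSylow

/-- A quadruple from eight integers. -/
def qd (a b c d e f g h : ℤ) : Quad := ⟨⟨a, b⟩, ⟨c, d⟩, ⟨e, f⟩, ⟨g, h⟩⟩

/-- The units. -/
def unitTab : List Quad := [
  qd 2 0 0 0 0 0 0 0,
  qd 0 0 2 0 0 0 0 0,
  qd 1 0 1 (-1) 0 0 0 1,
  qd (-2) 0 0 0 0 0 0 0,
  qd (-1) 1 1 0 0 (-1) 0 0,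
  qd (-1) 1 1 0 0 1 0 0,
  qd (-1) 0 1 (-1) 0 0 0 1,
  qd 0 0 (-2) 0 0 0 0 0,
  qd (-1) 0 (-1) 1 0 0 0 (-1),
  qd (-1) 0 (-1) 1 0 0 0 1,
  qd (-1) 1 (-1) 0 0 (-1) 0 0,
  qd (-1) 1 0 1 0 0 1 0,
  qd (-1) 1 (-1) 0 0 1 0 0,
  qd 1 (-1) (-1) 0 0 1 0 0,
  qd 1 (-1) (-1) 0 0 (-1) 0 0,
  qd 1 0 (-1) 1 0 0 0 (-1),
  qd 0 (-1) (-1) 1 (-1) 0 0 0,
  qd 1 0 (-1) 1 0 0 0 1,
  qd 0 (-1) (-1) 1 1 0 0 0,
  qd 0 0 (-1) 1 0 (-1) 1 0,
  qd 0 0 (-1) 1 0 1 1 0,
  qd 1 0 1 (-1) 0 0 0 (-1),
  qd 1 (-1) 1 0 0 1 0 0,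
  qd 1 (-1) 0 (-1) 0 0 (-1) 0,
  qd 1 (-1) 1 0 0 (-1) 0 0,
  qd 1 (-1) 0 (-1) 0 0 1 0,
  qd 1 (-1) 0 0 (-1) 0 0 (-1),
  qd 1 (-1) 0 0 (-1) 0 0 1,
  qd 1 (-1) 0 1 0 0 (-1) 0,
  qd 1 (-1) 0 0 1 0 0 1,
  qd 1 (-1) 0 0 1 0 0 (-1),
  qd 1 (-1) 0 1 0 0 1 0,
  qd 0 1 1 (-1) 1 0 0 0,
  qd (-1) 0 1 (-1) 0 0 0 (-1),
  qd 0 1 1 (-1) (-1) 0 0 0,
  qd 0 0 1 (-1) 0 1 (-1) 0,
  qd 0 0 1 (-1) 0 (-1) (-1) 0,
  qd 0 (-1) 1 (-1) 1 0 0 0,
  qd 0 0 1 (-1) 0 (-1) 1 0,
  qd 0 0 1 (-1) 0 1 1 0,
  qd 0 (-1) 1 (-1) (-1) 0 0 0,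
  qd 1 0 1 0 (-1) 0 (-1) 0,
  qd 0 (-1) 1 0 0 0 (-1) 1,
  qd 1 0 1 0 1 0 (-1) 0,
  qd (-1) 1 0 1 0 0 (-1) 0,
  qd (-1) 1 0 0 1 0 0 1,
  qd (-1) 1 0 0 1 0 0 (-1),
  qd (-1) 1 0 (-1) 0 0 1 0,
  qd (-1) 1 0 0 (-1) 0 0 (-1),
  qd (-1) 1 0 0 (-1) 0 0 1,
  qd (-1) 1 0 (-1) 0 0 (-1) 0,
  qd (-1) 0 1 0 1 0 (-1) 0,
  qd (-1) 0 0 (-1) 1 (-1) 0 0,
  qd (-1) 0 1 0 1 0 1 0,
  qd (-1) 0 1 0 (-1) 0 1 0,
  qd (-1) 0 0 (-1) (-1) 1 0 0,
  qd (-1) 0 1 0 (-1) 0 (-1) 0,
  qd 0 1 1 0 0 0 (-1) 1,
  qd 0 1 (-1) 1 (-1) 0 0 0,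
  qd 0 0 (-1) 1 0 1 (-1) 0,
  qd 0 0 (-1) 1 0 (-1) (-1) 0,
  qd 0 1 (-1) 1 1 0 0 0,
  qd (-1) 0 (-1) 0 1 0 1 0,
  qd 0 1 (-1) 0 0 0 1 (-1),
  qd (-1) 0 (-1) 0 (-1) 0 1 0,
  qd (-1) 0 (-1) 0 (-1) 0 (-1) 0,
  qd 0 1 (-1) 0 0 0 (-1) 1,
  qd (-1) 0 (-1) 0 1 0 (-1) 0,
  qd (-1) 0 0 1 1 (-1) 0 0,
  qd (-1) 0 0 0 0 (-1) 1 (-1),
  qd (-1) 0 0 0 0 1 1 (-1),
  qd (-1) 0 0 1 (-1) 1 0 0,
  qd 1 0 (-1) 0 (-1) 0 1 0,
  qd 1 0 0 1 (-1) 1 0 0,
  qd 1 0 (-1) 0 (-1) 0 (-1) 0,
  qd 1 0 (-1) 0 1 0 (-1) 0,
  qd 1 0 0 1 1 (-1) 0 0,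
  qd 1 0 (-1) 0 1 0 1 0,
  qd 0 (-1) (-1) 0 0 0 1 (-1),
  qd 0 0 (-1) 0 (-1) 1 0 (-1),
  qd 0 0 (-1) 0 (-1) 1 0 1,
  qd 0 (-1) (-1) 0 0 0 (-1) 1,
  qd 0 0 (-1) 0 1 (-1) 0 1,
  qd 0 0 (-1) 0 1 (-1) 0 (-1),
  qd 0 0 0 1 1 0 1 (-1),
  qd 0 0 0 1 (-1) 0 1 (-1),
  qd 1 0 1 0 1 0 1 0,
  qd 0 (-1) 1 0 0 0 1 (-1),
  qd 1 0 1 0 (-1) 0 1 0,
  qd 1 0 0 (-1) (-1) 1 0 0,
  qd 1 0 0 0 0 1 (-1) 1,
  qd 1 0 0 0 0 (-1) (-1) 1,
  qd 1 0 0 (-1) 1 (-1) 0 0,
  qd 1 0 0 0 0 (-1) 1 (-1),
  qd 1 0 0 0 0 1 1 (-1),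
  qd 0 (-1) 0 0 (-1) 1 1 0,
  qd 0 (-1) 0 0 (-1) 1 (-1) 0,
  qd 0 (-1) 0 0 1 (-1) (-1) 0,
  qd 0 (-1) 0 0 1 (-1) 1 0,
  qd 0 0 1 0 1 (-1) 0 1,
  qd 0 0 1 0 1 (-1) 0 (-1),
  qd 0 1 1 0 0 0 1 (-1),
  qd 0 0 1 0 (-1) 1 0 (-1),
  qd 0 0 1 0 (-1) 1 0 1,
  qd 0 0 0 (-1) (-1) 0 (-1) 1,
  qd 0 0 0 (-1) 1 0 (-1) 1,
  qd 0 0 0 (-1) 1 0 1 (-1),
  qd 0 0 0 (-1) (-1) 0 1 (-1),
  qd 0 0 0 0 0 0 (-2) 0,
  qd (-1) 0 0 0 0 1 (-1) 1,
  qd (-1) 0 0 0 0 (-1) (-1) 1,
  qd 0 1 0 0 1 (-1) (-1) 0,
  qd 0 1 0 0 1 (-1) 1 0,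
  qd 0 1 0 0 (-1) 1 1 0,
  qd 0 1 0 0 (-1) 1 (-1) 0,
  qd 0 0 0 0 2 0 0 0,
  qd 0 0 0 0 (-2) 0 0 0,
  qd 0 0 0 1 (-1) 0 (-1) 1,
  qd 0 0 0 1 1 0 (-1) 1,
  qd 0 0 0 0 0 0 2 0]

/-- Representatives of small icosians up to units. -/
def coreTab : List Quad := [
  qd (-2) 0 0 0 0 0 0 0,
  qd (-1) (-1) (-1) 0 0 (-1) 0 0,
  qd (-2) 1 (-1) 0 0 0 (-1) 1,
  qd (-2) 0 (-2) 0 0 0 0 0,
  qd (-2) 0 (-1) 0 (-1) 1 0 (-1),
  qd (-2) 0 (-1) 0 (-1) 1 0 1,
  qd (-2) 0 (-1) 0 1 (-1) 0 (-1),
  qd (-2) 0 (-1) 0 1 (-1) 0 1,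
  qd (-2) (-1) (-1) 0 0 0 (-1) 1,
  qd (-2) (-1) (-1) 0 0 0 1 (-1),
  qd (-2) (-1) (-1) 1 (-1) 0 0 0,
  qd (-2) (-1) (-1) 1 1 0 0 0,
  qd (-2) (-1) 0 0 (-1) 1 (-1) 0,
  qd (-2) (-1) 0 0 (-1) 1 1 0,
  qd (-3) 1 (-1) 0 0 (-1) 0 0,
  qd (-3) 1 (-1) 0 0 1 0 0,
  qd (-3) 1 0 (-1) 0 0 (-1) 0,
  qd (-3) 1 0 (-1) 0 0 1 0,
  qd (-3) 1 0 0 (-1) 0 0 (-1),
  qd (-3) 1 0 0 (-1) 0 0 1,
  qd (-3) 0 (-1) 0 (-1) 0 (-1) 0,
  qd (-3) 0 (-1) 0 (-1) 0 1 0,
  qd (-3) 0 (-1) 0 1 0 (-1) 0,
  qd (-3) 0 (-1) 0 1 0 1 0,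
  qd (-3) 0 (-1) 1 0 0 0 (-1),
  qd (-3) 0 (-1) 1 0 0 0 1,
  qd (-3) 0 0 (-1) (-1) 1 0 0,
  qd (-3) 0 0 (-1) 1 (-1) 0 0,
  qd (-3) 0 0 0 0 (-1) (-1) 1,
  qd (-3) 0 0 0 0 (-1) 1 (-1),
  qd (-4) 0 0 0 0 0 0 0,
  qd (-3) 0 (-2) 0 0 (-1) (-1) 1,
  qd (-3) 0 (-2) 0 0 (-1) 1 (-1),
  qd (-3) 0 (-2) 0 0 1 (-1) 1,
  qd (-3) 0 (-2) 0 0 1 1 (-1),
  qd (-3) 0 (-2) 1 (-1) (-1) 0 0,
  qd (-3) 0 (-2) 1 1 1 0 0,
  qd (-3) 0 (-1) (-1) 0 0 (-2) 1,
  qd (-3) 0 (-1) (-1) 0 0 2 (-1),
  qd (-3) 0 (-1) 0 (-1) 0 1 (-2),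
  qd (-3) 0 (-1) 0 (-1) 2 1 0,
  qd (-3) 0 (-1) 0 1 (-2) (-1) 0,
  qd (-3) 0 (-1) 0 1 0 (-1) 2,
  qd (-3) 0 (-1) 1 (-2) 0 0 (-1),
  qd (-3) 0 (-1) 1 (-2) 0 0 1,
  qd (-3) 0 (-1) 1 2 0 0 (-1),
  qd (-3) 0 (-1) 1 2 0 0 1,
  qd (-3) 0 (-1) 2 (-1) 0 (-1) 0,
  qd (-3) 0 (-1) 2 1 0 1 0,
  qd (-3) 0 0 (-1) (-1) 1 (-2) 0,
  qd (-3) 0 0 (-1) 1 (-1) 2 0]

/-- Representatives modulo the first ideal. -/
def clsRepA : List Quad := [
  qd 0 0 0 0 0 0 0 0,
  qd (-2) 0 0 0 0 0 0 0,
  qd (-1) 0 (-1) 1 0 0 0 (-1),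
  qd 1 (-1) (-1) 0 0 1 0 0,
  qd 1 0 (-1) 1 0 0 0 (-1),
  qd 1 (-1) 1 0 0 1 0 0,
  qd 1 (-1) 0 (-1) 0 0 (-1) 0,
  qd 0 1 1 (-1) 1 0 0 0,
  qd 0 0 1 (-1) 0 1 (-1) 0,
  qd 0 0 1 (-1) 0 (-1) (-1) 0,
  qd (-1) 1 0 0 1 0 0 1,
  qd (-1) 1 0 0 1 0 0 (-1),
  qd (-1) 1 0 (-1) 0 0 1 0,
  qd (-1) 1 0 (-1) 0 0 (-1) 0,
  qd (-1) 0 (-1) 0 1 0 1 0,
  qd (-1) 0 (-1) 0 (-1) 0 1 0]

/-- Representatives modulo the second ideal. -/
def clsRepB : List Quad := [
  qd 0 0 0 0 0 0 0 0,
  qd (-2) 0 0 0 0 0 0 0,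
  qd 0 0 (-2) 0 0 0 0 0,
  qd (-1) 0 (-1) 1 0 0 0 (-1),
  qd 1 (-1) (-1) 0 0 1 0 0,
  qd 1 (-1) (-1) 0 0 (-1) 0 0,
  qd 1 0 (-1) 1 0 0 0 (-1),
  qd 1 (-1) 1 0 0 1 0 0,
  qd 1 (-1) 0 (-1) 0 0 (-1) 0,
  qd 1 (-1) 1 0 0 (-1) 0 0,
  qd (-1) 0 1 (-1) 0 0 0 (-1),
  qd 0 0 1 (-1) 0 1 (-1) 0,
  qd 0 0 1 (-1) 0 (-1) (-1) 0,
  qd (-1) 1 0 0 1 0 0 (-1),
  qd (-1) 1 0 0 (-1) 0 0 (-1),
  qd (-1) 1 0 (-1) 0 0 (-1) 0]

/-- Addition modulo the second ideal. -/
def addTab : List ℕ := [
  0, 1, 2, 3, 4, 5, 6, 7, 8, 9, 10, 11, 12, 13, 14, 15,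
  1, 0, 8, 6, 14, 10, 3, 12, 2, 11, 5, 9, 7, 15, 4, 13,
  2, 8, 0, 15, 7, 9, 13, 4, 1, 5, 11, 10, 14, 6, 12, 3,
  3, 6, 15, 0, 11, 12, 1, 10, 13, 14, 7, 4, 5, 8, 9, 2,
  4, 14, 7, 11, 0, 13, 9, 2, 12, 6, 15, 3, 8, 5, 1, 10,
  5, 10, 9, 12, 13, 0, 7, 6, 11, 2, 1, 8, 3, 4, 15, 14,
  6, 3, 13, 1, 9, 7, 0, 5, 15, 4, 12, 14, 10, 2, 11, 8,
  7, 12, 4, 10, 2, 6, 5, 0, 14, 13, 3, 15, 1, 9, 8, 11,
  8, 2, 1, 13, 12, 11, 15, 14, 0, 10, 9, 5, 4, 3, 7, 6,
  9, 11, 5, 14, 6, 2, 4, 13, 10, 0, 8, 1, 15, 7, 3, 12,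
  10, 5, 11, 7, 15, 1, 12, 3, 9, 8, 0, 2, 6, 14, 13, 4,
  11, 9, 10, 4, 3, 8, 14, 15, 5, 1, 2, 0, 13, 12, 6, 7,
  12, 7, 14, 5, 8, 3, 10, 1, 4, 15, 6, 13, 0, 11, 2, 9,
  13, 15, 6, 8, 5, 4, 2, 9, 3, 7, 14, 12, 11, 0, 10, 1,
  14, 4, 12, 9, 1, 15, 11, 8, 7, 3, 13, 6, 2, 10, 0, 5,
  15, 13, 3, 2, 10, 14, 8, 11, 6, 12, 4, 7, 9, 1, 5, 0]

/-- Negation modulo the second ideal. -/
def negTab : List ℕ := [
  0, 1, 2, 3, 4, 5, 6, 7, 8, 9, 10, 11, 12, 13, 14, 15]

/-- Classes modulo the first ideal, part 0. -/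
def clsAPart0 : Tree :=
  .node (.node (.node (.node (.node (.node (.node (.node (.leaf 1) (.leaf 4)) (.node (.leaf 5) (.leaf 0))) (.node (.node (.leaf 6) (.leaf 0)) (.node (.leaf 6) (.leaf 0)))) (.node (.node (.node (.leaf 1) (.leaf 2)) (.node (.leaf 4) (.leaf 0))) (.node (.node (.leaf 13) (.leaf 2)) (.node (.leaf 11) (.leaf 0))))) (.node (.node (.node (.node (.leaf 12) (.leaf 15)) (.node (.leaf 5) (.leaf 0))) (.node (.node (.leaf 1) (.leaf 2)) (.node (.leaf 12) (.leaf 0)))) (.node (.node (.node (.leaf 7) (.leaf 0)) (.node (.leaf 14) (.leaf 0))) (.node (.node (.leaf 2) (.leaf 14)) (.node (.leaf 13) (.leaf 0)))))) (.node (.node (.node (.node (.node (.leaf 1) (.leaf 5)) (.node (.leaf 12) (.leaf 0))) (.node (.node (.leaf 3) (.leaf 10)) (.node (.leaf 15) (.leaf 0)))) (.node (.node (.node (.leaf 13) (.leaf 0)) (.node (.leaf 13) (.leaf 0))) (.node (.node (.leaf 7) (.leaf 1)) (.leaf 0)))) (.node (.node (.node (.node (.leaf 0) (.leaf 5)) (.node (.leaf 11) (.leaf 0))) (.node (.node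 (.leaf 4) (.leaf 10)) (.node (.leaf 8) (.leaf 0)))) (.node (.node (.node (.leaf 4) (.leaf 0)) (.node (.leaf 9) (.leaf 0))) (.node (.node (.leaf 12) (.leaf 15)) (.node (.leaf 15) (.leaf 0))))))) (.node (.node (.node (.node (.node (.node (.leaf 15) (.leaf 7)) (.node (.leaf 9) (.leaf 0))) (.node (.node (.leaf 13) (.leaf 9)) (.node (.leaf 5) (.leaf 0)))) (.node (.node (.node (.leaf 15) (.leaf 2)) (.node (.leaf 9) (.leaf 0))) (.node (.node (.leaf 11) (.leaf 15)) (.leaf 0)))) (.node (.node (.node (.node (.leaf 11) (.leaf 14)) (.node (.leaf 13) (.leaf 0))) (.node (.node (.leaf 3) (.leaf 5)) (.node (.leaf 4) (.leaf 0)))) (.node (.node (.node (.leaf 7) (.leaf 0)) (.node (.leaf 4) (.leaf 0))) (.node (.node (.leaf 8) (.leaf 5)) (.node (.leaf 4) (.leaf 0)))))) (.node (.node (.node (.node (.leaf 13) (.node (.leaf 11) (.leaf 0))) (.node (.node (.leaf 8) (.leaf 13)) (.node (.leaf 6) (.leaf 0)))) (.node (.node (.node (.leaf 4) (.leaf 0)) (.node (.leaf 10) (.leaf 0))) (.node (.node (.leaf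 2) (.leaf 15)) (.node (.leaf 2) (.leaf 0))))) (.node (.node (.node (.node (.leaf 0) (.leaf 10)) (.node (.leaf 12) (.leaf 0))) (.node (.node (.leaf 10) (.leaf 2)) (.node (.leaf 2) (.leaf 0)))) (.node (.node (.node (.leaf 10) (.leaf 0)) (.node (.leaf 8) (.leaf 0))) (.node (.node (.leaf 3) (.leaf 4)) (.node (.leaf 8) (.leaf 0)))))))) (.node (.node (.node (.node (.node (.node (.node (.leaf 7) (.leaf 4)) (.node (.leaf 9) (.leaf 0))) (.node (.node (.leaf 6) (.leaf 0)) (.node (.leaf 5) (.leaf 0)))) (.node (.node (.node (.leaf 4) (.leaf 14)) (.node (.leaf 15) (.leaf 0))) (.node (.node (.leaf 1) (.leaf 4)) (.leaf 0)))) (.node (.node (.node (.leaf 12) (.node (.leaf 12) (.leaf 0))) (.node (.node (.leaf 7) (.leaf 4)) (.node (.leaf 7) (.leaf 0)))) (.node (.node (.node (.leaf 1) (.leaf 0)) (.node (.leaf 14) (.leaf 0))) (.node (.node (.leaf 9) (.leaf 7)) (.node (.leaf 1) (.leaf 0)))))) (.node (.node (.node (.node (.node (.leaf 11) (.leaf 12)) (.node (.leaf 12) (.leaf 0))) (.node (.node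 (.leaf 8) (.leaf 3)) (.node (.leaf 11) (.leaf 0)))) (.node (.node (.node (.leaf 11) (.leaf 0)) (.node (.leaf 3) (.leaf 0))) (.node (.node (.leaf 13) (.leaf 7)) (.node (.leaf 15) (.leaf 0))))) (.node (.node (.node (.node (.leaf 0) (.leaf 7)) (.node (.leaf 14) (.leaf 0))) (.node (.node (.leaf 2) (.leaf 13)) (.node (.leaf 15) (.leaf 0)))) (.node (.node (.node (.leaf 5) (.leaf 0)) (.node (.leaf 9) (.leaf 0))) (.node (.node (.leaf 6) (.leaf 3)) (.node (.leaf 2) (.leaf 0))))))) (.node (.node (.node (.node (.node (.node (.leaf 4) (.leaf 8)) (.node (.leaf 13) (.leaf 0))) (.node (.node (.leaf 3) (.leaf 8)) (.node (.leaf 11) (.leaf 0)))) (.node (.node (.node (.leaf 12) (.leaf 0)) (.node (.leaf 2) (.leaf 0))) (.node (.node (.leaf 13) (.leaf 15)) (.leaf 0)))) (.node (.node (.node (.node (.leaf 5) (.leaf 4)) (.node (.leaf 15) (.leaf 0))) (.node (.node (.leaf 5) (.leaf 7)) (.node (.leaf 2) (.leaf 0)))) (.node (.node (.node (.leaf 8) (.leaf 0)) (.node (.leaf 3) (.leaf 0))) (.node (.node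 (.leaf 10) (.leaf 2)) (.node (.leaf 15) (.leaf 0)))))) (.node (.node (.node (.node (.node (.leaf 7) (.leaf 8)) (.node (.leaf 5) (.leaf 0))) (.node (.node (.leaf 7) (.leaf 8)) (.node (.leaf 13) (.leaf 0)))) (.node (.node (.node (.leaf 8) (.leaf 0)) (.node (.leaf 12) (.leaf 0))) (.node (.node (.leaf 14) (.leaf 4)) (.node (.leaf 3) (.leaf 0))))) (.node (.node (.node (.leaf 13) (.node (.leaf 11) (.leaf 0))) (.node (.node (.leaf 11) (.leaf 14)) (.node (.leaf 8) (.leaf 0)))) (.node (.node (.node (.leaf 9) (.leaf 0)) (.node (.leaf 6) (.leaf 0))) (.node (.node (.leaf 3) (.leaf 14)) (.node (.leaf 11) (.leaf 0))))))))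

/-- Classes modulo the first ideal, part 16. -/
def clsAPart16 : Tree :=
  .node (.node (.node (.node (.node (.node (.node (.node (.leaf 7) (.leaf 4)) (.node (.leaf 7) (.leaf 0))) (.node (.node (.leaf 13) (.leaf 0)) (.node (.leaf 11) (.leaf 0)))) (.node (.node (.node (.leaf 9) (.leaf 8)) (.node (.leaf 1) (.leaf 0))) (.node (.node (.leaf 13) (.leaf 2)) (.leaf 0)))) (.node (.node (.node (.node (.leaf 12) (.leaf 3)) (.node (.leaf 7) (.leaf 0))) (.node (.node (.leaf 7) (.leaf 2)) (.node (.leaf 12) (.leaf 0)))) (.node (.node (.node (.leaf 5) (.leaf 0)) (.node (.leaf 1) (.leaf 0))) (.node (.node (.leaf 4) (.leaf 5)) (.node (.leaf 1) (.leaf 0)))))) (.node (.node (.node (.node (.node (.leaf 13) (.leaf 7)) (.node (.leaf 12) (.leaf 0))) (.node (.node (.leaf 7) (.leaf 10)) (.node (.leaf 11) (.leaf 0)))) (.node (.node (.node (.leaf 5) (.leaf 0)) (.node (.leaf 1) (.leaf 0))) (.node (.node (.leaf 3) (.leaf 7)) (.node (.leaf 9) (.leaf 0))))) (.node (.node (.node (.node (.leaf 0) (.leaf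 8)) (.node (.leaf 5) (.leaf 0))) (.node (.node (.leaf 4) (.leaf 3)) (.node (.leaf 8) (.leaf 0)))) (.node (.node (.node (.leaf 8) (.leaf 0)) (.node (.leaf 8) (.leaf 0))) (.node (.node (.leaf 6) (.leaf 15)) (.node (.leaf 8) (.leaf 0))))))) (.node (.node (.node (.node (.node (.node (.leaf 6) (.leaf 8)) (.node (.leaf 2) (.leaf 0))) (.node (.node (.leaf 11) (.leaf 5)) (.node (.leaf 5) (.leaf 0)))) (.node (.node (.node (.leaf 15) (.leaf 0)) (.node (.leaf 14) (.leaf 0))) (.node (.node (.leaf 10) (.leaf 14)) (.leaf 0)))) (.node (.node (.node (.node (.leaf 5) (.leaf 14)) (.node (.leaf 2) (.leaf 0))) (.node (.node (.leaf 13) (.leaf 8)) (.node (.leaf 4) (.leaf 0)))) (.node (.node (.node (.leaf 15) (.leaf 0)) (.node (.leaf 3) (.leaf 0))) (.node (.node (.leaf 7) (.leaf 13)) (.node (.leaf 10) (.leaf 0)))))) (.node (.node (.node (.node (.node (.leaf 8) (.leaf 2)) (.node (.leaf 5) (.leaf 0))) (.node (.node (.leaf 8) (.leaf 2)) (.node (.leaf 8) (.leaf 0)))) (.node (.node (.node (.leaf 6)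 (.leaf 0)) (.node (.leaf 7) (.leaf 0))) (.node (.node (.leaf 8) (.leaf 6)) (.node (.leaf 10) (.leaf 0))))) (.node (.node (.node (.node (.leaf 0) (.leaf 3)) (.node (.leaf 12) (.leaf 0))) (.node (.node (.leaf 10) (.leaf 8)) (.node (.leaf 4) (.leaf 0)))) (.node (.node (.node (.leaf 9) (.leaf 0)) (.node (.leaf 2) (.leaf 0))) (.node (.node (.leaf 5) (.leaf 14)) (.node (.leaf 5) (.leaf 0)))))))) (.node (.node (.node (.node (.node (.node (.node (.leaf 8) (.leaf 2)) (.node (.leaf 3) (.leaf 0))) (.node (.node (.leaf 6) (.leaf 4)) (.node (.leaf 9) (.leaf 0)))) (.node (.node (.node (.leaf 10) (.leaf 2)) (.node (.leaf 1) (.leaf 0))) (.node (.node (.leaf 13) (.leaf 12)) (.leaf 0)))) (.node (.node (.node (.node (.leaf 7) (.leaf 4)) (.node (.leaf 5) (.leaf 0))) (.node (.node (.leaf 12) (.leaf 9)) (.node (.leaf 4) (.leaf 0)))) (.node (.node (.node (.leaf 7) (.leaf 0)) (.node (.leaf 6) (.leaf 0))) (.node (.node (.leaf 5) (.leaf 12)) (.node (.leaf 9) (.leaf 0)))))) (.node (.node (.node (.node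 (.node (.leaf 10) (.leaf 5)) (.node (.leaf 7) (.leaf 0))) (.node (.node (.leaf 6) (.leaf 13)) (.node (.leaf 10) (.leaf 0)))) (.node (.node (.node (.leaf 4) (.leaf 0)) (.node (.leaf 10) (.leaf 0))) (.node (.node (.leaf 13) (.leaf 8)) (.node (.leaf 1) (.leaf 0))))) (.node (.node (.node (.node (.leaf 0) (.leaf 10)) (.node (.leaf 9) (.leaf 0))) (.node (.node (.leaf 10) (.leaf 13)) (.node (.leaf 8) (.leaf 0)))) (.node (.node (.node (.leaf 11) (.leaf 0)) (.node (.leaf 9) (.leaf 0))) (.node (.node (.leaf 14) (.leaf 12)) (.node (.leaf 4) (.leaf 0))))))) (.node (.node (.node (.node (.node (.node (.leaf 4) (.leaf 14)) (.node (.leaf 11) (.leaf 0))) (.node (.node (.leaf 6) (.leaf 7)) (.node (.leaf 13) (.leaf 0)))) (.node (.node (.node (.leaf 3) (.leaf 0)) (.node (.leaf 2) (.leaf 0))) (.node (.node (.leaf 8) (.leaf 3)) (.leaf 0)))) (.node (.node (.node (.node (.leaf 0) (.leaf 9)) (.node (.leaf 11) (.leaf 0))) (.node (.node (.leaf 11) (.leaf 10)) (.node (.leaf 7) (.leaf 0)))) (.node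 (.node (.node (.leaf 2) (.leaf 0)) (.node (.leaf 15) (.leaf 0))) (.node (.node (.leaf 10) (.leaf 8)) (.node (.leaf 15) (.leaf 0)))))) (.node (.node (.node (.node (.node (.leaf 11) (.leaf 15)) (.node (.leaf 14) (.leaf 0))) (.node (.node (.leaf 5) (.leaf 14)) (.node (.leaf 2) (.leaf 0)))) (.node (.node (.node (.leaf 8) (.leaf 0)) (.node (.leaf 10) (.leaf 0))) (.node (.node (.leaf 2) (.leaf 4)) (.node (.leaf 15) (.leaf 0))))) (.node (.node (.node (.node (.leaf 1) (.leaf 13)) (.node (.leaf 10) (.leaf 0))) (.node (.leaf 2) (.node (.leaf 5) (.leaf 0)))) (.node (.node (.node (.leaf 1) (.leaf 0)) (.node (.leaf 9) (.leaf 0))) (.node (.node (.leaf 3) (.leaf 0)) (.node (.leaf 7) (.leaf 0))))))))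

/-- Classes modulo the first ideal, part 8. -/
def clsAPart8 : Tree :=
  .node (.node (.node (.node (.node (.node (.node (.node (.leaf 2) (.leaf 3)) (.node (.leaf 1) (.leaf 0))) (.node (.node (.leaf 5) (.leaf 0)) (.node (.leaf 12) (.leaf 0)))) (.node (.node (.node (.leaf 9) (.leaf 11)) (.node (.leaf 13) (.leaf 0))) (.node (.node (.leaf 10) (.leaf 1)) (.node (.leaf 3) (.leaf 0))))) (.node (.node (.node (.node (.leaf 6) (.leaf 3)) (.node (.leaf 9) (.leaf 0))) (.node (.node (.leaf 3) (.leaf 1)) (.node (.leaf 5) (.leaf 0)))) (.node (.node (.node (.leaf 2) (.leaf 0)) (.node (.leaf 14) (.leaf 0))) (.node (.node (.leaf 2) (.leaf 9)) (.node (.leaf 5) (.leaf 0)))))) (.node (.node (.node (.node (.node (.leaf 3) (.leaf 9)) (.node (.leaf 6) (.leaf 0))) (.node (.node (.leaf 4) (.leaf 13)) (.node (.leaf 6) (.leaf 0)))) (.node (.node (.node (.leaf 4) (.leaf 0)) (.node (.leaf 1) (.leaf 0))) (.node (.node (.leaf 9) (.leaf 2)) (.node (.leaf 6) (.leaf 0))))) (.node (.node (.node (.node (.leaf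 0) (.leaf 10)) (.node (.leaf 10) (.leaf 0))) (.node (.node (.leaf 8) (.leaf 13)) (.node (.leaf 4) (.leaf 0)))) (.node (.node (.node (.leaf 3) (.leaf 0)) (.node (.leaf 13) (.leaf 0))) (.node (.node (.leaf 15) (.leaf 11)) (.node (.leaf 6) (.leaf 0))))))) (.node (.node (.node (.node (.node (.node (.leaf 14) (.leaf 4)) (.node (.leaf 10) (.leaf 0))) (.node (.node (.leaf 15) (.leaf 10)) (.node (.leaf 14) (.leaf 0)))) (.node (.node (.node (.leaf 13) (.leaf 0)) (.node (.leaf 10) (.leaf 0))) (.node (.leaf 15) (.leaf 0)))) (.node (.node (.node (.node (.leaf 12) (.leaf 8)) (.node (.leaf 6) (.leaf 0))) (.node (.node (.leaf 4) (.leaf 10)) (.node (.leaf 13) (.leaf 0)))) (.node (.node (.node (.leaf 12) (.leaf 0)) (.node (.leaf 1) (.leaf 0))) (.node (.node (.leaf 11) (.leaf 13)) (.node (.leaf 9) (.leaf 0)))))) (.node (.node (.node (.node (.node (.leaf 8) (.leaf 6)) (.node (.leaf 12) (.leaf 0))) (.node (.node (.leaf 15) (.leaf 14)) (.node (.leaf 12) (.leaf 0)))) (.node (.node (.node (.leaf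 8) (.leaf 0)) (.node (.leaf 15) (.leaf 0))) (.node (.node (.leaf 11) (.leaf 14)) (.node (.leaf 5) (.leaf 0))))) (.node (.node (.node (.node (.leaf 0) (.leaf 13)) (.node (.leaf 6) (.leaf 0))) (.node (.node (.leaf 5) (.leaf 11)) (.node (.leaf 14) (.leaf 0)))) (.node (.node (.node (.leaf 14) (.leaf 0)) (.node (.leaf 14) (.leaf 0))) (.node (.node (.leaf 8) (.leaf 7)) (.node (.leaf 5) (.leaf 0)))))))) (.node (.node (.node (.node (.node (.node (.node (.leaf 12) (.leaf 5)) (.node (.leaf 9) (.leaf 0))) (.node (.leaf 2) (.node (.leaf 1) (.leaf 0)))) (.node (.node (.leaf 9) (.node (.leaf 3) (.leaf 0))) (.node (.node (.leaf 3) (.leaf 7)) (.leaf 0)))) (.node (.node (.node (.node (.leaf 13) (.leaf 3)) (.node (.leaf 6) (.leaf 0))) (.node (.node (.leaf 7) (.leaf 10)) (.node (.leaf 12) (.leaf 0)))) (.node (.node (.node (.leaf 3) (.leaf 0)) (.node (.leaf 12) (.leaf 0))) (.node (.node (.leaf 10) (.leaf 1)) (.node (.leaf 9) (.leaf 0)))))) (.node (.node (.node (.node (.node (.leaf 15) (.leaf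 6)) (.node (.leaf 13) (.leaf 0))) (.node (.node (.leaf 14) (.leaf 6)) (.node (.leaf 11) (.leaf 0)))) (.node (.node (.node (.leaf 7) (.leaf 0)) (.node (.leaf 1) (.leaf 0))) (.node (.node (.leaf 1) (.leaf 12)) (.node (.leaf 8) (.leaf 0))))) (.node (.node (.node (.node (.leaf 0) (.leaf 2)) (.node (.leaf 1) (.leaf 0))) (.node (.node (.leaf 4) (.leaf 1)) (.node (.leaf 6) (.leaf 0)))) (.node (.node (.node (.leaf 3) (.leaf 0)) (.node (.leaf 7) (.leaf 0))) (.node (.node (.leaf 2) (.leaf 6)) (.node (.leaf 14) (.leaf 0))))))) (.node (.node (.node (.node (.node (.node (.leaf 3) (.leaf 10)) (.node (.leaf 15) (.leaf 0))) (.node (.node (.leaf 3) (.leaf 11)) (.node (.leaf 7) (.leaf 0)))) (.node (.node (.node (.leaf 4) (.leaf 0)) (.node (.leaf 10) (.leaf 0))) (.node (.node (.leaf 8) (.leaf 4)) (.leaf 0)))) (.node (.node (.node (.node (.leaf 0) (.leaf 10)) (.node (.leaf 7) (.leaf 0))) (.node (.leaf 2) (.node (.leaf 11) (.leaf 0)))) (.node (.node (.node (.leaf 6) (.leaf 0)) (.node (.leaf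 11) (.leaf 0))) (.node (.node (.leaf 13) (.leaf 6)) (.node (.leaf 13) (.leaf 0)))))) (.node (.node (.node (.node (.node (.leaf 9) (.leaf 13)) (.node (.leaf 10) (.leaf 0))) (.node (.node (.leaf 2) (.leaf 12)) (.node (.leaf 7) (.leaf 0)))) (.node (.node (.node (.leaf 15) (.leaf 0)) (.node (.leaf 11) (.leaf 0))) (.node (.node (.leaf 9) (.leaf 3)) (.node (.leaf 7) (.leaf 0))))) (.node (.node (.node (.node (.leaf 5) (.leaf 1)) (.node (.leaf 2) (.leaf 0))) (.node (.node (.leaf 7) (.leaf 9)) (.node (.leaf 5) (.leaf 0)))) (.node (.node (.node (.leaf 7) (.leaf 0)) (.node (.leaf 6) (.leaf 0))) (.node (.node (.leaf 11) (.leaf 0)) (.node (.leaf 3) (.leaf 0))))))))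

/-- Classes modulo the first ideal, part 24. -/
def clsAPart24 : Tree :=
  .node (.node (.node (.node (.node (.node (.node (.node (.leaf 4) (.leaf 13)) (.node (.leaf 1) (.leaf 0))) (.node (.node (.leaf 13) (.leaf 0)) (.node (.leaf 1) (.leaf 0)))) (.node (.node (.node (.leaf 3) (.leaf 12)) (.node (.leaf 1) (.leaf 0))) (.node (.node (.leaf 4) (.leaf 7)) (.leaf 0)))) (.node (.node (.node (.node (.leaf 8) (.leaf 6)) (.node (.leaf 1) (.leaf 0))) (.node (.node (.leaf 15) (.leaf 2)) (.node (.leaf 5) (.leaf 0)))) (.node (.node (.node (.leaf 10) (.leaf 0)) (.node (.leaf 9) (.leaf 0))) (.node (.node (.leaf 10) (.leaf 9)) (.node (.leaf 7) (.leaf 0)))))) (.node (.node (.node (.node (.node (.leaf 3) (.leaf 1)) (.node (.leaf 8) (.leaf 0))) (.node (.node (.leaf 14) (.leaf 13)) (.node (.leaf 14) (.leaf 0)))) (.node (.node (.node (.leaf 2) (.leaf 0)) (.node (.leaf 15) (.leaf 0))) (.node (.node (.leaf 6) (.leaf 4)) (.node (.leaf 8) (.leaf 0))))) (.node (.node (.node (.node (.leaf 0) (.leaf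 11)) (.node (.leaf 14) (.leaf 0))) (.node (.node (.leaf 8) (.leaf 6)) (.node (.leaf 12) (.leaf 0)))) (.node (.node (.node (.leaf 5) (.leaf 0)) (.node (.leaf 8) (.leaf 0))) (.node (.node (.leaf 8) (.leaf 3)) (.node (.leaf 6) (.leaf 0))))))) (.node (.node (.node (.node (.node (.node (.leaf 15) (.leaf 4)) (.node (.leaf 15) (.leaf 0))) (.node (.node (.leaf 15) (.leaf 10)) (.node (.leaf 15) (.leaf 0)))) (.node (.node (.node (.leaf 7) (.leaf 0)) (.node (.leaf 11) (.leaf 0))) (.node (.node (.leaf 9) (.leaf 6)) (.leaf 0)))) (.node (.node (.node (.node (.leaf 12) (.leaf 2)) (.node (.leaf 6) (.leaf 0))) (.node (.node (.leaf 4) (.leaf 11)) (.node (.leaf 5) (.leaf 0)))) (.node (.node (.node (.leaf 6) (.leaf 0)) (.node (.leaf 13) (.leaf 0))) (.node (.node (.leaf 2) (.leaf 6)) (.node (.leaf 2) (.leaf 0)))))) (.node (.node (.node (.node (.node (.leaf 9) (.leaf 6)) (.node (.leaf 12) (.leaf 0))) (.node (.node (.leaf 1) (.leaf 11)) (.node (.leaf 12) (.leaf 0)))) (.node (.node (.node (.leaf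 9) (.leaf 0)) (.node (.leaf 11) (.leaf 0))) (.node (.node (.leaf 12) (.leaf 15)) (.node (.leaf 1) (.leaf 0))))) (.node (.node (.node (.node (.leaf 0) (.leaf 6)) (.node (.leaf 14) (.leaf 0))) (.node (.node (.leaf 8) (.leaf 12)) (.node (.leaf 3) (.leaf 0)))) (.node (.node (.node (.leaf 5) (.leaf 0)) (.node (.leaf 14) (.leaf 0))) (.node (.node (.leaf 5) (.leaf 8)) (.node (.leaf 3) (.leaf 0)))))))) (.node (.node (.node (.node (.node (.node (.node (.leaf 15) (.leaf 11)) (.node (.leaf 4) (.leaf 0))) (.node (.node (.leaf 8) (.leaf 10)) (.node (.leaf 3) (.leaf 0)))) (.node (.node (.node (.leaf 2) (.leaf 1)) (.node (.leaf 10) (.leaf 0))) (.node (.node (.leaf 3) (.leaf 8)) (.leaf 0)))) (.node (.node (.node (.node (.leaf 2) (.leaf 7)) (.node (.leaf 13) (.leaf 0))) (.node (.node (.leaf 4) (.leaf 10)) (.node (.leaf 3) (.leaf 0)))) (.node (.node (.node (.leaf 15) (.leaf 0)) (.node (.leaf 12) (.leaf 0))) (.node (.node (.leaf 10) (.leaf 6)) (.node (.leaf 3) (.leaf 0)))))) (.node (.node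 (.node (.node (.node (.leaf 9) (.leaf 13)) (.node (.leaf 2) (.leaf 0))) (.node (.node (.leaf 9) (.leaf 1)) (.node (.leaf 12) (.leaf 0)))) (.node (.node (.node (.leaf 8) (.leaf 0)) (.node (.leaf 9) (.leaf 0))) (.node (.node (.leaf 14) (.leaf 15)) (.node (.leaf 7) (.leaf 0))))) (.node (.node (.node (.node (.leaf 0) (.leaf 13)) (.node (.leaf 14) (.leaf 0))) (.node (.node (.leaf 9) (.leaf 14)) (.node (.leaf 6) (.leaf 0)))) (.node (.node (.node (.leaf 3) (.leaf 0)) (.node (.leaf 5) (.leaf 0))) (.node (.node (.leaf 4) (.leaf 3)) (.node (.leaf 3) (.leaf 0))))))) (.node (.node (.node (.node (.node (.node (.leaf 4) (.leaf 9)) (.node (.leaf 10) (.leaf 0))) (.node (.node (.leaf 12) (.leaf 2)) (.node (.leaf 4) (.leaf 0)))) (.node (.node (.node (.leaf 4) (.leaf 0)) (.node (.leaf 4) (.leaf 0))) (.node (.node (.leaf 9) (.leaf 4)) (.leaf 0)))) (.node (.node (.node (.node (.leaf 0) (.leaf 10)) (.node (.leaf 12) (.leaf 0))) (.node (.node (.leaf 7) (.leaf 13)) (.node (.leaf 4) (.leaf 0))))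 (.node (.node (.node (.leaf 14) (.leaf 0)) (.node (.leaf 10) (.leaf 0))) (.node (.leaf 13) (.node (.leaf 12) (.leaf 0)))))) (.node (.node (.node (.node (.node (.leaf 10) (.leaf 11)) (.node (.leaf 9) (.leaf 0))) (.node (.node (.leaf 10) (.leaf 9)) (.node (.leaf 11) (.leaf 0)))) (.node (.node (.node (.leaf 1) (.leaf 0)) (.node (.leaf 5) (.leaf 0))) (.node (.node (.leaf 1) (.leaf 10)) (.node (.leaf 7) (.leaf 0))))) (.node (.node (.node (.node (.leaf 7) (.leaf 14)) (.node (.leaf 2) (.leaf 0))) (.node (.node (.leaf 10) (.leaf 1)) (.node (.leaf 3) (.leaf 0)))) (.node (.node (.node (.leaf 12) (.leaf 0)) (.node (.leaf 10) (.leaf 0))) (.node (.node (.leaf 13) (.leaf 0)) (.node (.leaf 12) (.leaf 0))))))))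

/-- Classes modulo the first ideal, part 4. -/
def clsAPart4 : Tree :=
  .node (.node (.node (.node (.node (.node (.node (.node (.leaf 3) (.leaf 8)) (.node (.leaf 7) (.leaf 0))) (.node (.node (.leaf 1) (.leaf 0)) (.node (.leaf 8) (.leaf 0)))) (.node (.node (.node (.leaf 2) (.leaf 6)) (.node (.leaf 2) (.leaf 0))) (.node (.node (.leaf 2) (.leaf 5)) (.node (.leaf 6) (.leaf 0))))) (.node (.node (.node (.node (.leaf 5) (.leaf 7)) (.node (.leaf 3) (.leaf 0))) (.node (.node (.leaf 15) (.leaf 14)) (.node (.leaf 8) (.leaf 0)))) (.node (.node (.node (.leaf 9) (.leaf 0)) (.node (.leaf 2) (.leaf 0))) (.node (.leaf 5) (.node (.leaf 4) (.leaf 0)))))) (.node (.node (.node (.node (.node (.leaf 13) (.leaf 3)) (.node (.leaf 5) (.leaf 0))) (.node (.node (.leaf 13) (.leaf 5)) (.node (.leaf 14) (.leaf 0)))) (.node (.node (.node (.leaf 8) (.leaf 0)) (.node (.leaf 13) (.leaf 0))) (.node (.leaf 3) (.leaf 0)))) (.node (.node (.node (.node (.leaf 0) (.leaf 13)) (.node (.leaf 3) (.leaf 0))) (.node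 (.node (.leaf 13) (.leaf 5)) (.node (.leaf 7) (.leaf 0)))) (.node (.node (.node (.leaf 3) (.leaf 0)) (.node (.leaf 15) (.leaf 0))) (.node (.node (.leaf 15) (.leaf 7)) (.node (.leaf 8) (.leaf 0))))))) (.node (.node (.node (.node (.node (.node (.leaf 9) (.leaf 4)) (.node (.leaf 5) (.leaf 0))) (.node (.node (.leaf 11) (.leaf 14)) (.node (.leaf 1) (.leaf 0)))) (.node (.node (.node (.leaf 10) (.leaf 5)) (.node (.leaf 14) (.leaf 0))) (.node (.node (.leaf 14) (.leaf 11)) (.leaf 0)))) (.node (.node (.node (.node (.leaf 12) (.leaf 4)) (.node (.leaf 4) (.leaf 0))) (.node (.node (.leaf 1) (.leaf 13)) (.node (.leaf 8) (.leaf 0)))) (.node (.node (.node (.leaf 13) (.leaf 0)) (.node (.leaf 1) (.leaf 0))) (.node (.node (.leaf 15) (.leaf 9)) (.node (.leaf 8) (.leaf 0)))))) (.node (.node (.node (.node (.node (.leaf 3) (.leaf 4)) (.node (.leaf 12) (.leaf 0))) (.node (.node (.leaf 14) (.leaf 15)) (.node (.leaf 15) (.leaf 0)))) (.node (.node (.node (.leaf 13) (.leaf 0)) (.node (.leaf 14) (.leaf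 0))) (.node (.node (.leaf 6) (.leaf 9)) (.node (.leaf 10) (.leaf 0))))) (.node (.node (.node (.node (.leaf 0) (.leaf 5)) (.node (.leaf 9) (.leaf 0))) (.node (.node (.leaf 13) (.leaf 6)) (.node (.leaf 1) (.leaf 0)))) (.node (.node (.node (.leaf 14) (.leaf 0)) (.node (.leaf 2) (.leaf 0))) (.node (.node (.leaf 14) (.leaf 8)) (.node (.leaf 6) (.leaf 0)))))))) (.node (.node (.node (.node (.node (.node (.node (.leaf 9) (.leaf 14)) (.node (.leaf 6) (.leaf 0))) (.node (.node (.leaf 13) (.leaf 0)) (.node (.leaf 2) (.leaf 0)))) (.node (.node (.node (.leaf 8) (.leaf 1)) (.node (.leaf 12) (.leaf 0))) (.node (.node (.leaf 13) (.leaf 12)) (.leaf 0)))) (.node (.node (.node (.node (.leaf 1) (.leaf 5)) (.node (.leaf 6) (.leaf 0))) (.node (.node (.leaf 13) (.leaf 9)) (.node (.leaf 13) (.leaf 0)))) (.node (.node (.node (.leaf 15) (.leaf 0)) (.node (.leaf 2) (.leaf 0))) (.node (.node (.leaf 14) (.leaf 15)) (.node (.leaf 2) (.leaf 0)))))) (.node (.node (.node (.node (.node (.leaf 14) (.leaf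 6)) (.node (.leaf 1) (.leaf 0))) (.node (.node (.leaf 11) (.leaf 7)) (.node (.leaf 8) (.leaf 0)))) (.node (.node (.node (.leaf 11) (.leaf 0)) (.node (.leaf 9) (.leaf 0))) (.node (.node (.leaf 15) (.leaf 9)) (.node (.leaf 13) (.leaf 0))))) (.node (.node (.node (.node (.leaf 0) (.leaf 7)) (.node (.leaf 3) (.leaf 0))) (.node (.node (.leaf 5) (.leaf 15)) (.node (.leaf 8) (.leaf 0)))) (.node (.node (.node (.leaf 10) (.leaf 0)) (.node (.leaf 8) (.leaf 0))) (.node (.node (.leaf 12) (.leaf 11)) (.node (.leaf 1) (.leaf 0))))))) (.node (.node (.node (.node (.node (.node (.leaf 6) (.leaf 12)) (.node (.leaf 7) (.leaf 0))) (.node (.node (.leaf 9) (.leaf 15)) (.node (.leaf 3) (.leaf 0)))) (.node (.node (.node (.leaf 3) (.leaf 0)) (.node (.leaf 6) (.leaf 0))) (.node (.node (.leaf 3) (.leaf 11)) (.leaf 0)))) (.node (.node (.node (.node (.leaf 10) (.leaf 9)) (.node (.leaf 6) (.leaf 0))) (.node (.node (.leaf 14) (.leaf 7)) (.node (.leaf 2) (.leaf 0)))) (.node (.node (.node (.leaf 9) (.leaf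 0)) (.node (.leaf 4) (.leaf 0))) (.node (.node (.leaf 5) (.leaf 9)) (.node (.leaf 10) (.leaf 0)))))) (.node (.node (.node (.node (.node (.leaf 3) (.leaf 12)) (.node (.leaf 10) (.leaf 0))) (.node (.node (.leaf 9) (.leaf 4)) (.node (.leaf 1) (.leaf 0)))) (.node (.node (.node (.leaf 14) (.leaf 0)) (.node (.leaf 10) (.leaf 0))) (.node (.node (.leaf 1) (.leaf 6)) (.node (.leaf 3) (.leaf 0))))) (.node (.node (.node (.node (.leaf 4) (.leaf 15)) (.node (.leaf 10) (.leaf 0))) (.node (.node (.leaf 11) (.leaf 1)) (.node (.leaf 6) (.leaf 0)))) (.node (.node (.node (.leaf 10) (.leaf 0)) (.node (.leaf 3) (.leaf 0))) (.node (.node (.leaf 5) (.leaf 9)) (.node (.leaf 6) (.leaf 0))))))))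

/-- Classes modulo the first ideal, part 20. -/
def clsAPart20 : Tree :=
  .node (.node (.node (.node (.node (.node (.node (.node (.leaf 9) (.leaf 8)) (.node (.leaf 2) (.leaf 0))) (.node (.node (.leaf 2) (.leaf 0)) (.node (.leaf 15) (.leaf 0)))) (.node (.node (.node (.leaf 7) (.leaf 4)) (.node (.leaf 7) (.leaf 0))) (.node (.leaf 4) (.leaf 0)))) (.node (.node (.node (.node (.leaf 5) (.leaf 11)) (.node (.leaf 15) (.leaf 0))) (.node (.node (.leaf 1) (.leaf 5)) (.node (.leaf 8) (.leaf 0)))) (.node (.node (.node (.leaf 12) (.leaf 0)) (.node (.leaf 4) (.leaf 0))) (.node (.node (.leaf 9) (.leaf 3)) (.node (.leaf 2) (.leaf 0)))))) (.node (.node (.node (.node (.node (.leaf 6) (.leaf 15)) (.node (.leaf 5) (.leaf 0))) (.node (.node (.leaf 1) (.leaf 5)) (.node (.leaf 15) (.leaf 0)))) (.node (.node (.node (.leaf 14) (.leaf 0)) (.node (.leaf 6) (.leaf 0))) (.node (.node (.leaf 7) (.leaf 9)) (.node (.leaf 15) (.leaf 0))))) (.node (.node (.node (.node (.leaf 0) (.leaf 15)) (.node (.leaf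 5) (.leaf 0))) (.node (.node (.leaf 13) (.leaf 7)) (.node (.leaf 12) (.leaf 0)))) (.node (.node (.node (.leaf 6) (.leaf 0)) (.node (.leaf 7) (.leaf 0))) (.node (.node (.leaf 12) (.leaf 7)) (.node (.leaf 9) (.leaf 0))))))) (.node (.node (.node (.node (.node (.node (.leaf 3) (.leaf 7)) (.node (.leaf 14) (.leaf 0))) (.node (.node (.leaf 7) (.leaf 13)) (.node (.leaf 1) (.leaf 0)))) (.node (.node (.node (.leaf 6) (.leaf 0)) (.node (.leaf 9) (.leaf 0))) (.node (.node (.leaf 9) (.leaf 10)) (.leaf 0)))) (.node (.node (.node (.node (.leaf 11) (.leaf 9)) (.node (.leaf 9) (.leaf 0))) (.node (.node (.leaf 8) (.leaf 15)) (.node (.leaf 14) (.leaf 0)))) (.node (.node (.node (.leaf 8) (.leaf 0)) (.node (.leaf 4) (.leaf 0))) (.node (.node (.leaf 7) (.leaf 4)) (.node (.leaf 13) (.leaf 0)))))) (.node (.node (.node (.node (.node (.leaf 12) (.leaf 9)) (.node (.leaf 11) (.leaf 0))) (.node (.node (.leaf 14) (.leaf 6)) (.node (.leaf 5) (.leaf 0)))) (.node (.node (.node (.leaf 11) (.leaf 0)) (.node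 (.leaf 12) (.leaf 0))) (.node (.node (.leaf 4) (.leaf 3)) (.node (.leaf 14) (.leaf 0))))) (.node (.node (.node (.node (.leaf 0) (.leaf 7)) (.node (.leaf 15) (.leaf 0))) (.node (.node (.leaf 15) (.leaf 4)) (.node (.leaf 3) (.leaf 0)))) (.node (.node (.node (.leaf 10) (.leaf 0)) (.node (.leaf 11) (.leaf 0))) (.node (.node (.leaf 11) (.leaf 4)) (.node (.leaf 10) (.leaf 0)))))))) (.node (.node (.node (.node (.node (.node (.node (.leaf 8) (.leaf 2)) (.node (.leaf 13) (.leaf 0))) (.node (.node (.leaf 11) (.leaf 9)) (.node (.leaf 2) (.leaf 0)))) (.node (.node (.node (.leaf 13) (.leaf 14)) (.node (.leaf 7) (.leaf 0))) (.node (.node (.leaf 6) (.leaf 7)) (.leaf 0)))) (.node (.node (.node (.node (.leaf 7) (.leaf 8)) (.node (.leaf 9) (.leaf 0))) (.node (.node (.leaf 3) (.leaf 14)) (.node (.leaf 8) (.leaf 0)))) (.node (.node (.node (.leaf 1) (.leaf 0)) (.node (.leaf 15) (.leaf 0))) (.node (.node (.leaf 13) (.leaf 6)) (.node (.leaf 7) (.leaf 0)))))) (.node (.node (.node (.node (.leaf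 9) (.node (.leaf 7) (.leaf 0))) (.node (.node (.leaf 11) (.leaf 15)) (.node (.leaf 6) (.leaf 0)))) (.node (.node (.node (.leaf 13) (.leaf 0)) (.node (.leaf 3) (.leaf 0))) (.node (.node (.leaf 15) (.leaf 8)) (.node (.leaf 4) (.leaf 0))))) (.node (.node (.node (.node (.leaf 0) (.leaf 5)) (.node (.leaf 6) (.leaf 0))) (.node (.node (.leaf 13) (.leaf 15)) (.node (.leaf 9) (.leaf 0)))) (.node (.node (.node (.leaf 6) (.leaf 0)) (.node (.leaf 2) (.leaf 0))) (.node (.node (.leaf 4) (.leaf 5)) (.node (.leaf 3) (.leaf 0))))))) (.node (.node (.node (.node (.node (.node (.leaf 1) (.leaf 5)) (.node (.leaf 8) (.leaf 0))) (.node (.node (.leaf 8) (.leaf 7)) (.node (.leaf 10) (.leaf 0)))) (.node (.node (.node (.leaf 1) (.leaf 0)) (.node (.leaf 6) (.leaf 0))) (.node (.node (.leaf 12) (.leaf 1)) (.leaf 0)))) (.node (.node (.node (.node (.leaf 0) (.leaf 14)) (.node (.leaf 3) (.leaf 0))) (.node (.node (.leaf 11) (.leaf 5)) (.node (.leaf 4) (.leaf 0)))) (.node (.node (.node (.leaf 1) (.leaf 0))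 (.node (.leaf 10) (.leaf 0))) (.node (.node (.leaf 5) (.leaf 12)) (.node (.leaf 6) (.leaf 0)))))) (.node (.node (.node (.node (.node (.leaf 8) (.leaf 7)) (.node (.leaf 5) (.leaf 0))) (.node (.node (.leaf 12) (.leaf 1)) (.node (.leaf 2) (.leaf 0)))) (.node (.node (.node (.leaf 14) (.leaf 0)) (.node (.leaf 11) (.leaf 0))) (.node (.node (.leaf 14) (.leaf 1)) (.node (.leaf 12) (.leaf 0))))) (.node (.node (.node (.node (.leaf 2) (.leaf 15)) (.node (.leaf 4) (.leaf 0))) (.node (.node (.leaf 10) (.leaf 14)) (.node (.leaf 10) (.leaf 0)))) (.node (.node (.node (.leaf 12) (.leaf 0)) (.node (.leaf 5) (.leaf 0))) (.node (.node (.leaf 7) (.leaf 0)) (.node (.leaf 13) (.leaf 0))))))))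

/-- Classes modulo the first ideal, part 12. -/
def clsAPart12 : Tree :=
  .node (.node (.node (.node (.node (.node (.node (.node (.leaf 4) (.leaf 1)) (.node (.leaf 2) (.leaf 0))) (.node (.node (.leaf 9) (.leaf 0)) (.node (.leaf 5) (.leaf 0)))) (.node (.node (.node (.leaf 6) (.leaf 12)) (.node (.leaf 13) (.leaf 0))) (.node (.node (.leaf 5) (.leaf 3)) (.node (.leaf 7) (.leaf 0))))) (.node (.node (.node (.node (.leaf 15) (.leaf 9)) (.node (.leaf 10) (.leaf 0))) (.node (.node (.leaf 3) (.leaf 4)) (.node (.leaf 11) (.leaf 0)))) (.node (.node (.node (.leaf 10) (.leaf 0)) (.node (.leaf 3) (.leaf 0))) (.node (.node (.leaf 5) (.leaf 10)) (.node (.leaf 7) (.leaf 0)))))) (.node (.node (.node (.node (.node (.leaf 4) (.leaf 10)) (.node (.leaf 15) (.leaf 0))) (.node (.node (.leaf 8) (.leaf 2)) (.node (.leaf 6) (.leaf 0)))) (.node (.node (.node (.leaf 14) (.leaf 0)) (.node (.leaf 7) (.leaf 0))) (.node (.node (.leaf 2) (.leaf 4)) (.node (.leaf 11) (.leaf 0))))) (.node (.node (.node (.node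 (.leaf 0) (.leaf 15)) (.node (.leaf 11) (.leaf 0))) (.node (.node (.leaf 7) (.leaf 4)) (.node (.leaf 13) (.leaf 0)))) (.node (.node (.node (.leaf 14) (.leaf 0)) (.node (.leaf 3) (.leaf 0))) (.node (.node (.leaf 8) (.leaf 7)) (.node (.leaf 12) (.leaf 0))))))) (.node (.node (.node (.node (.node (.node (.leaf 10) (.leaf 13)) (.node (.leaf 13) (.leaf 0))) (.node (.node (.leaf 7) (.leaf 13)) (.node (.leaf 8) (.leaf 0)))) (.node (.node (.node (.leaf 7) (.leaf 0)) (.node (.leaf 14) (.leaf 0))) (.node (.node (.leaf 10) (.leaf 9)) (.leaf 0)))) (.node (.node (.node (.node (.leaf 8) (.leaf 11)) (.node (.leaf 13) (.leaf 0))) (.node (.node (.leaf 8) (.leaf 15)) (.node (.leaf 8) (.leaf 0)))) (.node (.node (.node (.leaf 15) (.leaf 0)) (.node (.leaf 13) (.leaf 0))) (.node (.node (.leaf 11) (.leaf 2)) (.node (.leaf 5) (.leaf 0)))))) (.node (.node (.node (.node (.node (.leaf 7) (.leaf 13)) (.node (.leaf 8) (.leaf 0))) (.node (.node (.leaf 13) (.leaf 10)) (.node (.leaf 5) (.leaf 0)))) (.node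 (.node (.node (.leaf 12) (.leaf 0)) (.node (.leaf 6) (.leaf 0))) (.node (.node (.leaf 12) (.leaf 10)) (.node (.leaf 12) (.leaf 0))))) (.node (.node (.node (.node (.leaf 0) (.leaf 4)) (.node (.leaf 15) (.leaf 0))) (.node (.node (.leaf 13) (.leaf 12)) (.node (.leaf 4) (.leaf 0)))) (.node (.node (.node (.leaf 5) (.leaf 0)) (.node (.leaf 11) (.leaf 0))) (.node (.node (.leaf 6) (.leaf 1)) (.node (.leaf 11) (.leaf 0)))))))) (.node (.node (.node (.node (.node (.node (.node (.leaf 7) (.leaf 14)) (.node (.leaf 7) (.leaf 0))) (.node (.node (.leaf 9) (.leaf 5)) (.node (.leaf 3) (.leaf 0)))) (.node (.node (.node (.leaf 5) (.leaf 9)) (.node (.leaf 9) (.leaf 0))) (.node (.node (.leaf 4) (.leaf 9)) (.leaf 0)))) (.node (.node (.node (.node (.leaf 1) (.leaf 13)) (.node (.leaf 1) (.leaf 0))) (.node (.leaf 13) (.node (.leaf 3) (.leaf 0)))) (.node (.node (.node (.leaf 3) (.leaf 0)) (.node (.leaf 9) (.leaf 0))) (.node (.node (.leaf 13) (.leaf 12)) (.node (.leaf 6) (.leaf 0)))))) (.node (.node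 (.node (.node (.node (.leaf 10) (.leaf 1)) (.node (.leaf 1) (.leaf 0))) (.node (.node (.leaf 9) (.leaf 1)) (.node (.leaf 8) (.leaf 0)))) (.node (.node (.node (.leaf 4) (.leaf 0)) (.node (.leaf 7) (.leaf 0))) (.node (.node (.leaf 5) (.leaf 7)) (.node (.leaf 14) (.leaf 0))))) (.node (.node (.node (.node (.leaf 0) (.leaf 10)) (.node (.leaf 4) (.leaf 0))) (.node (.node (.leaf 9) (.leaf 5)) (.node (.leaf 12) (.leaf 0)))) (.node (.node (.node (.leaf 5) (.leaf 0)) (.node (.leaf 3) (.leaf 0))) (.node (.node (.leaf 1) (.leaf 8)) (.node (.leaf 4) (.leaf 0))))))) (.node (.node (.node (.node (.node (.node (.leaf 1) (.leaf 14)) (.node (.leaf 6) (.leaf 0))) (.node (.leaf 11) (.node (.leaf 4) (.leaf 0)))) (.node (.node (.node (.leaf 8) (.leaf 0)) (.node (.leaf 4) (.leaf 0))) (.node (.node (.leaf 7) (.leaf 6)) (.leaf 0)))) (.node (.node (.node (.node (.leaf 0) (.leaf 13)) (.node (.leaf 12) (.leaf 0))) (.node (.node (.leaf 2) (.leaf 10)) (.node (.leaf 11) (.leaf 0)))) (.node (.node (.node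 (.leaf 12) (.leaf 0)) (.node (.leaf 14) (.leaf 0))) (.node (.node (.leaf 2) (.leaf 11)) (.node (.leaf 7) (.leaf 0)))))) (.node (.node (.node (.node (.node (.leaf 2) (.leaf 11)) (.node (.leaf 14) (.leaf 0))) (.node (.node (.leaf 10) (.leaf 15)) (.node (.leaf 7) (.leaf 0)))) (.node (.node (.node (.leaf 13) (.leaf 0)) (.node (.leaf 3) (.leaf 0))) (.node (.node (.leaf 9) (.leaf 1)) (.node (.leaf 1) (.leaf 0))))) (.node (.node (.node (.node (.leaf 7) (.leaf 5)) (.node (.leaf 6) (.leaf 0))) (.node (.node (.leaf 7) (.leaf 9)) (.node (.leaf 11) (.leaf 0)))) (.node (.node (.node (.leaf 15) (.leaf 0)) (.node (.leaf 2) (.leaf 0))) (.node (.node (.leaf 6) (.leaf 0)) (.node (.leaf 7) (.leaf 0))))))))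

/-- Classes modulo the first ideal, part 28. -/
def clsAPart28 : Tree :=
  .node (.node (.node (.node (.node (.node (.node (.node (.leaf 12) (.leaf 8)) (.node (.leaf 2) (.leaf 0))) (.node (.node (.leaf 4) (.leaf 0)) (.node (.leaf 12) (.leaf 0)))) (.node (.node (.node (.leaf 13) (.leaf 15)) (.node (.leaf 6) (.leaf 0))) (.node (.node (.leaf 1) (.leaf 9)) (.leaf 0)))) (.node (.node (.node (.node (.leaf 5) (.leaf 8)) (.node (.leaf 12) (.leaf 0))) (.node (.node (.leaf 12) (.leaf 5)) (.node (.leaf 10) (.leaf 0)))) (.node (.node (.node (.leaf 14) (.leaf 0)) (.node (.leaf 6) (.leaf 0))) (.node (.node (.leaf 13) (.leaf 10)) (.node (.leaf 2) (.leaf 0)))))) (.node (.node (.node (.node (.node (.leaf 4) (.leaf 12)) (.node (.leaf 5) (.leaf 0))) (.node (.leaf 4) (.node (.leaf 10) (.leaf 0)))) (.node (.node (.node (.leaf 2) (.leaf 0)) (.node (.leaf 12) (.leaf 0))) (.node (.node (.leaf 1) (.leaf 12)) (.node (.leaf 14) (.leaf 0))))) (.node (.node (.node (.node (.leaf 0) (.leaf 11)) (.node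 (.leaf 2) (.leaf 0))) (.node (.node (.leaf 12) (.leaf 1)) (.node (.leaf 15) (.leaf 0)))) (.node (.node (.node (.leaf 11) (.leaf 0)) (.node (.leaf 12) (.leaf 0))) (.node (.leaf 9) (.node (.leaf 12) (.leaf 0))))))) (.node (.node (.node (.node (.node (.node (.leaf 11) (.leaf 13)) (.node (.leaf 10) (.leaf 0))) (.node (.node (.leaf 7) (.leaf 15)) (.node (.leaf 12) (.leaf 0)))) (.node (.node (.node (.leaf 13) (.leaf 0)) (.node (.leaf 10) (.leaf 0))) (.node (.node (.leaf 15) (.leaf 3)) (.leaf 0)))) (.node (.node (.node (.node (.leaf 8) (.leaf 5)) (.node (.leaf 11) (.leaf 0))) (.node (.node (.leaf 14) (.leaf 11)) (.node (.leaf 14) (.leaf 0)))) (.node (.node (.node (.leaf 12) (.leaf 0)) (.node (.leaf 6) (.leaf 0))) (.node (.node (.leaf 10) (.leaf 13)) (.node (.leaf 14) (.leaf 0)))))) (.node (.node (.node (.node (.node (.leaf 8) (.leaf 11)) (.node (.leaf 8) (.leaf 0))) (.node (.node (.leaf 4) (.leaf 12)) (.node (.leaf 1) (.leaf 0)))) (.node (.node (.node (.leaf 15) (.leaf 0)) (.node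 (.leaf 3) (.leaf 0))) (.node (.node (.leaf 15) (.leaf 11)) (.node (.leaf 15) (.leaf 0))))) (.node (.node (.node (.node (.leaf 0) (.leaf 1)) (.node (.leaf 9) (.leaf 0))) (.node (.leaf 15) (.node (.leaf 14) (.leaf 0)))) (.node (.node (.node (.leaf 3) (.leaf 0)) (.node (.leaf 11) (.leaf 0))) (.node (.node (.leaf 10) (.leaf 11)) (.node (.leaf 5) (.leaf 0)))))))) (.node (.node (.node (.node (.node (.node (.leaf 11) (.node (.leaf 8) (.leaf 0))) (.node (.node (.leaf 12) (.leaf 13)) (.node (.leaf 14) (.leaf 0)))) (.node (.node (.node (.leaf 14) (.leaf 4)) (.node (.leaf 3) (.leaf 0))) (.node (.node (.leaf 4) (.leaf 8)) (.leaf 0)))) (.node (.node (.node (.node (.leaf 2) (.leaf 1)) (.node (.leaf 2) (.leaf 0))) (.node (.node (.leaf 8) (.leaf 13)) (.node (.leaf 1) (.leaf 0)))) (.node (.node (.node (.leaf 12) (.leaf 0)) (.node (.leaf 15) (.leaf 0))) (.node (.node (.leaf 15) (.leaf 1)) (.node (.leaf 13) (.leaf 0)))))) (.node (.node (.node (.node (.node (.leaf 15) (.leaf 2)) (.node (.leaf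 2) (.leaf 0))) (.node (.node (.leaf 15) (.leaf 5)) (.node (.leaf 5) (.leaf 0)))) (.node (.node (.node (.leaf 7) (.leaf 0)) (.node (.leaf 14) (.leaf 0))) (.node (.node (.leaf 10) (.leaf 11)) (.node (.leaf 9) (.leaf 0))))) (.node (.node (.node (.node (.leaf 0) (.leaf 2)) (.node (.leaf 2) (.leaf 0))) (.node (.node (.leaf 14) (.leaf 10)) (.node (.leaf 12) (.leaf 0)))) (.node (.node (.node (.leaf 7) (.leaf 0)) (.node (.leaf 10) (.leaf 0))) (.node (.node (.leaf 3) (.leaf 13)) (.node (.leaf 14) (.leaf 0))))))) (.node (.node (.node (.node (.node (.node (.leaf 1) (.leaf 10)) (.node (.leaf 6) (.leaf 0))) (.node (.node (.leaf 5) (.leaf 10)) (.node (.leaf 1) (.leaf 0)))) (.node (.node (.node (.leaf 8) (.leaf 0)) (.node (.leaf 2) (.leaf 0))) (.node (.node (.leaf 8) (.leaf 1)) (.leaf 0)))) (.node (.node (.node (.node (.leaf 0) (.leaf 13)) (.node (.leaf 10) (.leaf 0))) (.node (.node (.leaf 4) (.leaf 2)) (.node (.leaf 13) (.leaf 0)))) (.node (.node (.node (.leaf 4) (.leaf 0)) (.node (.leaf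 9) (.leaf 0))) (.node (.node (.leaf 4) (.leaf 11)) (.node (.leaf 15) (.leaf 0)))))) (.node (.node (.node (.node (.node (.leaf 6) (.leaf 7)) (.node (.leaf 10) (.leaf 0))) (.node (.node (.leaf 14) (.leaf 9)) (.node (.leaf 12) (.leaf 0)))) (.node (.node (.node (.leaf 4) (.leaf 0)) (.node (.leaf 5) (.leaf 0))) (.node (.node (.leaf 4) (.leaf 14)) (.node (.leaf 13) (.leaf 0))))) (.node (.node (.node (.node (.leaf 2) (.leaf 10)) (.node (.leaf 6) (.leaf 0))) (.node (.node (.leaf 5) (.leaf 4)) (.node (.leaf 5) (.leaf 0)))) (.node (.node (.node (.leaf 6) (.leaf 0)) (.node (.leaf 13) (.leaf 0))) (.node (.node (.leaf 4) (.leaf 0)) (.node (.leaf 3) (.leaf 0))))))))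

/-- Classes modulo the first ideal, part 2. -/
def clsAPart2 : Tree :=
  .node (.node (.node (.node (.node (.node (.node (.node (.leaf 2) (.leaf 10)) (.node (.leaf 10) (.leaf 0))) (.node (.node (.leaf 11) (.leaf 0)) (.node (.leaf 8) (.leaf 0)))) (.node (.node (.node (.leaf 7) (.leaf 14)) (.node (.leaf 12) (.leaf 0))) (.node (.node (.leaf 3) (.leaf 12)) (.node (.leaf 12) (.leaf 0))))) (.node (.node (.node (.node (.leaf 4) (.leaf 11)) (.node (.leaf 2) (.leaf 0))) (.node (.node (.leaf 11) (.leaf 12)) (.node (.leaf 2) (.leaf 0)))) (.node (.node (.node (.leaf 1) (.leaf 0)) (.node (.leaf 8) (.leaf 0))) (.node (.node (.leaf 12) (.leaf 9)) (.node (.leaf 5) (.leaf 0)))))) (.node (.node (.node (.node (.node (.leaf 3) (.leaf 2)) (.node (.leaf 4) (.leaf 0))) (.node (.node (.leaf 13) (.leaf 7)) (.node (.leaf 2) (.leaf 0)))) (.node (.node (.node (.leaf 14) (.leaf 0)) (.node (.leaf 5) (.leaf 0))) (.node (.node (.leaf 4) (.leaf 2)) (.leaf 0)))) (.node (.node (.node (.node (.leaf 0) (.leaf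 15)) (.node (.leaf 9) (.leaf 0))) (.node (.node (.leaf 11) (.leaf 1)) (.node (.leaf 6) (.leaf 0)))) (.node (.node (.node (.leaf 11) (.leaf 0)) (.node (.leaf 2) (.leaf 0))) (.node (.node (.leaf 15) (.leaf 11)) (.node (.leaf 6) (.leaf 0))))))) (.node (.node (.node (.node (.node (.node (.leaf 8) (.leaf 3)) (.node (.leaf 5) (.leaf 0))) (.node (.node (.leaf 4) (.leaf 3)) (.node (.leaf 13) (.leaf 0)))) (.node (.node (.node (.leaf 2) (.leaf 12)) (.node (.leaf 11) (.leaf 0))) (.node (.node (.leaf 8) (.leaf 13)) (.leaf 0)))) (.node (.node (.node (.node (.leaf 6) (.leaf 7)) (.node (.leaf 15) (.leaf 0))) (.node (.node (.leaf 6) (.leaf 15)) (.node (.leaf 10) (.leaf 0)))) (.node (.node (.node (.leaf 10) (.leaf 0)) (.node (.leaf 1) (.leaf 0))) (.node (.node (.leaf 14) (.leaf 7)) (.node (.leaf 4) (.leaf 0)))))) (.node (.node (.node (.node (.node (.leaf 11) (.leaf 15)) (.node (.leaf 6) (.leaf 0))) (.node (.node (.leaf 5) (.leaf 8)) (.node (.leaf 9) (.leaf 0)))) (.node (.node (.node (.leaf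 15) (.leaf 0)) (.node (.leaf 8) (.leaf 0))) (.node (.node (.leaf 14) (.leaf 8)) (.node (.leaf 12) (.leaf 0))))) (.node (.node (.node (.node (.leaf 0) (.leaf 1)) (.node (.leaf 13) (.leaf 0))) (.node (.node (.leaf 12) (.leaf 14)) (.node (.leaf 5) (.leaf 0)))) (.node (.node (.node (.leaf 14) (.leaf 0)) (.node (.leaf 12) (.leaf 0))) (.node (.node (.leaf 7) (.leaf 15)) (.node (.leaf 2) (.leaf 0)))))))) (.node (.node (.node (.node (.node (.node (.node (.leaf 6) (.leaf 12)) (.node (.leaf 6) (.leaf 0))) (.node (.node (.leaf 14) (.leaf 0)) (.node (.leaf 6) (.leaf 0)))) (.node (.node (.node (.leaf 4) (.leaf 7)) (.node (.leaf 1) (.leaf 0))) (.node (.node (.leaf 3) (.leaf 10)) (.leaf 0)))) (.node (.node (.node (.node (.leaf 10) (.leaf 12)) (.node (.leaf 2) (.leaf 0))) (.node (.node (.leaf 10) (.leaf 1)) (.node (.leaf 12) (.leaf 0)))) (.node (.node (.node (.leaf 11) (.leaf 0)) (.node (.leaf 8) (.leaf 0))) (.node (.node (.leaf 3) (.leaf 13)) (.node (.leaf 7) (.leaf 0)))))) (.node (.node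 (.node (.node (.node (.leaf 8) (.leaf 2)) (.node (.leaf 10) (.leaf 0))) (.node (.node (.leaf 3) (.leaf 6)) (.node (.leaf 4) (.leaf 0)))) (.node (.node (.node (.leaf 3) (.leaf 0)) (.node (.leaf 5) (.leaf 0))) (.node (.node (.leaf 8) (.leaf 6)) (.node (.leaf 5) (.leaf 0))))) (.node (.node (.node (.node (.leaf 0) (.leaf 9)) (.node (.leaf 5) (.leaf 0))) (.node (.node (.leaf 4) (.leaf 8)) (.node (.leaf 6) (.leaf 0)))) (.node (.node (.node (.leaf 1) (.leaf 0)) (.node (.leaf 1) (.leaf 0))) (.node (.node (.leaf 1) (.leaf 2)) (.node (.leaf 5) (.leaf 0))))))) (.node (.node (.node (.node (.node (.node (.leaf 5) (.leaf 6)) (.node (.leaf 9) (.leaf 0))) (.node (.node (.leaf 9) (.leaf 14)) (.node (.leaf 15) (.leaf 0)))) (.node (.node (.node (.leaf 15) (.leaf 0)) (.node (.leaf 3) (.leaf 0))) (.node (.node (.leaf 11) (.leaf 13)) (.leaf 0)))) (.node (.node (.node (.node (.leaf 9) (.leaf 1)) (.node (.leaf 7) (.leaf 0))) (.node (.node (.leaf 1) (.leaf 9)) (.node (.leaf 9) (.leaf 0)))) (.node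 (.node (.node (.leaf 11) (.leaf 0)) (.node (.leaf 14) (.leaf 0))) (.node (.node (.leaf 7) (.leaf 10)) (.node (.leaf 2) (.leaf 0)))))) (.node (.node (.node (.node (.node (.leaf 4) (.leaf 13)) (.node (.leaf 9) (.leaf 0))) (.node (.node (.leaf 1) (.leaf 15)) (.node (.leaf 15) (.leaf 0)))) (.node (.node (.node (.leaf 5) (.leaf 0)) (.node (.leaf 4) (.leaf 0))) (.node (.node (.leaf 7) (.leaf 5)) (.node (.leaf 3) (.leaf 0))))) (.node (.node (.node (.node (.leaf 5) (.leaf 8)) (.node (.leaf 8) (.leaf 0))) (.node (.node (.leaf 6) (.leaf 7)) (.node (.leaf 2) (.leaf 0)))) (.node (.node (.node (.leaf 15) (.leaf 0)) (.node (.leaf 3) (.leaf 0))) (.node (.node (.leaf 15) (.leaf 7)) (.node (.leaf 12) (.leaf 0))))))))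

/-- Classes modulo the first ideal, part 18. -/
def clsAPart18 : Tree :=
  .node (.node (.node (.node (.node (.node (.node (.node (.leaf 6) (.leaf 10)) (.node (.leaf 14) (.leaf 0))) (.node (.node (.leaf 10) (.leaf 0)) (.node (.leaf 4) (.leaf 0)))) (.node (.node (.node (.leaf 11) (.leaf 15)) (.node (.leaf 5) (.leaf 0))) (.node (.node (.leaf 3) (.leaf 5)) (.leaf 0)))) (.node (.node (.node (.node (.leaf 4) (.leaf 2)) (.node (.leaf 13) (.leaf 0))) (.node (.node (.leaf 10) (.leaf 12)) (.node (.leaf 14) (.leaf 0)))) (.node (.node (.node (.leaf 14) (.leaf 0)) (.node (.leaf 14) (.leaf 0))) (.node (.node (.leaf 1) (.leaf 2)) (.node (.leaf 7) (.leaf 0)))))) (.node (.node (.node (.node (.node (.leaf 7) (.leaf 13)) (.node (.leaf 4) (.leaf 0))) (.node (.node (.leaf 10) (.leaf 1)) (.node (.leaf 4) (.leaf 0)))) (.node (.node (.node (.leaf 1) (.leaf 0)) (.node (.leaf 13) (.leaf 0))) (.node (.leaf 6) (.node (.leaf 2) (.leaf 0))))) (.node (.node (.node (.node (.leaf 0) (.leaf 14)) (.node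 (.leaf 8) (.leaf 0))) (.node (.node (.leaf 15) (.leaf 6)) (.node (.leaf 6) (.leaf 0)))) (.node (.node (.node (.leaf 2) (.leaf 0)) (.node (.leaf 4) (.leaf 0))) (.node (.node (.leaf 1) (.leaf 11)) (.node (.leaf 11) (.leaf 0))))))) (.node (.node (.node (.node (.node (.node (.leaf 13) (.leaf 6)) (.node (.leaf 12) (.leaf 0))) (.node (.node (.leaf 1) (.leaf 15)) (.node (.leaf 13) (.leaf 0)))) (.node (.node (.node (.leaf 2) (.leaf 0)) (.node (.leaf 11) (.leaf 0))) (.node (.node (.leaf 7) (.leaf 15)) (.leaf 0)))) (.node (.node (.node (.node (.leaf 9) (.leaf 7)) (.node (.leaf 10) (.leaf 0))) (.node (.leaf 14) (.node (.leaf 12) (.leaf 0)))) (.node (.node (.node (.leaf 6) (.leaf 0)) (.node (.leaf 14) (.leaf 0))) (.node (.node (.leaf 9) (.leaf 15)) (.node (.leaf 1) (.leaf 0)))))) (.node (.node (.node (.node (.node (.leaf 14) (.leaf 10)) (.node (.leaf 9) (.leaf 0))) (.node (.node (.leaf 5) (.leaf 14)) (.node (.leaf 1) (.leaf 0)))) (.node (.node (.node (.leaf 9) (.leaf 0)) (.node (.leaf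 13) (.leaf 0))) (.node (.node (.leaf 15) (.leaf 13)) (.node (.leaf 4) (.leaf 0))))) (.node (.node (.node (.node (.leaf 0) (.leaf 6)) (.node (.leaf 13) (.leaf 0))) (.node (.node (.leaf 4) (.leaf 15)) (.node (.leaf 11) (.leaf 0)))) (.node (.node (.node (.leaf 15) (.leaf 0)) (.node (.leaf 15) (.leaf 0))) (.node (.node (.leaf 12) (.leaf 7)) (.node (.leaf 1) (.leaf 0)))))))) (.node (.node (.node (.node (.node (.node (.node (.leaf 13) (.leaf 9)) (.node (.leaf 3) (.leaf 0))) (.node (.node (.leaf 14) (.leaf 1)) (.node (.leaf 3) (.leaf 0)))) (.node (.node (.node (.leaf 1) (.leaf 12)) (.node (.leaf 5) (.leaf 0))) (.node (.node (.leaf 7) (.leaf 10)) (.leaf 0)))) (.node (.node (.node (.node (.leaf 3) (.leaf 15)) (.node (.leaf 7) (.leaf 0))) (.node (.node (.leaf 15) (.leaf 3)) (.node (.leaf 10) (.leaf 0)))) (.node (.node (.node (.leaf 10) (.leaf 0)) (.node (.leaf 7) (.leaf 0))) (.node (.node (.leaf 15) (.leaf 2)) (.node (.leaf 11) (.leaf 0)))))) (.node (.node (.node (.node (.leaf 7)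 (.node (.leaf 3) (.leaf 0))) (.node (.node (.leaf 9) (.leaf 8)) (.node (.leaf 14) (.leaf 0)))) (.node (.node (.node (.leaf 11) (.leaf 0)) (.node (.leaf 8) (.leaf 0))) (.node (.node (.leaf 8) (.leaf 13)) (.node (.leaf 11) (.leaf 0))))) (.node (.node (.node (.node (.leaf 0) (.leaf 7)) (.node (.leaf 8) (.leaf 0))) (.node (.node (.leaf 12) (.leaf 8)) (.node (.leaf 11) (.leaf 0)))) (.node (.node (.node (.leaf 12) (.leaf 0)) (.node (.leaf 1) (.leaf 0))) (.node (.node (.leaf 3) (.leaf 12)) (.node (.leaf 11) (.leaf 0))))))) (.node (.node (.node (.node (.node (.node (.leaf 5) (.leaf 9)) (.node (.leaf 10) (.leaf 0))) (.node (.node (.leaf 6) (.leaf 9)) (.node (.leaf 1) (.leaf 0)))) (.node (.node (.node (.leaf 6) (.leaf 0)) (.node (.leaf 3) (.leaf 0))) (.node (.node (.leaf 14) (.leaf 2)) (.leaf 0)))) (.node (.node (.node (.node (.leaf 0) (.leaf 3)) (.node (.leaf 9) (.leaf 0))) (.node (.node (.leaf 3) (.leaf 7)) (.node (.leaf 3) (.leaf 0)))) (.node (.node (.node (.leaf 5) (.leaf 0))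 (.node (.leaf 9) (.leaf 0))) (.node (.node (.leaf 1) (.leaf 13)) (.node (.leaf 2) (.leaf 0)))))) (.node (.node (.node (.node (.node (.leaf 10) (.leaf 11)) (.node (.leaf 9) (.leaf 0))) (.node (.node (.leaf 14) (.leaf 7)) (.node (.leaf 6) (.leaf 0)))) (.node (.node (.node (.leaf 5) (.leaf 0)) (.node (.leaf 4) (.leaf 0))) (.node (.node (.leaf 12) (.leaf 5)) (.node (.leaf 5) (.leaf 0))))) (.node (.node (.node (.node (.leaf 7) (.leaf 8)) (.node (.leaf 12) (.leaf 0))) (.node (.node (.leaf 9) (.leaf 12)) (.node (.leaf 1) (.leaf 0)))) (.node (.node (.node (.leaf 6) (.leaf 0)) (.node (.leaf 9) (.leaf 0))) (.node (.node (.leaf 15) (.leaf 0)) (.node (.leaf 12) (.leaf 0))))))))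

/-- Classes modulo the first ideal, part 10. -/
def clsAPart10 : Tree :=
  .node (.node (.node (.node (.node (.node (.node (.node (.leaf 5) (.leaf 6)) (.node (.leaf 7) (.leaf 0))) (.node (.node (.leaf 7) (.leaf 0)) (.node (.leaf 14) (.leaf 0)))) (.node (.node (.node (.leaf 6) (.leaf 4)) (.node (.leaf 5) (.leaf 0))) (.node (.node (.leaf 1) (.leaf 2)) (.node (.leaf 15) (.leaf 0))))) (.node (.node (.node (.leaf 9) (.node (.leaf 15) (.leaf 0))) (.node (.node (.leaf 3) (.leaf 8)) (.node (.leaf 9) (.leaf 0)))) (.node (.node (.node (.leaf 12) (.leaf 0)) (.node (.leaf 5) (.leaf 0))) (.node (.node (.leaf 4) (.leaf 15)) (.node (.leaf 10) (.leaf 0)))))) (.node (.node (.node (.node (.node (.leaf 14) (.leaf 15)) (.node (.leaf 9) (.leaf 0))) (.node (.node (.leaf 15) (.leaf 3)) (.node (.leaf 6) (.leaf 0)))) (.node (.node (.node (.leaf 12) (.leaf 0)) (.node (.leaf 5) (.leaf 0))) (.node (.node (.leaf 1) (.leaf 5)) (.node (.leaf 9) (.leaf 0))))) (.node (.node (.node (.node (.leaf 0) (.leaf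 4)) (.node (.leaf 4) (.leaf 0))) (.node (.node (.leaf 6) (.leaf 3)) (.node (.leaf 15) (.leaf 0)))) (.node (.node (.node (.leaf 7) (.leaf 0)) (.node (.leaf 11) (.leaf 0))) (.node (.node (.leaf 6) (.leaf 1)) (.node (.leaf 1) (.leaf 0))))))) (.node (.node (.node (.node (.node (.node (.leaf 15) (.leaf 11)) (.node (.leaf 1) (.leaf 0))) (.node (.node (.leaf 11) (.leaf 12)) (.node (.leaf 13) (.leaf 0)))) (.node (.node (.node (.leaf 9) (.leaf 0)) (.node (.leaf 8) (.leaf 0))) (.node (.node (.leaf 9) (.leaf 8)) (.leaf 0)))) (.node (.node (.node (.node (.leaf 2) (.leaf 3)) (.node (.leaf 14) (.leaf 0))) (.node (.node (.leaf 10) (.leaf 4)) (.node (.leaf 14) (.leaf 0)))) (.node (.node (.node (.leaf 15) (.leaf 0)) (.node (.leaf 3) (.leaf 0))) (.node (.node (.leaf 6) (.leaf 10)) (.node (.leaf 5) (.leaf 0)))))) (.node (.node (.node (.node (.node (.leaf 4) (.leaf 14)) (.node (.leaf 2) (.leaf 0))) (.node (.node (.leaf 5) (.leaf 7)) (.node (.leaf 4) (.leaf 0)))) (.node (.node (.node (.leaf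 6) (.leaf 0)) (.node (.leaf 7) (.leaf 0))) (.node (.node (.leaf 4) (.leaf 15)) (.node (.leaf 14) (.leaf 0))))) (.node (.node (.node (.node (.leaf 0) (.leaf 3)) (.node (.leaf 7) (.leaf 0))) (.node (.node (.leaf 15) (.leaf 4)) (.node (.leaf 3) (.leaf 0)))) (.node (.node (.node (.leaf 9) (.leaf 0)) (.node (.leaf 2) (.leaf 0))) (.node (.node (.leaf 2) (.leaf 10)) (.node (.leaf 12) (.leaf 0)))))))) (.node (.node (.node (.node (.node (.node (.node (.leaf 10) (.leaf 1)) (.node (.leaf 11) (.leaf 0))) (.node (.node (.leaf 10) (.leaf 4)) (.node (.leaf 11) (.leaf 0)))) (.node (.node (.node (.leaf 5) (.leaf 9)) (.node (.leaf 5) (.leaf 0))) (.node (.node (.leaf 14) (.leaf 6)) (.leaf 0)))) (.node (.node (.node (.node (.leaf 15) (.leaf 13)) (.node (.leaf 11) (.leaf 0))) (.node (.leaf 12) (.node (.leaf 15) (.leaf 0)))) (.node (.node (.node (.leaf 3) (.leaf 0)) (.node (.leaf 13) (.leaf 0))) (.node (.node (.leaf 12) (.leaf 6)) (.node (.leaf 6) (.leaf 0)))))) (.node (.node (.node (.node (.node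 (.leaf 9) (.leaf 11)) (.node (.leaf 15) (.leaf 0))) (.node (.node (.leaf 7) (.leaf 11)) (.node (.leaf 10) (.leaf 0)))) (.node (.node (.node (.leaf 3) (.leaf 0)) (.node (.leaf 5) (.leaf 0))) (.node (.node (.leaf 8) (.leaf 10)) (.node (.leaf 5) (.leaf 0))))) (.node (.node (.node (.node (.leaf 0) (.leaf 9)) (.node (.leaf 14) (.leaf 0))) (.node (.node (.leaf 1) (.leaf 8)) (.node (.leaf 1) (.leaf 0)))) (.node (.node (.node (.leaf 15) (.leaf 0)) (.node (.leaf 4) (.leaf 0))) (.node (.node (.leaf 5) (.leaf 6)) (.node (.leaf 3) (.leaf 0))))))) (.node (.node (.node (.node (.node (.node (.leaf 2) (.leaf 14)) (.node (.leaf 2) (.leaf 0))) (.node (.node (.leaf 2) (.leaf 6)) (.node (.leaf 10) (.leaf 0)))) (.node (.node (.node (.leaf 10) (.leaf 0)) (.node (.leaf 12) (.leaf 0))) (.node (.node (.leaf 4) (.leaf 5)) (.leaf 0)))) (.node (.node (.node (.node (.leaf 0) (.leaf 12)) (.node (.leaf 13) (.leaf 0))) (.node (.leaf 9) (.node (.leaf 3) (.leaf 0)))) (.node (.node (.node (.leaf 1) (.leaf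 0)) (.node (.leaf 8) (.leaf 0))) (.node (.node (.leaf 3) (.leaf 14)) (.node (.leaf 9) (.leaf 0)))))) (.node (.node (.node (.node (.node (.leaf 1) (.leaf 4)) (.node (.leaf 14) (.leaf 0))) (.node (.node (.leaf 12) (.leaf 10)) (.node (.leaf 3) (.leaf 0)))) (.node (.node (.node (.leaf 5) (.leaf 0)) (.node (.leaf 9) (.leaf 0))) (.node (.node (.leaf 9) (.leaf 2)) (.node (.leaf 10) (.leaf 0))))) (.node (.node (.node (.node (.leaf 10) (.leaf 8)) (.node (.leaf 3) (.leaf 0))) (.node (.leaf 9) (.node (.leaf 12) (.leaf 0)))) (.node (.node (.node (.leaf 13) (.leaf 0)) (.node (.leaf 7) (.leaf 0))) (.node (.node (.leaf 12) (.leaf 0)) (.node (.leaf 15) (.leaf 0))))))))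

/-- Classes modulo the first ideal, part 26. -/
def clsAPart26 : Tree :=
  .node (.node (.node (.node (.node (.node (.node (.node (.leaf 10) (.leaf 14)) (.node (.leaf 7) (.leaf 0))) (.node (.node (.leaf 15) (.leaf 0)) (.node (.leaf 11) (.leaf 0)))) (.node (.node (.node (.leaf 3) (.leaf 10)) (.node (.leaf 13) (.leaf 0))) (.node (.node (.leaf 1) (.leaf 6)) (.leaf 0)))) (.node (.node (.node (.node (.leaf 1) (.leaf 6)) (.node (.leaf 6) (.leaf 0))) (.node (.node (.leaf 5) (.leaf 4)) (.node (.leaf 9) (.leaf 0)))) (.node (.node (.node (.leaf 4) (.leaf 0)) (.node (.leaf 8) (.leaf 0))) (.node (.node (.leaf 12) (.leaf 15)) (.node (.leaf 14) (.leaf 0)))))) (.node (.node (.node (.node (.node (.leaf 14) (.leaf 6)) (.node (.leaf 1) (.leaf 0))) (.node (.node (.leaf 7) (.leaf 3)) (.node (.leaf 13) (.leaf 0)))) (.node (.node (.node (.leaf 9) (.leaf 0)) (.node (.leaf 1) (.leaf 0))) (.node (.node (.leaf 11) (.leaf 10)) (.node (.leaf 5) (.leaf 0))))) (.node (.node (.node (.node (.leaf 0)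 (.leaf 6)) (.node (.leaf 8) (.leaf 0))) (.node (.node (.leaf 6) (.leaf 11)) (.node (.leaf 15) (.leaf 0)))) (.node (.node (.node (.leaf 12) (.leaf 0)) (.node (.leaf 14) (.leaf 0))) (.node (.node (.leaf 11) (.leaf 9)) (.node (.leaf 1) (.leaf 0))))))) (.node (.node (.node (.node (.node (.node (.leaf 13) (.leaf 15)) (.node (.leaf 2) (.leaf 0))) (.node (.node (.leaf 11) (.leaf 4)) (.node (.leaf 2) (.leaf 0)))) (.node (.node (.node (.leaf 12) (.leaf 0)) (.node (.leaf 8) (.leaf 0))) (.node (.node (.leaf 2) (.leaf 13)) (.leaf 0)))) (.node (.node (.node (.node (.leaf 14) (.leaf 4)) (.node (.leaf 14) (.leaf 0))) (.node (.node (.leaf 12) (.leaf 6)) (.node (.leaf 1) (.leaf 0)))) (.node (.node (.node (.leaf 1) (.leaf 0)) (.node (.leaf 7) (.leaf 0))) (.node (.node (.leaf 9) (.leaf 14)) (.node (.leaf 12) (.leaf 0)))))) (.node (.node (.node (.node (.node (.leaf 1) (.leaf 14)) (.node (.leaf 14) (.leaf 0))) (.node (.node (.leaf 11) (.leaf 4)) (.node (.leaf 10) (.leaf 0)))) (.node (.node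 (.node (.leaf 2) (.leaf 0)) (.node (.leaf 9) (.leaf 0))) (.node (.node (.leaf 10) (.leaf 13)) (.node (.leaf 11) (.leaf 0))))) (.node (.node (.node (.node (.leaf 0) (.leaf 11)) (.node (.leaf 11) (.leaf 0))) (.node (.node (.leaf 14) (.leaf 10)) (.node (.leaf 7) (.leaf 0)))) (.node (.node (.node (.leaf 2) (.leaf 0)) (.node (.leaf 2) (.leaf 0))) (.node (.node (.leaf 1) (.leaf 3)) (.node (.leaf 15) (.leaf 0)))))))) (.node (.node (.node (.node (.node (.node (.node (.leaf 13) (.leaf 3)) (.node (.leaf 4) (.leaf 0))) (.node (.node (.leaf 13) (.leaf 12)) (.node (.leaf 7) (.leaf 0)))) (.node (.node (.node (.leaf 12) (.leaf 8)) (.node (.leaf 8) (.leaf 0))) (.node (.node (.leaf 14) (.leaf 13)) (.leaf 0)))) (.node (.node (.node (.node (.leaf 6) (.leaf 10)) (.node (.leaf 10) (.leaf 0))) (.node (.node (.leaf 10) (.leaf 12)) (.node (.leaf 6) (.leaf 0)))) (.node (.node (.node (.leaf 5) (.leaf 0)) (.node (.leaf 13) (.leaf 0))) (.node (.node (.leaf 4) (.leaf 11)) (.node (.leaf 3) (.leaf 0))))))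 (.node (.node (.node (.node (.node (.leaf 2) (.leaf 10)) (.node (.leaf 6) (.leaf 0))) (.node (.node (.leaf 2) (.leaf 8)) (.node (.leaf 4) (.leaf 0)))) (.node (.node (.node (.leaf 6) (.leaf 0)) (.node (.leaf 11) (.leaf 0))) (.node (.node (.leaf 7) (.leaf 13)) (.node (.leaf 1) (.leaf 0))))) (.node (.node (.node (.node (.leaf 0) (.leaf 3)) (.node (.leaf 8) (.leaf 0))) (.node (.node (.leaf 3) (.leaf 7)) (.node (.leaf 1) (.leaf 0)))) (.node (.node (.node (.leaf 15) (.leaf 0)) (.node (.leaf 8) (.leaf 0))) (.node (.node (.leaf 11) (.leaf 13)) (.node (.leaf 7) (.leaf 0))))))) (.node (.node (.node (.node (.node (.node (.leaf 1) (.leaf 15)) (.node (.leaf 14) (.leaf 0))) (.node (.node (.leaf 12) (.leaf 9)) (.node (.leaf 12) (.leaf 0)))) (.node (.node (.node (.leaf 10) (.leaf 0)) (.node (.leaf 12) (.leaf 0))) (.node (.node (.leaf 1) (.leaf 5)) (.leaf 0)))) (.node (.node (.node (.node (.leaf 0) (.leaf 12)) (.node (.leaf 4) (.leaf 0))) (.node (.leaf 3) (.node (.leaf 11) (.leaf 0))))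 (.node (.node (.node (.leaf 3) (.leaf 0)) (.node (.leaf 7) (.leaf 0))) (.node (.node (.leaf 3) (.leaf 4)) (.node (.leaf 15) (.leaf 0)))))) (.node (.node (.node (.node (.node (.leaf 14) (.leaf 1)) (.node (.leaf 15) (.leaf 0))) (.node (.node (.leaf 4) (.leaf 9)) (.node (.leaf 6) (.leaf 0)))) (.node (.node (.node (.leaf 11) (.leaf 0)) (.node (.leaf 8) (.leaf 0))) (.node (.node (.leaf 8) (.leaf 14)) (.node (.leaf 10) (.leaf 0))))) (.node (.node (.node (.node (.leaf 14) (.leaf 7)) (.node (.leaf 3) (.leaf 0))) (.node (.node (.leaf 7) (.leaf 8)) (.node (.leaf 15) (.leaf 0)))) (.node (.node (.node (.leaf 2) (.leaf 0)) (.node (.leaf 10) (.leaf 0))) (.node (.node (.leaf 5) (.leaf 0)) (.node (.leaf 15) (.leaf 0))))))))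

/-- Classes modulo the first ideal, part 6. -/
def clsAPart6 : Tree :=
  .node (.node (.node (.node (.node (.node (.node (.node (.leaf 4) (.leaf 15)) (.node (.leaf 15) (.leaf 0))) (.node (.node (.leaf 12) (.leaf 0)) (.node (.leaf 12) (.leaf 0)))) (.node (.node (.node (.leaf 11) (.leaf 6)) (.node (.leaf 7) (.leaf 0))) (.node (.node (.leaf 9) (.leaf 13)) (.node (.leaf 10) (.leaf 0))))) (.node (.node (.node (.node (.leaf 14) (.leaf 2)) (.node (.leaf 7) (.leaf 0))) (.node (.node (.leaf 11) (.leaf 7)) (.node (.leaf 15) (.leaf 0)))) (.node (.node (.node (.leaf 9) (.leaf 0)) (.node (.leaf 1) (.leaf 0))) (.node (.leaf 13) (.node (.leaf 8) (.leaf 0)))))) (.node (.node (.node (.node (.node (.leaf 8) (.leaf 7)) (.node (.leaf 14) (.leaf 0))) (.node (.node (.leaf 4) (.leaf 14)) (.node (.leaf 2) (.leaf 0)))) (.node (.node (.node (.leaf 10) (.leaf 0)) (.node (.leaf 15) (.leaf 0))) (.node (.node (.leaf 12) (.leaf 4)) (.leaf 0)))) (.node (.node (.node (.node (.leaf 0) (.leaf 12)) (.node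 (.leaf 4) (.leaf 0))) (.node (.node (.leaf 1) (.leaf 14)) (.node (.leaf 3) (.leaf 0)))) (.node (.node (.node (.leaf 10) (.leaf 0)) (.node (.leaf 10) (.leaf 0))) (.node (.node (.leaf 7) (.leaf 4)) (.node (.leaf 5) (.leaf 0))))))) (.node (.node (.node (.node (.node (.node (.leaf 7) (.leaf 10)) (.node (.leaf 10) (.leaf 0))) (.node (.node (.leaf 14) (.leaf 15)) (.node (.leaf 7) (.leaf 0)))) (.node (.node (.node (.leaf 1) (.leaf 13)) (.node (.leaf 3) (.leaf 0))) (.node (.node (.leaf 5) (.leaf 14)) (.leaf 0)))) (.node (.node (.node (.node (.leaf 4) (.leaf 15)) (.node (.leaf 4) (.leaf 0))) (.node (.node (.leaf 14) (.leaf 12)) (.node (.leaf 5) (.leaf 0)))) (.node (.node (.node (.leaf 8) (.leaf 0)) (.node (.leaf 2) (.leaf 0))) (.node (.node (.leaf 6) (.leaf 1)) (.node (.leaf 8) (.leaf 0)))))) (.node (.node (.node (.node (.node (.leaf 15) (.leaf 4)) (.node (.leaf 4) (.leaf 0))) (.node (.node (.leaf 2) (.leaf 3)) (.node (.leaf 1) (.leaf 0)))) (.node (.node (.node (.leaf 1) (.leaf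 0)) (.node (.leaf 10) (.leaf 0))) (.node (.node (.leaf 6) (.leaf 7)) (.node (.leaf 8) (.leaf 0))))) (.node (.node (.node (.node (.leaf 0) (.leaf 14)) (.node (.leaf 8) (.leaf 0))) (.node (.node (.leaf 8) (.leaf 6)) (.node (.leaf 13) (.leaf 0)))) (.node (.node (.node (.leaf 11) (.leaf 0)) (.node (.leaf 1) (.leaf 0))) (.node (.node (.leaf 4) (.leaf 5)) (.node (.leaf 14) (.leaf 0)))))))) (.node (.node (.node (.node (.node (.node (.node (.leaf 10) (.leaf 8)) (.node (.leaf 3) (.leaf 0))) (.node (.node (.leaf 10) (.leaf 0)) (.node (.leaf 8) (.leaf 0)))) (.node (.node (.node (.leaf 8) (.leaf 7)) (.node (.leaf 7) (.leaf 0))) (.node (.node (.leaf 8) (.leaf 9)) (.leaf 0)))) (.node (.node (.node (.leaf 5) (.node (.leaf 4) (.leaf 0))) (.node (.node (.leaf 8) (.leaf 6)) (.node (.leaf 15) (.leaf 0)))) (.node (.node (.node (.leaf 11) (.leaf 0)) (.node (.leaf 9) (.leaf 0))) (.node (.node (.leaf 15) (.leaf 8)) (.node (.leaf 11) (.leaf 0)))))) (.node (.node (.node (.node (.node (.leaf 5)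 (.leaf 4)) (.node (.leaf 5) (.leaf 0))) (.node (.node (.leaf 13) (.leaf 9)) (.node (.leaf 5) (.leaf 0)))) (.node (.node (.node (.leaf 3) (.leaf 0)) (.node (.leaf 15) (.leaf 0))) (.node (.node (.leaf 11) (.leaf 10)) (.node (.leaf 8) (.leaf 0))))) (.node (.node (.node (.node (.leaf 0) (.leaf 9)) (.node (.leaf 11) (.leaf 0))) (.node (.node (.leaf 1) (.leaf 11)) (.node (.leaf 5) (.leaf 0)))) (.node (.node (.node (.leaf 10) (.leaf 0)) (.node (.leaf 4) (.leaf 0))) (.node (.node (.leaf 14) (.leaf 4)) (.node (.leaf 13) (.leaf 0))))))) (.node (.node (.node (.node (.node (.node (.leaf 13) (.leaf 7)) (.node (.leaf 5) (.leaf 0))) (.node (.leaf 6) (.node (.leaf 3) (.leaf 0)))) (.node (.node (.node (.leaf 9) (.leaf 0)) (.node (.leaf 8) (.leaf 0))) (.node (.node (.leaf 15) (.leaf 6)) (.leaf 0)))) (.node (.node (.node (.node (.leaf 11) (.leaf 6)) (.node (.leaf 12) (.leaf 0))) (.node (.leaf 9) (.node (.leaf 6) (.leaf 0)))) (.node (.node (.node (.leaf 2) (.leaf 0)) (.node (.leaf 15) (.leaf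 0))) (.node (.node (.leaf 14) (.leaf 4)) (.node (.leaf 1) (.leaf 0)))))) (.node (.node (.node (.node (.node (.leaf 12) (.leaf 5)) (.node (.leaf 11) (.leaf 0))) (.node (.node (.leaf 9) (.leaf 14)) (.node (.leaf 3) (.leaf 0)))) (.node (.node (.node (.leaf 2) (.leaf 0)) (.node (.leaf 3) (.leaf 0))) (.node (.node (.leaf 7) (.leaf 13)) (.node (.leaf 7) (.leaf 0))))) (.node (.node (.node (.node (.leaf 8) (.leaf 11)) (.node (.leaf 11) (.leaf 0))) (.node (.node (.leaf 3) (.leaf 7)) (.node (.leaf 14) (.leaf 0)))) (.node (.node (.node (.leaf 1) (.leaf 0)) (.node (.leaf 9) (.leaf 0))) (.node (.node (.leaf 12) (.leaf 6)) (.node (.leaf 10) (.leaf 0))))))))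

/-- Classes modulo the first ideal, part 22. -/
def clsAPart22 : Tree :=
  .node (.node (.node (.node (.node (.node (.node (.leaf 5) (.node (.leaf 12) (.leaf 0))) (.node (.node (.leaf 3) (.leaf 0)) (.node (.leaf 8) (.leaf 0)))) (.node (.node (.node (.leaf 10) (.leaf 14)) (.node (.leaf 15) (.leaf 0))) (.node (.leaf 2) (.leaf 0)))) (.node (.node (.node (.node (.leaf 13) (.leaf 4)) (.node (.leaf 8) (.leaf 0))) (.node (.node (.leaf 11) (.leaf 13)) (.node (.leaf 15) (.leaf 0)))) (.node (.node (.node (.leaf 1) (.leaf 0)) (.node (.leaf 2) (.leaf 0))) (.node (.node (.leaf 6) (.leaf 7)) (.node (.leaf 10) (.leaf 0)))))) (.node (.node (.node (.node (.node (.leaf 11) (.leaf 8)) (.node (.leaf 13) (.leaf 0))) (.node (.node (.leaf 13) (.leaf 14)) (.node (.leaf 2) (.leaf 0)))) (.node (.node (.node (.leaf 9) (.leaf 0)) (.node (.leaf 2) (.leaf 0))) (.node (.node (.leaf 9) (.leaf 5)) (.node (.leaf 12) (.leaf 0))))) (.node (.node (.node (.node (.leaf 0) (.leaf 6)) (.node (.leaf 1) (.leaf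 0))) (.node (.node (.leaf 1) (.leaf 9)) (.node (.leaf 7) (.leaf 0)))) (.node (.node (.node (.leaf 14) (.leaf 0)) (.node (.leaf 6) (.leaf 0))) (.node (.node (.leaf 6) (.leaf 2)) (.node (.leaf 2) (.leaf 0))))))) (.node (.node (.node (.node (.node (.node (.leaf 14) (.leaf 3)) (.node (.leaf 5) (.leaf 0))) (.node (.node (.leaf 10) (.leaf 12)) (.node (.leaf 9) (.leaf 0)))) (.node (.node (.node (.leaf 3) (.leaf 0)) (.node (.leaf 10) (.leaf 0))) (.node (.node (.leaf 12) (.leaf 11)) (.leaf 0)))) (.node (.node (.node (.leaf 6) (.node (.leaf 4) (.leaf 0))) (.node (.node (.leaf 10) (.leaf 6)) (.node (.leaf 8) (.leaf 0)))) (.node (.node (.node (.leaf 5) (.leaf 0)) (.node (.leaf 3) (.leaf 0))) (.node (.node (.leaf 9) (.leaf 4)) (.node (.leaf 8) (.leaf 0)))))) (.node (.node (.node (.node (.node (.leaf 12) (.leaf 4)) (.node (.leaf 6) (.leaf 0))) (.node (.leaf 6) (.node (.leaf 4) (.leaf 0)))) (.node (.node (.node (.leaf 3) (.leaf 0)) (.node (.leaf 7) (.leaf 0))) (.node (.leaf 14) (.node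 (.leaf 13) (.leaf 0))))) (.node (.node (.node (.node (.leaf 0) (.leaf 9)) (.node (.leaf 12) (.leaf 0))) (.node (.node (.leaf 13) (.leaf 14)) (.node (.leaf 10) (.leaf 0)))) (.node (.node (.node (.leaf 9) (.leaf 0)) (.node (.leaf 4) (.leaf 0))) (.node (.node (.leaf 9) (.leaf 15)) (.node (.leaf 10) (.leaf 0)))))))) (.node (.node (.node (.node (.node (.node (.node (.leaf 14) (.leaf 6)) (.node (.leaf 11) (.leaf 0))) (.node (.node (.leaf 14) (.leaf 6)) (.node (.leaf 6) (.leaf 0)))) (.node (.node (.node (.leaf 8) (.leaf 7)) (.node (.leaf 3) (.leaf 0))) (.node (.leaf 11) (.leaf 0)))) (.node (.node (.node (.node (.leaf 9) (.leaf 5)) (.node (.leaf 1) (.leaf 0))) (.node (.node (.leaf 9) (.leaf 15)) (.node (.leaf 15) (.leaf 0)))) (.node (.node (.node (.leaf 11) (.leaf 0)) (.node (.leaf 9) (.leaf 0))) (.node (.node (.leaf 12) (.leaf 4)) (.node (.leaf 10) (.leaf 0)))))) (.node (.node (.node (.node (.node (.leaf 12) (.leaf 1)) (.node (.leaf 9) (.leaf 0))) (.node (.node (.leaf 3) (.leaf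 11)) (.node (.leaf 3) (.leaf 0)))) (.node (.node (.node (.leaf 1) (.leaf 0)) (.node (.leaf 5) (.leaf 0))) (.node (.node (.leaf 3) (.leaf 14)) (.node (.leaf 14) (.leaf 0))))) (.node (.node (.node (.node (.leaf 0) (.leaf 14)) (.node (.leaf 1) (.leaf 0))) (.node (.node (.leaf 1) (.leaf 3)) (.node (.leaf 2) (.leaf 0)))) (.node (.node (.node (.leaf 10) (.leaf 0)) (.node (.leaf 1) (.leaf 0))) (.node (.node (.leaf 11) (.leaf 5)) (.node (.leaf 10) (.leaf 0))))))) (.node (.node (.node (.node (.node (.node (.leaf 4) (.leaf 13)) (.node (.leaf 14) (.leaf 0))) (.node (.node (.leaf 2) (.leaf 9)) (.node (.leaf 15) (.leaf 0)))) (.node (.node (.node (.leaf 14) (.leaf 0)) (.node (.leaf 12) (.leaf 0))) (.node (.node (.leaf 12) (.leaf 6)) (.leaf 0)))) (.node (.node (.node (.node (.leaf 0) (.leaf 15)) (.node (.leaf 13) (.leaf 0))) (.node (.node (.leaf 3) (.leaf 14)) (.node (.leaf 10) (.leaf 0)))) (.node (.node (.node (.leaf 13) (.leaf 0)) (.node (.leaf 7) (.leaf 0))) (.node (.node (.leaf 14)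 (.leaf 5)) (.node (.leaf 3) (.leaf 0)))))) (.node (.node (.node (.node (.node (.leaf 14) (.leaf 4)) (.node (.leaf 13) (.leaf 0))) (.node (.node (.leaf 1) (.leaf 7)) (.node (.leaf 6) (.leaf 0)))) (.node (.node (.node (.leaf 6) (.leaf 0)) (.node (.leaf 2) (.leaf 0))) (.node (.node (.leaf 7) (.leaf 4)) (.node (.leaf 7) (.leaf 0))))) (.node (.node (.node (.node (.leaf 10) (.leaf 3)) (.node (.leaf 6) (.leaf 0))) (.node (.node (.leaf 12) (.leaf 7)) (.node (.leaf 10) (.leaf 0)))) (.node (.node (.node (.leaf 2) (.leaf 0)) (.node (.leaf 7) (.leaf 0))) (.node (.node (.leaf 15) (.leaf 0)) (.node (.leaf 15) (.leaf 0))))))))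

/-- Classes modulo the first ideal, part 14. -/
def clsAPart14 : Tree :=
  .node (.node (.node (.node (.node (.node (.node (.node (.leaf 2) (.leaf 14)) (.node (.leaf 10) (.leaf 0))) (.node (.node (.leaf 1) (.leaf 0)) (.node (.leaf 13) (.leaf 0)))) (.node (.node (.node (.leaf 3) (.leaf 13)) (.node (.leaf 15) (.leaf 0))) (.node (.node (.leaf 14) (.leaf 4)) (.node (.leaf 15) (.leaf 0))))) (.node (.node (.node (.node (.leaf 1) (.leaf 6)) (.node (.leaf 1) (.leaf 0))) (.node (.node (.leaf 7) (.leaf 2)) (.node (.leaf 6) (.leaf 0)))) (.node (.node (.node (.leaf 8) (.leaf 0)) (.node (.leaf 11) (.leaf 0))) (.node (.node (.leaf 1) (.leaf 9)) (.node (.leaf 15) (.leaf 0)))))) (.node (.node (.node (.node (.node (.leaf 3) (.leaf 1)) (.node (.leaf 1) (.leaf 0))) (.node (.node (.leaf 5) (.leaf 9)) (.node (.leaf 11) (.leaf 0)))) (.node (.node (.node (.leaf 8) (.leaf 0)) (.node (.leaf 15) (.leaf 0))) (.node (.node (.leaf 1) (.leaf 2)) (.node (.leaf 3) (.leaf 0))))) (.node (.node (.node (.node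 (.leaf 0) (.leaf 13)) (.node (.leaf 2) (.leaf 0))) (.node (.node (.leaf 3) (.leaf 2)) (.node (.leaf 1) (.leaf 0)))) (.node (.node (.node (.leaf 4) (.leaf 0)) (.node (.leaf 15) (.leaf 0))) (.node (.node (.leaf 5) (.leaf 10)) (.node (.leaf 6) (.leaf 0))))))) (.node (.node (.node (.node (.node (.node (.leaf 11) (.leaf 1)) (.node (.leaf 8) (.leaf 0))) (.node (.node (.leaf 4) (.leaf 8)) (.node (.leaf 5) (.leaf 0)))) (.node (.node (.node (.leaf 5) (.leaf 0)) (.node (.leaf 10) (.leaf 0))) (.node (.leaf 7) (.leaf 0)))) (.node (.node (.node (.node (.leaf 15) (.leaf 13)) (.node (.leaf 10) (.leaf 0))) (.node (.node (.leaf 5) (.leaf 13)) (.node (.leaf 10) (.leaf 0)))) (.node (.node (.node (.leaf 7) (.leaf 0)) (.node (.leaf 8) (.leaf 0))) (.node (.leaf 3) (.node (.leaf 10) (.leaf 0)))))) (.node (.node (.node (.node (.node (.leaf 6) (.leaf 10)) (.node (.leaf 15) (.leaf 0))) (.node (.node (.leaf 8) (.leaf 15)) (.node (.leaf 13) (.leaf 0)))) (.node (.node (.node (.leaf 7) (.leaf 0)) (.node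 (.leaf 12) (.leaf 0))) (.node (.node (.leaf 13) (.leaf 11)) (.node (.leaf 1) (.leaf 0))))) (.node (.node (.node (.node (.leaf 0) (.leaf 2)) (.node (.leaf 9) (.leaf 0))) (.node (.node (.leaf 12) (.leaf 13)) (.node (.leaf 11) (.leaf 0)))) (.node (.node (.node (.leaf 13) (.leaf 0)) (.node (.leaf 12) (.leaf 0))) (.node (.node (.leaf 14) (.leaf 13)) (.node (.leaf 9) (.leaf 0)))))))) (.node (.node (.node (.node (.node (.node (.node (.leaf 11) (.leaf 9)) (.node (.leaf 10) (.leaf 0))) (.node (.node (.leaf 4) (.leaf 1)) (.node (.leaf 9) (.leaf 0)))) (.node (.node (.node (.leaf 10) (.leaf 2)) (.node (.leaf 15) (.leaf 0))) (.node (.node (.leaf 3) (.leaf 10)) (.leaf 0)))) (.node (.node (.node (.node (.leaf 3) (.leaf 4)) (.node (.leaf 12) (.leaf 0))) (.node (.node (.leaf 15) (.leaf 1)) (.node (.leaf 9) (.leaf 0)))) (.node (.node (.node (.leaf 7) (.leaf 0)) (.node (.leaf 8) (.leaf 0))) (.node (.node (.leaf 8) (.leaf 2)) (.node (.leaf 3) (.leaf 0)))))) (.node (.node (.node (.node (.node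 (.leaf 7) (.leaf 12)) (.node (.leaf 3) (.leaf 0))) (.node (.node (.leaf 6) (.leaf 4)) (.node (.leaf 14) (.leaf 0)))) (.node (.node (.node (.leaf 10) (.leaf 0)) (.node (.leaf 3) (.leaf 0))) (.node (.node (.leaf 13) (.leaf 11)) (.node (.leaf 6) (.leaf 0))))) (.node (.node (.node (.node (.leaf 0) (.leaf 12)) (.node (.leaf 2) (.leaf 0))) (.node (.node (.leaf 6) (.leaf 13)) (.node (.leaf 6) (.leaf 0)))) (.node (.node (.node (.leaf 12) (.leaf 0)) (.node (.leaf 12) (.leaf 0))) (.node (.node (.leaf 13) (.leaf 2)) (.node (.leaf 11) (.leaf 0))))))) (.node (.node (.node (.node (.node (.node (.leaf 6) (.leaf 11)) (.node (.leaf 3) (.leaf 0))) (.node (.node (.leaf 4) (.leaf 3)) (.node (.leaf 5) (.leaf 0)))) (.node (.node (.node (.leaf 15) (.leaf 0)) (.node (.leaf 6) (.leaf 0))) (.node (.node (.leaf 6) (.leaf 13)) (.leaf 0)))) (.node (.node (.node (.node (.leaf 0) (.leaf 1)) (.node (.leaf 7) (.leaf 0))) (.node (.node (.leaf 6) (.leaf 12)) (.node (.leaf 3) (.leaf 0)))) (.node (.node (.node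 (.leaf 14) (.leaf 0)) (.node (.leaf 5) (.leaf 0))) (.node (.node (.leaf 9) (.leaf 14)) (.node (.leaf 5) (.leaf 0)))))) (.node (.node (.node (.node (.node (.leaf 1) (.leaf 14)) (.node (.leaf 11) (.leaf 0))) (.node (.node (.leaf 8) (.leaf 5)) (.node (.leaf 9) (.leaf 0)))) (.node (.node (.node (.leaf 8) (.leaf 0)) (.node (.leaf 4) (.leaf 0))) (.node (.node (.leaf 2) (.leaf 6)) (.node (.leaf 11) (.leaf 0))))) (.node (.node (.node (.node (.leaf 15) (.leaf 13)) (.node (.leaf 8) (.leaf 0))) (.node (.node (.leaf 9) (.leaf 2)) (.node (.leaf 9) (.leaf 0)))) (.node (.node (.node (.leaf 8) (.leaf 0)) (.node (.leaf 12) (.leaf 0))) (.node (.node (.leaf 10) (.leaf 0)) (.node (.leaf 15) (.leaf 0))))))))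

/-- Classes modulo the first ideal, part 30. -/
def clsAPart30 : Tree :=
  .node (.node (.node (.node (.node (.node (.node (.node (.leaf 9) (.leaf 10)) (.node (.leaf 11) (.leaf 0))) (.node (.node (.leaf 4) (.leaf 0)) (.node (.leaf 14) (.leaf 0)))) (.node (.node (.node (.leaf 11) (.leaf 5)) (.node (.leaf 2) (.leaf 0))) (.node (.node (.leaf 2) (.leaf 5)) (.leaf 0)))) (.node (.node (.node (.node (.leaf 4) (.leaf 2)) (.node (.leaf 2) (.leaf 0))) (.node (.node (.leaf 7) (.leaf 1)) (.node (.leaf 11) (.leaf 0)))) (.node (.node (.node (.leaf 13) (.leaf 0)) (.node (.leaf 1) (.leaf 0))) (.node (.leaf 1) (.node (.leaf 12) (.leaf 0)))))) (.node (.node (.node (.node (.node (.leaf 15) (.leaf 2)) (.node (.leaf 4) (.leaf 0))) (.node (.node (.leaf 15) (.leaf 2)) (.node (.leaf 11) (.leaf 0)))) (.node (.node (.node (.leaf 6) (.leaf 0)) (.node (.leaf 7) (.leaf 0))) (.node (.node (.leaf 4) (.leaf 9)) (.node (.leaf 2) (.leaf 0))))) (.node (.node (.node (.node (.leaf 0) (.leaf 3)) (.node (.leaf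 1) (.leaf 0))) (.node (.node (.leaf 7) (.leaf 4)) (.node (.leaf 7) (.leaf 0)))) (.node (.node (.node (.leaf 9) (.leaf 0)) (.node (.leaf 12) (.leaf 0))) (.node (.node (.leaf 2) (.leaf 6)) (.node (.leaf 14) (.leaf 0))))))) (.node (.node (.node (.node (.node (.node (.leaf 6) (.leaf 1)) (.node (.leaf 1) (.leaf 0))) (.node (.node (.leaf 2) (.leaf 13)) (.node (.leaf 1) (.leaf 0)))) (.node (.node (.node (.leaf 15) (.leaf 0)) (.node (.leaf 11) (.leaf 0))) (.node (.node (.leaf 10) (.leaf 14)) (.leaf 0)))) (.node (.node (.node (.node (.leaf 15) (.leaf 1)) (.node (.leaf 14) (.leaf 0))) (.node (.node (.leaf 8) (.leaf 3)) (.node (.leaf 9) (.leaf 0)))) (.node (.node (.node (.leaf 6) (.leaf 0)) (.node (.leaf 11) (.leaf 0))) (.node (.node (.leaf 12) (.leaf 10)) (.node (.leaf 5) (.leaf 0)))))) (.node (.node (.node (.node (.node (.leaf 4) (.leaf 14)) (.node (.leaf 15) (.leaf 0))) (.node (.node (.leaf 14) (.leaf 13)) (.node (.leaf 5) (.leaf 0)))) (.node (.node (.node (.leaf 12) (.leaf 0))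 (.node (.leaf 13) (.leaf 0))) (.node (.node (.leaf 5) (.leaf 6)) (.node (.leaf 11) (.leaf 0))))) (.node (.node (.node (.node (.leaf 0) (.leaf 4)) (.node (.leaf 10) (.leaf 0))) (.node (.node (.leaf 6) (.leaf 5)) (.node (.leaf 4) (.leaf 0)))) (.node (.node (.node (.leaf 7) (.leaf 0)) (.node (.leaf 7) (.leaf 0))) (.node (.node (.leaf 10) (.leaf 13)) (.node (.leaf 12) (.leaf 0)))))))) (.node (.node (.node (.node (.node (.node (.node (.leaf 14) (.leaf 3)) (.node (.leaf 8) (.leaf 0))) (.node (.node (.leaf 5) (.leaf 1)) (.node (.leaf 10) (.leaf 0)))) (.node (.node (.node (.leaf 5) (.leaf 2)) (.node (.leaf 5) (.leaf 0))) (.node (.node (.leaf 15) (.leaf 14)) (.leaf 0)))) (.node (.node (.node (.node (.leaf 6) (.leaf 13)) (.node (.leaf 3) (.leaf 0))) (.node (.node (.leaf 15) (.leaf 8)) (.node (.leaf 14) (.leaf 0)))) (.node (.node (.node (.leaf 7) (.leaf 0)) (.node (.leaf 12) (.leaf 0))) (.node (.node (.leaf 13) (.leaf 12)) (.node (.leaf 11) (.leaf 0)))))) (.node (.node (.node (.node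 (.node (.leaf 10) (.leaf 3)) (.node (.leaf 6) (.leaf 0))) (.node (.node (.leaf 12) (.leaf 13)) (.node (.leaf 14) (.leaf 0)))) (.node (.node (.node (.leaf 3) (.leaf 0)) (.node (.leaf 3) (.leaf 0))) (.node (.node (.leaf 15) (.leaf 14)) (.node (.leaf 9) (.leaf 0))))) (.node (.node (.node (.node (.leaf 0) (.leaf 9)) (.node (.leaf 9) (.leaf 0))) (.node (.leaf 15) (.node (.leaf 14) (.leaf 0)))) (.node (.node (.node (.leaf 15) (.leaf 0)) (.node (.leaf 13) (.leaf 0))) (.node (.node (.leaf 10) (.leaf 4)) (.node (.leaf 4) (.leaf 0))))))) (.node (.node (.node (.node (.node (.node (.leaf 2) (.leaf 9)) (.node (.leaf 3) (.leaf 0))) (.node (.node (.leaf 5) (.leaf 12)) (.node (.leaf 8) (.leaf 0)))) (.node (.node (.node (.leaf 5) (.leaf 0)) (.node (.leaf 7) (.leaf 0))) (.node (.leaf 4) (.leaf 0)))) (.node (.node (.node (.node (.leaf 0) (.leaf 8)) (.node (.leaf 3) (.leaf 0))) (.node (.node (.leaf 10) (.leaf 9)) (.node (.leaf 1) (.leaf 0)))) (.node (.node (.node (.leaf 11) (.leaf 0)) (.node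 (.leaf 12) (.leaf 0))) (.node (.node (.leaf 2) (.leaf 14)) (.node (.leaf 7) (.leaf 0)))))) (.node (.node (.node (.node (.node (.leaf 3) (.leaf 10)) (.node (.leaf 9) (.leaf 0))) (.node (.node (.leaf 13) (.leaf 2)) (.node (.leaf 4) (.leaf 0)))) (.node (.node (.node (.leaf 14) (.leaf 0)) (.node (.leaf 1) (.leaf 0))) (.node (.node (.leaf 2) (.leaf 11)) (.node (.leaf 8) (.leaf 0))))) (.node (.node (.node (.node (.leaf 12) (.leaf 15)) (.node (.leaf 12) (.leaf 0))) (.node (.node (.leaf 14) (.leaf 2)) (.node (.leaf 12) (.leaf 0)))) (.node (.node (.node (.leaf 4) (.leaf 0)) (.node (.leaf 13) (.leaf 0))) (.node (.node (.leaf 8) (.leaf 0)) (.node (.leaf 9) (.leaf 0))))))))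

/-- Classes modulo the first ideal, part 1. -/
def clsAPart1 : Tree :=
  .node (.node (.node (.node (.node (.node (.node (.node (.leaf 1) (.leaf 2)) (.node (.leaf 15) (.leaf 0))) (.node (.node (.leaf 3) (.leaf 0)) (.node (.leaf 2) (.leaf 0)))) (.node (.node (.node (.leaf 6) (.leaf 13)) (.node (.leaf 15) (.leaf 0))) (.node (.node (.leaf 1) (.leaf 10)) (.node (.leaf 2) (.leaf 0))))) (.node (.node (.node (.node (.leaf 7) (.leaf 9)) (.node (.leaf 15) (.leaf 0))) (.node (.node (.leaf 2) (.leaf 10)) (.node (.leaf 7) (.leaf 0)))) (.node (.node (.node (.leaf 8) (.leaf 0)) (.node (.leaf 2) (.leaf 0))) (.node (.node (.leaf 10) (.leaf 12)) (.node (.leaf 12) (.leaf 0)))))) (.node (.node (.node (.node (.node (.leaf 10) (.leaf 15)) (.node (.leaf 7) (.leaf 0))) (.node (.leaf 11) (.node (.leaf 7) (.leaf 0)))) (.node (.node (.node (.leaf 9) (.leaf 0)) (.node (.leaf 6) (.leaf 0))) (.node (.node (.leaf 11) (.leaf 1)) (.leaf 0)))) (.node (.node (.node (.node (.leaf 0) (.leaf 6)) (.node (.leaf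 13) (.leaf 0))) (.node (.node (.leaf 2) (.leaf 12)) (.node (.leaf 15) (.leaf 0)))) (.node (.node (.node (.leaf 14) (.leaf 0)) (.node (.leaf 6) (.leaf 0))) (.node (.node (.leaf 13) (.leaf 9)) (.node (.leaf 4) (.leaf 0))))))) (.node (.node (.node (.node (.node (.node (.leaf 14) (.leaf 12)) (.node (.leaf 7) (.leaf 0))) (.node (.node (.leaf 14) (.leaf 13)) (.node (.leaf 14) (.leaf 0)))) (.node (.node (.node (.leaf 11) (.leaf 10)) (.node (.leaf 8) (.leaf 0))) (.node (.node (.leaf 12) (.leaf 11)) (.leaf 0)))) (.node (.node (.node (.node (.leaf 10) (.leaf 2)) (.node (.leaf 1) (.leaf 0))) (.node (.node (.leaf 8) (.leaf 6)) (.node (.leaf 2) (.leaf 0)))) (.node (.node (.node (.leaf 4) (.leaf 0)) (.node (.leaf 5) (.leaf 0))) (.node (.node (.leaf 9) (.leaf 12)) (.node (.leaf 8) (.leaf 0)))))) (.node (.node (.node (.node (.node (.leaf 10) (.leaf 1)) (.node (.leaf 10) (.leaf 0))) (.node (.node (.leaf 15) (.leaf 1)) (.node (.leaf 5) (.leaf 0)))) (.node (.node (.node (.leaf 10) (.leaf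 0)) (.node (.leaf 9) (.leaf 0))) (.node (.node (.leaf 13) (.leaf 14)) (.node (.leaf 13) (.leaf 0))))) (.node (.node (.node (.node (.leaf 0) (.leaf 12)) (.node (.leaf 6) (.leaf 0))) (.node (.node (.leaf 11) (.leaf 13)) (.node (.leaf 10) (.leaf 0)))) (.node (.node (.node (.leaf 8) (.leaf 0)) (.node (.leaf 1) (.leaf 0))) (.node (.node (.leaf 9) (.leaf 1)) (.node (.leaf 4) (.leaf 0)))))))) (.node (.node (.node (.node (.node (.node (.node (.leaf 5) (.leaf 14)) (.node (.leaf 11) (.leaf 0))) (.node (.node (.leaf 8) (.leaf 0)) (.node (.leaf 1) (.leaf 0)))) (.node (.node (.node (.leaf 8) (.leaf 11)) (.node (.leaf 13) (.leaf 0))) (.node (.node (.leaf 10) (.leaf 7)) (.leaf 0)))) (.node (.node (.node (.node (.leaf 1) (.leaf 5)) (.node (.leaf 1) (.leaf 0))) (.node (.node (.leaf 4) (.leaf 7)) (.node (.leaf 6) (.leaf 0)))) (.node (.node (.node (.leaf 2) (.leaf 0)) (.node (.leaf 3) (.leaf 0))) (.node (.node (.leaf 13) (.leaf 4)) (.node (.leaf 6) (.leaf 0)))))) (.node (.node (.node (.node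 (.node (.leaf 12) (.leaf 1)) (.node (.leaf 1) (.leaf 0))) (.node (.node (.leaf 14) (.leaf 2)) (.node (.leaf 12) (.leaf 0)))) (.node (.node (.node (.leaf 14) (.leaf 0)) (.node (.leaf 6) (.leaf 0))) (.node (.node (.leaf 1) (.leaf 5)) (.node (.leaf 4) (.leaf 0))))) (.node (.node (.node (.node (.leaf 0) (.leaf 15)) (.node (.leaf 1) (.leaf 0))) (.node (.node (.leaf 3) (.leaf 1)) (.node (.leaf 4) (.leaf 0)))) (.node (.node (.node (.leaf 14) (.leaf 0)) (.node (.leaf 5) (.leaf 0))) (.node (.leaf 10) (.node (.leaf 10) (.leaf 0))))))) (.node (.node (.node (.node (.node (.node (.leaf 3) (.leaf 15)) (.node (.leaf 15) (.leaf 0))) (.node (.node (.leaf 2) (.leaf 9)) (.node (.leaf 5) (.leaf 0)))) (.node (.node (.node (.leaf 11) (.leaf 0)) (.node (.leaf 8) (.leaf 0))) (.node (.node (.leaf 10) (.leaf 9)) (.leaf 0)))) (.node (.node (.node (.node (.leaf 14) (.leaf 7)) (.node (.leaf 15) (.leaf 0))) (.node (.node (.leaf 3) (.leaf 15)) (.node (.leaf 10) (.leaf 0)))) (.node (.node (.node (.leaf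 1) (.leaf 0)) (.node (.leaf 12) (.leaf 0))) (.node (.node (.leaf 11) (.leaf 7)) (.node (.leaf 11) (.leaf 0)))))) (.node (.node (.node (.node (.node (.leaf 11) (.leaf 10)) (.node (.leaf 14) (.leaf 0))) (.node (.node (.leaf 8) (.leaf 7)) (.node (.leaf 6) (.leaf 0)))) (.node (.node (.node (.leaf 15) (.leaf 0)) (.node (.leaf 11) (.leaf 0))) (.node (.node (.leaf 11) (.leaf 3)) (.node (.leaf 12) (.leaf 0))))) (.node (.node (.node (.node (.leaf 12) (.leaf 1)) (.node (.leaf 9) (.leaf 0))) (.node (.node (.leaf 12) (.leaf 11)) (.node (.leaf 4) (.leaf 0)))) (.node (.node (.node (.leaf 4) (.leaf 0)) (.node (.leaf 7) (.leaf 0))) (.node (.node (.leaf 13) (.leaf 2)) (.node (.leaf 2) (.leaf 0))))))))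

/-- Classes modulo the first ideal, part 17. -/
def clsAPart17 : Tree :=
  .node (.node (.node (.node (.node (.node (.node (.node (.leaf 5) (.leaf 2)) (.node (.leaf 6) (.leaf 0))) (.node (.node (.leaf 5) (.leaf 0)) (.node (.leaf 13) (.leaf 0)))) (.node (.node (.node (.leaf 12) (.leaf 7)) (.node (.leaf 7) (.leaf 0))) (.node (.node (.leaf 1) (.leaf 3)) (.leaf 0)))) (.node (.node (.node (.node (.leaf 7) (.leaf 10)) (.node (.leaf 4) (.leaf 0))) (.node (.node (.leaf 4) (.leaf 10)) (.node (.leaf 4) (.leaf 0)))) (.node (.node (.node (.leaf 11) (.leaf 0)) (.node (.leaf 5) (.leaf 0))) (.node (.node (.leaf 7) (.leaf 15)) (.node (.leaf 6) (.leaf 0)))))) (.node (.node (.node (.node (.node (.leaf 14) (.leaf 4)) (.node (.leaf 7) (.leaf 0))) (.node (.node (.leaf 5) (.leaf 12)) (.node (.leaf 12) (.leaf 0)))) (.node (.node (.node (.leaf 3) (.leaf 0)) (.node (.leaf 15) (.leaf 0))) (.node (.node (.leaf 2) (.leaf 5)) (.node (.leaf 13) (.leaf 0))))) (.node (.node (.node (.node (.leaf 0) (.leaf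 9)) (.node (.leaf 3) (.leaf 0))) (.node (.node (.leaf 10) (.leaf 2)) (.node (.leaf 15) (.leaf 0)))) (.node (.node (.node (.leaf 4) (.leaf 0)) (.node (.leaf 13) (.leaf 0))) (.node (.node (.leaf 10) (.leaf 9)) (.node (.leaf 1) (.leaf 0))))))) (.node (.node (.node (.node (.node (.node (.leaf 9) (.leaf 15)) (.node (.leaf 8) (.leaf 0))) (.node (.node (.leaf 9) (.leaf 6)) (.node (.leaf 14) (.leaf 0)))) (.node (.node (.node (.leaf 11) (.leaf 0)) (.node (.leaf 14) (.leaf 0))) (.node (.node (.leaf 15) (.leaf 8)) (.leaf 0)))) (.node (.node (.node (.node (.leaf 14) (.leaf 2)) (.node (.leaf 7) (.leaf 0))) (.node (.leaf 9) (.node (.leaf 14) (.leaf 0)))) (.node (.node (.node (.leaf 4) (.leaf 0)) (.node (.leaf 12) (.leaf 0))) (.node (.node (.leaf 15) (.leaf 1)) (.node (.leaf 14) (.leaf 0)))))) (.node (.node (.node (.node (.node (.leaf 15) (.leaf 7)) (.node (.leaf 14) (.leaf 0))) (.node (.node (.leaf 15) (.leaf 13)) (.node (.leaf 3) (.leaf 0)))) (.node (.node (.node (.leaf 7) (.leaf 0))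 (.node (.leaf 6) (.leaf 0))) (.node (.node (.leaf 7) (.leaf 9)) (.node (.leaf 9) (.leaf 0))))) (.node (.node (.node (.node (.leaf 0) (.leaf 2)) (.node (.leaf 6) (.leaf 0))) (.node (.node (.leaf 15) (.leaf 7)) (.node (.leaf 14) (.leaf 0)))) (.node (.node (.node (.leaf 4) (.leaf 0)) (.node (.leaf 3) (.leaf 0))) (.node (.node (.leaf 8) (.leaf 2)) (.node (.leaf 14) (.leaf 0)))))))) (.node (.node (.node (.node (.node (.node (.node (.leaf 9) (.leaf 10)) (.node (.leaf 10) (.leaf 0))) (.node (.node (.leaf 8) (.leaf 7)) (.node (.leaf 11) (.leaf 0)))) (.node (.node (.node (.leaf 14) (.leaf 10)) (.node (.leaf 6) (.leaf 0))) (.node (.leaf 14) (.leaf 0)))) (.node (.node (.node (.node (.leaf 4) (.leaf 1)) (.node (.leaf 12) (.leaf 0))) (.node (.node (.leaf 11) (.leaf 13)) (.node (.leaf 2) (.leaf 0)))) (.node (.node (.node (.leaf 4) (.leaf 0)) (.node (.leaf 13) (.leaf 0))) (.node (.node (.leaf 6) (.leaf 1)) (.node (.leaf 12) (.leaf 0)))))) (.node (.node (.node (.node (.node (.leaf 15)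 (.leaf 12)) (.node (.leaf 4) (.leaf 0))) (.node (.node (.leaf 7) (.leaf 1)) (.node (.leaf 2) (.leaf 0)))) (.node (.node (.node (.leaf 2) (.leaf 0)) (.node (.leaf 9) (.leaf 0))) (.node (.node (.leaf 1) (.leaf 9)) (.node (.leaf 8) (.leaf 0))))) (.node (.node (.node (.node (.leaf 0) (.leaf 11)) (.node (.leaf 3) (.leaf 0))) (.node (.node (.leaf 11) (.leaf 1)) (.node (.leaf 1) (.leaf 0)))) (.node (.node (.node (.leaf 2) (.leaf 0)) (.node (.leaf 5) (.leaf 0))) (.node (.node (.leaf 2) (.leaf 5)) (.node (.leaf 14) (.leaf 0))))))) (.node (.node (.node (.node (.node (.node (.leaf 3) (.leaf 12)) (.node (.leaf 9) (.leaf 0))) (.node (.node (.leaf 4) (.leaf 15)) (.node (.leaf 2) (.leaf 0)))) (.node (.node (.node (.leaf 8) (.leaf 0)) (.node (.leaf 8) (.leaf 0))) (.node (.node (.leaf 15) (.leaf 5)) (.leaf 0)))) (.node (.node (.node (.node (.leaf 0) (.leaf 13)) (.node (.leaf 13) (.leaf 0))) (.node (.node (.leaf 14) (.leaf 11)) (.node (.leaf 12) (.leaf 0)))) (.node (.node (.node (.leaf 10)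 (.leaf 0)) (.node (.leaf 11) (.leaf 0))) (.node (.node (.leaf 12) (.leaf 10)) (.node (.leaf 11) (.leaf 0)))))) (.node (.node (.node (.node (.leaf 9) (.node (.leaf 12) (.leaf 0))) (.node (.leaf 11) (.node (.leaf 1) (.leaf 0)))) (.node (.node (.node (.leaf 15) (.leaf 0)) (.node (.leaf 1) (.leaf 0))) (.node (.node (.leaf 10) (.leaf 3)) (.node (.leaf 6) (.leaf 0))))) (.node (.node (.node (.node (.leaf 6) (.leaf 1)) (.node (.leaf 2) (.leaf 0))) (.node (.node (.leaf 4) (.leaf 10)) (.node (.leaf 14) (.leaf 0)))) (.node (.node (.node (.leaf 7) (.leaf 0)) (.node (.leaf 12) (.leaf 0))) (.node (.node (.leaf 13) (.leaf 0)) (.node (.leaf 6) (.leaf 0))))))))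

/-- Classes modulo the first ideal, part 9. -/
def clsAPart9 : Tree :=
  .node (.node (.node (.node (.node (.node (.node (.node (.leaf 3) (.leaf 8)) (.node (.leaf 6) (.leaf 0))) (.node (.node (.leaf 12) (.leaf 0)) (.node (.leaf 15) (.leaf 0)))) (.node (.node (.node (.leaf 11) (.leaf 5)) (.node (.leaf 6) (.leaf 0))) (.node (.node (.leaf 12) (.leaf 1)) (.node (.leaf 13) (.leaf 0))))) (.node (.node (.node (.node (.leaf 5) (.leaf 2)) (.node (.leaf 4) (.leaf 0))) (.node (.node (.leaf 12) (.leaf 3)) (.node (.leaf 14) (.leaf 0)))) (.node (.node (.node (.leaf 13) (.leaf 0)) (.node (.leaf 1) (.leaf 0))) (.node (.node (.leaf 3) (.leaf 4)) (.node (.leaf 15) (.leaf 0)))))) (.node (.node (.node (.node (.node (.leaf 12) (.leaf 4)) (.node (.leaf 5) (.leaf 0))) (.node (.leaf 1) (.node (.leaf 10) (.leaf 0)))) (.node (.node (.node (.leaf 14) (.leaf 0)) (.node (.leaf 7) (.leaf 0))) (.node (.node (.leaf 5) (.leaf 3)) (.node (.leaf 7) (.leaf 0))))) (.node (.node (.node (.node (.leaf 0) (.leaf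 15)) (.node (.leaf 1) (.leaf 0))) (.node (.node (.leaf 15) (.leaf 1)) (.node (.leaf 10) (.leaf 0)))) (.node (.node (.node (.leaf 9) (.leaf 0)) (.node (.leaf 10) (.leaf 0))) (.node (.node (.leaf 4) (.leaf 9)) (.node (.leaf 10) (.leaf 0))))))) (.node (.node (.node (.node (.node (.node (.leaf 8) (.leaf 2)) (.node (.leaf 14) (.leaf 0))) (.node (.node (.leaf 9) (.leaf 11)) (.node (.leaf 12) (.leaf 0)))) (.node (.node (.node (.leaf 15) (.leaf 0)) (.node (.leaf 9) (.leaf 0))) (.node (.node (.leaf 11) (.leaf 14)) (.leaf 0)))) (.node (.node (.node (.node (.leaf 7) (.leaf 14)) (.node (.leaf 8) (.leaf 0))) (.node (.node (.leaf 2) (.leaf 15)) (.node (.leaf 9) (.leaf 0)))) (.node (.node (.node (.leaf 13) (.leaf 0)) (.node (.leaf 10) (.leaf 0))) (.node (.node (.leaf 12) (.leaf 5)) (.node (.leaf 7) (.leaf 0)))))) (.node (.node (.node (.node (.node (.leaf 13) (.leaf 8)) (.node (.leaf 7) (.leaf 0))) (.node (.node (.leaf 4) (.leaf 13)) (.node (.leaf 7) (.leaf 0)))) (.node (.node (.node (.leaf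 15) (.leaf 0)) (.node (.leaf 15) (.leaf 0))) (.node (.node (.leaf 5) (.leaf 8)) (.node (.leaf 11) (.leaf 0))))) (.node (.node (.node (.node (.leaf 0) (.leaf 1)) (.node (.leaf 13) (.leaf 0))) (.node (.node (.leaf 6) (.leaf 5)) (.node (.leaf 2) (.leaf 0)))) (.node (.node (.node (.leaf 12) (.leaf 0)) (.node (.leaf 3) (.leaf 0))) (.node (.node (.leaf 4) (.leaf 5)) (.node (.leaf 8) (.leaf 0)))))))) (.node (.node (.node (.node (.node (.node (.node (.leaf 14) (.leaf 3)) (.node (.leaf 12) (.leaf 0))) (.node (.node (.leaf 7) (.leaf 3)) (.node (.leaf 7) (.leaf 0)))) (.node (.node (.node (.leaf 7) (.leaf 4)) (.node (.leaf 6) (.leaf 0))) (.node (.node (.leaf 12) (.leaf 5)) (.leaf 0)))) (.node (.node (.node (.node (.leaf 6) (.leaf 11)) (.node (.leaf 3) (.leaf 0))) (.node (.node (.leaf 6) (.leaf 11)) (.node (.leaf 11) (.leaf 0)))) (.node (.node (.node (.leaf 12) (.leaf 0)) (.node (.leaf 6) (.leaf 0))) (.node (.node (.leaf 11) (.leaf 7)) (.node (.leaf 11) (.leaf 0)))))) (.node (.node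 (.node (.node (.node (.leaf 11) (.leaf 3)) (.node (.leaf 6) (.leaf 0))) (.node (.node (.leaf 2) (.leaf 5)) (.node (.leaf 9) (.leaf 0)))) (.node (.node (.node (.leaf 12) (.leaf 0)) (.node (.leaf 6) (.leaf 0))) (.node (.node (.leaf 10) (.leaf 14)) (.node (.leaf 15) (.leaf 0))))) (.node (.node (.node (.node (.leaf 0) (.leaf 4)) (.node (.leaf 5) (.leaf 0))) (.node (.node (.leaf 7) (.leaf 10)) (.node (.leaf 10) (.leaf 0)))) (.node (.node (.node (.leaf 13) (.leaf 0)) (.node (.leaf 11) (.leaf 0))) (.node (.node (.leaf 10) (.leaf 4)) (.node (.leaf 2) (.leaf 0))))))) (.node (.node (.node (.node (.node (.node (.leaf 5) (.leaf 8)) (.node (.leaf 11) (.leaf 0))) (.node (.node (.leaf 10) (.leaf 12)) (.node (.leaf 8) (.leaf 0)))) (.node (.node (.node (.leaf 2) (.leaf 0)) (.node (.leaf 2) (.leaf 0))) (.node (.node (.leaf 13) (.leaf 3)) (.leaf 0)))) (.node (.node (.node (.node (.leaf 0) (.leaf 11)) (.node (.leaf 6) (.leaf 0))) (.node (.node (.leaf 10) (.leaf 4)) (.node (.leaf 14) (.leaf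 0)))) (.node (.node (.node (.leaf 10) (.leaf 0)) (.node (.leaf 12) (.leaf 0))) (.node (.node (.leaf 1) (.leaf 8)) (.node (.leaf 15) (.leaf 0)))))) (.node (.node (.node (.node (.node (.leaf 5) (.leaf 14)) (.node (.leaf 8) (.leaf 0))) (.node (.node (.leaf 13) (.leaf 6)) (.node (.leaf 4) (.leaf 0)))) (.node (.node (.node (.leaf 4) (.leaf 0)) (.node (.leaf 13) (.leaf 0))) (.node (.node (.leaf 4) (.leaf 5)) (.node (.leaf 4) (.leaf 0))))) (.node (.node (.node (.node (.leaf 15) (.leaf 10)) (.node (.leaf 8) (.leaf 0))) (.node (.node (.leaf 15) (.leaf 4)) (.node (.leaf 8) (.leaf 0)))) (.node (.node (.node (.leaf 4) (.leaf 0)) (.node (.leaf 4) (.leaf 0))) (.node (.node (.leaf 2) (.leaf 0)) (.node (.leaf 13) (.leaf 0))))))))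

/-- Classes modulo the first ideal, part 25. -/
def clsAPart25 : Tree :=
  .node (.node (.node (.node (.node (.node (.node (.node (.leaf 7) (.leaf 9)) (.node (.leaf 6) (.leaf 0))) (.node (.node (.leaf 1) (.leaf 0)) (.node (.leaf 7) (.leaf 0)))) (.node (.node (.node (.leaf 10) (.leaf 6)) (.node (.leaf 15) (.leaf 0))) (.node (.leaf 5) (.leaf 0)))) (.node (.node (.node (.node (.leaf 3) (.leaf 4)) (.node (.leaf 7) (.leaf 0))) (.node (.node (.leaf 6) (.leaf 3)) (.node (.leaf 14) (.leaf 0)))) (.node (.node (.node (.leaf 9) (.leaf 0)) (.node (.leaf 3) (.leaf 0))) (.node (.node (.leaf 11) (.leaf 4)) (.node (.leaf 6) (.leaf 0)))))) (.node (.node (.node (.node (.node (.leaf 12) (.leaf 7)) (.node (.leaf 3) (.leaf 0))) (.node (.node (.leaf 2) (.leaf 1)) (.node (.leaf 9) (.leaf 0)))) (.node (.node (.node (.leaf 10) (.leaf 0)) (.node (.leaf 13) (.leaf 0))) (.node (.node (.leaf 5) (.leaf 7)) (.node (.leaf 15) (.leaf 0))))) (.node (.node (.node (.node (.leaf 0) (.leaf 12)) (.node (.leaf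 2) (.leaf 0))) (.node (.node (.leaf 15) (.leaf 5)) (.node (.leaf 13) (.leaf 0)))) (.node (.node (.node (.leaf 8) (.leaf 0)) (.node (.leaf 15) (.leaf 0))) (.node (.node (.leaf 1) (.leaf 2)) (.node (.leaf 10) (.leaf 0))))))) (.node (.node (.node (.node (.node (.node (.leaf 9) (.leaf 10)) (.node (.leaf 11) (.leaf 0))) (.node (.node (.leaf 9) (.leaf 15)) (.node (.leaf 5) (.leaf 0)))) (.node (.node (.node (.leaf 6) (.leaf 0)) (.node (.leaf 9) (.leaf 0))) (.node (.node (.leaf 6) (.leaf 9)) (.leaf 0)))) (.node (.node (.node (.node (.leaf 4) (.leaf 3)) (.node (.leaf 8) (.leaf 0))) (.node (.node (.leaf 14) (.leaf 12)) (.node (.leaf 3) (.leaf 0)))) (.node (.node (.node (.leaf 10) (.leaf 0)) (.node (.leaf 14) (.leaf 0))) (.node (.node (.leaf 4) (.leaf 8)) (.node (.leaf 8) (.leaf 0)))))) (.node (.node (.node (.node (.node (.leaf 5) (.leaf 8)) (.node (.leaf 4) (.leaf 0))) (.node (.node (.leaf 8) (.leaf 5)) (.node (.leaf 1) (.leaf 0)))) (.node (.node (.node (.leaf 13) (.leaf 0)) (.node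 (.leaf 13) (.leaf 0))) (.node (.node (.leaf 6) (.leaf 9)) (.node (.leaf 2) (.leaf 0))))) (.node (.node (.node (.node (.leaf 0) (.leaf 5)) (.node (.leaf 14) (.leaf 0))) (.node (.node (.leaf 9) (.leaf 6)) (.node (.leaf 9) (.leaf 0)))) (.node (.node (.node (.leaf 15) (.leaf 0)) (.node (.leaf 3) (.leaf 0))) (.node (.leaf 14) (.node (.leaf 13) (.leaf 0)))))))) (.node (.node (.node (.node (.node (.node (.node (.leaf 11) (.leaf 14)) (.node (.leaf 8) (.leaf 0))) (.node (.node (.leaf 10) (.leaf 11)) (.node (.leaf 8) (.leaf 0)))) (.node (.node (.node (.leaf 8) (.leaf 3)) (.node (.leaf 9) (.leaf 0))) (.node (.node (.leaf 12) (.leaf 9)) (.leaf 0)))) (.node (.node (.node (.node (.leaf 1) (.leaf 5)) (.node (.leaf 5) (.leaf 0))) (.node (.node (.leaf 2) (.leaf 11)) (.node (.leaf 8) (.leaf 0)))) (.node (.node (.node (.leaf 6) (.leaf 0)) (.node (.leaf 6) (.leaf 0))) (.node (.node (.leaf 15) (.leaf 3)) (.node (.leaf 10) (.leaf 0)))))) (.node (.node (.node (.node (.node (.leaf 6) (.leaf 5))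 (.node (.leaf 1) (.leaf 0))) (.node (.node (.leaf 13) (.leaf 10)) (.node (.leaf 7) (.leaf 0)))) (.node (.node (.node (.leaf 15) (.leaf 0)) (.node (.leaf 8) (.leaf 0))) (.node (.node (.leaf 13) (.leaf 11)) (.node (.leaf 8) (.leaf 0))))) (.node (.node (.node (.node (.leaf 0) (.leaf 1)) (.node (.leaf 3) (.leaf 0))) (.node (.leaf 13) (.node (.leaf 10) (.leaf 0)))) (.node (.node (.node (.leaf 13) (.leaf 0)) (.node (.leaf 4) (.leaf 0))) (.node (.node (.leaf 14) (.leaf 11)) (.node (.leaf 9) (.leaf 0))))))) (.node (.node (.node (.node (.node (.node (.leaf 5) (.leaf 4)) (.node (.leaf 2) (.leaf 0))) (.node (.node (.leaf 5) (.leaf 4)) (.node (.leaf 3) (.leaf 0)))) (.node (.node (.node (.leaf 2) (.leaf 0)) (.node (.leaf 15) (.leaf 0))) (.node (.node (.leaf 5) (.leaf 3)) (.leaf 0)))) (.node (.node (.node (.node (.leaf 0) (.leaf 11)) (.node (.leaf 11) (.leaf 0))) (.node (.node (.leaf 12) (.leaf 1)) (.node (.leaf 2) (.leaf 0)))) (.node (.node (.node (.leaf 2) (.leaf 0)) (.node (.leaf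 15) (.leaf 0))) (.node (.node (.leaf 1) (.leaf 14)) (.node (.leaf 13) (.leaf 0)))))) (.node (.node (.node (.node (.node (.leaf 2) (.leaf 9)) (.node (.leaf 4) (.leaf 0))) (.node (.node (.leaf 9) (.leaf 4)) (.node (.leaf 10) (.leaf 0)))) (.node (.node (.node (.leaf 8) (.leaf 0)) (.node (.leaf 3) (.leaf 0))) (.node (.node (.leaf 3) (.leaf 8)) (.node (.leaf 4) (.leaf 0))))) (.node (.node (.node (.node (.leaf 6) (.leaf 13)) (.node (.leaf 8) (.leaf 0))) (.node (.node (.leaf 11) (.leaf 3)) (.node (.leaf 13) (.leaf 0)))) (.node (.node (.node (.leaf 1) (.leaf 0)) (.node (.leaf 13) (.leaf 0))) (.node (.node (.leaf 12) (.leaf 0)) (.node (.leaf 11) (.leaf 0))))))))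

/-- Classes modulo the first ideal, part 5. -/
def clsAPart5 : Tree :=
  .node (.node (.node (.node (.node (.node (.node (.node (.leaf 2) (.leaf 11)) (.node (.leaf 4) (.leaf 0))) (.node (.node (.leaf 15) (.leaf 0)) (.node (.leaf 9) (.leaf 0)))) (.node (.node (.node (.leaf 3) (.leaf 10)) (.node (.leaf 12) (.leaf 0))) (.node (.node (.leaf 4) (.leaf 8)) (.node (.leaf 13) (.leaf 0))))) (.node (.node (.node (.node (.leaf 2) (.leaf 6)) (.node (.leaf 1) (.leaf 0))) (.node (.node (.leaf 6) (.leaf 11)) (.node (.leaf 7) (.leaf 0)))) (.node (.node (.node (.leaf 4) (.leaf 0)) (.node (.leaf 10) (.leaf 0))) (.node (.node (.leaf 8) (.leaf 14)) (.node (.leaf 15) (.leaf 0)))))) (.node (.node (.node (.node (.leaf 1) (.node (.leaf 2) (.leaf 0))) (.node (.node (.leaf 6) (.leaf 11)) (.node (.leaf 9) (.leaf 0)))) (.node (.node (.node (.leaf 6) (.leaf 0)) (.node (.leaf 1) (.leaf 0))) (.node (.node (.leaf 5) (.leaf 2)) (.leaf 0)))) (.node (.node (.node (.node (.leaf 0) (.leaf 3)) (.node (.leaf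 8) (.leaf 0))) (.node (.node (.leaf 2) (.leaf 11)) (.node (.leaf 12) (.leaf 0)))) (.node (.node (.node (.leaf 2) (.leaf 0)) (.node (.leaf 14) (.leaf 0))) (.node (.node (.leaf 5) (.leaf 14)) (.node (.leaf 15) (.leaf 0))))))) (.node (.node (.node (.node (.node (.node (.leaf 13) (.leaf 10)) (.node (.leaf 3) (.leaf 0))) (.node (.node (.leaf 12) (.leaf 10)) (.node (.leaf 8) (.leaf 0)))) (.node (.node (.node (.leaf 14) (.leaf 8)) (.node (.leaf 4) (.leaf 0))) (.node (.node (.leaf 7) (.leaf 12)) (.leaf 0)))) (.node (.node (.node (.node (.leaf 4) (.leaf 1)) (.node (.leaf 8) (.leaf 0))) (.node (.node (.leaf 4) (.leaf 3)) (.node (.leaf 1) (.leaf 0)))) (.node (.node (.node (.leaf 5) (.leaf 0)) (.node (.leaf 8) (.leaf 0))) (.node (.node (.leaf 5) (.leaf 12)) (.node (.leaf 12) (.leaf 0)))))) (.node (.node (.node (.node (.node (.leaf 10) (.leaf 8)) (.node (.leaf 4) (.leaf 0))) (.node (.node (.leaf 13) (.leaf 4)) (.node (.leaf 12) (.leaf 0)))) (.node (.node (.node (.leaf 2) (.leaf 0))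 (.node (.leaf 11) (.leaf 0))) (.node (.node (.leaf 10) (.leaf 13)) (.node (.leaf 1) (.leaf 0))))) (.node (.node (.node (.node (.leaf 0) (.leaf 11)) (.node (.leaf 3) (.leaf 0))) (.node (.node (.leaf 14) (.leaf 10)) (.node (.leaf 11) (.leaf 0)))) (.node (.node (.node (.leaf 13) (.leaf 0)) (.node (.leaf 10) (.leaf 0))) (.node (.node (.leaf 1) (.leaf 14)) (.node (.leaf 4) (.leaf 0)))))))) (.node (.node (.node (.node (.node (.node (.node (.leaf 13) (.leaf 3)) (.node (.leaf 14) (.leaf 0))) (.node (.node (.leaf 5) (.leaf 0)) (.node (.leaf 14) (.leaf 0)))) (.node (.node (.node (.leaf 12) (.leaf 3)) (.node (.leaf 1) (.leaf 0))) (.node (.node (.leaf 1) (.leaf 8)) (.leaf 0)))) (.node (.node (.node (.node (.leaf 6) (.leaf 10)) (.node (.leaf 7) (.leaf 0))) (.node (.leaf 5) (.node (.leaf 9) (.leaf 0)))) (.node (.node (.node (.leaf 6) (.leaf 0)) (.node (.leaf 10) (.leaf 0))) (.node (.node (.leaf 10) (.leaf 2)) (.node (.leaf 3) (.leaf 0)))))) (.node (.node (.node (.node (.leaf 7) (.node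 (.leaf 6) (.leaf 0))) (.node (.node (.leaf 15) (.leaf 4)) (.node (.leaf 13) (.leaf 0)))) (.node (.node (.node (.leaf 5) (.leaf 0)) (.node (.leaf 8) (.leaf 0))) (.node (.node (.leaf 5) (.leaf 13)) (.node (.leaf 7) (.leaf 0))))) (.node (.node (.node (.node (.leaf 0) (.leaf 8)) (.node (.leaf 8) (.leaf 0))) (.node (.node (.leaf 6) (.leaf 5)) (.node (.leaf 15) (.leaf 0)))) (.node (.node (.node (.leaf 13) (.leaf 0)) (.node (.leaf 13) (.leaf 0))) (.node (.node (.leaf 11) (.leaf 13)) (.node (.leaf 11) (.leaf 0))))))) (.node (.node (.node (.node (.node (.node (.leaf 9) (.leaf 15)) (.node (.leaf 1) (.leaf 0))) (.node (.node (.leaf 1) (.leaf 5)) (.node (.leaf 12) (.leaf 0)))) (.node (.node (.node (.leaf 13) (.leaf 0)) (.node (.leaf 9) (.leaf 0))) (.node (.node (.leaf 10) (.leaf 12)) (.leaf 0)))) (.node (.node (.node (.node (.leaf 14) (.leaf 5)) (.node (.leaf 7) (.leaf 0))) (.node (.node (.leaf 13) (.leaf 8)) (.node (.leaf 11) (.leaf 0)))) (.node (.node (.node (.leaf 14) (.leaf 0))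 (.node (.leaf 7) (.leaf 0))) (.node (.node (.leaf 11) (.leaf 8)) (.node (.leaf 14) (.leaf 0)))))) (.node (.node (.node (.node (.node (.leaf 5) (.leaf 14)) (.node (.leaf 14) (.leaf 0))) (.node (.node (.leaf 4) (.leaf 9)) (.node (.leaf 8) (.leaf 0)))) (.node (.node (.node (.leaf 13) (.leaf 0)) (.node (.leaf 5) (.leaf 0))) (.node (.node (.leaf 3) (.leaf 9)) (.node (.leaf 9) (.leaf 0))))) (.node (.node (.node (.node (.leaf 15) (.leaf 5)) (.node (.leaf 9) (.leaf 0))) (.node (.node (.leaf 7) (.leaf 3)) (.node (.leaf 4) (.leaf 0)))) (.node (.node (.node (.leaf 2) (.leaf 0)) (.node (.leaf 15) (.leaf 0))) (.node (.node (.leaf 8) (.leaf 3)) (.node (.leaf 13) (.leaf 0))))))))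

/-- Classes modulo the first ideal, part 21. -/
def clsAPart21 : Tree :=
  .node (.node (.node (.node (.node (.node (.node (.node (.leaf 3) (.leaf 1)) (.node (.leaf 9) (.leaf 0))) (.node (.node (.leaf 7) (.leaf 0)) (.node (.leaf 14) (.leaf 0)))) (.node (.node (.node (.leaf 5) (.leaf 9)) (.node (.leaf 4) (.leaf 0))) (.node (.node (.leaf 1) (.leaf 3)) (.leaf 0)))) (.node (.node (.node (.node (.leaf 15) (.leaf 13)) (.node (.leaf 2) (.leaf 0))) (.node (.node (.leaf 2) (.leaf 8)) (.node (.leaf 7) (.leaf 0)))) (.node (.node (.node (.leaf 3) (.leaf 0)) (.node (.leaf 14) (.leaf 0))) (.node (.node (.leaf 5) (.leaf 1)) (.node (.leaf 15) (.leaf 0)))))) (.node (.node (.node (.node (.node (.leaf 15) (.leaf 2)) (.node (.leaf 15) (.leaf 0))) (.node (.node (.leaf 15) (.leaf 11)) (.node (.leaf 7) (.leaf 0)))) (.node (.node (.node (.leaf 13) (.leaf 0)) (.node (.leaf 5) (.leaf 0))) (.node (.node (.leaf 4) (.leaf 3)) (.node (.leaf 11) (.leaf 0))))) (.node (.node (.node (.node (.leaf 0) (.leaf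 5)) (.node (.leaf 14) (.leaf 0))) (.node (.node (.leaf 2) (.leaf 4)) (.node (.leaf 15) (.leaf 0)))) (.node (.node (.node (.leaf 4) (.leaf 0)) (.node (.leaf 11) (.leaf 0))) (.node (.node (.leaf 4) (.leaf 6)) (.node (.leaf 14) (.leaf 0))))))) (.node (.node (.node (.node (.node (.node (.leaf 5) (.leaf 12)) (.node (.leaf 1) (.leaf 0))) (.node (.leaf 3) (.node (.leaf 10) (.leaf 0)))) (.node (.node (.node (.leaf 9) (.leaf 0)) (.node (.leaf 11) (.leaf 0))) (.node (.node (.leaf 11) (.leaf 15)) (.leaf 0)))) (.node (.node (.node (.node (.leaf 10) (.leaf 3)) (.node (.leaf 8) (.leaf 0))) (.node (.node (.leaf 6) (.leaf 5)) (.node (.leaf 3) (.leaf 0)))) (.node (.node (.node (.leaf 15) (.leaf 0)) (.node (.leaf 10) (.leaf 0))) (.node (.leaf 8) (.node (.leaf 15) (.leaf 0)))))) (.node (.node (.node (.node (.node (.leaf 5) (.leaf 8)) (.node (.leaf 10) (.leaf 0))) (.node (.node (.leaf 12) (.leaf 10)) (.node (.leaf 9) (.leaf 0)))) (.node (.node (.node (.leaf 12) (.leaf 0)) (.node (.leaf 6)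 (.leaf 0))) (.node (.node (.leaf 9) (.leaf 5)) (.node (.leaf 2) (.leaf 0))))) (.node (.node (.node (.node (.leaf 0) (.leaf 4)) (.node (.leaf 7) (.leaf 0))) (.node (.leaf 9) (.node (.leaf 2) (.leaf 0)))) (.node (.node (.node (.leaf 12) (.leaf 0)) (.node (.leaf 6) (.leaf 0))) (.node (.node (.leaf 2) (.leaf 1)) (.node (.leaf 13) (.leaf 0)))))))) (.node (.node (.node (.node (.node (.node (.node (.leaf 15) (.leaf 11)) (.node (.leaf 9) (.leaf 0))) (.node (.node (.leaf 10) (.leaf 5)) (.node (.leaf 10) (.leaf 0)))) (.node (.node (.node (.leaf 15) (.leaf 11)) (.node (.leaf 4) (.leaf 0))) (.node (.node (.leaf 15) (.leaf 10)) (.leaf 0)))) (.node (.node (.node (.node (.leaf 2) (.leaf 14)) (.node (.leaf 12) (.leaf 0))) (.node (.node (.leaf 13) (.leaf 10)) (.node (.leaf 11) (.leaf 0)))) (.node (.node (.node (.leaf 2) (.leaf 0)) (.node (.leaf 10) (.leaf 0))) (.node (.node (.leaf 3) (.leaf 7)) (.node (.leaf 5) (.leaf 0)))))) (.node (.node (.node (.node (.node (.leaf 11) (.leaf 12)) (.node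 (.leaf 2) (.leaf 0))) (.node (.node (.leaf 12) (.leaf 5)) (.node (.leaf 8) (.leaf 0)))) (.node (.node (.node (.leaf 2) (.leaf 0)) (.node (.leaf 6) (.leaf 0))) (.node (.node (.leaf 4) (.leaf 15)) (.node (.leaf 5) (.leaf 0))))) (.node (.node (.node (.node (.leaf 0) (.leaf 11)) (.node (.leaf 13) (.leaf 0))) (.node (.node (.leaf 7) (.leaf 4)) (.node (.leaf 14) (.leaf 0)))) (.node (.node (.node (.leaf 13) (.leaf 0)) (.node (.leaf 4) (.leaf 0))) (.node (.node (.leaf 2) (.leaf 10)) (.node (.leaf 2) (.leaf 0))))))) (.node (.node (.node (.node (.node (.node (.leaf 2) (.leaf 14)) (.node (.leaf 3) (.leaf 0))) (.node (.node (.leaf 3) (.leaf 8)) (.node (.leaf 6) (.leaf 0)))) (.node (.node (.node (.leaf 4) (.leaf 0)) (.node (.leaf 5) (.leaf 0))) (.node (.node (.leaf 5) (.leaf 12)) (.leaf 0)))) (.node (.node (.node (.node (.leaf 0) (.leaf 10)) (.node (.leaf 6) (.leaf 0))) (.node (.node (.leaf 5) (.leaf 11)) (.node (.leaf 10) (.leaf 0)))) (.node (.node (.node (.leaf 11) (.leaf 0)) (.node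 (.leaf 11) (.leaf 0))) (.node (.node (.leaf 11) (.leaf 14)) (.node (.leaf 9) (.leaf 0)))))) (.node (.node (.node (.node (.node (.leaf 3) (.leaf 14)) (.node (.leaf 14) (.leaf 0))) (.node (.leaf 3) (.node (.leaf 13) (.leaf 0)))) (.node (.node (.node (.leaf 12) (.leaf 0)) (.node (.leaf 4) (.leaf 0))) (.node (.node (.leaf 11) (.leaf 2)) (.node (.leaf 9) (.leaf 0))))) (.node (.node (.node (.node (.leaf 15) (.leaf 4)) (.node (.leaf 13) (.leaf 0))) (.node (.node (.leaf 12) (.leaf 11)) (.node (.leaf 13) (.leaf 0)))) (.node (.node (.node (.leaf 7) (.leaf 0)) (.node (.leaf 6) (.leaf 0))) (.node (.node (.leaf 12) (.leaf 0)) (.node (.leaf 9) (.leaf 0))))))))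

/-- Classes modulo the first ideal, part 13. -/
def clsAPart13 : Tree :=
  .node (.node (.node (.node (.node (.node (.node (.node (.leaf 3) (.leaf 4)) (.node (.leaf 15) (.leaf 0))) (.node (.node (.leaf 12) (.leaf 0)) (.node (.leaf 1) (.leaf 0)))) (.node (.node (.leaf 14) (.node (.leaf 1) (.leaf 0))) (.node (.node (.leaf 11) (.leaf 2)) (.node (.leaf 12) (.leaf 0))))) (.node (.node (.node (.node (.leaf 12) (.leaf 1)) (.node (.leaf 2) (.leaf 0))) (.node (.node (.leaf 9) (.leaf 6)) (.node (.leaf 10) (.leaf 0)))) (.node (.node (.node (.leaf 1) (.leaf 0)) (.node (.leaf 8) (.leaf 0))) (.node (.node (.leaf 6) (.leaf 12)) (.node (.leaf 4) (.leaf 0)))))) (.node (.node (.node (.node (.node (.leaf 10) (.leaf 2)) (.node (.leaf 12) (.leaf 0))) (.node (.node (.leaf 14) (.leaf 4)) (.node (.leaf 3) (.leaf 0)))) (.node (.node (.node (.leaf 3) (.leaf 0)) (.node (.leaf 4) (.leaf 0))) (.node (.node (.leaf 4) (.leaf 3)) (.node (.leaf 12) (.leaf 0))))) (.node (.node (.node (.node (.leaf 0) (.leaf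 9)) (.node (.leaf 4) (.leaf 0))) (.node (.node (.leaf 12) (.leaf 1)) (.node (.leaf 2) (.leaf 0)))) (.node (.node (.node (.leaf 1) (.leaf 0)) (.node (.leaf 10) (.leaf 0))) (.node (.node (.leaf 15) (.leaf 3)) (.node (.leaf 4) (.leaf 0))))))) (.node (.node (.node (.node (.node (.node (.leaf 15) (.leaf 2)) (.node (.leaf 15) (.leaf 0))) (.node (.leaf 14) (.node (.leaf 11) (.leaf 0)))) (.node (.node (.node (.leaf 1) (.leaf 0)) (.node (.leaf 11) (.leaf 0))) (.node (.node (.leaf 11) (.leaf 13)) (.leaf 0)))) (.node (.node (.node (.node (.leaf 7) (.leaf 15)) (.node (.leaf 5) (.leaf 0))) (.node (.node (.leaf 1) (.leaf 9)) (.node (.leaf 6) (.leaf 0)))) (.node (.node (.node (.leaf 5) (.leaf 0)) (.node (.leaf 1) (.leaf 0))) (.node (.leaf 7) (.node (.leaf 3) (.leaf 0)))))) (.node (.node (.node (.node (.node (.leaf 11) (.leaf 5)) (.node (.leaf 7) (.leaf 0))) (.node (.node (.leaf 7) (.leaf 8)) (.node (.leaf 15) (.leaf 0)))) (.node (.node (.node (.leaf 15) (.leaf 0)) (.node (.leaf 7) (.leaf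 0))) (.node (.node (.leaf 14) (.leaf 15)) (.node (.leaf 3) (.leaf 0))))) (.node (.node (.node (.node (.leaf 0) (.leaf 1)) (.node (.leaf 10) (.leaf 0))) (.node (.node (.leaf 3) (.leaf 14)) (.node (.leaf 2) (.leaf 0)))) (.node (.node (.node (.leaf 14) (.leaf 0)) (.node (.leaf 1) (.leaf 0))) (.node (.node (.leaf 4) (.leaf 15)) (.node (.leaf 2) (.leaf 0)))))))) (.node (.node (.node (.node (.node (.node (.node (.leaf 10) (.leaf 13)) (.node (.leaf 5) (.leaf 0))) (.node (.node (.leaf 8) (.leaf 6)) (.node (.leaf 6) (.leaf 0)))) (.node (.node (.node (.leaf 3) (.leaf 6)) (.node (.leaf 8) (.leaf 0))) (.node (.node (.leaf 10) (.leaf 13)) (.leaf 0)))) (.node (.node (.node (.node (.leaf 8) (.leaf 6)) (.node (.leaf 15) (.leaf 0))) (.node (.node (.leaf 9) (.leaf 7)) (.node (.leaf 13) (.leaf 0)))) (.node (.node (.node (.leaf 9) (.leaf 0)) (.node (.leaf 3) (.leaf 0))) (.node (.node (.leaf 14) (.leaf 7)) (.node (.leaf 14) (.leaf 0)))))) (.node (.node (.node (.node (.node (.leaf 11) (.leaf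 15)) (.node (.leaf 8) (.leaf 0))) (.node (.node (.leaf 3) (.leaf 7)) (.node (.leaf 3) (.leaf 0)))) (.node (.node (.node (.leaf 10) (.leaf 0)) (.node (.leaf 4) (.leaf 0))) (.node (.node (.leaf 2) (.leaf 10)) (.node (.leaf 12) (.leaf 0))))) (.node (.node (.node (.node (.leaf 0) (.leaf 12)) (.node (.leaf 14) (.leaf 0))) (.node (.node (.leaf 5) (.leaf 2)) (.node (.leaf 4) (.leaf 0)))) (.node (.node (.node (.leaf 8) (.leaf 0)) (.node (.leaf 5) (.leaf 0))) (.node (.node (.leaf 11) (.leaf 3)) (.node (.leaf 2) (.leaf 0))))))) (.node (.node (.node (.node (.node (.node (.leaf 12) (.leaf 13)) (.node (.leaf 9) (.leaf 0))) (.node (.node (.leaf 13) (.leaf 7)) (.node (.leaf 15) (.leaf 0)))) (.node (.node (.node (.leaf 11) (.leaf 0)) (.node (.leaf 13) (.leaf 0))) (.node (.node (.leaf 11) (.leaf 9)) (.leaf 0)))) (.node (.node (.node (.node (.leaf 0) (.leaf 7)) (.node (.leaf 6) (.leaf 0))) (.node (.node (.leaf 11) (.leaf 12)) (.node (.leaf 5) (.leaf 0)))) (.node (.node (.node (.leaf 11)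 (.leaf 0)) (.node (.leaf 7) (.leaf 0))) (.node (.node (.leaf 4) (.leaf 10)) (.node (.leaf 1) (.leaf 0)))))) (.node (.node (.node (.node (.node (.leaf 4) (.leaf 12)) (.node (.leaf 13) (.leaf 0))) (.node (.node (.leaf 1) (.leaf 11)) (.node (.leaf 2) (.leaf 0)))) (.node (.node (.node (.leaf 7) (.leaf 0)) (.node (.leaf 8) (.leaf 0))) (.node (.node (.leaf 6) (.leaf 12)) (.node (.leaf 2) (.leaf 0))))) (.node (.node (.node (.node (.leaf 4) (.leaf 2)) (.node (.leaf 9) (.leaf 0))) (.node (.node (.leaf 8) (.leaf 6)) (.node (.leaf 2) (.leaf 0)))) (.node (.node (.node (.leaf 2) (.leaf 0)) (.node (.leaf 8) (.leaf 0))) (.node (.node (.leaf 13) (.leaf 0)) (.node (.leaf 12) (.leaf 0))))))))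

/-- Classes modulo the first ideal, part 29. -/
def clsAPart29 : Tree :=
  .node (.node (.node (.node (.node (.node (.node (.node (.leaf 8) (.leaf 6)) (.node (.leaf 3) (.leaf 0))) (.node (.node (.leaf 8) (.leaf 0)) (.node (.leaf 15) (.leaf 0)))) (.node (.node (.node (.leaf 9) (.leaf 11)) (.node (.leaf 5) (.leaf 0))) (.node (.node (.leaf 8) (.leaf 3)) (.leaf 0)))) (.node (.node (.node (.node (.leaf 9) (.leaf 3)) (.node (.leaf 7) (.leaf 0))) (.node (.node (.leaf 9) (.leaf 6)) (.node (.leaf 14) (.leaf 0)))) (.node (.node (.node (.leaf 2) (.leaf 0)) (.node (.leaf 13) (.leaf 0))) (.node (.node (.leaf 7) (.leaf 2)) (.node (.leaf 9) (.leaf 0)))))) (.node (.node (.node (.node (.leaf 7) (.node (.leaf 9) (.leaf 0))) (.node (.leaf 1) (.node (.leaf 3) (.leaf 0)))) (.node (.node (.node (.leaf 11) (.leaf 0)) (.node (.leaf 1) (.leaf 0))) (.node (.node (.leaf 7) (.leaf 8)) (.node (.leaf 13) (.leaf 0))))) (.node (.node (.node (.node (.leaf 0) (.leaf 7)) (.node (.leaf 10) (.leaf 0))) (.node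 (.node (.leaf 15) (.leaf 7)) (.node (.leaf 5) (.leaf 0)))) (.node (.node (.node (.leaf 2) (.leaf 0)) (.node (.leaf 5) (.leaf 0))) (.node (.node (.leaf 14) (.leaf 1)) (.node (.leaf 11) (.leaf 0))))))) (.node (.node (.node (.node (.node (.node (.leaf 12) (.leaf 2)) (.node (.leaf 14) (.leaf 0))) (.node (.node (.leaf 6) (.leaf 9)) (.node (.leaf 13) (.leaf 0)))) (.node (.node (.node (.leaf 9) (.leaf 0)) (.node (.leaf 9) (.leaf 0))) (.node (.node (.leaf 14) (.leaf 5)) (.leaf 0)))) (.node (.node (.node (.node (.leaf 7) (.leaf 6)) (.node (.leaf 10) (.leaf 0))) (.node (.node (.leaf 3) (.leaf 7)) (.node (.leaf 13) (.leaf 0)))) (.node (.node (.node (.leaf 4) (.leaf 0)) (.node (.leaf 15) (.leaf 0))) (.node (.node (.leaf 12) (.leaf 5)) (.node (.leaf 1) (.leaf 0)))))) (.node (.node (.node (.node (.node (.leaf 13) (.leaf 10)) (.node (.leaf 7) (.leaf 0))) (.node (.node (.leaf 5) (.leaf 14)) (.node (.leaf 6) (.leaf 0)))) (.node (.node (.node (.leaf 11) (.leaf 0)) (.node (.leaf 6) (.leaf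 0))) (.node (.node (.leaf 11) (.leaf 12)) (.node (.leaf 6) (.leaf 0))))) (.node (.node (.node (.node (.leaf 0) (.leaf 7)) (.node (.leaf 11) (.leaf 0))) (.node (.node (.leaf 5) (.leaf 11)) (.node (.leaf 1) (.leaf 0)))) (.node (.node (.node (.leaf 1) (.leaf 0)) (.node (.leaf 9) (.leaf 0))) (.node (.node (.leaf 13) (.leaf 15)) (.node (.leaf 8) (.leaf 0)))))))) (.node (.node (.node (.node (.node (.node (.node (.leaf 12) (.leaf 5)) (.node (.leaf 12) (.leaf 0))) (.node (.node (.leaf 14) (.leaf 7)) (.node (.leaf 2) (.leaf 0)))) (.node (.node (.node (.leaf 1) (.leaf 6)) (.node (.leaf 6) (.leaf 0))) (.node (.node (.leaf 7) (.leaf 15)) (.leaf 0)))) (.node (.node (.node (.node (.leaf 13) (.leaf 15)) (.node (.leaf 7) (.leaf 0))) (.node (.node (.leaf 11) (.leaf 14)) (.node (.leaf 4) (.leaf 0)))) (.node (.node (.node (.leaf 9) (.leaf 0)) (.node (.leaf 7) (.leaf 0))) (.node (.node (.leaf 9) (.leaf 15)) (.node (.leaf 9) (.leaf 0)))))) (.node (.node (.node (.node (.node (.leaf 14) (.leaf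 7)) (.node (.leaf 13) (.leaf 0))) (.node (.node (.leaf 11) (.leaf 2)) (.node (.leaf 2) (.leaf 0)))) (.node (.node (.node (.leaf 12) (.leaf 0)) (.node (.leaf 4) (.leaf 0))) (.node (.node (.leaf 8) (.leaf 12)) (.node (.leaf 4) (.leaf 0))))) (.node (.node (.node (.node (.leaf 0) (.leaf 4)) (.node (.leaf 10) (.leaf 0))) (.node (.node (.leaf 10) (.leaf 8)) (.node (.leaf 11) (.leaf 0)))) (.node (.node (.node (.leaf 12) (.leaf 0)) (.node (.leaf 1) (.leaf 0))) (.node (.node (.leaf 2) (.leaf 6)) (.node (.leaf 1) (.leaf 0))))))) (.node (.node (.node (.node (.node (.node (.leaf 8) (.leaf 12)) (.node (.leaf 8) (.leaf 0))) (.node (.node (.leaf 10) (.leaf 12)) (.node (.leaf 7) (.leaf 0)))) (.node (.node (.node (.leaf 1) (.leaf 0)) (.node (.leaf 12) (.leaf 0))) (.node (.node (.leaf 13) (.leaf 2)) (.leaf 0)))) (.node (.node (.node (.node (.leaf 0) (.leaf 14)) (.node (.leaf 5) (.leaf 0))) (.node (.node (.leaf 10) (.leaf 4)) (.node (.leaf 2) (.leaf 0)))) (.node (.node (.node (.leaf 2) (.leaf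 0)) (.node (.leaf 11) (.leaf 0))) (.node (.node (.leaf 1) (.leaf 12)) (.node (.leaf 5) (.leaf 0)))))) (.node (.node (.node (.node (.node (.leaf 8) (.leaf 3)) (.node (.leaf 12) (.leaf 0))) (.node (.node (.leaf 2) (.leaf 6)) (.node (.leaf 4) (.leaf 0)))) (.node (.node (.node (.leaf 5) (.leaf 0)) (.node (.leaf 14) (.leaf 0))) (.node (.node (.leaf 6) (.leaf 13)) (.node (.leaf 5) (.leaf 0))))) (.node (.node (.node (.node (.leaf 9) (.leaf 8)) (.node (.leaf 5) (.leaf 0))) (.node (.node (.leaf 11) (.leaf 6)) (.node (.leaf 8) (.leaf 0)))) (.node (.node (.node (.leaf 7) (.leaf 0)) (.node (.leaf 4) (.leaf 0))) (.node (.node (.leaf 15) (.leaf 0)) (.node (.leaf 13) (.leaf 0))))))))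

/-- Classes modulo the first ideal, part 3. -/
def clsAPart3 : Tree :=
  .node (.node (.node (.node (.node (.node (.node (.node (.leaf 1) (.leaf 7)) (.node (.leaf 1) (.leaf 0))) (.node (.node (.leaf 13) (.leaf 0)) (.node (.leaf 12) (.leaf 0)))) (.node (.node (.node (.leaf 14) (.leaf 12)) (.node (.leaf 1) (.leaf 0))) (.node (.node (.leaf 6) (.leaf 5)) (.node (.leaf 15) (.leaf 0))))) (.node (.node (.node (.node (.leaf 11) (.leaf 1)) (.node (.leaf 8) (.leaf 0))) (.node (.node (.leaf 6) (.leaf 11)) (.node (.leaf 9) (.leaf 0)))) (.node (.node (.node (.leaf 10) (.leaf 0)) (.node (.leaf 4) (.leaf 0))) (.node (.node (.leaf 5) (.leaf 11)) (.node (.leaf 13) (.leaf 0)))))) (.node (.node (.node (.node (.node (.leaf 2) (.leaf 8)) (.node (.leaf 11) (.leaf 0))) (.node (.node (.leaf 4) (.leaf 3)) (.node (.leaf 9) (.leaf 0)))) (.node (.node (.node (.leaf 2) (.leaf 0)) (.node (.leaf 15) (.leaf 0))) (.node (.leaf 1) (.leaf 0)))) (.node (.node (.node (.node (.leaf 0) (.leaf 11)) (.node (.leaf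 5) (.leaf 0))) (.node (.node (.leaf 6) (.leaf 2)) (.node (.leaf 9) (.leaf 0)))) (.node (.node (.node (.leaf 14) (.leaf 0)) (.node (.leaf 8) (.leaf 0))) (.node (.node (.leaf 12) (.leaf 1)) (.node (.leaf 7) (.leaf 0))))))) (.node (.node (.node (.node (.node (.node (.leaf 15) (.leaf 1)) (.node (.leaf 10) (.leaf 0))) (.node (.node (.leaf 15) (.leaf 12)) (.node (.leaf 12) (.leaf 0)))) (.node (.node (.node (.leaf 13) (.leaf 5)) (.node (.leaf 10) (.leaf 0))) (.node (.node (.leaf 9) (.leaf 10)) (.leaf 0)))) (.node (.node (.node (.node (.leaf 15) (.leaf 8)) (.node (.leaf 12) (.leaf 0))) (.node (.node (.leaf 10) (.leaf 11)) (.node (.leaf 7) (.leaf 0)))) (.node (.node (.node (.leaf 13) (.leaf 0)) (.node (.leaf 4) (.leaf 0))) (.node (.node (.leaf 8) (.leaf 2)) (.node (.leaf 2) (.leaf 0)))))) (.node (.node (.node (.node (.node (.leaf 7) (.leaf 12)) (.node (.leaf 15) (.leaf 0))) (.node (.node (.leaf 4) (.leaf 10)) (.node (.leaf 4) (.leaf 0)))) (.node (.node (.node (.leaf 7) (.leaf 0))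 (.node (.leaf 14) (.leaf 0))) (.node (.node (.leaf 12) (.leaf 15)) (.node (.leaf 6) (.leaf 0))))) (.node (.node (.node (.node (.leaf 0) (.leaf 2)) (.node (.leaf 10) (.leaf 0))) (.node (.node (.leaf 2) (.leaf 12)) (.node (.leaf 3) (.leaf 0)))) (.node (.node (.node (.leaf 10) (.leaf 0)) (.node (.leaf 14) (.leaf 0))) (.node (.node (.leaf 5) (.leaf 12)) (.node (.leaf 11) (.leaf 0)))))))) (.node (.node (.node (.node (.node (.node (.node (.leaf 8) (.leaf 11)) (.node (.leaf 4) (.leaf 0))) (.node (.node (.leaf 15) (.leaf 0)) (.node (.leaf 9) (.leaf 0)))) (.node (.node (.node (.leaf 2) (.leaf 3)) (.node (.leaf 15) (.leaf 0))) (.node (.node (.leaf 2) (.leaf 11)) (.leaf 0)))) (.node (.node (.node (.node (.leaf 2) (.leaf 7)) (.node (.leaf 1) (.leaf 0))) (.node (.node (.leaf 13) (.leaf 8)) (.node (.leaf 7) (.leaf 0)))) (.node (.node (.node (.leaf 6) (.leaf 0)) (.node (.leaf 11) (.leaf 0))) (.node (.node (.leaf 12) (.leaf 6)) (.node (.leaf 14) (.leaf 0)))))) (.node (.node (.node (.node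 (.node (.leaf 9) (.leaf 1)) (.node (.leaf 2) (.leaf 0))) (.node (.node (.leaf 6) (.leaf 3)) (.node (.leaf 8) (.leaf 0)))) (.node (.node (.node (.leaf 8) (.leaf 0)) (.node (.leaf 2) (.leaf 0))) (.node (.node (.leaf 10) (.leaf 8)) (.node (.leaf 14) (.leaf 0))))) (.node (.node (.node (.node (.leaf 0) (.leaf 13)) (.node (.leaf 14) (.leaf 0))) (.node (.node (.leaf 2) (.leaf 10)) (.node (.leaf 7) (.leaf 0)))) (.node (.node (.node (.leaf 4) (.leaf 0)) (.node (.leaf 14) (.leaf 0))) (.node (.node (.leaf 9) (.leaf 3)) (.node (.leaf 3) (.leaf 0))))))) (.node (.node (.node (.node (.node (.leaf 12) (.node (.leaf 3) (.leaf 0))) (.node (.node (.leaf 12) (.leaf 8)) (.node (.leaf 4) (.leaf 0)))) (.node (.node (.node (.leaf 5) (.leaf 0)) (.node (.leaf 13) (.leaf 0))) (.node (.leaf 7) (.leaf 0)))) (.node (.node (.node (.node (.leaf 10) (.leaf 8)) (.node (.leaf 15) (.leaf 0))) (.node (.node (.leaf 5) (.leaf 13)) (.node (.leaf 4) (.leaf 0)))) (.node (.node (.node (.leaf 13) (.leaf 0)) (.node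 (.leaf 6) (.leaf 0))) (.node (.node (.leaf 3) (.leaf 14)) (.node (.leaf 13) (.leaf 0)))))) (.node (.node (.node (.node (.node (.leaf 1) (.leaf 8)) (.node (.leaf 10) (.leaf 0))) (.node (.node (.leaf 10) (.leaf 9)) (.node (.leaf 13) (.leaf 0)))) (.node (.node (.node (.leaf 4) (.leaf 0)) (.node (.leaf 2) (.leaf 0))) (.node (.node (.leaf 3) (.leaf 12)) (.node (.leaf 1) (.leaf 0))))) (.node (.node (.node (.node (.leaf 13) (.leaf 10)) (.node (.leaf 3) (.leaf 0))) (.node (.node (.leaf 10) (.leaf 3)) (.node (.leaf 11) (.leaf 0)))) (.node (.node (.node (.leaf 3) (.leaf 0)) (.node (.leaf 10) (.leaf 0))) (.node (.node (.leaf 1) (.leaf 9)) (.node (.leaf 15) (.leaf 0))))))))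

/-- Classes modulo the first ideal, part 19. -/
def clsAPart19 : Tree :=
  .node (.node (.node (.node (.node (.node (.node (.node (.leaf 8) (.leaf 7)) (.node (.leaf 3) (.leaf 0))) (.node (.node (.leaf 5) (.leaf 0)) (.node (.leaf 13) (.leaf 0)))) (.node (.node (.leaf 9) (.node (.leaf 12) (.leaf 0))) (.node (.node (.leaf 4) (.leaf 6)) (.leaf 0)))) (.node (.node (.node (.node (.leaf 11) (.leaf 3)) (.node (.leaf 6) (.leaf 0))) (.node (.node (.leaf 2) (.leaf 5)) (.node (.leaf 11) (.leaf 0)))) (.node (.node (.node (.leaf 3) (.leaf 0)) (.node (.leaf 1) (.leaf 0))) (.node (.leaf 8) (.node (.leaf 14) (.leaf 0)))))) (.node (.node (.node (.node (.node (.leaf 5) (.leaf 6)) (.node (.leaf 11) (.leaf 0))) (.node (.node (.leaf 5) (.leaf 2)) (.node (.leaf 7) (.leaf 0)))) (.node (.node (.node (.leaf 5) (.leaf 0)) (.node (.leaf 1) (.leaf 0))) (.node (.node (.leaf 3) (.leaf 8)) (.node (.leaf 10) (.leaf 0))))) (.node (.node (.node (.node (.leaf 0) (.leaf 8)) (.node (.leaf 1) (.leaf 0))) (.node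 (.node (.leaf 7) (.leaf 3)) (.node (.leaf 12) (.leaf 0)))) (.node (.node (.node (.leaf 11) (.leaf 0)) (.node (.leaf 13) (.leaf 0))) (.node (.node (.leaf 9) (.leaf 1)) (.node (.leaf 13) (.leaf 0))))))) (.node (.node (.node (.node (.node (.node (.leaf 7) (.leaf 9)) (.node (.leaf 8) (.leaf 0))) (.node (.node (.leaf 6) (.leaf 11)) (.node (.leaf 12) (.leaf 0)))) (.node (.node (.node (.leaf 6) (.leaf 0)) (.node (.leaf 14) (.leaf 0))) (.node (.node (.leaf 15) (.leaf 14)) (.leaf 0)))) (.node (.node (.node (.node (.leaf 3) (.leaf 9)) (.node (.leaf 14) (.leaf 0))) (.node (.node (.leaf 2) (.leaf 8)) (.node (.leaf 11) (.leaf 0)))) (.node (.node (.node (.leaf 7) (.leaf 0)) (.node (.leaf 6) (.leaf 0))) (.node (.node (.leaf 13) (.leaf 12)) (.node (.leaf 4) (.leaf 0)))))) (.node (.node (.node (.node (.node (.leaf 10) (.leaf 14)) (.node (.leaf 3) (.leaf 0))) (.node (.node (.leaf 4) (.leaf 12)) (.node (.leaf 7) (.leaf 0)))) (.node (.node (.node (.leaf 6) (.leaf 0)) (.node (.leaf 9) (.leaf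 0))) (.node (.node (.leaf 9) (.leaf 7)) (.node (.leaf 9) (.leaf 0))))) (.node (.node (.node (.node (.leaf 0) (.leaf 3)) (.node (.leaf 15) (.leaf 0))) (.node (.node (.leaf 7) (.leaf 9)) (.node (.leaf 14) (.leaf 0)))) (.node (.node (.node (.leaf 3) (.leaf 0)) (.node (.leaf 9) (.leaf 0))) (.node (.leaf 8) (.node (.leaf 4) (.leaf 0)))))))) (.node (.node (.node (.node (.node (.node (.node (.leaf 14) (.leaf 4)) (.node (.leaf 11) (.leaf 0))) (.node (.node (.leaf 11) (.leaf 8)) (.node (.leaf 9) (.leaf 0)))) (.node (.node (.node (.leaf 4) (.leaf 11)) (.node (.leaf 2) (.leaf 0))) (.node (.node (.leaf 5) (.leaf 15)) (.leaf 0)))) (.node (.node (.node (.leaf 12) (.node (.leaf 2) (.leaf 0))) (.node (.node (.leaf 5) (.leaf 12)) (.node (.leaf 7) (.leaf 0)))) (.node (.node (.node (.leaf 2) (.leaf 0)) (.node (.leaf 12) (.leaf 0))) (.node (.node (.leaf 11) (.leaf 1)) (.node (.leaf 9) (.leaf 0)))))) (.node (.node (.node (.node (.node (.leaf 15) (.leaf 2)) (.node (.leaf 12) (.leaf 0))) (.node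 (.node (.leaf 6) (.leaf 10)) (.node (.leaf 13) (.leaf 0)))) (.node (.node (.node (.leaf 6) (.leaf 0)) (.node (.leaf 4) (.leaf 0))) (.node (.node (.leaf 10) (.leaf 14)) (.node (.leaf 5) (.leaf 0))))) (.node (.node (.node (.node (.leaf 0) (.leaf 3)) (.node (.leaf 11) (.leaf 0))) (.node (.node (.leaf 2) (.leaf 10)) (.node (.leaf 13) (.leaf 0)))) (.node (.node (.node (.leaf 15) (.leaf 0)) (.node (.leaf 2) (.leaf 0))) (.node (.node (.leaf 8) (.leaf 7)) (.node (.leaf 14) (.leaf 0))))))) (.node (.node (.node (.node (.node (.node (.leaf 1) (.leaf 11)) (.node (.leaf 11) (.leaf 0))) (.node (.node (.leaf 2) (.leaf 13)) (.node (.leaf 6) (.leaf 0)))) (.node (.node (.node (.leaf 10) (.leaf 0)) (.node (.leaf 13) (.leaf 0))) (.node (.node (.leaf 10) (.leaf 4)) (.leaf 0)))) (.node (.node (.node (.node (.leaf 0) (.leaf 12)) (.node (.leaf 5) (.leaf 0))) (.node (.node (.leaf 8) (.leaf 3)) (.node (.leaf 1) (.leaf 0)))) (.node (.node (.node (.leaf 3) (.leaf 0)) (.node (.leaf 13) (.leaf 0)))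 (.node (.node (.leaf 2) (.leaf 8)) (.node (.leaf 6) (.leaf 0)))))) (.node (.node (.node (.node (.node (.leaf 11) (.leaf 1)) (.node (.leaf 11) (.leaf 0))) (.node (.leaf 3) (.node (.leaf 5) (.leaf 0)))) (.node (.node (.node (.leaf 4) (.leaf 0)) (.node (.leaf 14) (.leaf 0))) (.node (.node (.leaf 11) (.leaf 1)) (.node (.leaf 8) (.leaf 0))))) (.node (.node (.node (.node (.leaf 14) (.leaf 10)) (.node (.leaf 7) (.leaf 0))) (.node (.node (.leaf 14) (.leaf 11)) (.node (.leaf 4) (.leaf 0)))) (.node (.node (.node (.leaf 5) (.leaf 0)) (.node (.leaf 7) (.leaf 0))) (.node (.node (.leaf 7) (.leaf 0)) (.node (.leaf 7) (.leaf 0))))))))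

/-- Classes modulo the first ideal, part 11. -/
def clsAPart11 : Tree :=
  .node (.node (.node (.node (.node (.node (.node (.node (.leaf 6) (.leaf 10)) (.node (.leaf 14) (.leaf 0))) (.node (.node (.leaf 2) (.leaf 0)) (.node (.leaf 10) (.leaf 0)))) (.node (.node (.node (.leaf 4) (.leaf 3)) (.node (.leaf 15) (.leaf 0))) (.node (.node (.leaf 2) (.leaf 1)) (.node (.leaf 7) (.leaf 0))))) (.node (.node (.node (.node (.leaf 4) (.leaf 12)) (.node (.leaf 3) (.leaf 0))) (.node (.node (.leaf 1) (.leaf 13)) (.node (.leaf 3) (.leaf 0)))) (.node (.node (.node (.leaf 6) (.leaf 0)) (.node (.leaf 14) (.leaf 0))) (.node (.node (.leaf 2) (.leaf 3)) (.node (.leaf 1) (.leaf 0)))))) (.node (.node (.node (.node (.node (.leaf 6) (.leaf 3)) (.node (.leaf 4) (.leaf 0))) (.node (.node (.leaf 12) (.leaf 6)) (.node (.leaf 15) (.leaf 0)))) (.node (.node (.node (.leaf 11) (.leaf 0)) (.node (.leaf 12) (.leaf 0))) (.node (.node (.leaf 2) (.leaf 6)) (.node (.leaf 6) (.leaf 0))))) (.node (.node (.node (.node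 (.leaf 0) (.leaf 7)) (.node (.leaf 14) (.leaf 0))) (.node (.node (.leaf 9) (.leaf 4)) (.node (.leaf 7) (.leaf 0)))) (.node (.node (.node (.leaf 5) (.leaf 0)) (.node (.leaf 7) (.leaf 0))) (.node (.node (.leaf 7) (.leaf 6)) (.node (.leaf 9) (.leaf 0))))))) (.node (.node (.node (.node (.node (.node (.leaf 14) (.leaf 6)) (.node (.leaf 4) (.leaf 0))) (.node (.node (.leaf 1) (.leaf 2)) (.node (.leaf 1) (.leaf 0)))) (.node (.node (.node (.leaf 3) (.leaf 0)) (.node (.leaf 14) (.leaf 0))) (.node (.node (.leaf 13) (.leaf 15)) (.leaf 0)))) (.node (.node (.node (.node (.leaf 9) (.leaf 6)) (.node (.leaf 15) (.leaf 0))) (.node (.leaf 7) (.node (.leaf 2) (.leaf 0)))) (.node (.node (.node (.leaf 12) (.leaf 0)) (.node (.leaf 2) (.leaf 0))) (.node (.node (.leaf 10) (.leaf 5)) (.node (.leaf 10) (.leaf 0)))))) (.node (.node (.node (.node (.node (.leaf 13) (.leaf 15)) (.node (.leaf 9) (.leaf 0))) (.node (.node (.leaf 14) (.leaf 8)) (.node (.leaf 11) (.leaf 0)))) (.node (.node (.node (.leaf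 12) (.leaf 0)) (.node (.leaf 15) (.leaf 0))) (.node (.node (.leaf 3) (.leaf 14)) (.node (.leaf 3) (.leaf 0))))) (.node (.node (.node (.node (.leaf 0) (.leaf 4)) (.node (.leaf 12) (.leaf 0))) (.node (.node (.leaf 11) (.leaf 3)) (.node (.leaf 8) (.leaf 0)))) (.node (.node (.node (.leaf 11) (.leaf 0)) (.node (.leaf 15) (.leaf 0))) (.node (.node (.leaf 11) (.leaf 5)) (.node (.leaf 8) (.leaf 0)))))))) (.node (.node (.node (.node (.node (.node (.node (.leaf 15) (.leaf 5)) (.node (.leaf 9) (.leaf 0))) (.node (.node (.leaf 14) (.leaf 2)) (.node (.leaf 3) (.leaf 0)))) (.node (.node (.node (.leaf 10) (.leaf 14)) (.node (.leaf 2) (.leaf 0))) (.node (.node (.leaf 6) (.leaf 8)) (.leaf 0)))) (.node (.node (.node (.node (.leaf 13) (.leaf 4)) (.node (.leaf 13) (.leaf 0))) (.node (.node (.leaf 7) (.leaf 2)) (.node (.leaf 5) (.leaf 0)))) (.node (.node (.node (.leaf 1) (.leaf 0)) (.node (.leaf 10) (.leaf 0))) (.node (.node (.leaf 2) (.leaf 5)) (.node (.leaf 4) (.leaf 0)))))) (.node (.node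 (.node (.node (.leaf 13) (.node (.leaf 13) (.leaf 0))) (.node (.node (.leaf 9) (.leaf 12)) (.node (.leaf 11) (.leaf 0)))) (.node (.node (.node (.leaf 1) (.leaf 0)) (.node (.leaf 2) (.leaf 0))) (.node (.leaf 15) (.node (.leaf 4) (.leaf 0))))) (.node (.node (.node (.node (.leaf 0) (.leaf 14)) (.node (.leaf 1) (.leaf 0))) (.node (.node (.leaf 8) (.leaf 15)) (.node (.leaf 9) (.leaf 0)))) (.node (.node (.node (.leaf 1) (.leaf 0)) (.node (.leaf 1) (.leaf 0))) (.node (.node (.leaf 3) (.leaf 2)) (.node (.leaf 8) (.leaf 0))))))) (.node (.node (.node (.node (.node (.node (.leaf 4) (.leaf 10)) (.node (.leaf 6) (.leaf 0))) (.node (.node (.leaf 3) (.leaf 10)) (.node (.leaf 9) (.leaf 0)))) (.node (.node (.node (.leaf 7) (.leaf 0)) (.node (.leaf 7) (.leaf 0))) (.node (.node (.leaf 13) (.leaf 12)) (.leaf 0)))) (.node (.node (.node (.node (.leaf 0) (.leaf 2)) (.node (.leaf 9) (.leaf 0))) (.node (.node (.leaf 4) (.leaf 14)) (.node (.leaf 8) (.leaf 0)))) (.node (.node (.node (.leaf 9) (.leaf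 0)) (.node (.leaf 9) (.leaf 0))) (.node (.node (.leaf 6) (.leaf 11)) (.node (.leaf 3) (.leaf 0)))))) (.node (.node (.node (.node (.node (.leaf 2) (.leaf 15)) (.node (.leaf 10) (.leaf 0))) (.node (.leaf 6) (.node (.leaf 12) (.leaf 0)))) (.node (.node (.node (.leaf 14) (.leaf 0)) (.node (.leaf 5) (.leaf 0))) (.node (.node (.leaf 14) (.leaf 4)) (.node (.leaf 2) (.leaf 0))))) (.node (.node (.node (.node (.leaf 1) (.leaf 15)) (.node (.leaf 13) (.leaf 0))) (.node (.node (.leaf 13) (.leaf 14)) (.node (.leaf 8) (.leaf 0)))) (.node (.node (.node (.leaf 6) (.leaf 0)) (.node (.leaf 6) (.leaf 0))) (.node (.node (.leaf 15) (.leaf 0)) (.node (.leaf 7) (.leaf 0))))))))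

/-- Classes modulo the first ideal, part 27. -/
def clsAPart27 : Tree :=
  .node (.node (.node (.node (.node (.node (.node (.node (.leaf 11) (.leaf 2)) (.node (.leaf 14) (.leaf 0))) (.node (.node (.leaf 12) (.leaf 0)) (.node (.leaf 5) (.leaf 0)))) (.node (.node (.node (.leaf 11) (.leaf 6)) (.node (.leaf 1) (.leaf 0))) (.node (.node (.leaf 4) (.leaf 8)) (.leaf 0)))) (.node (.node (.node (.node (.leaf 7) (.leaf 2)) (.node (.leaf 5) (.leaf 0))) (.node (.node (.leaf 8) (.leaf 2)) (.node (.leaf 10) (.leaf 0)))) (.node (.node (.node (.leaf 9) (.leaf 0)) (.node (.leaf 11) (.leaf 0))) (.node (.node (.leaf 2) (.leaf 3)) (.node (.leaf 3) (.leaf 0)))))) (.node (.node (.node (.node (.node (.leaf 6) (.leaf 5)) (.node (.leaf 7) (.leaf 0))) (.node (.node (.leaf 8) (.leaf 4)) (.node (.leaf 5) (.leaf 0)))) (.node (.node (.node (.leaf 4) (.leaf 0)) (.node (.leaf 15) (.leaf 0))) (.node (.node (.leaf 12) (.leaf 11)) (.node (.leaf 4) (.leaf 0))))) (.node (.node (.node (.node (.leaf 0) (.leaf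 10)) (.node (.leaf 4) (.leaf 0))) (.node (.leaf 12) (.node (.leaf 12) (.leaf 0)))) (.node (.node (.node (.leaf 8) (.leaf 0)) (.node (.leaf 10) (.leaf 0))) (.node (.node (.leaf 13) (.leaf 12)) (.node (.leaf 9) (.leaf 0))))))) (.node (.node (.node (.node (.node (.leaf 7) (.node (.leaf 13) (.leaf 0))) (.node (.node (.leaf 1) (.leaf 7)) (.node (.leaf 13) (.leaf 0)))) (.node (.node (.node (.leaf 7) (.leaf 0)) (.node (.leaf 3) (.leaf 0))) (.node (.node (.leaf 8) (.leaf 7)) (.leaf 0)))) (.node (.node (.node (.node (.leaf 11) (.leaf 2)) (.node (.leaf 11) (.leaf 0))) (.node (.node (.leaf 11) (.leaf 10)) (.node (.leaf 5) (.leaf 0)))) (.node (.node (.node (.leaf 9) (.leaf 0)) (.node (.leaf 5) (.leaf 0))) (.node (.node (.leaf 14) (.leaf 15)) (.node (.leaf 8) (.leaf 0)))))) (.node (.node (.node (.node (.node (.leaf 14) (.leaf 11)) (.node (.leaf 11) (.leaf 0))) (.node (.node (.leaf 5) (.leaf 3)) (.node (.leaf 2) (.leaf 0)))) (.node (.node (.node (.leaf 10) (.leaf 0)) (.node (.leaf 5)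 (.leaf 0))) (.node (.node (.leaf 6) (.leaf 7)) (.node (.leaf 6) (.leaf 0))))) (.node (.node (.node (.node (.leaf 0) (.leaf 12)) (.node (.leaf 14) (.leaf 0))) (.node (.node (.leaf 8) (.leaf 6)) (.node (.leaf 5) (.leaf 0)))) (.node (.node (.node (.leaf 8) (.leaf 0)) (.node (.leaf 15) (.leaf 0))) (.node (.node (.leaf 4) (.leaf 6)) (.node (.leaf 1) (.leaf 0)))))))) (.node (.node (.node (.node (.node (.node (.node (.leaf 10) (.leaf 8)) (.node (.leaf 2) (.leaf 0))) (.node (.node (.leaf 8) (.leaf 2)) (.node (.leaf 4) (.leaf 0)))) (.node (.node (.node (.leaf 8) (.leaf 13)) (.node (.leaf 4) (.leaf 0))) (.node (.node (.leaf 6) (.leaf 14)) (.leaf 0)))) (.node (.node (.node (.leaf 5) (.node (.leaf 5) (.leaf 0))) (.node (.node (.leaf 7) (.leaf 2)) (.node (.leaf 10) (.leaf 0)))) (.node (.node (.node (.leaf 8) (.leaf 0)) (.node (.leaf 15) (.leaf 0))) (.node (.node (.leaf 7) (.leaf 13)) (.node (.leaf 11) (.leaf 0)))))) (.node (.node (.node (.node (.node (.leaf 8) (.leaf 5)) (.node (.leaf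 5) (.leaf 0))) (.node (.node (.leaf 10) (.leaf 15)) (.node (.leaf 11) (.leaf 0)))) (.node (.node (.node (.leaf 9) (.leaf 0)) (.node (.leaf 10) (.leaf 0))) (.node (.node (.leaf 8) (.leaf 10)) (.node (.leaf 10) (.leaf 0))))) (.node (.node (.node (.node (.leaf 0) (.leaf 6)) (.node (.leaf 11) (.leaf 0))) (.node (.node (.leaf 12) (.leaf 8)) (.node (.leaf 9) (.leaf 0)))) (.node (.node (.node (.leaf 7) (.leaf 0)) (.node (.leaf 5) (.leaf 0))) (.node (.node (.leaf 14) (.leaf 4)) (.node (.leaf 5) (.leaf 0))))))) (.node (.node (.node (.node (.node (.node (.leaf 4) (.leaf 3)) (.node (.leaf 13) (.leaf 0))) (.node (.node (.leaf 7) (.leaf 14)) (.node (.leaf 3) (.leaf 0)))) (.node (.node (.node (.leaf 7) (.leaf 0)) (.node (.leaf 1) (.leaf 0))) (.node (.node (.leaf 14) (.leaf 1)) (.leaf 0)))) (.node (.node (.node (.node (.leaf 0) (.leaf 2)) (.node (.leaf 2) (.leaf 0))) (.node (.node (.leaf 1) (.leaf 6)) (.node (.leaf 6) (.leaf 0)))) (.node (.node (.node (.leaf 8) (.leaf 0)) (.node (.leaf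 15) (.leaf 0))) (.node (.node (.leaf 4) (.leaf 15)) (.node (.leaf 12) (.leaf 0)))))) (.node (.node (.node (.node (.node (.leaf 13) (.leaf 6)) (.node (.leaf 3) (.leaf 0))) (.node (.node (.leaf 9) (.leaf 14)) (.node (.leaf 15) (.leaf 0)))) (.node (.node (.node (.leaf 5) (.leaf 0)) (.node (.leaf 1) (.leaf 0))) (.node (.node (.leaf 13) (.leaf 10)) (.node (.leaf 13) (.leaf 0))))) (.node (.node (.node (.node (.leaf 3) (.leaf 8)) (.node (.leaf 13) (.leaf 0))) (.node (.node (.leaf 3) (.leaf 13)) (.node (.leaf 1) (.leaf 0)))) (.node (.node (.node (.leaf 1) (.leaf 0)) (.node (.leaf 11) (.leaf 0))) (.node (.node (.leaf 13) (.leaf 0)) (.node (.leaf 5) (.leaf 0))))))))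

/-- Classes modulo the first ideal, part 7. -/
def clsAPart7 : Tree :=
  .node (.node (.node (.node (.node (.node (.node (.node (.leaf 1) (.leaf 5)) (.node (.leaf 8) (.leaf 0))) (.node (.node (.leaf 4) (.leaf 0)) (.node (.leaf 5) (.leaf 0)))) (.node (.node (.node (.leaf 13) (.leaf 15)) (.node (.leaf 4) (.leaf 0))) (.node (.node (.leaf 14) (.leaf 4)) (.node (.leaf 9) (.leaf 0))))) (.node (.node (.node (.node (.leaf 13) (.leaf 8)) (.node (.leaf 6) (.leaf 0))) (.node (.node (.leaf 14) (.leaf 3)) (.node (.leaf 13) (.leaf 0)))) (.node (.node (.node (.leaf 14) (.leaf 0)) (.node (.leaf 4) (.leaf 0))) (.node (.node (.leaf 4) (.leaf 11)) (.node (.leaf 12) (.leaf 0)))))) (.node (.node (.node (.node (.node (.leaf 2) (.leaf 6)) (.node (.leaf 13) (.leaf 0))) (.node (.leaf 8) (.node (.leaf 1) (.leaf 0)))) (.node (.node (.node (.leaf 1) (.leaf 0)) (.node (.leaf 12) (.leaf 0))) (.node (.node (.leaf 6) (.leaf 1)) (.leaf 0)))) (.node (.node (.node (.node (.leaf 0) (.leaf 14)) (.node (.leaf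 2) (.leaf 0))) (.node (.node (.leaf 5) (.leaf 8)) (.node (.leaf 1) (.leaf 0)))) (.node (.node (.node (.leaf 5) (.leaf 0)) (.node (.leaf 12) (.leaf 0))) (.node (.node (.leaf 13) (.leaf 15)) (.node (.leaf 7) (.leaf 0))))))) (.node (.node (.node (.node (.node (.node (.leaf 11) (.leaf 9)) (.node (.leaf 13) (.leaf 0))) (.node (.node (.leaf 5) (.leaf 4)) (.node (.leaf 4) (.leaf 0)))) (.node (.node (.leaf 4) (.node (.leaf 11) (.leaf 0))) (.node (.node (.leaf 6) (.leaf 10)) (.leaf 0)))) (.node (.node (.node (.node (.leaf 3) (.leaf 12)) (.node (.leaf 3) (.leaf 0))) (.node (.node (.leaf 12) (.leaf 14)) (.node (.leaf 14) (.leaf 0)))) (.node (.node (.node (.leaf 12) (.leaf 0)) (.node (.leaf 5) (.leaf 0))) (.node (.leaf 15) (.node (.leaf 14) (.leaf 0)))))) (.node (.node (.node (.node (.node (.leaf 14) (.leaf 3)) (.node (.leaf 3) (.leaf 0))) (.node (.node (.leaf 10) (.leaf 12)) (.node (.leaf 10) (.leaf 0)))) (.node (.node (.node (.leaf 5) (.leaf 0)) (.node (.leaf 14) (.leaf 0))) (.node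 (.node (.leaf 15) (.leaf 11)) (.node (.leaf 11) (.leaf 0))))) (.node (.node (.node (.node (.leaf 0) (.leaf 8)) (.node (.leaf 11) (.leaf 0))) (.node (.leaf 15) (.node (.leaf 9) (.leaf 0)))) (.node (.node (.node (.leaf 8) (.leaf 0)) (.node (.leaf 13) (.leaf 0))) (.node (.node (.leaf 10) (.leaf 12)) (.node (.leaf 1) (.leaf 0)))))))) (.node (.node (.node (.node (.node (.node (.leaf 11) (.node (.leaf 2) (.leaf 0))) (.node (.node (.leaf 5) (.leaf 0)) (.node (.leaf 4) (.leaf 0)))) (.node (.node (.node (.leaf 14) (.leaf 15)) (.node (.leaf 4) (.leaf 0))) (.node (.node (.leaf 2) (.leaf 13)) (.leaf 0)))) (.node (.node (.node (.node (.leaf 2) (.leaf 1)) (.node (.leaf 13) (.leaf 0))) (.node (.node (.leaf 12) (.leaf 1)) (.node (.leaf 6) (.leaf 0)))) (.node (.node (.node (.leaf 14) (.leaf 0)) (.node (.leaf 7) (.leaf 0))) (.node (.node (.leaf 4) (.leaf 3)) (.node (.leaf 13) (.leaf 0)))))) (.node (.node (.node (.node (.node (.leaf 6) (.leaf 13)) (.node (.leaf 2) (.leaf 0))) (.node (.node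 (.leaf 10) (.leaf 2)) (.node (.leaf 10) (.leaf 0)))) (.node (.node (.node (.leaf 9) (.leaf 0)) (.node (.leaf 13) (.leaf 0))) (.node (.node (.leaf 12) (.leaf 11)) (.node (.leaf 1) (.leaf 0))))) (.node (.node (.node (.node (.leaf 0) (.leaf 6)) (.node (.leaf 2) (.leaf 0))) (.node (.node (.leaf 3) (.leaf 12)) (.node (.leaf 7) (.leaf 0)))) (.node (.node (.node (.leaf 9) (.leaf 0)) (.node (.leaf 13) (.leaf 0))) (.node (.node (.leaf 3) (.leaf 13)) (.node (.leaf 9) (.leaf 0))))))) (.node (.node (.node (.node (.node (.node (.leaf 7) (.leaf 13)) (.node (.leaf 12) (.leaf 0))) (.node (.node (.leaf 7) (.leaf 15)) (.node (.leaf 1) (.leaf 0)))) (.node (.node (.node (.leaf 15) (.leaf 0)) (.node (.leaf 3) (.leaf 0))) (.node (.node (.leaf 14) (.leaf 2)) (.leaf 0)))) (.node (.node (.node (.node (.leaf 8) (.leaf 1)) (.node (.leaf 15) (.leaf 0))) (.node (.node (.leaf 14) (.leaf 6)) (.node (.leaf 13) (.leaf 0)))) (.node (.node (.node (.leaf 3) (.leaf 0)) (.node (.leaf 9) (.leaf 0))) (.node (.node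 (.leaf 8) (.leaf 3)) (.node (.leaf 4) (.leaf 0)))))) (.node (.node (.node (.node (.node (.leaf 6) (.leaf 10)) (.node (.leaf 8) (.leaf 0))) (.node (.node (.leaf 14) (.leaf 9)) (.node (.leaf 1) (.leaf 0)))) (.node (.node (.node (.leaf 10) (.leaf 0)) (.node (.leaf 8) (.leaf 0))) (.node (.node (.leaf 15) (.leaf 7)) (.node (.leaf 15) (.leaf 0))))) (.node (.node (.node (.leaf 12) (.node (.leaf 10) (.leaf 0))) (.node (.node (.leaf 5) (.leaf 15)) (.node (.leaf 1) (.leaf 0)))) (.node (.node (.node (.leaf 6) (.leaf 0)) (.node (.leaf 11) (.leaf 0))) (.node (.node (.leaf 8) (.leaf 11)) (.node (.leaf 9) (.leaf 0))))))))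

/-- Classes modulo the first ideal, part 23. -/
def clsAPart23 : Tree :=
  .node (.node (.node (.node (.node (.node (.node (.node (.leaf 6) (.leaf 14)) (.node (.leaf 11) (.leaf 0))) (.node (.node (.leaf 11) (.leaf 0)) (.node (.leaf 4) (.leaf 0)))) (.node (.node (.node (.leaf 5) (.leaf 9)) (.node (.leaf 12) (.leaf 0))) (.node (.node (.leaf 5) (.leaf 4)) (.leaf 0)))) (.node (.node (.node (.node (.leaf 1) (.leaf 13)) (.node (.leaf 3) (.leaf 0))) (.node (.node (.leaf 6) (.leaf 4)) (.node (.leaf 13) (.leaf 0)))) (.node (.node (.node (.leaf 3) (.leaf 0)) (.node (.leaf 10) (.leaf 0))) (.node (.node (.leaf 1) (.leaf 6)) (.node (.leaf 1) (.leaf 0)))))) (.node (.node (.node (.node (.node (.leaf 9) (.leaf 3)) (.node (.leaf 1) (.leaf 0))) (.node (.node (.leaf 10) (.leaf 8)) (.node (.leaf 9) (.leaf 0)))) (.node (.node (.node (.leaf 14) (.leaf 0)) (.node (.leaf 7) (.leaf 0))) (.node (.node (.leaf 2) (.leaf 6)) (.node (.leaf 3) (.leaf 0))))) (.node (.node (.node (.node (.leaf 0) (.leaf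 15)) (.node (.leaf 4) (.leaf 0))) (.node (.node (.leaf 5) (.leaf 2)) (.node (.leaf 13) (.leaf 0)))) (.node (.node (.node (.leaf 1) (.leaf 0)) (.node (.leaf 2) (.leaf 0))) (.node (.node (.leaf 7) (.leaf 8)) (.node (.leaf 3) (.leaf 0))))))) (.node (.node (.node (.node (.node (.node (.leaf 8) (.leaf 1)) (.node (.leaf 12) (.leaf 0))) (.node (.node (.leaf 2) (.leaf 14)) (.node (.leaf 4) (.leaf 0)))) (.node (.node (.node (.leaf 7) (.leaf 0)) (.node (.leaf 14) (.leaf 0))) (.node (.node (.leaf 8) (.leaf 12)) (.leaf 0)))) (.node (.node (.node (.node (.leaf 15) (.leaf 11)) (.node (.leaf 3) (.leaf 0))) (.node (.node (.leaf 1) (.leaf 15)) (.node (.leaf 11) (.leaf 0)))) (.node (.node (.node (.leaf 7) (.leaf 0)) (.node (.leaf 2) (.leaf 0))) (.node (.node (.leaf 6) (.leaf 3)) (.node (.leaf 4) (.leaf 0)))))) (.node (.node (.node (.node (.node (.leaf 6) (.leaf 3)) (.node (.leaf 15) (.leaf 0))) (.node (.node (.leaf 10) (.leaf 15)) (.node (.leaf 15) (.leaf 0)))) (.node (.node (.node (.leaf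 7) (.leaf 0)) (.node (.leaf 12) (.leaf 0))) (.node (.node (.leaf 9) (.leaf 8)) (.node (.leaf 2) (.leaf 0))))) (.node (.node (.node (.node (.leaf 0) (.leaf 2)) (.node (.leaf 15) (.leaf 0))) (.node (.node (.leaf 7) (.leaf 9)) (.node (.leaf 5) (.leaf 0)))) (.node (.node (.node (.leaf 11) (.leaf 0)) (.node (.leaf 7) (.leaf 0))) (.node (.node (.leaf 7) (.leaf 12)) (.node (.leaf 9) (.leaf 0)))))))) (.node (.node (.node (.node (.node (.node (.node (.leaf 10) (.leaf 13)) (.node (.leaf 6) (.leaf 0))) (.node (.node (.leaf 9) (.leaf 1)) (.node (.leaf 11) (.leaf 0)))) (.node (.node (.node (.leaf 4) (.leaf 3)) (.node (.leaf 11) (.leaf 0))) (.node (.node (.leaf 9) (.leaf 12)) (.leaf 0)))) (.node (.node (.node (.node (.leaf 8) (.leaf 12)) (.node (.leaf 15) (.leaf 0))) (.node (.node (.leaf 15) (.leaf 4)) (.node (.leaf 5) (.leaf 0)))) (.node (.node (.node (.leaf 6) (.leaf 0)) (.node (.leaf 7) (.leaf 0))) (.node (.node (.leaf 14) (.leaf 13)) (.node (.leaf 5) (.leaf 0)))))) (.node (.node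 (.node (.node (.node (.leaf 8) (.leaf 15)) (.node (.leaf 8) (.leaf 0))) (.node (.node (.leaf 7) (.leaf 12)) (.node (.leaf 14) (.leaf 0)))) (.node (.node (.node (.leaf 5) (.leaf 0)) (.node (.leaf 2) (.leaf 0))) (.node (.node (.leaf 12) (.leaf 10)) (.node (.leaf 13) (.leaf 0))))) (.node (.node (.node (.node (.leaf 0) (.leaf 8)) (.node (.leaf 5) (.leaf 0))) (.node (.node (.leaf 8) (.leaf 12)) (.node (.leaf 3) (.leaf 0)))) (.node (.node (.node (.leaf 9) (.leaf 0)) (.node (.leaf 3) (.leaf 0))) (.node (.node (.leaf 6) (.leaf 1)) (.node (.leaf 5) (.leaf 0))))))) (.node (.node (.node (.node (.node (.node (.leaf 1) (.leaf 11)) (.node (.leaf 9) (.leaf 0))) (.node (.node (.leaf 9) (.leaf 6)) (.node (.leaf 6) (.leaf 0)))) (.node (.node (.node (.leaf 12) (.leaf 0)) (.node (.leaf 7) (.leaf 0))) (.node (.node (.leaf 6) (.leaf 2)) (.leaf 0)))) (.node (.node (.node (.node (.leaf 0) (.leaf 4)) (.node (.leaf 9) (.leaf 0))) (.node (.node (.leaf 9) (.leaf 8)) (.node (.leaf 9) (.leaf 0)))) (.node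 (.node (.node (.leaf 9) (.leaf 0)) (.node (.leaf 3) (.leaf 0))) (.node (.node (.leaf 8) (.leaf 10)) (.node (.leaf 7) (.leaf 0)))))) (.node (.node (.node (.node (.node (.leaf 9) (.leaf 15)) (.node (.leaf 11) (.leaf 0))) (.node (.node (.leaf 3) (.leaf 15)) (.node (.leaf 3) (.leaf 0)))) (.node (.node (.node (.leaf 10) (.leaf 0)) (.node (.leaf 10) (.leaf 0))) (.node (.node (.leaf 3) (.leaf 1)) (.node (.leaf 15) (.leaf 0))))) (.node (.node (.node (.node (.leaf 1) (.leaf 12)) (.node (.leaf 5) (.leaf 0))) (.node (.node (.leaf 6) (.leaf 3)) (.node (.leaf 9) (.leaf 0)))) (.node (.node (.node (.leaf 9) (.leaf 0)) (.node (.leaf 3) (.leaf 0))) (.node (.node (.leaf 6) (.leaf 0)) (.node (.leaf 6) (.leaf 0))))))))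

/-- Classes modulo the first ideal, part 15. -/
def clsAPart15 : Tree :=
  .node (.node (.node (.node (.node (.node (.node (.node (.leaf 4) (.leaf 12)) (.node (.leaf 1) (.leaf 0))) (.node (.node (.leaf 15) (.leaf 0)) (.node (.leaf 10) (.leaf 0)))) (.node (.node (.node (.leaf 2) (.leaf 7)) (.node (.leaf 12) (.leaf 0))) (.node (.node (.leaf 8) (.leaf 1)) (.node (.leaf 6) (.leaf 0))))) (.node (.node (.node (.node (.leaf 10) (.leaf 7)) (.node (.leaf 6) (.leaf 0))) (.node (.node (.leaf 15) (.leaf 1)) (.node (.leaf 15) (.leaf 0)))) (.node (.node (.node (.leaf 11) (.leaf 0)) (.node (.leaf 2) (.leaf 0))) (.node (.node (.leaf 3) (.leaf 11)) (.node (.leaf 8) (.leaf 0)))))) (.node (.node (.node (.node (.node (.leaf 2) (.leaf 6)) (.node (.leaf 10) (.leaf 0))) (.node (.node (.leaf 12) (.leaf 14)) (.node (.leaf 14) (.leaf 0)))) (.node (.node (.node (.leaf 11) (.leaf 0)) (.node (.leaf 12) (.leaf 0))) (.node (.node (.leaf 3) (.leaf 4)) (.node (.leaf 7) (.leaf 0))))) (.node (.node (.node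 (.node (.leaf 0) (.leaf 7)) (.node (.leaf 10) (.leaf 0))) (.node (.node (.leaf 1) (.leaf 5)) (.node (.leaf 5) (.leaf 0)))) (.node (.node (.node (.leaf 10) (.leaf 0)) (.node (.leaf 14) (.leaf 0))) (.node (.node (.leaf 7) (.leaf 2)) (.node (.leaf 7) (.leaf 0))))))) (.node (.node (.node (.node (.node (.node (.leaf 12) (.leaf 5)) (.node (.leaf 4) (.leaf 0))) (.node (.leaf 15) (.node (.leaf 15) (.leaf 0)))) (.node (.node (.node (.leaf 12) (.leaf 0)) (.node (.leaf 14) (.leaf 0))) (.node (.node (.leaf 3) (.leaf 11)) (.leaf 0)))) (.node (.node (.node (.node (.leaf 13) (.leaf 10)) (.node (.leaf 5) (.leaf 0))) (.node (.node (.leaf 14) (.leaf 7)) (.node (.leaf 1) (.leaf 0)))) (.node (.node (.node (.leaf 13) (.leaf 0)) (.node (.leaf 2) (.leaf 0))) (.node (.node (.leaf 5) (.leaf 11)) (.node (.leaf 13) (.leaf 0)))))) (.node (.node (.node (.node (.node (.leaf 2) (.leaf 5)) (.node (.leaf 13) (.leaf 0))) (.node (.node (.leaf 1) (.leaf 5)) (.node (.leaf 1) (.leaf 0)))) (.node (.node (.node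 (.leaf 13) (.leaf 0)) (.node (.leaf 15) (.leaf 0))) (.node (.node (.leaf 7) (.leaf 12)) (.node (.leaf 3) (.leaf 0))))) (.node (.node (.node (.node (.leaf 0) (.leaf 5)) (.node (.leaf 7) (.leaf 0))) (.node (.node (.leaf 14) (.leaf 7)) (.node (.leaf 6) (.leaf 0)))) (.node (.node (.node (.leaf 11) (.leaf 0)) (.node (.leaf 14) (.leaf 0))) (.node (.node (.leaf 1) (.leaf 10)) (.node (.leaf 7) (.leaf 0)))))))) (.node (.node (.node (.node (.node (.node (.node (.leaf 12) (.leaf 14)) (.node (.leaf 5) (.leaf 0))) (.node (.leaf 3) (.node (.leaf 2) (.leaf 0)))) (.node (.node (.node (.leaf 13) (.leaf 1)) (.node (.leaf 13) (.leaf 0))) (.node (.node (.leaf 2) (.leaf 11)) (.leaf 0)))) (.node (.node (.node (.node (.leaf 1) (.leaf 8)) (.node (.leaf 4) (.leaf 0))) (.node (.node (.leaf 6) (.leaf 8)) (.node (.leaf 15) (.leaf 0)))) (.node (.node (.node (.leaf 15) (.leaf 0)) (.node (.leaf 11) (.leaf 0))) (.node (.node (.leaf 15) (.leaf 9)) (.node (.leaf 2) (.leaf 0)))))) (.node (.node (.node (.node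 (.node (.leaf 3) (.leaf 4)) (.node (.leaf 1) (.leaf 0))) (.node (.node (.leaf 11) (.leaf 9)) (.node (.leaf 9) (.leaf 0)))) (.node (.node (.node (.leaf 9) (.leaf 0)) (.node (.leaf 11) (.leaf 0))) (.node (.node (.leaf 14) (.leaf 12)) (.node (.leaf 10) (.leaf 0))))) (.node (.node (.node (.node (.leaf 0) (.leaf 6)) (.node (.leaf 10) (.leaf 0))) (.node (.node (.leaf 1) (.leaf 14)) (.node (.leaf 7) (.leaf 0)))) (.node (.node (.node (.leaf 8) (.leaf 0)) (.node (.leaf 6) (.leaf 0))) (.node (.leaf 9) (.node (.leaf 6) (.leaf 0))))))) (.node (.node (.node (.node (.node (.node (.leaf 2) (.leaf 8)) (.node (.leaf 7) (.leaf 0))) (.node (.node (.leaf 13) (.leaf 5)) (.node (.leaf 2) (.leaf 0)))) (.node (.node (.node (.leaf 5) (.leaf 0)) (.node (.leaf 5) (.leaf 0))) (.node (.node (.leaf 2) (.leaf 7)) (.leaf 0)))) (.node (.node (.node (.node (.leaf 0) (.leaf 8)) (.node (.leaf 12) (.leaf 0))) (.node (.node (.leaf 13) (.leaf 6)) (.node (.leaf 9) (.leaf 0)))) (.node (.node (.node (.leaf 3) (.leaf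 0)) (.node (.leaf 6) (.leaf 0))) (.node (.node (.leaf 14) (.leaf 9)) (.node (.leaf 12) (.leaf 0)))))) (.node (.node (.node (.node (.node (.leaf 3) (.leaf 5)) (.node (.leaf 8) (.leaf 0))) (.node (.leaf 11) (.node (.leaf 8) (.leaf 0)))) (.node (.node (.node (.leaf 1) (.leaf 0)) (.node (.leaf 2) (.leaf 0))) (.node (.node (.leaf 1) (.leaf 2)) (.node (.leaf 6) (.leaf 0))))) (.node (.node (.node (.node (.leaf 8) (.leaf 14)) (.node (.leaf 3) (.leaf 0))) (.node (.node (.leaf 6) (.leaf 1)) (.node (.leaf 7) (.leaf 0)))) (.node (.node (.node (.leaf 3) (.leaf 0)) (.node (.leaf 8) (.leaf 0))) (.node (.node (.leaf 9) (.leaf 0)) (.node (.leaf 6) (.leaf 0))))))))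

/-- Classes modulo the first ideal, part 31. -/
def clsAPart31 : Tree :=
  .node (.node (.node (.node (.node (.node (.node (.node (.leaf 13) (.leaf 1)) (.node (.leaf 13) (.leaf 0))) (.node (.node (.leaf 3) (.leaf 0)) (.node (.leaf 10) (.leaf 0)))) (.node (.node (.node (.leaf 6) (.leaf 11)) (.node (.leaf 7) (.leaf 0))) (.node (.node (.leaf 5) (.leaf 6)) (.leaf 0)))) (.node (.node (.node (.node (.leaf 15) (.leaf 9)) (.node (.leaf 9) (.leaf 0))) (.node (.node (.leaf 15) (.leaf 3)) (.node (.leaf 8) (.leaf 0)))) (.node (.node (.node (.leaf 2) (.leaf 0)) (.node (.leaf 5) (.leaf 0))) (.node (.node (.leaf 8) (.leaf 6)) (.node (.leaf 11) (.leaf 0)))))) (.node (.node (.node (.node (.leaf 9) (.node (.leaf 15) (.leaf 0))) (.node (.node (.leaf 12) (.leaf 5)) (.node (.leaf 14) (.leaf 0)))) (.node (.node (.node (.leaf 13) (.leaf 0)) (.node (.leaf 4) (.leaf 0))) (.node (.node (.leaf 9) (.leaf 13)) (.node (.leaf 10) (.leaf 0))))) (.node (.node (.node (.node (.leaf 0) (.leaf 5)) (.node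 (.leaf 4) (.leaf 0))) (.node (.node (.leaf 13) (.leaf 9)) (.node (.leaf 13) (.leaf 0)))) (.node (.node (.node (.leaf 7) (.leaf 0)) (.node (.leaf 6) (.leaf 0))) (.node (.node (.leaf 3) (.leaf 7)) (.node (.leaf 3) (.leaf 0))))))) (.node (.node (.node (.node (.node (.node (.leaf 2) (.leaf 5)) (.node (.leaf 4) (.leaf 0))) (.node (.node (.leaf 8) (.leaf 7)) (.node (.leaf 8) (.leaf 0)))) (.node (.node (.node (.leaf 6) (.leaf 0)) (.node (.leaf 10) (.leaf 0))) (.node (.node (.leaf 12) (.leaf 8)) (.leaf 0)))) (.node (.node (.node (.node (.leaf 13) (.leaf 3)) (.node (.leaf 9) (.leaf 0))) (.node (.node (.leaf 11) (.leaf 5)) (.node (.leaf 14) (.leaf 0)))) (.node (.node (.node (.leaf 7) (.leaf 0)) (.node (.leaf 9) (.leaf 0))) (.node (.node (.leaf 6) (.leaf 5)) (.node (.leaf 12) (.leaf 0)))))) (.node (.node (.node (.node (.node (.leaf 13) (.leaf 9)) (.node (.leaf 13) (.leaf 0))) (.node (.node (.leaf 13) (.leaf 7)) (.node (.leaf 2) (.leaf 0)))) (.node (.node (.node (.leaf 3) (.leaf 0))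 (.node (.leaf 9) (.leaf 0))) (.node (.node (.leaf 11) (.leaf 2)) (.node (.leaf 14) (.leaf 0))))) (.node (.node (.node (.node (.leaf 0) (.leaf 9)) (.node (.leaf 14) (.leaf 0))) (.node (.node (.leaf 15) (.leaf 11)) (.node (.leaf 10) (.leaf 0)))) (.node (.node (.node (.leaf 6) (.leaf 0)) (.node (.leaf 5) (.leaf 0))) (.node (.node (.leaf 9) (.leaf 10)) (.node (.leaf 8) (.leaf 0)))))))) (.node (.node (.node (.node (.node (.node (.node (.leaf 10) (.leaf 9)) (.node (.leaf 14) (.leaf 0))) (.node (.node (.leaf 10) (.leaf 8)) (.node (.leaf 6) (.leaf 0)))) (.node (.node (.node (.leaf 12) (.leaf 1)) (.node (.leaf 2) (.leaf 0))) (.node (.node (.leaf 9) (.leaf 10)) (.leaf 0)))) (.node (.node (.node (.node (.leaf 3) (.leaf 10)) (.node (.leaf 11) (.leaf 0))) (.node (.node (.leaf 5) (.leaf 15)) (.node (.leaf 12) (.leaf 0)))) (.node (.node (.node (.leaf 15) (.leaf 0)) (.node (.leaf 15) (.leaf 0))) (.node (.node (.leaf 7) (.leaf 4)) (.node (.leaf 6) (.leaf 0)))))) (.node (.node (.node (.node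 (.node (.leaf 12) (.leaf 11)) (.node (.leaf 3) (.leaf 0))) (.node (.node (.leaf 3) (.leaf 14)) (.node (.leaf 13) (.leaf 0)))) (.node (.node (.node (.leaf 1) (.leaf 0)) (.node (.leaf 11) (.leaf 0))) (.node (.node (.leaf 5) (.leaf 10)) (.node (.leaf 14) (.leaf 0))))) (.node (.node (.node (.node (.leaf 0) (.leaf 14)) (.node (.leaf 7) (.leaf 0))) (.node (.node (.leaf 4) (.leaf 5)) (.node (.leaf 3) (.leaf 0)))) (.node (.node (.node (.leaf 6) (.leaf 0)) (.node (.leaf 4) (.leaf 0))) (.node (.node (.leaf 5) (.leaf 8)) (.node (.leaf 10) (.leaf 0))))))) (.node (.node (.node (.node (.node (.node (.leaf 5) (.leaf 11)) (.node (.leaf 14) (.leaf 0))) (.node (.node (.leaf 1) (.leaf 6)) (.node (.leaf 7) (.leaf 0)))) (.node (.node (.node (.leaf 14) (.leaf 0)) (.node (.leaf 4) (.leaf 0))) (.node (.node (.leaf 13) (.leaf 1)) (.leaf 0)))) (.node (.node (.node (.node (.leaf 0) (.leaf 15)) (.node (.leaf 8) (.leaf 0))) (.node (.node (.leaf 9) (.leaf 14)) (.node (.leaf 5) (.leaf 0)))) (.node (.node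 (.node (.leaf 6) (.leaf 0)) (.node (.leaf 8) (.leaf 0))) (.node (.leaf 5) (.node (.leaf 13) (.leaf 0)))))) (.node (.node (.node (.node (.node (.leaf 14) (.leaf 2)) (.node (.leaf 11) (.leaf 0))) (.node (.node (.leaf 2) (.leaf 1)) (.node (.leaf 3) (.leaf 0)))) (.node (.node (.node (.leaf 13) (.leaf 0)) (.node (.leaf 4) (.leaf 0))) (.node (.node (.leaf 1) (.leaf 8)) (.node (.leaf 12) (.leaf 0))))) (.node (.node (.node (.node (.leaf 11) (.leaf 5)) (.node (.leaf 7) (.leaf 0))) (.node (.node (.leaf 8) (.leaf 1)) (.node (.leaf 8) (.leaf 0)))) (.node (.node (.node (.leaf 13) (.leaf 0)) (.node (.leaf 15) (.leaf 0))) (.node (.node (.leaf 12) (.leaf 0)) (.node (.leaf 15) (.leaf 0))))))))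

/-- Classes modulo the first ideal -/
def clsA : Tree :=
  .node (.node (.node (.node (.node (clsAPart0) (clsAPart16)) (.node (clsAPart8) (clsAPart24))) (.node (.node (clsAPart4) (clsAPart20)) (.node (clsAPart12) (clsAPart28)))) (.node (.node (.node (clsAPart2) (clsAPart18)) (.node (clsAPart10) (clsAPart26))) (.node (.node (clsAPart6) (clsAPart22)) (.node (clsAPart14) (clsAPart30))))) (.node (.node (.node (.node (clsAPart1) (clsAPart17)) (.node (clsAPart9) (clsAPart25))) (.node (.node (clsAPart5) (clsAPart21)) (.node (clsAPart13) (clsAPart29)))) (.node (.node (.node (clsAPart3) (clsAPart19)) (.node (clsAPart11) (clsAPart27))) (.node (.node (clsAPart7) (clsAPart23)) (.node (clsAPart15) (clsAPart31)))))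

/-- Classes modulo the second ideal, part 0. -/
def clsBPart0 : Tree :=
  .node (.node (.node (.node (.node (.node (.node (.node (.leaf 1) (.leaf 2)) (.node (.leaf 11) (.leaf 0))) (.node (.node (.leaf 12) (.leaf 7)) (.node (.leaf 7) (.leaf 0)))) (.node (.node (.leaf 0) (.node (.leaf 5) (.leaf 0))) (.node (.node (.leaf 9) (.leaf 0)) (.node (.leaf 13) (.leaf 0))))) (.node (.node (.node (.node (.leaf 3) (.leaf 8)) (.node (.leaf 4) (.leaf 0))) (.node (.node (.leaf 3) (.leaf 0)) (.node (.leaf 8) (.leaf 0)))) (.node (.node (.node (.leaf 15) (.leaf 3)) (.node (.leaf 15) (.leaf 0))) (.node (.node (.leaf 1) (.leaf 8)) (.node (.leaf 1) (.leaf 0)))))) (.node (.node (.node (.node (.node (.leaf 14) (.leaf 1)) (.node (.leaf 13) (.leaf 0))) (.node (.node (.leaf 9) (.leaf 7)) (.node (.leaf 4) (.leaf 0)))) (.node (.node (.node (.leaf 3) (.leaf 4)) (.node (.leaf 8) (.leaf 0))) (.node (.node (.leaf 13) (.leaf 5)) (.leaf 0)))) (.node (.node (.node (.node (.leaf 4) (.leaf 3)) (.node (.leaf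 11) (.leaf 0))) (.node (.node (.leaf 8) (.leaf 7)) (.node (.leaf 11) (.leaf 0)))) (.node (.node (.node (.leaf 4) (.leaf 15)) (.node (.leaf 2) (.leaf 0))) (.node (.node (.leaf 13) (.leaf 8)) (.leaf 0)))))) (.node (.node (.node (.node (.node (.node (.leaf 4) (.leaf 15)) (.node (.leaf 3) (.leaf 0))) (.node (.node (.leaf 4) (.leaf 14)) (.node (.leaf 5) (.leaf 0)))) (.node (.node (.leaf 0) (.node (.leaf 11) (.leaf 0))) (.node (.node (.leaf 2) (.leaf 8)) (.leaf 0)))) (.node (.node (.node (.leaf 5) (.node (.leaf 5) (.leaf 0))) (.node (.node (.leaf 7) (.leaf 3)) (.node (.leaf 5) (.leaf 0)))) (.node (.node (.node (.leaf 15) (.leaf 2)) (.node (.leaf 6) (.leaf 0))) (.node (.node (.leaf 8) (.leaf 1)) (.node (.leaf 4) (.leaf 0)))))) (.node (.node (.node (.node (.node (.leaf 7) (.leaf 6)) (.node (.leaf 6) (.leaf 0))) (.node (.node (.leaf 10) (.leaf 0)) (.node (.leaf 7) (.leaf 0)))) (.node (.node (.node (.leaf 7) (.leaf 10)) (.node (.leaf 10) (.leaf 0))) (.node (.node (.leaf 7) (.leaf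 11)) (.node (.leaf 15) (.leaf 0))))) (.node (.node (.node (.node (.leaf 5) (.leaf 7)) (.node (.leaf 8) (.leaf 0))) (.node (.node (.leaf 6) (.leaf 0)) (.node (.leaf 2) (.leaf 0)))) (.node (.node (.node (.leaf 9) (.leaf 8)) (.node (.leaf 14) (.leaf 0))) (.node (.node (.leaf 6) (.leaf 7)) (.leaf 0))))))) (.node (.node (.node (.node (.node (.node (.node (.leaf 8) (.leaf 2)) (.node (.leaf 9) (.leaf 0))) (.node (.node (.leaf 6) (.leaf 5)) (.node (.leaf 5) (.leaf 0)))) (.node (.node (.leaf 0) (.node (.leaf 4) (.leaf 0))) (.node (.node (.leaf 12) (.leaf 7)) (.leaf 0)))) (.node (.node (.node (.node (.leaf 15) (.leaf 4)) (.node (.leaf 5) (.leaf 0))) (.node (.node (.leaf 13) (.leaf 4)) (.node (.leaf 6) (.leaf 0)))) (.node (.node (.node (.leaf 5) (.leaf 9)) (.node (.leaf 14) (.leaf 0))) (.node (.node (.leaf 7) (.leaf 15)) (.node (.leaf 8) (.leaf 0)))))) (.node (.node (.node (.node (.node (.leaf 8) (.leaf 7)) (.node (.leaf 5) (.leaf 0))) (.node (.node (.leaf 7) (.leaf 0)) (.node (.leaf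 11) (.leaf 0)))) (.node (.node (.node (.leaf 9) (.leaf 3)) (.node (.leaf 1) (.leaf 0))) (.node (.node (.leaf 7) (.leaf 15)) (.node (.leaf 8) (.leaf 0))))) (.node (.node (.node (.node (.leaf 5) (.leaf 9)) (.node (.leaf 7) (.leaf 0))) (.node (.node (.leaf 10) (.leaf 0)) (.node (.leaf 12) (.leaf 0)))) (.node (.node (.node (.leaf 3) (.leaf 4)) (.node (.leaf 11) (.leaf 0))) (.node (.node (.leaf 1) (.leaf 14)) (.leaf 0)))))) (.node (.node (.node (.node (.node (.node (.leaf 5) (.leaf 3)) (.node (.leaf 12) (.leaf 0))) (.node (.node (.leaf 3) (.leaf 6)) (.node (.leaf 13) (.leaf 0)))) (.node (.node (.node (.leaf 4) (.leaf 6)) (.node (.leaf 14) (.leaf 0))) (.node (.node (.leaf 11) (.leaf 8)) (.leaf 0)))) (.node (.node (.node (.node (.leaf 15) (.leaf 4)) (.node (.leaf 3) (.leaf 0))) (.node (.node (.leaf 8) (.leaf 9)) (.node (.leaf 2) (.leaf 0)))) (.node (.node (.node (.leaf 6) (.leaf 1)) (.node (.leaf 5) (.leaf 0))) (.node (.node (.leaf 8) (.leaf 9)) (.node (.leaf 5) (.leaf 0))))))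 (.node (.node (.node (.node (.node (.leaf 5) (.leaf 1)) (.node (.leaf 14) (.leaf 0))) (.node (.node (.leaf 11) (.leaf 0)) (.node (.leaf 8) (.leaf 0)))) (.node (.node (.node (.leaf 3) (.leaf 6)) (.node (.leaf 8) (.leaf 0))) (.node (.node (.leaf 12) (.leaf 2)) (.node (.leaf 14) (.leaf 0))))) (.node (.node (.node (.leaf 0) (.node (.leaf 13) (.leaf 0))) (.node (.node (.leaf 3) (.leaf 0)) (.node (.leaf 11) (.leaf 0)))) (.node (.node (.node (.leaf 4) (.leaf 14)) (.node (.leaf 8) (.leaf 0))) (.node (.node (.leaf 12) (.leaf 5)) (.leaf 0)))))))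

/-- Classes modulo the second ideal, part 16. -/
def clsBPart16 : Tree :=
  .node (.node (.node (.node (.node (.node (.node (.node (.leaf 8) (.leaf 2)) (.node (.leaf 3) (.leaf 0))) (.node (.node (.leaf 9) (.leaf 5)) (.node (.leaf 13) (.leaf 0)))) (.node (.node (.leaf 0) (.node (.leaf 9) (.leaf 0))) (.node (.node (.leaf 9) (.leaf 15)) (.leaf 0)))) (.node (.node (.node (.node (.leaf 3) (.leaf 14)) (.node (.leaf 2) (.leaf 0))) (.node (.node (.leaf 13) (.leaf 0)) (.node (.leaf 14) (.leaf 0)))) (.node (.node (.node (.leaf 1) (.leaf 8)) (.node (.leaf 2) (.leaf 0))) (.node (.node (.leaf 15) (.leaf 1)) (.node (.leaf 8) (.leaf 0)))))) (.node (.node (.node (.node (.node (.leaf 5) (.leaf 15)) (.node (.leaf 13) (.leaf 0))) (.node (.leaf 7) (.node (.leaf 11) (.leaf 0)))) (.node (.node (.leaf 6) (.node (.leaf 10) (.leaf 0))) (.node (.node (.leaf 12) (.leaf 15)) (.node (.leaf 10) (.leaf 0))))) (.node (.node (.node (.node (.leaf 2) (.leaf 6)) (.node (.leaf 10) (.leaf 0))) (.node (.node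 (.leaf 14) (.leaf 0)) (.node (.leaf 11) (.leaf 0)))) (.node (.node (.node (.leaf 6) (.leaf 4)) (.node (.leaf 4) (.leaf 0))) (.node (.node (.leaf 1) (.leaf 8)) (.leaf 0)))))) (.node (.node (.node (.node (.node (.node (.leaf 7) (.leaf 3)) (.node (.leaf 1) (.leaf 0))) (.node (.node (.leaf 14) (.leaf 3)) (.node (.leaf 5) (.leaf 0)))) (.node (.node (.node (.leaf 0) (.leaf 5)) (.node (.leaf 7) (.leaf 0))) (.node (.leaf 5) (.leaf 0)))) (.node (.node (.node (.node (.leaf 15) (.leaf 5)) (.node (.leaf 13) (.leaf 0))) (.node (.node (.leaf 4) (.leaf 6)) (.node (.leaf 13) (.leaf 0)))) (.node (.node (.node (.leaf 5) (.leaf 13)) (.node (.leaf 5) (.leaf 0))) (.node (.node (.leaf 5) (.leaf 6)) (.node (.leaf 7) (.leaf 0)))))) (.node (.node (.node (.node (.node (.leaf 13) (.leaf 9)) (.node (.leaf 14) (.leaf 0))) (.node (.node (.leaf 10) (.leaf 0)) (.node (.leaf 4) (.leaf 0)))) (.node (.node (.node (.leaf 14) (.leaf 6)) (.node (.leaf 10) (.leaf 0))) (.node (.node (.leaf 15) (.leaf 14)) (.node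 (.leaf 2) (.leaf 0))))) (.node (.node (.node (.node (.leaf 13) (.leaf 0)) (.node (.leaf 8) (.leaf 0))) (.node (.node (.leaf 9) (.leaf 0)) (.node (.leaf 5) (.leaf 0)))) (.node (.node (.node (.leaf 4) (.leaf 8)) (.node (.leaf 5) (.leaf 0))) (.node (.node (.leaf 11) (.leaf 5)) (.leaf 0))))))) (.node (.node (.node (.node (.node (.node (.node (.leaf 14) (.leaf 9)) (.node (.leaf 2) (.leaf 0))) (.node (.node (.leaf 6) (.leaf 4)) (.node (.leaf 6) (.leaf 0)))) (.node (.node (.leaf 0) (.node (.leaf 10) (.leaf 0))) (.node (.leaf 4) (.leaf 0)))) (.node (.node (.node (.node (.leaf 1) (.leaf 7)) (.node (.leaf 11) (.leaf 0))) (.node (.node (.leaf 15) (.leaf 14)) (.node (.leaf 5) (.leaf 0)))) (.node (.node (.node (.leaf 15) (.leaf 9)) (.node (.leaf 8) (.leaf 0))) (.node (.node (.leaf 4) (.leaf 7)) (.node (.leaf 14) (.leaf 0)))))) (.node (.node (.node (.node (.node (.leaf 12) (.leaf 1)) (.node (.leaf 14) (.leaf 0))) (.node (.node (.leaf 2) (.leaf 0)) (.node (.leaf 15) (.leaf 0)))) (.node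 (.node (.node (.leaf 7) (.leaf 15)) (.node (.leaf 10) (.leaf 0))) (.node (.node (.leaf 7) (.leaf 3)) (.node (.leaf 11) (.leaf 0))))) (.node (.node (.node (.node (.leaf 11) (.leaf 7)) (.node (.leaf 2) (.leaf 0))) (.node (.node (.leaf 6) (.leaf 0)) (.node (.leaf 4) (.leaf 0)))) (.node (.node (.node (.leaf 15) (.leaf 1)) (.node (.leaf 11) (.leaf 0))) (.node (.node (.leaf 12) (.leaf 4)) (.leaf 0)))))) (.node (.node (.node (.node (.node (.node (.leaf 5) (.leaf 8)) (.node (.leaf 4) (.leaf 0))) (.node (.node (.leaf 6) (.leaf 9)) (.node (.leaf 2) (.leaf 0)))) (.node (.node (.node (.leaf 14) (.leaf 12)) (.node (.leaf 14) (.leaf 0))) (.node (.node (.leaf 5) (.leaf 14)) (.leaf 0)))) (.node (.node (.node (.node (.leaf 12) (.leaf 14)) (.node (.leaf 11) (.leaf 0))) (.node (.node (.leaf 5) (.leaf 7)) (.node (.leaf 4) (.leaf 0)))) (.node (.node (.node (.leaf 12) (.leaf 3)) (.node (.leaf 13) (.leaf 0))) (.node (.node (.leaf 14) (.leaf 1)) (.node (.leaf 5) (.leaf 0)))))) (.node (.node (.node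 (.node (.node (.leaf 14) (.leaf 8)) (.node (.leaf 12) (.leaf 0))) (.node (.node (.leaf 13) (.leaf 0)) (.node (.leaf 5) (.leaf 0)))) (.node (.node (.node (.leaf 3) (.leaf 9)) (.node (.leaf 11) (.leaf 0))) (.node (.node (.leaf 1) (.leaf 2)) (.node (.leaf 8) (.leaf 0))))) (.node (.node (.node (.leaf 0) (.node (.leaf 11) (.leaf 0))) (.node (.node (.leaf 8) (.leaf 0)) (.node (.leaf 5) (.leaf 0)))) (.node (.node (.leaf 4) (.node (.leaf 12) (.leaf 0))) (.node (.node (.leaf 12) (.leaf 0)) (.node (.leaf 15) (.leaf 0))))))))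

/-- Classes modulo the second ideal, part 8. -/
def clsBPart8 : Tree :=
  .node (.node (.node (.node (.node (.node (.node (.node (.leaf 3) (.leaf 10)) (.node (.leaf 14) (.leaf 0))) (.node (.node (.leaf 15) (.leaf 12)) (.node (.leaf 8) (.leaf 0)))) (.node (.node (.leaf 0) (.node (.leaf 15) (.leaf 0))) (.node (.node (.leaf 5) (.leaf 11)) (.node (.leaf 4) (.leaf 0))))) (.node (.node (.node (.node (.leaf 11) (.leaf 14)) (.node (.leaf 9) (.leaf 0))) (.node (.node (.leaf 3) (.leaf 0)) (.node (.leaf 7) (.leaf 0)))) (.node (.node (.node (.leaf 9) (.leaf 7)) (.node (.leaf 6) (.leaf 0))) (.node (.node (.leaf 11) (.leaf 13)) (.node (.leaf 3) (.leaf 0)))))) (.node (.node (.node (.node (.node (.leaf 6) (.leaf 13)) (.node (.leaf 1) (.leaf 0))) (.node (.node (.leaf 12) (.leaf 1)) (.node (.leaf 9) (.leaf 0)))) (.node (.node (.node (.leaf 7) (.leaf 13)) (.node (.leaf 2) (.leaf 0))) (.node (.node (.leaf 4) (.leaf 9)) (.node (.leaf 13) (.leaf 0))))) (.node (.node (.node (.node (.leaf 9)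 (.leaf 7)) (.node (.leaf 10) (.leaf 0))) (.node (.node (.leaf 7) (.leaf 1)) (.node (.leaf 6) (.leaf 0)))) (.node (.node (.node (.leaf 13) (.leaf 9)) (.node (.leaf 13) (.leaf 0))) (.node (.node (.leaf 10) (.leaf 9)) (.leaf 0)))))) (.node (.node (.node (.node (.node (.node (.leaf 14) (.leaf 2)) (.node (.leaf 1) (.leaf 0))) (.node (.leaf 7) (.node (.leaf 15) (.leaf 0)))) (.node (.node (.node (.leaf 0) (.leaf 2)) (.node (.leaf 15) (.leaf 0))) (.node (.node (.leaf 6) (.leaf 8)) (.leaf 0)))) (.node (.node (.node (.node (.leaf 10) (.leaf 1)) (.node (.leaf 4) (.leaf 0))) (.node (.node (.leaf 12) (.leaf 7)) (.node (.leaf 13) (.leaf 0)))) (.node (.node (.node (.leaf 2) (.leaf 4)) (.node (.leaf 1) (.leaf 0))) (.node (.node (.leaf 8) (.leaf 6)) (.node (.leaf 14) (.leaf 0)))))) (.node (.node (.node (.node (.node (.leaf 8) (.leaf 14)) (.node (.leaf 6) (.leaf 0))) (.node (.node (.leaf 6) (.leaf 0)) (.node (.leaf 12) (.leaf 0)))) (.node (.node (.node (.leaf 1) (.leaf 14)) (.node (.leaf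 13) (.leaf 0))) (.node (.node (.leaf 6) (.leaf 8)) (.node (.leaf 6) (.leaf 0))))) (.node (.node (.node (.node (.leaf 4) (.leaf 1)) (.node (.leaf 3) (.leaf 0))) (.node (.node (.leaf 8) (.leaf 0)) (.node (.leaf 6) (.leaf 0)))) (.node (.node (.node (.leaf 2) (.leaf 9)) (.node (.leaf 6) (.leaf 0))) (.node (.node (.leaf 2) (.leaf 12)) (.leaf 0))))))) (.node (.node (.node (.node (.node (.node (.node (.leaf 14) (.leaf 1)) (.node (.leaf 8) (.leaf 0))) (.node (.node (.leaf 4) (.leaf 12)) (.node (.leaf 9) (.leaf 0)))) (.node (.node (.leaf 0) (.node (.leaf 5) (.leaf 0))) (.node (.node (.leaf 9) (.leaf 12)) (.leaf 0)))) (.node (.node (.node (.node (.leaf 9) (.leaf 14)) (.node (.leaf 5) (.leaf 0))) (.node (.node (.leaf 11) (.leaf 7)) (.node (.leaf 1) (.leaf 0)))) (.node (.node (.node (.leaf 10) (.leaf 5)) (.node (.leaf 12) (.leaf 0))) (.node (.node (.leaf 12) (.leaf 5)) (.node (.leaf 14) (.leaf 0)))))) (.node (.node (.node (.node (.node (.leaf 9) (.leaf 14)) (.node (.leaf 7) (.leaf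 0))) (.node (.node (.leaf 1) (.leaf 0)) (.node (.leaf 11) (.leaf 0)))) (.node (.node (.node (.leaf 12) (.leaf 13)) (.node (.leaf 1) (.leaf 0))) (.node (.node (.leaf 14) (.leaf 7)) (.node (.leaf 1) (.leaf 0))))) (.node (.node (.node (.node (.leaf 5) (.leaf 12)) (.node (.leaf 10) (.leaf 0))) (.node (.node (.leaf 14) (.leaf 0)) (.node (.leaf 9) (.leaf 0)))) (.node (.node (.node (.leaf 13) (.leaf 6)) (.node (.leaf 6) (.leaf 0))) (.node (.node (.leaf 11) (.leaf 13)) (.leaf 0)))))) (.node (.node (.node (.node (.node (.node (.leaf 1) (.leaf 4)) (.node (.leaf 10) (.leaf 0))) (.node (.node (.leaf 7) (.leaf 15)) (.node (.leaf 10) (.leaf 0)))) (.node (.node (.node (.leaf 7) (.leaf 10)) (.node (.leaf 3) (.leaf 0))) (.node (.node (.leaf 10) (.leaf 7)) (.leaf 0)))) (.node (.node (.node (.node (.leaf 8) (.leaf 7)) (.node (.leaf 6) (.leaf 0))) (.node (.node (.leaf 8) (.leaf 12)) (.node (.leaf 13) (.leaf 0)))) (.node (.node (.node (.leaf 10) (.leaf 4)) (.node (.leaf 13) (.leaf 0))) (.node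 (.node (.leaf 7) (.leaf 14)) (.node (.leaf 1) (.leaf 0)))))) (.node (.node (.node (.node (.node (.leaf 9) (.leaf 3)) (.node (.leaf 8) (.leaf 0))) (.node (.node (.leaf 4) (.leaf 0)) (.node (.leaf 8) (.leaf 0)))) (.node (.node (.node (.leaf 11) (.leaf 8)) (.node (.leaf 1) (.leaf 0))) (.node (.node (.leaf 7) (.leaf 10)) (.node (.leaf 12) (.leaf 0))))) (.node (.node (.node (.leaf 0) (.node (.leaf 3) (.leaf 0))) (.node (.node (.leaf 7) (.leaf 0)) (.node (.leaf 10) (.leaf 0)))) (.node (.node (.node (.leaf 1) (.leaf 13)) (.node (.leaf 9) (.leaf 0))) (.node (.node (.leaf 8) (.leaf 0)) (.leaf 0)))))))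

/-- Classes modulo the second ideal, part 24. -/
def clsBPart24 : Tree :=
  .node (.node (.node (.node (.node (.node (.node (.node (.leaf 9) (.leaf 6)) (.node (.leaf 14) (.leaf 0))) (.node (.node (.leaf 4) (.leaf 1)) (.node (.leaf 9) (.leaf 0)))) (.node (.node (.leaf 0) (.node (.leaf 1) (.leaf 0))) (.node (.node (.leaf 8) (.leaf 12)) (.leaf 0)))) (.node (.node (.node (.node (.leaf 5) (.leaf 13)) (.node (.leaf 6) (.leaf 0))) (.node (.node (.leaf 15) (.leaf 12)) (.node (.leaf 7) (.leaf 0)))) (.node (.node (.node (.leaf 4) (.leaf 13)) (.node (.leaf 11) (.leaf 0))) (.node (.node (.leaf 12) (.leaf 13)) (.node (.leaf 9) (.leaf 0)))))) (.node (.node (.node (.node (.node (.leaf 6) (.leaf 5)) (.node (.leaf 15) (.leaf 0))) (.node (.leaf 1) (.node (.leaf 6) (.leaf 0)))) (.node (.node (.node (.leaf 15) (.leaf 3)) (.node (.leaf 3) (.leaf 0))) (.node (.node (.leaf 4) (.leaf 2)) (.node (.leaf 1) (.leaf 0))))) (.node (.node (.node (.node (.leaf 6) (.leaf 15)) (.node (.leaf 14) (.leaf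 0))) (.node (.node (.leaf 7) (.leaf 0)) (.node (.leaf 8) (.leaf 0)))) (.node (.node (.node (.leaf 3) (.leaf 6)) (.node (.leaf 9) (.leaf 0))) (.node (.node (.leaf 8) (.leaf 14)) (.leaf 0)))))) (.node (.node (.node (.node (.node (.node (.leaf 12) (.leaf 2)) (.node (.leaf 10) (.leaf 0))) (.node (.leaf 7) (.node (.leaf 13) (.leaf 0)))) (.node (.node (.node (.leaf 12) (.leaf 10)) (.node (.leaf 11) (.leaf 0))) (.node (.node (.leaf 5) (.leaf 13)) (.leaf 0)))) (.node (.node (.node (.node (.leaf 11) (.leaf 12)) (.node (.leaf 4) (.leaf 0))) (.node (.node (.leaf 1) (.leaf 15)) (.node (.leaf 10) (.leaf 0)))) (.node (.node (.node (.leaf 10) (.leaf 4)) (.node (.leaf 15) (.leaf 0))) (.node (.node (.leaf 13) (.leaf 14)) (.node (.leaf 12) (.leaf 0)))))) (.node (.node (.node (.node (.node (.leaf 9) (.leaf 14)) (.node (.leaf 9) (.leaf 0))) (.node (.node (.leaf 12) (.leaf 0)) (.node (.leaf 1) (.leaf 0)))) (.node (.node (.node (.leaf 13) (.leaf 5)) (.node (.leaf 1) (.leaf 0))) (.node (.node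 (.leaf 9) (.leaf 11)) (.node (.leaf 11) (.leaf 0))))) (.node (.node (.node (.node (.leaf 4) (.leaf 0)) (.node (.leaf 14) (.leaf 0))) (.node (.node (.leaf 12) (.leaf 0)) (.node (.leaf 5) (.leaf 0)))) (.node (.node (.node (.leaf 13) (.leaf 14)) (.node (.leaf 6) (.leaf 0))) (.node (.node (.leaf 14) (.leaf 1)) (.leaf 0))))))) (.node (.node (.node (.node (.node (.node (.node (.leaf 13) (.leaf 12)) (.node (.leaf 10) (.leaf 0))) (.node (.node (.leaf 12) (.leaf 7)) (.node (.leaf 1) (.leaf 0)))) (.node (.node (.leaf 0) (.node (.leaf 15) (.leaf 0))) (.node (.node (.leaf 9) (.leaf 1)) (.leaf 0)))) (.node (.node (.node (.node (.leaf 4) (.leaf 12)) (.node (.leaf 10) (.leaf 0))) (.node (.node (.leaf 12) (.leaf 7)) (.node (.leaf 15) (.leaf 0)))) (.node (.node (.node (.leaf 11) (.leaf 9)) (.node (.leaf 12) (.leaf 0))) (.node (.node (.leaf 1) (.leaf 14)) (.node (.leaf 13) (.leaf 0)))))) (.node (.node (.node (.node (.node (.leaf 3) (.leaf 6)) (.node (.leaf 1) (.leaf 0))) (.node (.node (.leaf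 5) (.leaf 0)) (.node (.leaf 12) (.leaf 0)))) (.node (.node (.node (.leaf 1) (.leaf 13)) (.node (.leaf 12) (.leaf 0))) (.node (.node (.leaf 3) (.leaf 11)) (.node (.leaf 12) (.leaf 0))))) (.node (.node (.node (.node (.leaf 10) (.leaf 1)) (.node (.leaf 15) (.leaf 0))) (.node (.node (.leaf 5) (.leaf 0)) (.node (.leaf 9) (.leaf 0)))) (.node (.node (.node (.leaf 13) (.leaf 3)) (.node (.leaf 10) (.leaf 0))) (.node (.node (.leaf 15) (.leaf 14)) (.leaf 0)))))) (.node (.node (.node (.node (.node (.node (.leaf 10) (.leaf 13)) (.node (.leaf 8) (.leaf 0))) (.node (.node (.leaf 15) (.leaf 12)) (.node (.leaf 13) (.leaf 0)))) (.node (.node (.node (.leaf 7) (.leaf 11)) (.node (.leaf 9) (.leaf 0))) (.node (.node (.leaf 4) (.leaf 7)) (.leaf 0)))) (.node (.node (.node (.node (.leaf 9) (.leaf 7)) (.node (.leaf 12) (.leaf 0))) (.node (.node (.leaf 13) (.leaf 1)) (.node (.leaf 9) (.leaf 0)))) (.node (.node (.node (.leaf 11) (.leaf 12)) (.node (.leaf 10) (.leaf 0))) (.node (.node (.leaf 7) (.leaf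 3)) (.leaf 0))))) (.node (.node (.node (.node (.node (.leaf 13) (.leaf 9)) (.node (.leaf 9) (.leaf 0))) (.node (.node (.leaf 6) (.leaf 0)) (.node (.leaf 13) (.leaf 0)))) (.node (.node (.node (.leaf 5) (.leaf 12)) (.node (.leaf 12) (.leaf 0))) (.node (.node (.leaf 7) (.leaf 4)) (.node (.leaf 12) (.leaf 0))))) (.node (.node (.node (.leaf 0) (.node (.leaf 3) (.leaf 0))) (.node (.node (.leaf 13) (.leaf 0)) (.node (.leaf 4) (.leaf 0)))) (.node (.node (.node (.leaf 3) (.leaf 14)) (.node (.leaf 3) (.leaf 0))) (.node (.node (.leaf 7) (.leaf 0)) (.node (.leaf 7) (.leaf 0))))))))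

/-- Classes modulo the second ideal, part 4. -/
def clsBPart4 : Tree :=
  .node (.node (.node (.node (.node (.node (.node (.node (.leaf 4) (.leaf 3)) (.node (.leaf 3) (.leaf 0))) (.node (.node (.leaf 12) (.leaf 1)) (.node (.leaf 11) (.leaf 0)))) (.node (.node (.leaf 0) (.node (.leaf 2) (.leaf 0))) (.node (.node (.leaf 8) (.leaf 0)) (.node (.leaf 8) (.leaf 0))))) (.node (.node (.node (.node (.leaf 8) (.leaf 12)) (.node (.leaf 2) (.leaf 0))) (.node (.node (.leaf 15) (.leaf 0)) (.node (.leaf 9) (.leaf 0)))) (.node (.node (.node (.leaf 13) (.leaf 2)) (.node (.leaf 2) (.leaf 0))) (.node (.node (.leaf 4) (.leaf 1)) (.node (.leaf 4) (.leaf 0)))))) (.node (.node (.node (.node (.node (.leaf 5) (.leaf 10)) (.node (.leaf 4) (.leaf 0))) (.node (.node (.leaf 9) (.leaf 3)) (.node (.leaf 6) (.leaf 0)))) (.node (.node (.node (.leaf 1) (.leaf 13)) (.node (.leaf 2) (.leaf 0))) (.node (.node (.leaf 8) (.leaf 10)) (.leaf 0)))) (.node (.node (.node (.node (.leaf 2) (.leaf 1)) (.node (.leaf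 15) (.leaf 0))) (.node (.node (.leaf 9) (.leaf 3)) (.node (.leaf 4) (.leaf 0)))) (.node (.node (.node (.leaf 13) (.leaf 15)) (.node (.leaf 3) (.leaf 0))) (.node (.node (.leaf 9) (.leaf 12)) (.leaf 0)))))) (.node (.node (.node (.node (.node (.node (.leaf 6) (.leaf 2)) (.node (.leaf 14) (.leaf 0))) (.node (.node (.leaf 14) (.leaf 11)) (.node (.leaf 9) (.leaf 0)))) (.node (.node (.leaf 0) (.node (.leaf 7) (.leaf 0))) (.node (.leaf 9) (.leaf 0)))) (.node (.node (.node (.node (.leaf 11) (.leaf 7)) (.node (.leaf 15) (.leaf 0))) (.node (.node (.leaf 4) (.leaf 1)) (.node (.leaf 9) (.leaf 0)))) (.node (.node (.node (.leaf 6) (.leaf 13)) (.node (.leaf 2) (.leaf 0))) (.node (.node (.leaf 9) (.leaf 13)) (.node (.leaf 6) (.leaf 0)))))) (.node (.node (.node (.node (.node (.leaf 11) (.leaf 2)) (.node (.leaf 9) (.leaf 0))) (.node (.node (.leaf 2) (.leaf 0)) (.node (.leaf 4) (.leaf 0)))) (.node (.node (.node (.leaf 3) (.leaf 15)) (.node (.leaf 15) (.leaf 0))) (.node (.node (.leaf 5) (.leaf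 13)) (.node (.leaf 2) (.leaf 0))))) (.node (.node (.node (.node (.leaf 15) (.leaf 3)) (.node (.leaf 2) (.leaf 0))) (.node (.node (.leaf 11) (.leaf 0)) (.node (.leaf 9) (.leaf 0)))) (.node (.node (.node (.leaf 1) (.leaf 12)) (.node (.leaf 5) (.leaf 0))) (.node (.node (.leaf 4) (.leaf 1)) (.leaf 0))))))) (.node (.node (.node (.node (.node (.node (.node (.leaf 12) (.leaf 8)) (.node (.leaf 5) (.leaf 0))) (.node (.node (.leaf 9) (.leaf 10)) (.node (.leaf 2) (.leaf 0)))) (.node (.node (.leaf 0) (.node (.leaf 8) (.leaf 0))) (.node (.leaf 4) (.leaf 0)))) (.node (.node (.node (.node (.leaf 13) (.leaf 6)) (.node (.leaf 15) (.leaf 0))) (.node (.node (.leaf 9) (.leaf 14)) (.node (.leaf 2) (.leaf 0)))) (.node (.node (.node (.leaf 11) (.leaf 8)) (.node (.leaf 14) (.leaf 0))) (.node (.node (.leaf 4) (.leaf 11)) (.node (.leaf 12) (.leaf 0)))))) (.node (.node (.node (.node (.node (.leaf 4) (.leaf 14)) (.node (.leaf 7) (.leaf 0))) (.node (.node (.leaf 3) (.leaf 0)) (.node (.leaf 14) (.leaf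 0)))) (.node (.node (.node (.leaf 9) (.leaf 7)) (.node (.leaf 12) (.leaf 0))) (.node (.node (.leaf 1) (.leaf 13)) (.node (.leaf 3) (.leaf 0))))) (.node (.node (.node (.node (.leaf 15) (.leaf 9)) (.node (.leaf 1) (.leaf 0))) (.node (.node (.leaf 15) (.leaf 0)) (.node (.leaf 4) (.leaf 0)))) (.node (.node (.node (.leaf 7) (.leaf 1)) (.node (.leaf 4) (.leaf 0))) (.node (.node (.leaf 5) (.leaf 9)) (.leaf 0)))))) (.node (.node (.node (.node (.node (.leaf 7) (.node (.leaf 14) (.leaf 0))) (.node (.node (.leaf 1) (.leaf 5)) (.node (.leaf 15) (.leaf 0)))) (.node (.node (.leaf 14) (.node (.leaf 7) (.leaf 0))) (.node (.node (.leaf 7) (.leaf 9)) (.leaf 0)))) (.node (.node (.node (.node (.leaf 6) (.leaf 14)) (.node (.leaf 7) (.leaf 0))) (.node (.leaf 9) (.node (.leaf 3) (.leaf 0)))) (.node (.node (.node (.leaf 14) (.leaf 6)) (.node (.leaf 9) (.leaf 0))) (.node (.node (.leaf 9) (.leaf 13)) (.node (.leaf 7) (.leaf 0)))))) (.node (.node (.node (.node (.node (.leaf 2) (.leaf 4)) (.node (.leaf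 12) (.leaf 0))) (.node (.node (.leaf 4) (.leaf 0)) (.node (.leaf 9) (.leaf 0)))) (.node (.node (.node (.leaf 8) (.leaf 11)) (.node (.leaf 3) (.leaf 0))) (.node (.node (.leaf 7) (.leaf 14)) (.node (.leaf 14) (.leaf 0))))) (.node (.node (.node (.leaf 0) (.node (.leaf 11) (.leaf 0))) (.node (.node (.leaf 2) (.leaf 0)) (.node (.leaf 7) (.leaf 0)))) (.node (.node (.node (.leaf 6) (.leaf 9)) (.node (.leaf 4) (.leaf 0))) (.node (.node (.leaf 11) (.leaf 10)) (.leaf 0)))))))

/-- Classes modulo the second ideal, part 20. -/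
def clsBPart20 : Tree :=
  .node (.node (.node (.node (.node (.node (.node (.node (.leaf 12) (.leaf 3)) (.node (.leaf 13) (.leaf 0))) (.node (.node (.leaf 4) (.leaf 7)) (.node (.leaf 13) (.leaf 0)))) (.node (.node (.leaf 0) (.node (.leaf 4) (.leaf 0))) (.node (.node (.leaf 1) (.leaf 7)) (.leaf 0)))) (.node (.node (.node (.node (.leaf 8) (.leaf 9)) (.node (.leaf 9) (.leaf 0))) (.node (.node (.leaf 3) (.leaf 0)) (.node (.leaf 11) (.leaf 0)))) (.node (.node (.node (.leaf 7) (.leaf 5)) (.node (.leaf 5) (.leaf 0))) (.node (.node (.leaf 7) (.leaf 10)) (.node (.leaf 12) (.leaf 0)))))) (.node (.node (.node (.node (.node (.leaf 1) (.leaf 11)) (.node (.leaf 4) (.leaf 0))) (.node (.leaf 3) (.node (.leaf 4) (.leaf 0)))) (.node (.node (.node (.leaf 5) (.leaf 10)) (.node (.leaf 8) (.leaf 0))) (.node (.node (.leaf 3) (.leaf 13)) (.node (.leaf 8) (.leaf 0))))) (.node (.node (.node (.node (.leaf 9) (.leaf 5)) (.node (.leaf 12) (.leaf 0))) (.node (.node (.leaf 11) (.leaf 0)) (.node (.leaf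 14) (.leaf 0)))) (.node (.node (.node (.leaf 10) (.leaf 1)) (.node (.leaf 6) (.leaf 0))) (.node (.node (.leaf 5) (.leaf 12)) (.leaf 0)))))) (.node (.node (.node (.node (.node (.node (.leaf 1) (.leaf 15)) (.node (.leaf 4) (.leaf 0))) (.node (.node (.leaf 11) (.leaf 1)) (.node (.leaf 9) (.leaf 0)))) (.node (.node (.node (.leaf 0) (.leaf 6)) (.node (.leaf 11) (.leaf 0))) (.node (.node (.leaf 15) (.leaf 2)) (.leaf 0)))) (.node (.node (.node (.node (.leaf 5) (.leaf 10)) (.node (.leaf 8) (.leaf 0))) (.node (.node (.leaf 12) (.leaf 5)) (.node (.leaf 15) (.leaf 0)))) (.node (.node (.node (.leaf 6) (.leaf 8)) (.node (.leaf 9) (.leaf 0))) (.node (.leaf 2) (.node (.leaf 1) (.leaf 0)))))) (.node (.node (.node (.node (.leaf 13) (.node (.leaf 6) (.leaf 0))) (.node (.node (.leaf 2) (.leaf 0)) (.node (.leaf 12) (.leaf 0)))) (.node (.node (.node (.leaf 12) (.leaf 11)) (.node (.leaf 8) (.leaf 0))) (.node (.node (.leaf 15) (.leaf 10)) (.node (.leaf 5) (.leaf 0))))) (.node (.node (.node (.node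 (.leaf 8) (.leaf 0)) (.node (.leaf 13) (.leaf 0))) (.node (.node (.leaf 14) (.leaf 0)) (.node (.leaf 15) (.leaf 0)))) (.node (.node (.node (.leaf 6) (.leaf 12)) (.node (.leaf 1) (.leaf 0))) (.node (.node (.leaf 8) (.leaf 7)) (.leaf 0))))))) (.node (.node (.node (.node (.node (.node (.leaf 9) (.node (.leaf 10) (.leaf 0))) (.node (.node (.leaf 2) (.leaf 14)) (.node (.leaf 2) (.leaf 0)))) (.node (.node (.leaf 0) (.node (.leaf 10) (.leaf 0))) (.node (.node (.leaf 2) (.leaf 12)) (.leaf 0)))) (.node (.node (.node (.node (.leaf 7) (.leaf 1)) (.node (.leaf 7) (.leaf 0))) (.node (.node (.leaf 7) (.leaf 11)) (.node (.leaf 9) (.leaf 0)))) (.node (.node (.node (.leaf 5) (.leaf 1)) (.node (.leaf 4) (.leaf 0))) (.node (.node (.leaf 12) (.leaf 14)) (.node (.leaf 9) (.leaf 0)))))) (.node (.node (.node (.node (.node (.leaf 7) (.leaf 13)) (.node (.leaf 5) (.leaf 0))) (.node (.node (.leaf 5) (.leaf 0)) (.node (.leaf 7) (.leaf 0)))) (.node (.node (.node (.leaf 3) (.leaf 10)) (.node (.leaf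 1) (.leaf 0))) (.node (.node (.leaf 1) (.leaf 3)) (.node (.leaf 7) (.leaf 0))))) (.node (.node (.node (.node (.leaf 7) (.leaf 3)) (.node (.leaf 3) (.leaf 0))) (.node (.node (.leaf 11) (.leaf 0)) (.node (.leaf 2) (.leaf 0)))) (.node (.node (.node (.leaf 10) (.leaf 4)) (.node (.leaf 14) (.leaf 0))) (.node (.node (.leaf 10) (.leaf 6)) (.leaf 0)))))) (.node (.node (.node (.node (.node (.node (.leaf 10) (.leaf 1)) (.node (.leaf 8) (.leaf 0))) (.node (.node (.leaf 5) (.leaf 9)) (.node (.leaf 3) (.leaf 0)))) (.node (.node (.node (.leaf 11) (.leaf 8)) (.node (.leaf 7) (.leaf 0))) (.node (.node (.leaf 15) (.leaf 11)) (.leaf 0)))) (.node (.node (.node (.node (.leaf 4) (.leaf 11)) (.node (.leaf 15) (.leaf 0))) (.node (.node (.leaf 2) (.leaf 3)) (.node (.leaf 6) (.leaf 0)))) (.node (.node (.node (.leaf 8) (.leaf 11)) (.node (.leaf 15) (.leaf 0))) (.node (.node (.leaf 11) (.leaf 4)) (.node (.leaf 10) (.leaf 0)))))) (.node (.node (.node (.node (.leaf 12) (.node (.leaf 4) (.leaf 0)))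 (.node (.node (.leaf 11) (.leaf 0)) (.node (.leaf 2) (.leaf 0)))) (.node (.node (.node (.leaf 8) (.leaf 14)) (.node (.leaf 7) (.leaf 0))) (.node (.node (.leaf 12) (.leaf 5)) (.node (.leaf 4) (.leaf 0))))) (.node (.node (.node (.leaf 0) (.node (.leaf 6) (.leaf 0))) (.node (.node (.leaf 5) (.leaf 0)) (.node (.leaf 15) (.leaf 0)))) (.node (.node (.node (.leaf 11) (.leaf 6)) (.node (.leaf 7) (.leaf 0))) (.node (.node (.leaf 3) (.leaf 0)) (.node (.leaf 6) (.leaf 0))))))))

/-- Classes modulo the second ideal, part 12. -/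
def clsBPart12 : Tree :=
  .node (.node (.node (.node (.node (.node (.node (.node (.leaf 9) (.leaf 5)) (.node (.leaf 7) (.leaf 0))) (.node (.node (.leaf 15) (.leaf 11)) (.node (.leaf 5) (.leaf 0)))) (.node (.node (.leaf 0) (.node (.leaf 13) (.leaf 0))) (.node (.node (.leaf 2) (.leaf 14)) (.node (.leaf 8) (.leaf 0))))) (.node (.node (.node (.node (.leaf 6) (.leaf 10)) (.node (.leaf 14) (.leaf 0))) (.node (.node (.leaf 7) (.leaf 0)) (.node (.leaf 13) (.leaf 0)))) (.node (.node (.node (.leaf 4) (.leaf 11)) (.node (.leaf 4) (.leaf 0))) (.node (.node (.leaf 14) (.leaf 4)) (.node (.leaf 9) (.leaf 0)))))) (.node (.node (.node (.node (.node (.leaf 11) (.leaf 4)) (.node (.leaf 10) (.leaf 0))) (.node (.node (.leaf 7) (.leaf 12)) (.node (.leaf 8) (.leaf 0)))) (.node (.node (.node (.leaf 5) (.leaf 11)) (.node (.leaf 10) (.leaf 0))) (.node (.node (.leaf 8) (.leaf 2)) (.node (.leaf 9) (.leaf 0))))) (.node (.node (.node (.node (.leaf 14) (.leaf 5)) (.node (.leaf 13) (.leaf 0))) (.node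 (.node (.leaf 13) (.leaf 4)) (.node (.leaf 15) (.leaf 0)))) (.node (.node (.node (.leaf 11) (.leaf 4)) (.node (.leaf 1) (.leaf 0))) (.node (.node (.leaf 8) (.leaf 12)) (.leaf 0)))))) (.node (.node (.node (.node (.node (.node (.leaf 3) (.leaf 6)) (.node (.leaf 12) (.leaf 0))) (.node (.leaf 1) (.node (.leaf 9) (.leaf 0)))) (.node (.node (.node (.leaf 0) (.leaf 5)) (.node (.leaf 6) (.leaf 0))) (.node (.node (.leaf 6) (.leaf 10)) (.leaf 0)))) (.node (.node (.node (.node (.leaf 10) (.leaf 9)) (.node (.leaf 10) (.leaf 0))) (.node (.node (.leaf 10) (.leaf 5)) (.node (.leaf 14) (.leaf 0)))) (.node (.node (.node (.leaf 5) (.leaf 6)) (.node (.leaf 15) (.leaf 0))) (.node (.node (.leaf 10) (.leaf 9)) (.node (.leaf 3) (.leaf 0)))))) (.node (.node (.node (.node (.node (.leaf 5) (.leaf 6)) (.node (.leaf 2) (.leaf 0))) (.node (.node (.leaf 14) (.leaf 0)) (.node (.leaf 10) (.leaf 0)))) (.node (.node (.node (.leaf 4) (.leaf 5)) (.node (.leaf 9) (.leaf 0))) (.node (.node (.leaf 5) (.leaf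 4)) (.node (.leaf 4) (.leaf 0))))) (.node (.node (.node (.node (.leaf 10) (.leaf 4)) (.node (.leaf 12) (.leaf 0))) (.node (.node (.leaf 4) (.leaf 0)) (.node (.leaf 6) (.leaf 0)))) (.node (.node (.node (.leaf 13) (.leaf 12)) (.node (.leaf 11) (.leaf 0))) (.node (.node (.leaf 5) (.leaf 11)) (.leaf 0))))))) (.node (.node (.node (.node (.node (.node (.node (.leaf 10) (.leaf 8)) (.node (.leaf 2) (.leaf 0))) (.node (.node (.leaf 1) (.leaf 3)) (.node (.leaf 1) (.leaf 0)))) (.node (.node (.leaf 0) (.node (.leaf 11) (.leaf 0))) (.node (.node (.leaf 14) (.leaf 10)) (.leaf 0)))) (.node (.node (.node (.node (.leaf 4) (.leaf 3)) (.node (.leaf 14) (.leaf 0))) (.node (.node (.leaf 14) (.leaf 1)) (.node (.leaf 15) (.leaf 0)))) (.node (.node (.node (.leaf 10) (.leaf 2)) (.node (.leaf 11) (.leaf 0))) (.node (.node (.leaf 10) (.leaf 7)) (.node (.leaf 10) (.leaf 0)))))) (.node (.node (.node (.node (.node (.leaf 14) (.leaf 5)) (.node (.leaf 14) (.leaf 0))) (.node (.node (.leaf 4) (.leaf 0))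 (.node (.leaf 14) (.leaf 0)))) (.node (.node (.node (.leaf 7) (.leaf 3)) (.node (.leaf 4) (.leaf 0))) (.node (.node (.leaf 11) (.leaf 15)) (.node (.leaf 5) (.leaf 0))))) (.node (.node (.node (.node (.leaf 14) (.leaf 7)) (.node (.leaf 6) (.leaf 0))) (.node (.node (.leaf 5) (.leaf 0)) (.node (.leaf 14) (.leaf 0)))) (.node (.node (.node (.leaf 3) (.leaf 2)) (.node (.leaf 15) (.leaf 0))) (.node (.node (.leaf 7) (.leaf 1)) (.leaf 0)))))) (.node (.node (.node (.node (.node (.node (.leaf 9) (.leaf 8)) (.node (.leaf 15) (.leaf 0))) (.node (.node (.leaf 5) (.leaf 15)) (.node (.leaf 6) (.leaf 0)))) (.node (.node (.node (.leaf 1) (.leaf 2)) (.node (.leaf 13) (.leaf 0))) (.node (.leaf 13) (.leaf 0)))) (.node (.node (.node (.node (.leaf 13) (.leaf 1)) (.node (.leaf 12) (.leaf 0))) (.node (.node (.leaf 10) (.leaf 7)) (.node (.leaf 1) (.leaf 0)))) (.node (.node (.node (.leaf 2) (.leaf 11)) (.node (.leaf 14) (.leaf 0))) (.node (.node (.leaf 13) (.leaf 12)) (.node (.leaf 9) (.leaf 0))))))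 (.node (.node (.node (.node (.node (.leaf 1) (.leaf 9)) (.node (.leaf 13) (.leaf 0))) (.node (.node (.leaf 13) (.leaf 0)) (.node (.leaf 10) (.leaf 0)))) (.node (.node (.node (.leaf 6) (.leaf 4)) (.node (.leaf 5) (.leaf 0))) (.node (.node (.leaf 3) (.leaf 5)) (.node (.leaf 11) (.leaf 0))))) (.node (.node (.node (.leaf 0) (.node (.leaf 8) (.leaf 0))) (.node (.node (.leaf 11) (.leaf 0)) (.node (.leaf 13) (.leaf 0)))) (.node (.node (.node (.leaf 6) (.leaf 1)) (.node (.leaf 14) (.leaf 0))) (.node (.node (.leaf 4) (.leaf 0)) (.leaf 0)))))))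

/-- Classes modulo the second ideal, part 28. -/
def clsBPart28 : Tree :=
  .node (.node (.node (.node (.node (.node (.node (.node (.leaf 12) (.leaf 3)) (.node (.leaf 7) (.leaf 0))) (.node (.node (.leaf 1) (.leaf 9)) (.node (.leaf 8) (.leaf 0)))) (.node (.node (.leaf 0) (.node (.leaf 7) (.leaf 0))) (.node (.node (.leaf 13) (.leaf 10)) (.leaf 0)))) (.node (.node (.node (.node (.leaf 2) (.leaf 1)) (.node (.leaf 6) (.leaf 0))) (.node (.node (.leaf 10) (.leaf 3)) (.node (.leaf 11) (.leaf 0)))) (.node (.node (.node (.leaf 8) (.leaf 13)) (.node (.leaf 8) (.leaf 0))) (.node (.node (.leaf 10) (.leaf 4)) (.node (.leaf 12) (.leaf 0)))))) (.node (.node (.node (.node (.node (.leaf 11) (.leaf 7)) (.node (.leaf 11) (.leaf 0))) (.node (.node (.leaf 12) (.leaf 4)) (.node (.leaf 15) (.leaf 0)))) (.node (.node (.leaf 15) (.node (.leaf 14) (.leaf 0))) (.node (.node (.leaf 14) (.leaf 7)) (.node (.leaf 5) (.leaf 0))))) (.node (.node (.node (.node (.leaf 6) (.leaf 15)) (.node (.leaf 3) (.leaf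 0))) (.node (.node (.leaf 11) (.leaf 0)) (.node (.leaf 13) (.leaf 0)))) (.node (.node (.node (.leaf 15) (.leaf 9)) (.node (.leaf 8) (.leaf 0))) (.node (.node (.leaf 3) (.leaf 10)) (.leaf 0)))))) (.node (.node (.node (.node (.node (.node (.leaf 11) (.leaf 6)) (.node (.leaf 1) (.leaf 0))) (.node (.node (.leaf 1) (.leaf 5)) (.node (.leaf 14) (.leaf 0)))) (.node (.node (.node (.leaf 3) (.leaf 2)) (.node (.leaf 3) (.leaf 0))) (.node (.leaf 14) (.leaf 0)))) (.node (.node (.node (.node (.leaf 7) (.leaf 3)) (.node (.leaf 8) (.leaf 0))) (.node (.node (.leaf 1) (.leaf 15)) (.node (.leaf 6) (.leaf 0)))) (.node (.node (.node (.leaf 2) (.leaf 6)) (.node (.leaf 9) (.leaf 0))) (.node (.node (.leaf 14) (.leaf 6)) (.node (.leaf 11) (.leaf 0)))))) (.node (.node (.node (.node (.node (.leaf 8) (.leaf 12)) (.node (.leaf 13) (.leaf 0))) (.node (.node (.leaf 8) (.leaf 0)) (.node (.leaf 1) (.leaf 0)))) (.node (.node (.node (.leaf 11) (.leaf 1)) (.node (.leaf 5) (.leaf 0))) (.node (.node (.leaf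 9) (.leaf 12)) (.node (.leaf 8) (.leaf 0))))) (.node (.node (.node (.node (.leaf 8) (.leaf 0)) (.node (.leaf 12) (.leaf 0))) (.node (.node (.leaf 7) (.leaf 0)) (.node (.leaf 14) (.leaf 0)))) (.node (.node (.node (.leaf 8) (.leaf 10)) (.node (.leaf 11) (.leaf 0))) (.node (.node (.leaf 14) (.leaf 9)) (.leaf 0))))))) (.node (.node (.node (.node (.node (.node (.node (.leaf 1) (.leaf 12)) (.node (.leaf 8) (.leaf 0))) (.node (.node (.leaf 3) (.leaf 1)) (.node (.leaf 15) (.leaf 0)))) (.node (.node (.leaf 0) (.node (.leaf 5) (.leaf 0))) (.node (.node (.leaf 14) (.leaf 1)) (.leaf 0)))) (.node (.node (.node (.node (.leaf 8) (.leaf 11)) (.node (.leaf 13) (.leaf 0))) (.node (.node (.leaf 10) (.leaf 1)) (.node (.leaf 9) (.leaf 0)))) (.node (.node (.node (.leaf 7) (.leaf 1)) (.node (.leaf 3) (.leaf 0))) (.node (.node (.leaf 1) (.leaf 5)) (.node (.leaf 1) (.leaf 0)))))) (.node (.node (.node (.node (.node (.leaf 2) (.leaf 9)) (.node (.leaf 13) (.leaf 0))) (.node (.node (.leaf 6) (.leaf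 0)) (.node (.leaf 10) (.leaf 0)))) (.node (.node (.node (.leaf 12) (.leaf 9)) (.node (.leaf 14) (.leaf 0))) (.node (.node (.leaf 1) (.leaf 12)) (.node (.leaf 10) (.leaf 0))))) (.node (.node (.node (.node (.leaf 13) (.leaf 12)) (.node (.leaf 5) (.leaf 0))) (.node (.node (.leaf 1) (.leaf 0)) (.node (.leaf 14) (.leaf 0)))) (.node (.node (.leaf 9) (.node (.leaf 15) (.leaf 0))) (.node (.node (.leaf 2) (.leaf 3)) (.leaf 0)))))) (.node (.node (.node (.node (.node (.node (.leaf 15) (.leaf 4)) (.node (.leaf 1) (.leaf 0))) (.node (.node (.leaf 15) (.leaf 7)) (.node (.leaf 1) (.leaf 0)))) (.node (.node (.node (.leaf 1) (.leaf 4)) (.node (.leaf 5) (.leaf 0))) (.node (.node (.leaf 10) (.leaf 11)) (.leaf 0)))) (.node (.node (.node (.node (.leaf 14) (.leaf 1)) (.node (.leaf 15) (.leaf 0))) (.node (.node (.leaf 14) (.leaf 12)) (.node (.leaf 8) (.leaf 0)))) (.node (.node (.node (.leaf 4) (.leaf 12)) (.node (.leaf 6) (.leaf 0))) (.node (.node (.leaf 11) (.leaf 9)) (.leaf 0))))) (.node (.node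 (.node (.node (.node (.leaf 11) (.leaf 12)) (.node (.leaf 14) (.leaf 0))) (.node (.node (.leaf 10) (.leaf 0)) (.node (.leaf 14) (.leaf 0)))) (.node (.node (.node (.leaf 2) (.leaf 7)) (.node (.leaf 10) (.leaf 0))) (.node (.node (.leaf 3) (.leaf 8)) (.node (.leaf 3) (.leaf 0))))) (.node (.node (.node (.leaf 0) (.node (.leaf 8) (.leaf 0))) (.node (.node (.leaf 13) (.leaf 0)) (.node (.leaf 10) (.leaf 0)))) (.node (.node (.node (.leaf 11) (.leaf 3)) (.node (.leaf 2) (.leaf 0))) (.node (.node (.leaf 11) (.leaf 0)) (.node (.leaf 10) (.leaf 0))))))))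

/-- Classes modulo the second ideal, part 2. -/
def clsBPart2 : Tree :=
  .node (.node (.node (.node (.node (.node (.node (.node (.leaf 3) (.leaf 4)) (.node (.leaf 14) (.leaf 0))) (.node (.node (.leaf 14) (.leaf 8)) (.node (.leaf 4) (.leaf 0)))) (.node (.node (.leaf 0) (.node (.leaf 12) (.leaf 0))) (.node (.node (.leaf 7) (.leaf 0)) (.node (.leaf 12) (.leaf 0))))) (.node (.node (.node (.node (.leaf 1) (.leaf 9)) (.node (.leaf 7) (.leaf 0))) (.node (.node (.leaf 2) (.leaf 0)) (.node (.leaf 3) (.leaf 0)))) (.node (.node (.node (.leaf 5) (.leaf 11)) (.node (.leaf 4) (.leaf 0))) (.node (.leaf 13) (.node (.leaf 3) (.leaf 0)))))) (.node (.node (.node (.node (.node (.leaf 12) (.leaf 9)) (.node (.leaf 11) (.leaf 0))) (.node (.node (.leaf 14) (.leaf 9)) (.node (.leaf 5) (.leaf 0)))) (.node (.node (.node (.leaf 5) (.leaf 15)) (.node (.leaf 10) (.leaf 0))) (.node (.node (.leaf 12) (.leaf 9)) (.leaf 0)))) (.node (.node (.node (.node (.leaf 7) (.leaf 5)) (.node (.leaf 12) (.leaf 0)))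 (.node (.node (.leaf 3) (.leaf 8)) (.node (.leaf 9) (.leaf 0)))) (.node (.node (.node (.leaf 15) (.leaf 13)) (.node (.leaf 2) (.leaf 0))) (.node (.node (.leaf 10) (.leaf 9)) (.leaf 0)))))) (.node (.node (.node (.node (.node (.node (.leaf 4) (.leaf 10)) (.node (.leaf 9) (.leaf 0))) (.node (.node (.leaf 8) (.leaf 13)) (.node (.leaf 15) (.leaf 0)))) (.node (.node (.leaf 0) (.node (.leaf 1) (.leaf 0))) (.node (.node (.leaf 7) (.leaf 3)) (.leaf 0)))) (.node (.node (.node (.leaf 12) (.node (.leaf 1) (.leaf 0))) (.node (.node (.leaf 2) (.leaf 5)) (.node (.leaf 15) (.leaf 0)))) (.node (.node (.node (.leaf 4) (.leaf 5)) (.node (.leaf 1) (.leaf 0))) (.node (.node (.leaf 3) (.leaf 15)) (.node (.leaf 4) (.leaf 0)))))) (.node (.node (.node (.node (.node (.leaf 4) (.leaf 11)) (.node (.leaf 4) (.leaf 0))) (.node (.node (.leaf 8) (.leaf 0)) (.node (.leaf 2) (.leaf 0)))) (.node (.node (.node (.leaf 8) (.leaf 14)) (.node (.leaf 11) (.leaf 0))) (.node (.node (.leaf 4) (.leaf 3)) (.node (.leaf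 4) (.leaf 0))))) (.node (.node (.node (.node (.leaf 1) (.leaf 8)) (.node (.leaf 15) (.leaf 0))) (.node (.node (.leaf 3) (.leaf 0)) (.node (.leaf 7) (.leaf 0)))) (.node (.node (.node (.leaf 2) (.leaf 9)) (.node (.leaf 12) (.leaf 0))) (.node (.node (.leaf 5) (.leaf 8)) (.leaf 0))))))) (.node (.node (.node (.node (.node (.node (.node (.leaf 9) (.leaf 7)) (.node (.leaf 1) (.leaf 0))) (.node (.node (.leaf 10) (.leaf 12)) (.node (.leaf 3) (.leaf 0)))) (.node (.node (.leaf 0) (.node (.leaf 2) (.leaf 0))) (.node (.node (.leaf 3) (.leaf 2)) (.leaf 0)))) (.node (.node (.node (.node (.leaf 5) (.leaf 4)) (.node (.leaf 1) (.leaf 0))) (.node (.node (.leaf 5) (.leaf 8)) (.node (.leaf 1) (.leaf 0)))) (.node (.node (.node (.leaf 12) (.leaf 7)) (.node (.leaf 14) (.leaf 0))) (.node (.node (.leaf 2) (.leaf 6)) (.node (.leaf 9) (.leaf 0)))))) (.node (.node (.node (.node (.node (.leaf 15) (.leaf 9)) (.node (.leaf 14) (.leaf 0))) (.node (.node (.leaf 8) (.leaf 0)) (.node (.leaf 9) (.leaf 0))))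 (.node (.node (.node (.leaf 14) (.leaf 8)) (.node (.leaf 7) (.leaf 0))) (.node (.node (.leaf 2) (.leaf 14)) (.node (.leaf 6) (.leaf 0))))) (.node (.node (.node (.node (.leaf 1) (.leaf 14)) (.node (.leaf 7) (.leaf 0))) (.node (.node (.leaf 14) (.leaf 0)) (.node (.leaf 3) (.leaf 0)))) (.node (.node (.node (.leaf 8) (.leaf 5)) (.node (.leaf 9) (.leaf 0))) (.node (.node (.leaf 6) (.leaf 15)) (.leaf 0)))))) (.node (.node (.node (.node (.node (.node (.leaf 12) (.leaf 14)) (.node (.leaf 7) (.leaf 0))) (.node (.node (.leaf 5) (.leaf 11)) (.node (.leaf 12) (.leaf 0)))) (.node (.node (.node (.leaf 8) (.leaf 15)) (.node (.leaf 5) (.leaf 0))) (.node (.node (.leaf 5) (.leaf 3)) (.leaf 0)))) (.node (.node (.node (.node (.leaf 4) (.leaf 8)) (.node (.leaf 6) (.leaf 0))) (.node (.node (.leaf 3) (.leaf 14)) (.node (.leaf 2) (.leaf 0)))) (.node (.node (.node (.leaf 15) (.leaf 11)) (.node (.leaf 15) (.leaf 0))) (.node (.node (.leaf 3) (.leaf 4)) (.node (.leaf 12) (.leaf 0)))))) (.node (.node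 (.node (.node (.leaf 3) (.node (.leaf 8) (.leaf 0))) (.node (.node (.leaf 13) (.leaf 0)) (.node (.leaf 3) (.leaf 0)))) (.node (.node (.node (.leaf 1) (.leaf 3)) (.node (.leaf 6) (.leaf 0))) (.node (.node (.leaf 14) (.leaf 1)) (.node (.leaf 14) (.leaf 0))))) (.node (.node (.node (.leaf 0) (.node (.leaf 9) (.leaf 0))) (.node (.node (.leaf 11) (.leaf 0)) (.node (.leaf 5) (.leaf 0)))) (.node (.node (.node (.leaf 7) (.leaf 15)) (.node (.leaf 15) (.leaf 0))) (.node (.node (.leaf 2) (.leaf 12)) (.leaf 0)))))))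

/-- Classes modulo the second ideal, part 18. -/
def clsBPart18 : Tree :=
  .node (.node (.node (.node (.node (.node (.node (.node (.leaf 9) (.leaf 4)) (.node (.leaf 12) (.leaf 0))) (.node (.node (.leaf 13) (.leaf 12)) (.node (.leaf 13) (.leaf 0)))) (.node (.node (.leaf 0) (.node (.leaf 7) (.leaf 0))) (.node (.node (.leaf 7) (.leaf 6)) (.leaf 0)))) (.node (.node (.node (.node (.leaf 1) (.leaf 15)) (.node (.leaf 7) (.leaf 0))) (.node (.node (.leaf 5) (.leaf 0)) (.node (.leaf 15) (.leaf 0)))) (.node (.node (.node (.leaf 8) (.leaf 15)) (.node (.leaf 7) (.leaf 0))) (.node (.node (.leaf 6) (.leaf 9)) (.node (.leaf 9) (.leaf 0)))))) (.node (.node (.node (.node (.node (.leaf 3) (.leaf 6)) (.node (.leaf 11) (.leaf 0))) (.node (.node (.leaf 9) (.leaf 8)) (.node (.leaf 9) (.leaf 0)))) (.node (.node (.node (.leaf 11) (.leaf 12)) (.node (.leaf 15) (.leaf 0))) (.node (.node (.leaf 4) (.leaf 14)) (.node (.leaf 15) (.leaf 0))))) (.node (.node (.node (.node (.leaf 7) (.leaf 11)) (.node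 (.leaf 9) (.leaf 0))) (.node (.node (.leaf 15) (.leaf 0)) (.node (.leaf 9) (.leaf 0)))) (.node (.node (.node (.leaf 12) (.leaf 15)) (.node (.leaf 5) (.leaf 0))) (.node (.node (.leaf 6) (.leaf 9)) (.leaf 0)))))) (.node (.node (.node (.node (.node (.node (.leaf 8) (.leaf 14)) (.node (.leaf 5) (.leaf 0))) (.node (.node (.leaf 13) (.leaf 5)) (.node (.leaf 15) (.leaf 0)))) (.node (.node (.node (.leaf 0) (.leaf 10)) (.node (.leaf 11) (.leaf 0))) (.node (.node (.leaf 1) (.leaf 8)) (.leaf 0)))) (.node (.node (.node (.node (.leaf 4) (.leaf 12)) (.node (.leaf 12) (.leaf 0))) (.node (.node (.leaf 2) (.leaf 11)) (.node (.leaf 12) (.leaf 0)))) (.node (.node (.leaf 10) (.node (.leaf 15) (.leaf 0))) (.node (.node (.leaf 8) (.leaf 11)) (.node (.leaf 8) (.leaf 0)))))) (.node (.node (.node (.node (.node (.leaf 13) (.leaf 4)) (.node (.leaf 8) (.leaf 0))) (.node (.node (.leaf 8) (.leaf 0)) (.node (.leaf 2) (.leaf 0)))) (.node (.node (.node (.leaf 13) (.leaf 3)) (.node (.leaf 15) (.leaf 0)))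 (.node (.node (.leaf 10) (.leaf 6)) (.node (.leaf 7) (.leaf 0))))) (.node (.node (.node (.node (.leaf 12) (.leaf 0)) (.node (.leaf 15) (.leaf 0))) (.node (.node (.leaf 8) (.leaf 0)) (.node (.leaf 1) (.leaf 0)))) (.node (.node (.node (.leaf 7) (.leaf 9)) (.node (.leaf 3) (.leaf 0))) (.node (.node (.leaf 9) (.leaf 12)) (.leaf 0))))))) (.node (.node (.node (.node (.node (.node (.node (.leaf 15) (.leaf 13)) (.node (.leaf 12) (.leaf 0))) (.node (.node (.leaf 10) (.leaf 8)) (.node (.leaf 1) (.leaf 0)))) (.node (.node (.leaf 0) (.node (.leaf 10) (.leaf 0))) (.node (.node (.leaf 7) (.leaf 2)) (.leaf 0)))) (.node (.node (.node (.leaf 8) (.node (.leaf 5) (.leaf 0))) (.node (.node (.leaf 6) (.leaf 13)) (.node (.leaf 15) (.leaf 0)))) (.node (.node (.node (.leaf 4) (.leaf 7)) (.node (.leaf 6) (.leaf 0))) (.node (.node (.leaf 2) (.leaf 9)) (.node (.leaf 15) (.leaf 0)))))) (.node (.node (.node (.node (.node (.leaf 2) (.leaf 15)) (.node (.leaf 12) (.leaf 0))) (.node (.node (.leaf 5) (.leaf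 0)) (.node (.leaf 6) (.leaf 0)))) (.node (.node (.node (.leaf 9) (.leaf 2)) (.node (.leaf 11) (.leaf 0))) (.node (.node (.leaf 2) (.leaf 6)) (.node (.leaf 9) (.leaf 0))))) (.node (.node (.node (.node (.leaf 5) (.leaf 9)) (.node (.leaf 11) (.leaf 0))) (.node (.node (.leaf 3) (.leaf 0)) (.node (.leaf 7) (.leaf 0)))) (.node (.node (.node (.leaf 2) (.leaf 3)) (.node (.leaf 9) (.leaf 0))) (.node (.node (.leaf 11) (.leaf 4)) (.leaf 0)))))) (.node (.node (.node (.node (.node (.node (.leaf 12) (.leaf 13)) (.node (.leaf 8) (.leaf 0))) (.node (.node (.leaf 11) (.leaf 14)) (.node (.leaf 2) (.leaf 0)))) (.node (.node (.node (.leaf 13) (.leaf 3)) (.node (.leaf 5) (.leaf 0))) (.node (.node (.leaf 1) (.leaf 15)) (.leaf 0)))) (.node (.node (.node (.node (.leaf 3) (.leaf 13)) (.node (.leaf 12) (.leaf 0))) (.node (.node (.leaf 8) (.leaf 9)) (.node (.leaf 5) (.leaf 0)))) (.node (.node (.node (.leaf 3) (.leaf 8)) (.node (.leaf 12) (.leaf 0))) (.node (.node (.leaf 15) (.leaf 3)) (.node (.leaf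 12) (.leaf 0)))))) (.node (.node (.node (.node (.node (.leaf 13) (.leaf 9)) (.node (.leaf 3) (.leaf 0))) (.node (.node (.leaf 9) (.leaf 0)) (.node (.leaf 8) (.leaf 0)))) (.node (.node (.node (.leaf 1) (.leaf 8)) (.node (.leaf 9) (.leaf 0))) (.node (.node (.leaf 13) (.leaf 1)) (.node (.leaf 6) (.leaf 0))))) (.node (.node (.node (.leaf 0) (.node (.leaf 1) (.leaf 0))) (.node (.node (.leaf 15) (.leaf 0)) (.node (.leaf 1) (.leaf 0)))) (.node (.node (.node (.leaf 2) (.leaf 4)) (.node (.leaf 2) (.leaf 0))) (.node (.node (.leaf 2) (.leaf 0)) (.node (.leaf 7) (.leaf 0))))))))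

/-- Classes modulo the second ideal, part 10. -/
def clsBPart10 : Tree :=
  .node (.node (.node (.node (.node (.node (.node (.node (.leaf 7) (.leaf 14)) (.node (.leaf 5) (.leaf 0))) (.node (.node (.leaf 13) (.leaf 2)) (.node (.leaf 15) (.leaf 0)))) (.node (.node (.leaf 0) (.node (.leaf 5) (.leaf 0))) (.node (.node (.leaf 3) (.leaf 15)) (.node (.leaf 3) (.leaf 0))))) (.node (.node (.node (.node (.leaf 1) (.leaf 10)) (.node (.leaf 10) (.leaf 0))) (.node (.node (.leaf 8) (.leaf 0)) (.node (.leaf 6) (.leaf 0)))) (.node (.node (.node (.leaf 7) (.leaf 4)) (.node (.leaf 5) (.leaf 0))) (.node (.node (.leaf 15) (.leaf 11)) (.node (.leaf 7) (.leaf 0)))))) (.node (.node (.node (.node (.node (.leaf 3) (.leaf 11)) (.node (.leaf 9) (.leaf 0))) (.node (.node (.leaf 14) (.leaf 13)) (.node (.leaf 7) (.leaf 0)))) (.node (.node (.node (.leaf 4) (.leaf 9)) (.node (.leaf 12) (.leaf 0))) (.node (.node (.leaf 3) (.leaf 1)) (.node (.leaf 10) (.leaf 0))))) (.node (.node (.node (.node (.leaf 10)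 (.leaf 4)) (.node (.leaf 13) (.leaf 0))) (.node (.node (.leaf 6) (.leaf 13)) (.node (.leaf 13) (.leaf 0)))) (.node (.node (.node (.leaf 9) (.leaf 13)) (.node (.leaf 1) (.leaf 0))) (.node (.node (.leaf 15) (.leaf 11)) (.leaf 0)))))) (.node (.node (.node (.node (.node (.node (.leaf 3) (.leaf 12)) (.node (.leaf 7) (.leaf 0))) (.node (.leaf 2) (.node (.leaf 8) (.leaf 0)))) (.node (.node (.node (.leaf 0) (.leaf 5)) (.node (.leaf 4) (.leaf 0))) (.node (.leaf 1) (.leaf 0)))) (.node (.node (.node (.node (.leaf 10) (.leaf 14)) (.node (.leaf 3) (.leaf 0))) (.node (.node (.leaf 13) (.leaf 4)) (.node (.leaf 14) (.leaf 0)))) (.node (.node (.node (.leaf 5) (.leaf 7)) (.node (.leaf 4) (.leaf 0))) (.node (.node (.leaf 1) (.leaf 4)) (.node (.leaf 3) (.leaf 0)))))) (.node (.node (.node (.node (.node (.leaf 15) (.leaf 8)) (.node (.leaf 11) (.leaf 0))) (.node (.node (.leaf 15) (.leaf 0)) (.node (.leaf 13) (.leaf 0)))) (.node (.node (.node (.leaf 13) (.leaf 12)) (.node (.leaf 10) (.leaf 0)))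 (.node (.leaf 11) (.node (.leaf 5) (.leaf 0))))) (.node (.node (.node (.node (.leaf 3) (.leaf 13)) (.node (.leaf 10) (.leaf 0))) (.node (.node (.leaf 15) (.leaf 0)) (.node (.leaf 1) (.leaf 0)))) (.node (.node (.node (.leaf 5) (.leaf 11)) (.node (.leaf 3) (.leaf 0))) (.node (.node (.leaf 7) (.leaf 2)) (.leaf 0))))))) (.node (.node (.node (.node (.node (.node (.node (.leaf 10) (.leaf 5)) (.node (.leaf 10) (.leaf 0))) (.node (.node (.leaf 5) (.leaf 4)) (.node (.leaf 7) (.leaf 0)))) (.node (.node (.leaf 0) (.node (.leaf 12) (.leaf 0))) (.node (.node (.leaf 10) (.leaf 13)) (.leaf 0)))) (.node (.node (.node (.node (.leaf 7) (.leaf 3)) (.node (.leaf 6) (.leaf 0))) (.node (.node (.leaf 15) (.leaf 2)) (.node (.leaf 4) (.leaf 0)))) (.node (.node (.node (.leaf 10) (.leaf 3)) (.node (.leaf 2) (.leaf 0))) (.node (.node (.leaf 13) (.leaf 14)) (.node (.leaf 10) (.leaf 0)))))) (.node (.node (.node (.node (.node (.leaf 8) (.leaf 12)) (.node (.leaf 9) (.leaf 0))) (.node (.node (.leaf 13)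 (.leaf 0)) (.node (.leaf 15) (.leaf 0)))) (.node (.node (.node (.leaf 14) (.leaf 5)) (.node (.leaf 5) (.leaf 0))) (.node (.node (.leaf 13) (.leaf 4)) (.node (.leaf 6) (.leaf 0))))) (.node (.node (.node (.node (.leaf 6) (.leaf 14)) (.node (.leaf 6) (.leaf 0))) (.node (.node (.leaf 12) (.leaf 0)) (.node (.leaf 10) (.leaf 0)))) (.node (.node (.node (.leaf 5) (.leaf 10)) (.node (.leaf 13) (.leaf 0))) (.node (.node (.leaf 9) (.leaf 13)) (.leaf 0)))))) (.node (.node (.node (.node (.node (.node (.leaf 14) (.leaf 8)) (.node (.leaf 11) (.leaf 0))) (.node (.node (.leaf 4) (.leaf 10)) (.node (.leaf 10) (.leaf 0)))) (.node (.node (.node (.leaf 2) (.leaf 8)) (.node (.leaf 12) (.leaf 0))) (.node (.node (.leaf 1) (.leaf 6)) (.leaf 0)))) (.node (.node (.node (.node (.leaf 12) (.leaf 2)) (.node (.leaf 2) (.leaf 0))) (.node (.node (.leaf 1) (.leaf 14)) (.node (.leaf 1) (.leaf 0)))) (.node (.node (.node (.leaf 8) (.leaf 2)) (.node (.leaf 14) (.leaf 0))) (.node (.node (.leaf 6) (.leaf 8))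 (.node (.leaf 14) (.leaf 0)))))) (.node (.node (.node (.node (.leaf 7) (.node (.leaf 12) (.leaf 0))) (.node (.node (.leaf 15) (.leaf 0)) (.node (.leaf 1) (.leaf 0)))) (.node (.node (.node (.leaf 1) (.leaf 15)) (.node (.leaf 6) (.leaf 0))) (.node (.leaf 9) (.node (.leaf 2) (.leaf 0))))) (.node (.node (.node (.leaf 0) (.node (.leaf 1) (.leaf 0))) (.node (.node (.leaf 4) (.leaf 0)) (.node (.leaf 1) (.leaf 0)))) (.node (.node (.node (.leaf 11) (.leaf 13)) (.node (.leaf 8) (.leaf 0))) (.node (.node (.leaf 6) (.leaf 0)) (.leaf 0)))))))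

/-- Classes modulo the second ideal, part 26. -/
def clsBPart26 : Tree :=
  .node (.node (.node (.node (.node (.node (.node (.node (.leaf 11) (.leaf 8)) (.node (.leaf 5) (.leaf 0))) (.node (.node (.leaf 15) (.leaf 14)) (.node (.leaf 7) (.leaf 0)))) (.node (.node (.leaf 0) (.node (.leaf 8) (.leaf 0))) (.node (.node (.leaf 12) (.leaf 13)) (.leaf 0)))) (.node (.node (.node (.node (.leaf 12) (.leaf 13)) (.node (.leaf 1) (.leaf 0))) (.node (.node (.leaf 2) (.leaf 4)) (.node (.leaf 6) (.leaf 0)))) (.node (.node (.node (.leaf 2) (.leaf 13)) (.node (.leaf 9) (.leaf 0))) (.node (.node (.leaf 13) (.leaf 11)) (.node (.leaf 11) (.leaf 0)))))) (.node (.node (.node (.node (.node (.leaf 3) (.leaf 14)) (.node (.leaf 6) (.leaf 0))) (.node (.leaf 13) (.node (.leaf 13) (.leaf 0)))) (.node (.node (.node (.leaf 10) (.leaf 2)) (.node (.leaf 9) (.leaf 0))) (.node (.node (.leaf 8) (.leaf 4)) (.node (.leaf 6) (.leaf 0))))) (.node (.node (.node (.node (.leaf 1) (.leaf 10)) (.node (.leaf 14) (.leaf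 0))) (.node (.node (.leaf 6) (.leaf 0)) (.node (.leaf 12) (.leaf 0)))) (.node (.node (.node (.leaf 2) (.leaf 10)) (.node (.leaf 7) (.leaf 0))) (.node (.node (.leaf 6) (.leaf 10)) (.leaf 0)))))) (.node (.node (.node (.node (.node (.node (.leaf 2) (.leaf 11)) (.node (.leaf 11) (.leaf 0))) (.node (.node (.leaf 2) (.leaf 4)) (.node (.leaf 14) (.leaf 0)))) (.node (.node (.node (.leaf 4) (.leaf 8)) (.node (.leaf 14) (.leaf 0))) (.node (.node (.leaf 6) (.leaf 3)) (.leaf 0)))) (.node (.node (.node (.node (.leaf 1) (.leaf 4)) (.node (.leaf 3) (.leaf 0))) (.node (.node (.leaf 3) (.leaf 10)) (.node (.leaf 10) (.leaf 0)))) (.node (.node (.node (.leaf 8) (.leaf 7)) (.node (.leaf 8) (.leaf 0))) (.node (.node (.leaf 3) (.leaf 8)) (.node (.leaf 2) (.leaf 0)))))) (.node (.node (.node (.node (.node (.leaf 7) (.leaf 8)) (.node (.leaf 4) (.leaf 0))) (.node (.node (.leaf 3) (.leaf 0)) (.node (.leaf 3) (.leaf 0)))) (.node (.node (.node (.leaf 9) (.leaf 3)) (.node (.leaf 6) (.leaf 0))) (.node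 (.node (.leaf 14) (.leaf 6)) (.node (.leaf 9) (.leaf 0))))) (.node (.node (.node (.node (.leaf 3) (.leaf 0)) (.node (.leaf 13) (.leaf 0))) (.node (.node (.leaf 2) (.leaf 0)) (.node (.leaf 6) (.leaf 0)))) (.node (.node (.leaf 10) (.node (.leaf 3) (.leaf 0))) (.node (.leaf 14) (.leaf 0))))))) (.node (.node (.node (.node (.node (.node (.node (.leaf 13) (.leaf 10)) (.node (.leaf 15) (.leaf 0))) (.node (.node (.leaf 4) (.leaf 2)) (.node (.leaf 4) (.leaf 0)))) (.node (.node (.leaf 0) (.node (.leaf 4) (.leaf 0))) (.node (.node (.leaf 10) (.leaf 3)) (.leaf 0)))) (.node (.node (.node (.leaf 2) (.node (.leaf 1) (.leaf 0))) (.node (.node (.leaf 13) (.leaf 2)) (.node (.leaf 8) (.leaf 0)))) (.node (.node (.node (.leaf 1) (.leaf 2)) (.node (.leaf 2) (.leaf 0))) (.node (.node (.leaf 3) (.leaf 12)) (.node (.leaf 13) (.leaf 0)))))) (.node (.node (.node (.node (.node (.leaf 11) (.leaf 4)) (.node (.leaf 15) (.leaf 0))) (.node (.node (.leaf 10) (.leaf 0)) (.node (.leaf 13) (.leaf 0)))) (.node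 (.node (.node (.leaf 13) (.leaf 5)) (.node (.leaf 7) (.leaf 0))) (.node (.node (.leaf 5) (.leaf 6)) (.node (.leaf 11) (.leaf 0))))) (.node (.node (.node (.node (.leaf 1) (.leaf 13)) (.node (.leaf 4) (.leaf 0))) (.node (.node (.leaf 3) (.leaf 0)) (.node (.leaf 10) (.leaf 0)))) (.node (.node (.node (.leaf 5) (.leaf 7)) (.node (.leaf 14) (.leaf 0))) (.node (.node (.leaf 4) (.leaf 3)) (.leaf 0)))))) (.node (.node (.node (.node (.node (.node (.leaf 14) (.leaf 11)) (.node (.leaf 13) (.leaf 0))) (.node (.node (.leaf 10) (.leaf 14)) (.node (.leaf 1) (.leaf 0)))) (.node (.node (.node (.leaf 2) (.leaf 13)) (.node (.leaf 1) (.leaf 0))) (.node (.node (.leaf 3) (.leaf 6)) (.leaf 0)))) (.node (.node (.node (.node (.leaf 10) (.leaf 2)) (.node (.leaf 5) (.leaf 0))) (.node (.node (.leaf 3) (.leaf 13)) (.node (.leaf 7) (.leaf 0)))) (.node (.node (.node (.leaf 13) (.leaf 14)) (.node (.leaf 10) (.leaf 0))) (.node (.node (.leaf 6) (.leaf 7)) (.leaf 0))))) (.node (.node (.node (.node (.node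 (.leaf 9) (.leaf 11)) (.node (.leaf 10) (.leaf 0))) (.node (.node (.leaf 12) (.leaf 0)) (.node (.leaf 3) (.leaf 0)))) (.node (.node (.node (.leaf 12) (.leaf 2)) (.node (.leaf 11) (.leaf 0))) (.node (.leaf 8) (.node (.leaf 2) (.leaf 0))))) (.node (.node (.node (.leaf 0) (.node (.leaf 1) (.leaf 0))) (.node (.node (.leaf 13) (.leaf 0)) (.node (.leaf 3) (.leaf 0)))) (.node (.node (.node (.leaf 8) (.leaf 3)) (.node (.leaf 11) (.leaf 0))) (.node (.node (.leaf 11) (.leaf 0)) (.node (.leaf 11) (.leaf 0))))))))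

/-- Classes modulo the second ideal, part 6. -/
def clsBPart6 : Tree :=
  .node (.node (.node (.node (.node (.node (.node (.node (.leaf 6) (.leaf 11)) (.node (.leaf 1) (.leaf 0))) (.node (.node (.leaf 10) (.leaf 6)) (.node (.leaf 1) (.leaf 0)))) (.node (.node (.leaf 0) (.node (.leaf 8) (.leaf 0))) (.node (.node (.leaf 15) (.leaf 0)) (.node (.leaf 10) (.leaf 0))))) (.node (.node (.node (.node (.leaf 9) (.leaf 15)) (.node (.leaf 14) (.leaf 0))) (.node (.node (.leaf 14) (.leaf 0)) (.node (.leaf 13) (.leaf 0)))) (.node (.node (.node (.leaf 13) (.leaf 8)) (.node (.leaf 1) (.leaf 0))) (.node (.node (.leaf 12) (.leaf 6)) (.node (.leaf 6) (.leaf 0)))))) (.node (.node (.node (.node (.node (.leaf 2) (.leaf 15)) (.node (.leaf 13) (.leaf 0))) (.node (.node (.leaf 14) (.leaf 11)) (.node (.leaf 3) (.leaf 0)))) (.node (.node (.node (.leaf 2) (.leaf 7)) (.node (.leaf 12) (.leaf 0))) (.node (.node (.leaf 10) (.leaf 2)) (.leaf 0)))) (.node (.node (.node (.node (.leaf 14) (.leaf 2)) (.node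 (.leaf 9) (.leaf 0))) (.node (.node (.leaf 13) (.leaf 11)) (.node (.leaf 5) (.leaf 0)))) (.node (.node (.node (.leaf 7) (.leaf 13)) (.node (.leaf 3) (.leaf 0))) (.node (.node (.leaf 14) (.leaf 7)) (.leaf 0)))))) (.node (.node (.node (.node (.node (.node (.leaf 6) (.leaf 4)) (.node (.leaf 8) (.leaf 0))) (.node (.node (.leaf 10) (.leaf 5)) (.node (.leaf 4) (.leaf 0)))) (.node (.node (.leaf 0) (.node (.leaf 15) (.leaf 0))) (.node (.node (.leaf 15) (.leaf 5)) (.leaf 0)))) (.node (.node (.node (.node (.leaf 12) (.leaf 8)) (.node (.leaf 10) (.leaf 0))) (.node (.node (.leaf 10) (.leaf 2)) (.node (.leaf 12) (.leaf 0)))) (.node (.node (.node (.leaf 3) (.leaf 14)) (.node (.leaf 3) (.leaf 0))) (.node (.leaf 5) (.node (.leaf 6) (.leaf 0)))))) (.node (.node (.node (.node (.node (.leaf 1) (.leaf 2)) (.node (.leaf 10) (.leaf 0))) (.node (.node (.leaf 10) (.leaf 0)) (.node (.leaf 10) (.leaf 0)))) (.node (.node (.node (.leaf 11) (.leaf 13)) (.node (.leaf 11) (.leaf 0))) (.node (.node (.leaf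 1) (.leaf 15)) (.node (.leaf 1) (.leaf 0))))) (.node (.node (.node (.node (.leaf 10) (.leaf 11)) (.node (.leaf 11) (.leaf 0))) (.node (.node (.leaf 10) (.leaf 0)) (.node (.leaf 15) (.leaf 0)))) (.node (.node (.node (.leaf 5) (.leaf 7)) (.node (.leaf 2) (.leaf 0))) (.node (.node (.leaf 11) (.leaf 6)) (.leaf 0))))))) (.node (.node (.node (.node (.node (.node (.node (.leaf 15) (.leaf 3)) (.node (.leaf 6) (.leaf 0))) (.node (.leaf 13) (.node (.leaf 9) (.leaf 0)))) (.node (.node (.leaf 0) (.node (.leaf 6) (.leaf 0))) (.node (.node (.leaf 12) (.leaf 10)) (.leaf 0)))) (.node (.node (.node (.node (.leaf 13) (.leaf 6)) (.node (.leaf 11) (.leaf 0))) (.node (.node (.leaf 5) (.leaf 10)) (.node (.leaf 3) (.leaf 0)))) (.node (.node (.node (.leaf 12) (.leaf 15)) (.node (.leaf 12) (.leaf 0))) (.node (.node (.leaf 10) (.leaf 3)) (.node (.leaf 15) (.leaf 0)))))) (.node (.node (.node (.node (.node (.leaf 11) (.leaf 2)) (.node (.leaf 9) (.leaf 0))) (.node (.node (.leaf 11) (.leaf 0)) (.node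 (.leaf 10) (.leaf 0)))) (.node (.node (.node (.leaf 14) (.leaf 7)) (.node (.leaf 13) (.leaf 0))) (.node (.node (.leaf 8) (.leaf 4)) (.node (.leaf 1) (.leaf 0))))) (.node (.node (.node (.node (.leaf 11) (.leaf 14)) (.node (.leaf 1) (.leaf 0))) (.node (.node (.leaf 13) (.leaf 0)) (.node (.leaf 12) (.leaf 0)))) (.node (.node (.node (.leaf 7) (.leaf 8)) (.node (.leaf 5) (.leaf 0))) (.node (.node (.leaf 13) (.leaf 7)) (.leaf 0)))))) (.node (.node (.node (.node (.node (.node (.leaf 8) (.leaf 15)) (.node (.leaf 4) (.leaf 0))) (.node (.node (.leaf 2) (.leaf 10)) (.node (.leaf 4) (.leaf 0)))) (.node (.node (.node (.leaf 10) (.leaf 12)) (.node (.leaf 14) (.leaf 0))) (.node (.node (.leaf 15) (.leaf 13)) (.leaf 0)))) (.node (.node (.node (.node (.leaf 3) (.leaf 10)) (.node (.leaf 1) (.leaf 0))) (.node (.node (.leaf 5) (.leaf 14)) (.node (.leaf 3) (.leaf 0)))) (.node (.node (.node (.leaf 12) (.leaf 7)) (.node (.leaf 12) (.leaf 0))) (.node (.node (.leaf 13) (.leaf 2)) (.node (.leaf 8)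 (.leaf 0)))))) (.node (.node (.node (.node (.node (.leaf 9) (.leaf 6)) (.node (.leaf 8) (.leaf 0))) (.node (.node (.leaf 15) (.leaf 0)) (.node (.leaf 5) (.leaf 0)))) (.node (.node (.node (.leaf 9) (.leaf 10)) (.node (.leaf 1) (.leaf 0))) (.node (.node (.leaf 2) (.leaf 6)) (.node (.leaf 12) (.leaf 0))))) (.node (.node (.node (.leaf 0) (.node (.leaf 7) (.leaf 0))) (.node (.node (.leaf 8) (.leaf 0)) (.node (.leaf 15) (.leaf 0)))) (.node (.node (.node (.leaf 3) (.leaf 7)) (.node (.leaf 11) (.leaf 0))) (.node (.node (.leaf 9) (.leaf 13)) (.leaf 0)))))))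

/-- Classes modulo the second ideal, part 22. -/
def clsBPart22 : Tree :=
  .node (.node (.node (.node (.node (.node (.node (.node (.leaf 7) (.leaf 1)) (.node (.leaf 9) (.leaf 0))) (.node (.node (.leaf 7) (.leaf 8)) (.node (.leaf 9) (.leaf 0)))) (.node (.node (.leaf 0) (.node (.leaf 3) (.leaf 0))) (.node (.node (.leaf 6) (.leaf 15)) (.leaf 0)))) (.node (.node (.node (.node (.leaf 14) (.leaf 7)) (.node (.leaf 15) (.leaf 0))) (.node (.node (.leaf 2) (.leaf 0)) (.node (.leaf 13) (.leaf 0)))) (.node (.node (.node (.leaf 5) (.leaf 15)) (.node (.leaf 3) (.leaf 0))) (.node (.leaf 15) (.node (.leaf 7) (.leaf 0)))))) (.node (.node (.node (.node (.node (.leaf 6) (.leaf 3)) (.node (.leaf 5) (.leaf 0))) (.node (.leaf 11) (.node (.leaf 5) (.leaf 0)))) (.node (.node (.node (.leaf 10) (.leaf 11)) (.node (.leaf 2) (.leaf 0))) (.node (.node (.leaf 8) (.leaf 1)) (.node (.leaf 4) (.leaf 0))))) (.node (.node (.node (.node (.leaf 15) (.leaf 10)) (.node (.leaf 2) (.leaf 0))) (.node (.node (.leaf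 13) (.leaf 0)) (.node (.leaf 10) (.leaf 0)))) (.node (.node (.node (.leaf 11) (.leaf 8)) (.node (.leaf 3) (.leaf 0))) (.node (.leaf 15) (.leaf 0)))))) (.node (.node (.node (.node (.node (.node (.leaf 6) (.leaf 10)) (.node (.leaf 4) (.leaf 0))) (.node (.node (.leaf 5) (.leaf 2)) (.node (.leaf 12) (.leaf 0)))) (.node (.node (.node (.leaf 0) (.leaf 3)) (.node (.leaf 15) (.leaf 0))) (.node (.node (.leaf 11) (.leaf 9)) (.leaf 0)))) (.node (.node (.node (.node (.leaf 12) (.leaf 13)) (.node (.leaf 10) (.leaf 0))) (.node (.node (.leaf 9) (.leaf 10)) (.node (.leaf 4) (.leaf 0)))) (.node (.node (.node (.leaf 3) (.leaf 11)) (.node (.leaf 4) (.leaf 0))) (.node (.node (.leaf 9) (.leaf 2)) (.node (.leaf 6) (.leaf 0)))))) (.node (.node (.node (.node (.node (.leaf 9) (.leaf 2)) (.node (.leaf 4) (.leaf 0))) (.node (.node (.leaf 11) (.leaf 0)) (.node (.leaf 9) (.leaf 0)))) (.node (.node (.node (.leaf 10) (.leaf 12)) (.node (.leaf 4) (.leaf 0))) (.node (.node (.leaf 13) (.leaf 8)) (.node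 (.leaf 3) (.leaf 0))))) (.node (.node (.node (.node (.leaf 10) (.leaf 0)) (.node (.leaf 14) (.leaf 0))) (.node (.node (.leaf 14) (.leaf 0)) (.node (.leaf 11) (.leaf 0)))) (.node (.node (.node (.leaf 5) (.leaf 15)) (.node (.leaf 6) (.leaf 0))) (.node (.node (.leaf 9) (.leaf 8)) (.leaf 0))))))) (.node (.node (.node (.node (.node (.node (.node (.leaf 7) (.leaf 14)) (.node (.leaf 4) (.leaf 0))) (.node (.node (.leaf 9) (.leaf 10)) (.node (.leaf 3) (.leaf 0)))) (.node (.node (.leaf 0) (.node (.leaf 15) (.leaf 0))) (.node (.node (.leaf 14) (.leaf 9)) (.leaf 0)))) (.node (.node (.node (.node (.leaf 5) (.leaf 6)) (.node (.leaf 15) (.leaf 0))) (.node (.node (.leaf 15) (.leaf 5)) (.node (.leaf 4) (.leaf 0)))) (.node (.node (.node (.leaf 12) (.leaf 6)) (.node (.leaf 12) (.leaf 0))) (.node (.node (.leaf 9) (.leaf 2)) (.node (.leaf 7) (.leaf 0)))))) (.node (.node (.node (.node (.node (.leaf 6) (.leaf 5)) (.node (.leaf 7) (.leaf 0))) (.node (.node (.leaf 9) (.leaf 0)) (.node (.leaf 15)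 (.leaf 0)))) (.node (.node (.node (.leaf 11) (.leaf 7)) (.node (.leaf 7) (.leaf 0))) (.node (.node (.leaf 6) (.leaf 8)) (.node (.leaf 5) (.leaf 0))))) (.node (.node (.node (.node (.leaf 15) (.leaf 11)) (.node (.leaf 1) (.leaf 0))) (.node (.node (.leaf 12) (.leaf 0)) (.node (.leaf 14) (.leaf 0)))) (.node (.node (.node (.leaf 7) (.leaf 6)) (.node (.leaf 10) (.leaf 0))) (.node (.node (.leaf 10) (.leaf 6)) (.leaf 0)))))) (.node (.node (.node (.node (.node (.node (.leaf 13) (.leaf 6)) (.node (.leaf 12) (.leaf 0))) (.node (.node (.leaf 10) (.leaf 14)) (.node (.leaf 3) (.leaf 0)))) (.node (.node (.node (.leaf 5) (.leaf 1)) (.node (.leaf 8) (.leaf 0))) (.node (.node (.leaf 10) (.leaf 13)) (.leaf 0)))) (.node (.node (.node (.node (.leaf 12) (.leaf 5)) (.node (.leaf 2) (.leaf 0))) (.node (.node (.leaf 9) (.leaf 11)) (.node (.leaf 3) (.leaf 0)))) (.node (.node (.node (.leaf 1) (.leaf 14)) (.node (.leaf 4) (.leaf 0))) (.node (.node (.leaf 13) (.leaf 6)) (.node (.leaf 13) (.leaf 0))))))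 (.node (.node (.node (.node (.node (.leaf 10) (.leaf 7)) (.node (.leaf 12) (.leaf 0))) (.node (.node (.leaf 4) (.leaf 0)) (.node (.leaf 9) (.leaf 0)))) (.node (.node (.leaf 14) (.node (.leaf 5) (.leaf 0))) (.node (.node (.leaf 14) (.leaf 2)) (.node (.leaf 12) (.leaf 0))))) (.node (.node (.node (.leaf 0) (.node (.leaf 3) (.leaf 0))) (.node (.node (.leaf 15) (.leaf 0)) (.node (.leaf 10) (.leaf 0)))) (.node (.node (.leaf 6) (.node (.leaf 6) (.leaf 0))) (.node (.node (.leaf 1) (.leaf 0)) (.node (.leaf 11) (.leaf 0))))))))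

/-- Classes modulo the second ideal, part 14. -/
def clsBPart14 : Tree :=
  .node (.node (.node (.node (.node (.node (.node (.node (.leaf 5) (.leaf 8)) (.node (.leaf 14) (.leaf 0))) (.node (.node (.leaf 13) (.leaf 3)) (.node (.leaf 15) (.leaf 0)))) (.node (.node (.leaf 0) (.node (.leaf 13) (.leaf 0))) (.node (.node (.leaf 9) (.leaf 7)) (.node (.leaf 4) (.leaf 0))))) (.node (.node (.node (.node (.leaf 3) (.leaf 13)) (.node (.leaf 7) (.leaf 0))) (.node (.node (.leaf 7) (.leaf 0)) (.node (.leaf 3) (.leaf 0)))) (.node (.node (.node (.leaf 3) (.leaf 1)) (.node (.leaf 11) (.leaf 0))) (.node (.node (.leaf 7) (.leaf 13)) (.node (.leaf 5) (.leaf 0)))))) (.node (.node (.node (.node (.node (.leaf 12) (.leaf 5)) (.node (.leaf 15) (.leaf 0))) (.node (.node (.leaf 2) (.leaf 14)) (.node (.leaf 1) (.leaf 0)))) (.node (.node (.node (.leaf 1) (.leaf 4)) (.node (.leaf 4) (.leaf 0))) (.node (.node (.leaf 4) (.leaf 9)) (.node (.leaf 14) (.leaf 0))))) (.node (.node (.node (.node (.leaf 7) (.leaf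 1)) (.node (.leaf 14) (.leaf 0))) (.node (.node (.leaf 3) (.leaf 12)) (.node (.leaf 1) (.leaf 0)))) (.node (.node (.node (.leaf 4) (.leaf 7)) (.node (.leaf 4) (.leaf 0))) (.node (.node (.leaf 4) (.leaf 2)) (.leaf 0)))))) (.node (.node (.node (.node (.node (.node (.leaf 7) (.leaf 5)) (.node (.leaf 13) (.leaf 0))) (.node (.node (.leaf 8) (.leaf 6)) (.node (.leaf 7) (.leaf 0)))) (.node (.node (.node (.leaf 0) (.leaf 9)) (.node (.leaf 3) (.leaf 0))) (.node (.node (.leaf 11) (.leaf 12)) (.leaf 0)))) (.node (.node (.node (.node (.leaf 15) (.leaf 3)) (.node (.leaf 1) (.leaf 0))) (.node (.node (.leaf 2) (.leaf 1)) (.node (.leaf 10) (.leaf 0)))) (.node (.node (.node (.leaf 9) (.leaf 5)) (.node (.leaf 11) (.leaf 0))) (.node (.node (.leaf 12) (.leaf 10)) (.node (.leaf 7) (.leaf 0)))))) (.node (.node (.node (.node (.node (.leaf 15) (.leaf 4)) (.node (.leaf 2) (.leaf 0))) (.node (.node (.leaf 12) (.leaf 0)) (.node (.leaf 2) (.leaf 0)))) (.node (.node (.node (.leaf 12) (.leaf 2)) (.node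 (.leaf 14) (.leaf 0))) (.node (.node (.leaf 10) (.leaf 12)) (.node (.leaf 11) (.leaf 0))))) (.node (.node (.node (.node (.leaf 1) (.leaf 12)) (.node (.leaf 6) (.leaf 0))) (.node (.node (.leaf 11) (.leaf 0)) (.node (.leaf 11) (.leaf 0)))) (.node (.node (.node (.leaf 14) (.leaf 2)) (.node (.leaf 12) (.leaf 0))) (.node (.leaf 3) (.leaf 0))))))) (.node (.node (.node (.node (.node (.node (.leaf 13) (.node (.leaf 12) (.leaf 0))) (.node (.leaf 8) (.node (.leaf 6) (.leaf 0)))) (.node (.node (.leaf 0) (.node (.leaf 12) (.leaf 0))) (.node (.node (.leaf 3) (.leaf 2)) (.leaf 0)))) (.node (.node (.node (.node (.leaf 3) (.leaf 7)) (.node (.leaf 9) (.leaf 0))) (.node (.node (.leaf 7) (.leaf 8)) (.node (.leaf 11) (.leaf 0)))) (.node (.node (.node (.leaf 15) (.leaf 9)) (.node (.leaf 9) (.leaf 0))) (.node (.node (.leaf 2) (.leaf 9)) (.node (.leaf 13) (.leaf 0)))))) (.node (.node (.node (.node (.node (.leaf 14) (.leaf 7)) (.node (.leaf 2) (.leaf 0))) (.node (.node (.leaf 12) (.leaf 0)) (.node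 (.leaf 7) (.leaf 0)))) (.node (.node (.leaf 2) (.node (.leaf 4) (.leaf 0))) (.node (.node (.leaf 5) (.leaf 12)) (.node (.leaf 13) (.leaf 0))))) (.node (.node (.node (.node (.leaf 9) (.leaf 2)) (.node (.leaf 2) (.leaf 0))) (.node (.node (.leaf 2) (.leaf 0)) (.node (.leaf 3) (.leaf 0)))) (.node (.node (.node (.leaf 2) (.leaf 9)) (.node (.leaf 1) (.leaf 0))) (.node (.node (.leaf 5) (.leaf 15)) (.leaf 0)))))) (.node (.node (.node (.node (.node (.node (.leaf 3) (.leaf 12)) (.node (.leaf 11) (.leaf 0))) (.node (.node (.leaf 1) (.leaf 13)) (.node (.leaf 12) (.leaf 0)))) (.node (.node (.node (.leaf 8) (.leaf 11)) (.node (.leaf 9) (.leaf 0))) (.node (.node (.leaf 11) (.leaf 3)) (.leaf 0)))) (.node (.node (.node (.node (.leaf 4) (.leaf 8)) (.node (.leaf 8) (.leaf 0))) (.node (.node (.leaf 12) (.leaf 2)) (.node (.leaf 4) (.leaf 0)))) (.node (.node (.node (.leaf 11) (.leaf 6)) (.node (.leaf 10) (.leaf 0))) (.node (.node (.leaf 3) (.leaf 8)) (.node (.leaf 3) (.leaf 0)))))) (.node (.node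 (.node (.node (.node (.leaf 6) (.leaf 5)) (.node (.leaf 4) (.leaf 0))) (.node (.node (.leaf 7) (.leaf 0)) (.node (.leaf 12) (.leaf 0)))) (.node (.node (.node (.leaf 3) (.leaf 11)) (.node (.leaf 13) (.leaf 0))) (.node (.node (.leaf 11) (.leaf 14)) (.node (.leaf 9) (.leaf 0))))) (.node (.node (.node (.leaf 0) (.node (.leaf 9) (.leaf 0))) (.node (.node (.leaf 1) (.leaf 0)) (.node (.leaf 11) (.leaf 0)))) (.node (.node (.node (.leaf 7) (.leaf 15)) (.node (.leaf 14) (.leaf 0))) (.node (.node (.leaf 12) (.leaf 0)) (.leaf 0)))))))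

/-- Classes modulo the second ideal, part 30. -/
def clsBPart30 : Tree :=
  .node (.node (.node (.node (.node (.node (.node (.node (.leaf 2) (.leaf 4)) (.node (.leaf 8) (.leaf 0))) (.node (.node (.leaf 8) (.leaf 3)) (.node (.leaf 15) (.leaf 0)))) (.node (.node (.leaf 0) (.node (.leaf 5) (.leaf 0))) (.node (.node (.leaf 4) (.leaf 6)) (.leaf 0)))) (.node (.node (.node (.node (.leaf 8) (.leaf 15)) (.node (.leaf 11) (.leaf 0))) (.node (.node (.leaf 7) (.leaf 8)) (.node (.leaf 7) (.leaf 0)))) (.node (.node (.node (.leaf 6) (.leaf 9)) (.node (.leaf 9) (.leaf 0))) (.node (.node (.leaf 6) (.leaf 5)) (.node (.leaf 2) (.leaf 0)))))) (.node (.node (.node (.node (.node (.leaf 10) (.leaf 9)) (.node (.leaf 3) (.leaf 0))) (.node (.node (.leaf 14) (.leaf 12)) (.node (.leaf 1) (.leaf 0)))) (.node (.node (.node (.leaf 13) (.leaf 14)) (.node (.leaf 8) (.leaf 0))) (.node (.node (.leaf 10) (.leaf 13)) (.node (.leaf 15) (.leaf 0))))) (.node (.node (.node (.node (.leaf 11) (.leaf 13)) (.node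 (.leaf 9) (.leaf 0))) (.node (.node (.leaf 7) (.leaf 0)) (.node (.leaf 4) (.leaf 0)))) (.node (.node (.node (.leaf 14) (.leaf 13)) (.node (.leaf 1) (.leaf 0))) (.node (.node (.leaf 1) (.leaf 13)) (.leaf 0)))))) (.node (.node (.node (.node (.node (.node (.leaf 3) (.leaf 5)) (.node (.leaf 7) (.leaf 0))) (.node (.node (.leaf 6) (.leaf 1)) (.node (.leaf 10) (.leaf 0)))) (.node (.node (.node (.leaf 8) (.leaf 10)) (.node (.leaf 1) (.leaf 0))) (.node (.node (.leaf 9) (.leaf 5)) (.leaf 0)))) (.node (.node (.node (.node (.leaf 15) (.leaf 8)) (.node (.leaf 4) (.leaf 0))) (.node (.node (.leaf 5) (.leaf 13)) (.node (.leaf 12) (.leaf 0)))) (.node (.node (.node (.leaf 10) (.leaf 3)) (.node (.leaf 7) (.leaf 0))) (.node (.node (.leaf 5) (.leaf 4)) (.node (.leaf 3) (.leaf 0)))))) (.node (.node (.node (.node (.node (.leaf 15) (.leaf 8)) (.node (.leaf 2) (.leaf 0))) (.node (.node (.leaf 1) (.leaf 0)) (.node (.leaf 5) (.leaf 0)))) (.node (.node (.node (.leaf 7) (.leaf 6)) (.node (.leaf 15)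 (.leaf 0))) (.node (.leaf 14) (.node (.leaf 9) (.leaf 0))))) (.node (.node (.node (.node (.leaf 4) (.leaf 0)) (.node (.leaf 10) (.leaf 0))) (.node (.node (.leaf 6) (.leaf 0)) (.node (.leaf 9) (.leaf 0)))) (.node (.node (.node (.leaf 11) (.leaf 13)) (.node (.leaf 10) (.leaf 0))) (.node (.node (.leaf 12) (.leaf 3)) (.leaf 0))))))) (.node (.node (.node (.node (.node (.node (.node (.leaf 15) (.leaf 10)) (.node (.leaf 2) (.leaf 0))) (.node (.leaf 8) (.node (.leaf 11) (.leaf 0)))) (.node (.node (.leaf 0) (.node (.leaf 12) (.leaf 0))) (.node (.node (.leaf 7) (.leaf 5)) (.leaf 0)))) (.node (.node (.node (.node (.leaf 6) (.leaf 3)) (.node (.leaf 11) (.leaf 0))) (.node (.leaf 6) (.node (.leaf 7) (.leaf 0)))) (.node (.node (.node (.leaf 15) (.leaf 5)) (.node (.leaf 1) (.leaf 0))) (.node (.node (.leaf 5) (.leaf 7)) (.node (.leaf 15) (.leaf 0)))))) (.node (.node (.node (.node (.node (.leaf 8) (.leaf 10)) (.node (.leaf 5) (.leaf 0))) (.node (.node (.leaf 3) (.leaf 0)) (.node (.leaf 6)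 (.leaf 0)))) (.node (.node (.node (.leaf 14) (.leaf 5)) (.node (.leaf 4) (.leaf 0))) (.node (.node (.leaf 2) (.leaf 8)) (.node (.leaf 10) (.leaf 0))))) (.node (.node (.node (.node (.leaf 11) (.leaf 14)) (.node (.leaf 6) (.leaf 0))) (.node (.node (.leaf 6) (.leaf 0)) (.node (.leaf 7) (.leaf 0)))) (.node (.node (.leaf 5) (.node (.leaf 13) (.leaf 0))) (.node (.node (.leaf 1) (.leaf 7)) (.leaf 0)))))) (.node (.node (.node (.node (.node (.leaf 13) (.node (.leaf 6) (.leaf 0))) (.node (.node (.leaf 13) (.leaf 2)) (.node (.leaf 4) (.leaf 0)))) (.node (.node (.node (.leaf 6) (.leaf 15)) (.node (.leaf 6) (.leaf 0))) (.node (.node (.leaf 1) (.leaf 7)) (.leaf 0)))) (.node (.node (.node (.node (.leaf 3) (.leaf 6)) (.node (.leaf 4) (.leaf 0))) (.node (.node (.leaf 5) (.leaf 14)) (.node (.leaf 1) (.leaf 0)))) (.node (.node (.node (.leaf 15) (.leaf 10)) (.node (.leaf 12) (.leaf 0))) (.node (.node (.leaf 7) (.leaf 5)) (.leaf 0))))) (.node (.node (.node (.node (.node (.leaf 7) (.leaf 2))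 (.node (.leaf 3) (.leaf 0))) (.node (.node (.leaf 11) (.leaf 0)) (.node (.leaf 5) (.leaf 0)))) (.node (.node (.node (.leaf 8) (.leaf 6)) (.node (.leaf 10) (.leaf 0))) (.node (.node (.leaf 11) (.leaf 12)) (.node (.leaf 1) (.leaf 0))))) (.node (.node (.node (.leaf 0) (.node (.leaf 14) (.leaf 0))) (.node (.node (.leaf 9) (.leaf 0)) (.node (.leaf 1) (.leaf 0)))) (.node (.node (.node (.leaf 14) (.leaf 7)) (.node (.leaf 8) (.leaf 0))) (.node (.node (.leaf 15) (.leaf 0)) (.node (.leaf 13) (.leaf 0))))))))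

/-- Classes modulo the second ideal, part 1. -/
def clsBPart1 : Tree :=
  .node (.node (.node (.node (.node (.node (.node (.node (.leaf 2) (.leaf 9)) (.node (.leaf 2) (.leaf 0))) (.node (.node (.leaf 7) (.leaf 11)) (.node (.leaf 14) (.leaf 0)))) (.node (.node (.leaf 0) (.node (.leaf 3) (.leaf 0))) (.node (.node (.leaf 4) (.leaf 0)) (.node (.leaf 3) (.leaf 0))))) (.node (.node (.node (.node (.leaf 11) (.leaf 10)) (.node (.leaf 9) (.leaf 0))) (.node (.node (.leaf 6) (.leaf 0)) (.node (.leaf 10) (.leaf 0)))) (.node (.node (.node (.leaf 3) (.leaf 15)) (.node (.leaf 3) (.leaf 0))) (.node (.node (.leaf 8) (.leaf 7)) (.node (.leaf 2) (.leaf 0)))))) (.node (.node (.node (.node (.node (.leaf 1) (.leaf 11)) (.node (.leaf 2) (.leaf 0))) (.node (.node (.leaf 5) (.leaf 15)) (.node (.leaf 8) (.leaf 0)))) (.node (.node (.node (.leaf 10) (.leaf 11)) (.node (.leaf 9) (.leaf 0))) (.node (.node (.leaf 3) (.leaf 5)) (.leaf 0)))) (.node (.node (.node (.node (.leaf 9) (.leaf 10)) (.node (.leaf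 13) (.leaf 0))) (.node (.node (.leaf 10) (.leaf 2)) (.node (.leaf 12) (.leaf 0)))) (.node (.node (.leaf 11) (.node (.leaf 3) (.leaf 0))) (.node (.node (.leaf 12) (.leaf 10)) (.leaf 0)))))) (.node (.node (.node (.node (.node (.node (.leaf 6) (.leaf 7)) (.node (.leaf 2) (.leaf 0))) (.node (.node (.leaf 9) (.leaf 1)) (.node (.leaf 14) (.leaf 0)))) (.node (.node (.leaf 0) (.node (.leaf 14) (.leaf 0))) (.node (.node (.leaf 11) (.leaf 9)) (.leaf 0)))) (.node (.node (.node (.node (.leaf 9) (.leaf 15)) (.node (.leaf 14) (.leaf 0))) (.node (.node (.leaf 12) (.leaf 10)) (.node (.leaf 14) (.leaf 0)))) (.node (.node (.node (.leaf 2) (.leaf 15)) (.node (.leaf 7) (.leaf 0))) (.node (.node (.leaf 9) (.leaf 7)) (.node (.leaf 6) (.leaf 0)))))) (.node (.node (.node (.node (.node (.leaf 14) (.leaf 5)) (.node (.leaf 1) (.leaf 0))) (.node (.node (.leaf 7) (.leaf 0)) (.node (.leaf 12) (.leaf 0)))) (.node (.node (.node (.leaf 2) (.leaf 9)) (.node (.leaf 6) (.leaf 0))) (.node (.node (.leaf 5)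 (.leaf 8)) (.node (.leaf 3) (.leaf 0))))) (.node (.node (.node (.node (.leaf 14) (.leaf 2)) (.node (.leaf 9) (.leaf 0))) (.node (.node (.leaf 5) (.leaf 0)) (.node (.leaf 11) (.leaf 0)))) (.node (.node (.leaf 10) (.node (.leaf 1) (.leaf 0))) (.node (.node (.leaf 9) (.leaf 11)) (.leaf 0))))))) (.node (.node (.node (.node (.node (.node (.node (.leaf 10) (.leaf 8)) (.node (.leaf 4) (.leaf 0))) (.node (.node (.leaf 5) (.leaf 15)) (.node (.leaf 10) (.leaf 0)))) (.node (.node (.leaf 0) (.node (.leaf 13) (.leaf 0))) (.node (.node (.leaf 13) (.leaf 12)) (.leaf 0)))) (.node (.node (.node (.node (.leaf 3) (.leaf 6)) (.node (.leaf 15) (.leaf 0))) (.node (.node (.leaf 1) (.leaf 9)) (.node (.leaf 7) (.leaf 0)))) (.node (.node (.node (.leaf 9) (.leaf 4)) (.node (.leaf 4) (.leaf 0))) (.node (.node (.leaf 12) (.leaf 2)) (.node (.leaf 10) (.leaf 0)))))) (.node (.node (.node (.node (.node (.leaf 6) (.leaf 5)) (.node (.leaf 15) (.leaf 0))) (.node (.node (.leaf 2) (.leaf 0)) (.node (.leaf 12)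 (.leaf 0)))) (.node (.node (.node (.leaf 5) (.leaf 11)) (.node (.leaf 3) (.leaf 0))) (.node (.node (.leaf 15) (.leaf 1)) (.node (.leaf 7) (.leaf 0))))) (.node (.node (.node (.node (.leaf 15) (.leaf 5)) (.node (.leaf 1) (.leaf 0))) (.node (.node (.leaf 9) (.leaf 0)) (.node (.leaf 13) (.leaf 0)))) (.node (.node (.node (.leaf 11) (.leaf 7)) (.node (.leaf 12) (.leaf 0))) (.node (.node (.leaf 8) (.leaf 2)) (.leaf 0)))))) (.node (.node (.node (.node (.node (.node (.leaf 15) (.leaf 11)) (.node (.leaf 9) (.leaf 0))) (.node (.node (.leaf 10) (.leaf 14)) (.node (.leaf 7) (.leaf 0)))) (.node (.node (.node (.leaf 9) (.leaf 8)) (.node (.leaf 4) (.leaf 0))) (.node (.node (.leaf 6) (.leaf 10)) (.leaf 0)))) (.node (.node (.node (.node (.leaf 2) (.leaf 9)) (.node (.leaf 4) (.leaf 0))) (.node (.node (.leaf 9) (.leaf 5)) (.node (.leaf 3) (.leaf 0)))) (.node (.node (.node (.leaf 8) (.leaf 14)) (.node (.leaf 14) (.leaf 0))) (.node (.node (.leaf 10) (.leaf 15)) (.node (.leaf 15) (.leaf 0))))))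 (.node (.node (.node (.node (.node (.leaf 10) (.leaf 2)) (.node (.leaf 3) (.leaf 0))) (.node (.node (.leaf 12) (.leaf 0)) (.node (.leaf 9) (.leaf 0)))) (.node (.node (.node (.leaf 11) (.leaf 5)) (.node (.leaf 7) (.leaf 0))) (.node (.node (.leaf 4) (.leaf 10)) (.node (.leaf 4) (.leaf 0))))) (.node (.node (.node (.leaf 0) (.node (.leaf 6) (.leaf 0))) (.node (.node (.leaf 15) (.leaf 0)) (.node (.leaf 6) (.leaf 0)))) (.node (.node (.node (.leaf 12) (.leaf 2)) (.node (.leaf 6) (.leaf 0))) (.node (.node (.leaf 7) (.leaf 15)) (.leaf 0)))))))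

/-- Classes modulo the second ideal, part 17. -/
def clsBPart17 : Tree :=
  .node (.node (.node (.node (.node (.node (.node (.node (.leaf 10) (.leaf 9)) (.node (.leaf 5) (.leaf 0))) (.node (.node (.leaf 2) (.leaf 15)) (.node (.leaf 2) (.leaf 0)))) (.node (.node (.leaf 0) (.node (.leaf 6) (.leaf 0))) (.node (.node (.leaf 4) (.leaf 14)) (.leaf 0)))) (.node (.node (.node (.node (.leaf 11) (.leaf 2)) (.node (.leaf 11) (.leaf 0))) (.node (.node (.leaf 1) (.leaf 0)) (.node (.leaf 6) (.leaf 0)))) (.node (.node (.leaf 12) (.node (.leaf 10) (.leaf 0))) (.node (.node (.leaf 14) (.leaf 11)) (.node (.leaf 10) (.leaf 0)))))) (.node (.node (.node (.node (.node (.leaf 4) (.leaf 2)) (.node (.leaf 2) (.leaf 0))) (.node (.node (.leaf 15) (.leaf 2)) (.node (.leaf 12) (.leaf 0)))) (.node (.node (.node (.leaf 14) (.leaf 4)) (.node (.leaf 13) (.leaf 0))) (.node (.node (.leaf 13) (.leaf 1)) (.node (.leaf 3) (.leaf 0))))) (.node (.node (.node (.node (.leaf 11) (.leaf 14)) (.node (.leaf 4) (.leaf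 0))) (.node (.node (.leaf 6) (.leaf 0)) (.node (.leaf 12) (.leaf 0)))) (.node (.node (.node (.leaf 4) (.leaf 12)) (.node (.leaf 8) (.leaf 0))) (.node (.node (.leaf 8) (.leaf 10)) (.leaf 0)))))) (.node (.node (.node (.node (.node (.leaf 11) (.node (.leaf 8) (.leaf 0))) (.node (.node (.leaf 1) (.leaf 10)) (.node (.leaf 14) (.leaf 0)))) (.node (.node (.node (.leaf 0) (.leaf 4)) (.node (.leaf 6) (.leaf 0))) (.node (.node (.leaf 15) (.leaf 1)) (.leaf 0)))) (.node (.node (.node (.node (.leaf 2) (.leaf 15)) (.node (.leaf 3) (.leaf 0))) (.node (.node (.leaf 5) (.leaf 14)) (.node (.leaf 7) (.leaf 0)))) (.node (.node (.node (.leaf 4) (.leaf 6)) (.node (.leaf 14) (.leaf 0))) (.node (.node (.leaf 1) (.leaf 5)) (.node (.leaf 11) (.leaf 0)))))) (.node (.node (.node (.node (.node (.leaf 2) (.leaf 15)) (.node (.leaf 3) (.leaf 0))) (.node (.node (.leaf 7) (.leaf 0)) (.node (.leaf 5) (.leaf 0)))) (.node (.node (.node (.leaf 15) (.leaf 5)) (.node (.leaf 3) (.leaf 0))) (.node (.node (.leaf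 2) (.leaf 13)) (.node (.leaf 10) (.leaf 0))))) (.node (.node (.node (.node (.leaf 3) (.leaf 0)) (.node (.leaf 9) (.leaf 0))) (.node (.node (.leaf 6) (.leaf 0)) (.node (.leaf 15) (.leaf 0)))) (.node (.node (.node (.leaf 12) (.leaf 10)) (.node (.leaf 4) (.leaf 0))) (.node (.leaf 15) (.leaf 0))))))) (.node (.node (.node (.node (.node (.node (.node (.leaf 2) (.leaf 4)) (.node (.leaf 8) (.leaf 0))) (.node (.node (.leaf 5) (.leaf 9)) (.node (.leaf 7) (.leaf 0)))) (.node (.node (.leaf 0) (.node (.leaf 7) (.leaf 0))) (.node (.node (.leaf 9) (.leaf 5)) (.leaf 0)))) (.node (.node (.node (.node (.leaf 12) (.leaf 11)) (.node (.leaf 6) (.leaf 0))) (.node (.node (.leaf 14) (.leaf 1)) (.node (.leaf 14) (.leaf 0)))) (.node (.node (.node (.leaf 2) (.leaf 4)) (.node (.leaf 13) (.leaf 0))) (.node (.leaf 5) (.node (.leaf 2) (.leaf 0)))))) (.node (.node (.node (.node (.node (.leaf 1) (.leaf 7)) (.node (.leaf 10) (.leaf 0))) (.node (.node (.leaf 1) (.leaf 0)) (.node (.leaf 14) (.leaf 0)))) (.node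 (.node (.node (.leaf 15) (.leaf 12)) (.node (.leaf 6) (.leaf 0))) (.node (.node (.leaf 15) (.leaf 13)) (.node (.leaf 1) (.leaf 0))))) (.node (.node (.node (.node (.leaf 6) (.leaf 15)) (.node (.leaf 5) (.leaf 0))) (.node (.node (.leaf 5) (.leaf 0)) (.node (.leaf 9) (.leaf 0)))) (.node (.node (.node (.leaf 12) (.leaf 2)) (.node (.leaf 12) (.leaf 0))) (.node (.node (.leaf 1) (.leaf 6)) (.leaf 0)))))) (.node (.node (.node (.node (.node (.node (.leaf 15) (.leaf 7)) (.node (.leaf 3) (.leaf 0))) (.node (.node (.leaf 14) (.leaf 5)) (.node (.leaf 3) (.leaf 0)))) (.node (.node (.node (.leaf 1) (.leaf 7)) (.node (.leaf 4) (.leaf 0))) (.node (.node (.leaf 14) (.leaf 6)) (.leaf 0)))) (.node (.node (.node (.node (.leaf 13) (.leaf 1)) (.node (.leaf 13) (.leaf 0))) (.node (.node (.leaf 1) (.leaf 15)) (.node (.leaf 8) (.leaf 0)))) (.node (.node (.node (.leaf 7) (.leaf 13)) (.node (.leaf 7) (.leaf 0))) (.node (.node (.leaf 6) (.leaf 2)) (.node (.leaf 15) (.leaf 0)))))) (.node (.node (.node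 (.node (.node (.leaf 15) (.leaf 10)) (.node (.leaf 13) (.leaf 0))) (.node (.node (.leaf 14) (.leaf 0)) (.node (.leaf 1) (.leaf 0)))) (.node (.node (.node (.leaf 11) (.leaf 6)) (.node (.leaf 1) (.leaf 0))) (.node (.node (.leaf 8) (.leaf 10)) (.node (.leaf 13) (.leaf 0))))) (.node (.node (.node (.leaf 0) (.node (.leaf 2) (.leaf 0))) (.node (.node (.leaf 12) (.leaf 0)) (.node (.leaf 14) (.leaf 0)))) (.node (.node (.node (.leaf 11) (.leaf 6)) (.node (.leaf 1) (.leaf 0))) (.node (.node (.leaf 7) (.leaf 0)) (.node (.leaf 14) (.leaf 0))))))))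

/-- Classes modulo the second ideal, part 9. -/
def clsBPart9 : Tree :=
  .node (.node (.node (.node (.node (.node (.node (.node (.leaf 5) (.leaf 3)) (.node (.leaf 4) (.leaf 0))) (.node (.node (.leaf 11) (.leaf 6)) (.node (.leaf 12) (.leaf 0)))) (.node (.node (.leaf 0) (.node (.leaf 3) (.leaf 0))) (.node (.node (.leaf 10) (.leaf 11)) (.node (.leaf 13) (.leaf 0))))) (.node (.node (.node (.node (.leaf 2) (.leaf 15)) (.node (.leaf 3) (.leaf 0))) (.node (.node (.leaf 11) (.leaf 0)) (.node (.leaf 14) (.leaf 0)))) (.node (.node (.node (.leaf 6) (.leaf 14)) (.node (.leaf 9) (.leaf 0))) (.node (.node (.leaf 11) (.leaf 2)) (.node (.leaf 5) (.leaf 0)))))) (.node (.node (.node (.node (.node (.leaf 5) (.leaf 2)) (.node (.leaf 11) (.leaf 0))) (.node (.node (.leaf 4) (.leaf 8)) (.node (.leaf 3) (.leaf 0)))) (.node (.node (.node (.leaf 5) (.leaf 14)) (.node (.leaf 8) (.leaf 0))) (.node (.node (.leaf 13) (.leaf 10)) (.node (.leaf 12) (.leaf 0))))) (.node (.node (.node (.node (.leaf 3)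 (.leaf 5)) (.node (.leaf 9) (.leaf 0))) (.node (.node (.leaf 14) (.leaf 8)) (.node (.leaf 11) (.leaf 0)))) (.node (.node (.node (.leaf 14) (.leaf 2)) (.node (.leaf 15) (.leaf 0))) (.node (.node (.leaf 3) (.leaf 10)) (.leaf 0)))))) (.node (.node (.node (.node (.node (.leaf 9) (.node (.leaf 3) (.leaf 0))) (.node (.leaf 15) (.node (.leaf 14) (.leaf 0)))) (.node (.node (.node (.leaf 0) (.leaf 1)) (.node (.leaf 2) (.leaf 0))) (.node (.node (.leaf 14) (.leaf 5)) (.leaf 0)))) (.node (.node (.node (.node (.leaf 7) (.leaf 5)) (.node (.leaf 13) (.leaf 0))) (.node (.node (.leaf 6) (.leaf 5)) (.node (.leaf 12) (.leaf 0)))) (.node (.node (.node (.leaf 1) (.leaf 12)) (.node (.leaf 11) (.leaf 0))) (.node (.node (.leaf 5) (.leaf 1)) (.node (.leaf 9) (.leaf 0)))))) (.node (.node (.node (.node (.node (.leaf 12) (.leaf 3)) (.node (.leaf 5) (.leaf 0))) (.node (.node (.leaf 8) (.leaf 0)) (.node (.leaf 6) (.leaf 0)))) (.node (.node (.node (.leaf 8) (.leaf 1)) (.node (.leaf 12) (.leaf 0))) (.node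 (.node (.leaf 14) (.leaf 3)) (.node (.leaf 9) (.leaf 0))))) (.node (.node (.node (.node (.leaf 13) (.leaf 8)) (.node (.leaf 8) (.leaf 0))) (.node (.node (.leaf 6) (.leaf 0)) (.node (.leaf 14) (.leaf 0)))) (.node (.node (.node (.leaf 15) (.leaf 10)) (.node (.leaf 5) (.leaf 0))) (.node (.node (.leaf 10) (.leaf 6)) (.leaf 0))))))) (.node (.node (.node (.node (.node (.node (.node (.leaf 15) (.leaf 10)) (.node (.leaf 9) (.leaf 0))) (.node (.node (.leaf 7) (.leaf 13)) (.node (.leaf 4) (.leaf 0)))) (.node (.node (.leaf 0) (.node (.leaf 9) (.leaf 0))) (.node (.node (.leaf 3) (.leaf 6)) (.leaf 0)))) (.node (.node (.node (.node (.leaf 6) (.leaf 9)) (.node (.leaf 11) (.leaf 0))) (.node (.node (.leaf 11) (.leaf 15)) (.node (.leaf 11) (.leaf 0)))) (.node (.node (.node (.leaf 7) (.leaf 10)) (.node (.leaf 7) (.leaf 0))) (.node (.node (.leaf 6) (.leaf 15)) (.node (.leaf 15) (.leaf 0)))))) (.node (.node (.node (.node (.node (.leaf 6) (.leaf 10)) (.node (.leaf 5) (.leaf 0))) (.node (.node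 (.leaf 8) (.leaf 0)) (.node (.leaf 11) (.leaf 0)))) (.node (.node (.node (.leaf 4) (.leaf 1)) (.node (.leaf 8) (.leaf 0))) (.node (.node (.leaf 1) (.leaf 8)) (.node (.leaf 8) (.leaf 0))))) (.node (.node (.node (.node (.leaf 11) (.leaf 4)) (.node (.leaf 12) (.leaf 0))) (.node (.node (.leaf 1) (.leaf 0)) (.node (.leaf 3) (.leaf 0)))) (.node (.node (.node (.leaf 1) (.leaf 5)) (.node (.leaf 11) (.leaf 0))) (.node (.node (.leaf 1) (.leaf 7)) (.leaf 0)))))) (.node (.node (.node (.node (.node (.node (.leaf 5) (.leaf 3)) (.node (.leaf 6) (.leaf 0))) (.node (.node (.leaf 5) (.leaf 2)) (.node (.leaf 4) (.leaf 0)))) (.node (.node (.node (.leaf 15) (.leaf 7)) (.node (.leaf 5) (.leaf 0))) (.node (.leaf 14) (.leaf 0)))) (.node (.node (.node (.node (.leaf 8) (.leaf 15)) (.node (.leaf 8) (.leaf 0))) (.node (.node (.leaf 5) (.leaf 4)) (.node (.leaf 15) (.leaf 0)))) (.node (.node (.node (.leaf 7) (.leaf 11)) (.node (.leaf 12) (.leaf 0))) (.node (.node (.leaf 14) (.leaf 3)) (.node (.leaf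 5) (.leaf 0)))))) (.node (.node (.node (.node (.node (.leaf 4) (.leaf 5)) (.node (.leaf 8) (.leaf 0))) (.node (.node (.leaf 11) (.leaf 0)) (.node (.leaf 5) (.leaf 0)))) (.node (.node (.node (.leaf 2) (.leaf 6)) (.node (.leaf 8) (.leaf 0))) (.node (.node (.leaf 15) (.leaf 1)) (.node (.leaf 7) (.leaf 0))))) (.node (.node (.node (.leaf 0) (.node (.leaf 11) (.leaf 0))) (.node (.node (.leaf 14) (.leaf 0)) (.node (.leaf 14) (.leaf 0)))) (.node (.node (.node (.leaf 14) (.leaf 7)) (.node (.leaf 6) (.leaf 0))) (.node (.node (.leaf 13) (.leaf 0)) (.leaf 0)))))))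

/-- Classes modulo the second ideal, part 25. -/
def clsBPart25 : Tree :=
  .node (.node (.node (.node (.node (.node (.node (.node (.leaf 10) (.leaf 13)) (.node (.leaf 4) (.leaf 0))) (.node (.node (.leaf 12) (.leaf 5)) (.node (.leaf 4) (.leaf 0)))) (.node (.node (.leaf 0) (.node (.leaf 12) (.leaf 0))) (.node (.node (.leaf 8) (.leaf 6)) (.leaf 0)))) (.node (.node (.node (.node (.leaf 3) (.leaf 7)) (.node (.leaf 14) (.leaf 0))) (.node (.node (.leaf 12) (.leaf 13)) (.node (.leaf 14) (.leaf 0)))) (.node (.node (.node (.leaf 13) (.leaf 2)) (.node (.leaf 15) (.leaf 0))) (.node (.node (.leaf 6) (.leaf 2)) (.node (.leaf 10) (.leaf 0)))))) (.node (.node (.node (.node (.node (.leaf 5) (.leaf 15)) (.node (.leaf 2) (.leaf 0))) (.node (.leaf 8) (.node (.leaf 11) (.leaf 0)))) (.node (.node (.node (.leaf 2) (.leaf 6)) (.node (.leaf 2) (.leaf 0))) (.node (.node (.leaf 9) (.leaf 15)) (.node (.leaf 8) (.leaf 0))))) (.node (.node (.node (.node (.leaf 14) (.leaf 2)) (.node (.leaf 2) (.leaf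 0))) (.node (.node (.leaf 14) (.leaf 0)) (.node (.leaf 8) (.leaf 0)))) (.node (.node (.node (.leaf 6) (.leaf 5)) (.node (.leaf 3) (.leaf 0))) (.node (.node (.leaf 7) (.leaf 15)) (.leaf 0)))))) (.node (.node (.node (.node (.node (.node (.leaf 6) (.leaf 4)) (.node (.leaf 6) (.leaf 0))) (.node (.node (.leaf 15) (.leaf 5)) (.node (.leaf 12) (.leaf 0)))) (.node (.node (.node (.leaf 13) (.leaf 7)) (.node (.leaf 2) (.leaf 0))) (.node (.node (.leaf 11) (.leaf 10)) (.leaf 0)))) (.node (.node (.node (.node (.leaf 14) (.leaf 13)) (.node (.leaf 13) (.leaf 0))) (.node (.node (.leaf 10) (.leaf 2)) (.node (.leaf 4) (.leaf 0)))) (.node (.node (.node (.leaf 7) (.leaf 12)) (.node (.leaf 14) (.leaf 0))) (.node (.node (.leaf 10) (.leaf 3)) (.node (.leaf 6) (.leaf 0)))))) (.node (.node (.node (.node (.node (.leaf 4) (.leaf 3)) (.node (.leaf 15) (.leaf 0))) (.node (.node (.leaf 7) (.leaf 0)) (.node (.leaf 10) (.leaf 0)))) (.node (.node (.node (.leaf 6) (.leaf 4)) (.node (.leaf 8) (.leaf 0)))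 (.node (.node (.leaf 5) (.leaf 13)) (.node (.leaf 15) (.leaf 0))))) (.node (.node (.node (.node (.leaf 13) (.leaf 0)) (.node (.leaf 15) (.leaf 0))) (.node (.node (.leaf 1) (.leaf 0)) (.node (.leaf 11) (.leaf 0)))) (.node (.node (.node (.leaf 6) (.leaf 15)) (.node (.leaf 5) (.leaf 0))) (.node (.node (.leaf 4) (.leaf 5)) (.leaf 0))))))) (.node (.node (.node (.node (.node (.node (.node (.leaf 7) (.leaf 8)) (.node (.leaf 13) (.leaf 0))) (.node (.node (.leaf 13) (.leaf 15)) (.node (.leaf 11) (.leaf 0)))) (.node (.node (.leaf 0) (.node (.leaf 2) (.leaf 0))) (.node (.node (.leaf 3) (.leaf 10)) (.leaf 0)))) (.node (.node (.node (.node (.leaf 13) (.leaf 6)) (.node (.leaf 14) (.leaf 0))) (.node (.node (.leaf 6) (.leaf 15)) (.node (.leaf 14) (.leaf 0)))) (.node (.node (.node (.leaf 14) (.leaf 10)) (.node (.leaf 7) (.leaf 0))) (.node (.leaf 10) (.node (.leaf 7) (.leaf 0)))))) (.node (.node (.node (.node (.node (.leaf 15) (.leaf 1)) (.node (.leaf 7) (.leaf 0))) (.node (.node (.leaf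 4) (.leaf 0)) (.node (.leaf 6) (.leaf 0)))) (.node (.node (.node (.leaf 8) (.leaf 1)) (.node (.leaf 9) (.leaf 0))) (.node (.node (.leaf 10) (.leaf 12)) (.node (.leaf 1) (.leaf 0))))) (.node (.node (.node (.node (.leaf 14) (.leaf 8)) (.node (.leaf 1) (.leaf 0))) (.node (.node (.leaf 4) (.leaf 0)) (.node (.leaf 3) (.leaf 0)))) (.node (.node (.node (.leaf 1) (.leaf 5)) (.node (.leaf 9) (.leaf 0))) (.node (.node (.leaf 3) (.leaf 9)) (.leaf 0)))))) (.node (.node (.node (.node (.node (.node (.leaf 9) (.leaf 2)) (.node (.leaf 7) (.leaf 0))) (.node (.node (.leaf 2) (.leaf 4)) (.node (.leaf 15) (.leaf 0)))) (.node (.node (.node (.leaf 15) (.leaf 12)) (.node (.leaf 4) (.leaf 0))) (.node (.node (.leaf 13) (.leaf 14)) (.leaf 0)))) (.node (.node (.node (.node (.leaf 3) (.leaf 15)) (.node (.leaf 13) (.leaf 0))) (.node (.node (.leaf 10) (.leaf 8)) (.node (.leaf 3) (.leaf 0)))) (.node (.node (.node (.leaf 12) (.leaf 7)) (.node (.leaf 4) (.leaf 0))) (.node (.node (.leaf 14) (.leaf 5)) (.leaf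 0))))) (.node (.node (.node (.node (.node (.leaf 6) (.leaf 10)) (.node (.leaf 3) (.leaf 0))) (.node (.node (.leaf 4) (.leaf 0)) (.node (.leaf 10) (.leaf 0)))) (.node (.node (.node (.leaf 3) (.leaf 1)) (.node (.leaf 1) (.leaf 0))) (.node (.node (.leaf 2) (.leaf 3)) (.node (.leaf 7) (.leaf 0))))) (.node (.node (.node (.leaf 0) (.node (.leaf 11) (.leaf 0))) (.node (.node (.leaf 2) (.leaf 0)) (.node (.leaf 13) (.leaf 0)))) (.node (.node (.node (.leaf 13) (.leaf 9)) (.node (.leaf 15) (.leaf 0))) (.node (.node (.leaf 6) (.leaf 0)) (.node (.leaf 12) (.leaf 0))))))))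

/-- Classes modulo the second ideal, part 5. -/
def clsBPart5 : Tree :=
  .node (.node (.node (.node (.node (.node (.node (.node (.leaf 5) (.leaf 12)) (.node (.leaf 11) (.leaf 0))) (.node (.node (.leaf 15) (.leaf 5)) (.node (.leaf 12) (.leaf 0)))) (.node (.node (.leaf 0) (.node (.leaf 1) (.leaf 0))) (.node (.node (.leaf 12) (.leaf 0)) (.node (.leaf 2) (.leaf 0))))) (.node (.node (.node (.node (.leaf 6) (.leaf 13)) (.node (.leaf 6) (.leaf 0))) (.node (.node (.leaf 12) (.leaf 0)) (.node (.leaf 4) (.leaf 0)))) (.node (.node (.node (.leaf 2) (.leaf 13)) (.node (.leaf 11) (.leaf 0))) (.node (.leaf 8) (.node (.leaf 5) (.leaf 0)))))) (.node (.node (.node (.node (.node (.leaf 15) (.leaf 5)) (.node (.leaf 7) (.leaf 0))) (.node (.node (.leaf 6) (.leaf 15)) (.node (.leaf 11) (.leaf 0)))) (.node (.node (.node (.leaf 13) (.leaf 12)) (.node (.leaf 9) (.leaf 0))) (.node (.node (.leaf 2) (.leaf 9)) (.leaf 0)))) (.node (.node (.node (.node (.leaf 6) (.leaf 13)) (.node (.leaf 14) (.leaf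 0))) (.node (.node (.leaf 4) (.leaf 15)) (.node (.leaf 8) (.leaf 0)))) (.node (.node (.node (.leaf 12) (.leaf 3)) (.node (.leaf 7) (.leaf 0))) (.node (.node (.leaf 4) (.leaf 5)) (.leaf 0)))))) (.node (.node (.node (.node (.node (.node (.leaf 2) (.leaf 4)) (.node (.leaf 2) (.leaf 0))) (.node (.node (.leaf 3) (.leaf 7)) (.node (.leaf 11) (.leaf 0)))) (.node (.node (.leaf 0) (.node (.leaf 13) (.leaf 0))) (.node (.node (.leaf 7) (.leaf 4)) (.leaf 0)))) (.node (.node (.node (.node (.leaf 14) (.leaf 11)) (.node (.leaf 2) (.leaf 0))) (.node (.node (.leaf 1) (.leaf 13)) (.node (.leaf 10) (.leaf 0)))) (.node (.node (.leaf 1) (.node (.leaf 11) (.leaf 0))) (.node (.node (.leaf 4) (.leaf 7)) (.node (.leaf 2) (.leaf 0)))))) (.node (.node (.node (.node (.node (.leaf 12) (.leaf 3)) (.node (.leaf 15) (.leaf 0))) (.node (.node (.leaf 4) (.leaf 0)) (.node (.leaf 1) (.leaf 0)))) (.node (.node (.node (.leaf 15) (.leaf 2)) (.node (.leaf 7) (.leaf 0))) (.node (.node (.leaf 14) (.leaf 6)) (.node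 (.leaf 11) (.leaf 0))))) (.node (.node (.node (.node (.leaf 2) (.leaf 15)) (.node (.leaf 5) (.leaf 0))) (.node (.node (.leaf 2) (.leaf 0)) (.node (.leaf 7) (.leaf 0)))) (.node (.node (.node (.leaf 14) (.leaf 5)) (.node (.leaf 15) (.leaf 0))) (.node (.node (.leaf 14) (.leaf 5)) (.leaf 0))))))) (.node (.node (.node (.node (.node (.node (.node (.leaf 13) (.leaf 10)) (.node (.leaf 12) (.leaf 0))) (.node (.node (.leaf 2) (.leaf 14)) (.node (.leaf 14) (.leaf 0)))) (.node (.node (.leaf 0) (.node (.leaf 9) (.leaf 0))) (.node (.node (.leaf 13) (.leaf 1)) (.leaf 0)))) (.node (.node (.node (.leaf 2) (.node (.leaf 2) (.leaf 0))) (.node (.node (.leaf 2) (.leaf 3)) (.node (.leaf 11) (.leaf 0)))) (.node (.node (.node (.leaf 14) (.leaf 12)) (.node (.leaf 10) (.leaf 0))) (.node (.node (.leaf 1) (.leaf 9)) (.node (.leaf 13) (.leaf 0)))))) (.node (.node (.node (.node (.node (.leaf 3) (.leaf 15)) (.node (.leaf 15) (.leaf 0))) (.node (.node (.leaf 15) (.leaf 0)) (.node (.leaf 13) (.leaf 0))))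 (.node (.node (.node (.leaf 6) (.leaf 1)) (.node (.leaf 9) (.leaf 0))) (.node (.node (.leaf 9) (.leaf 6)) (.node (.leaf 12) (.leaf 0))))) (.node (.node (.node (.node (.leaf 2) (.leaf 6)) (.node (.leaf 4) (.leaf 0))) (.node (.node (.leaf 2) (.leaf 0)) (.node (.leaf 13) (.leaf 0)))) (.node (.node (.node (.leaf 1) (.leaf 12)) (.node (.leaf 8) (.leaf 0))) (.node (.node (.leaf 4) (.leaf 3)) (.leaf 0)))))) (.node (.node (.node (.node (.node (.leaf 11) (.node (.leaf 6) (.leaf 0))) (.node (.node (.leaf 13) (.leaf 3)) (.node (.leaf 1) (.leaf 0)))) (.node (.node (.node (.leaf 3) (.leaf 11)) (.node (.leaf 2) (.leaf 0))) (.node (.node (.leaf 5) (.leaf 4)) (.leaf 0)))) (.node (.node (.node (.node (.leaf 1) (.leaf 3)) (.node (.leaf 8) (.leaf 0))) (.node (.node (.leaf 4) (.leaf 6)) (.node (.leaf 7) (.leaf 0)))) (.node (.node (.node (.leaf 11) (.leaf 10)) (.node (.leaf 10) (.leaf 0))) (.node (.node (.leaf 4) (.leaf 3)) (.node (.leaf 11) (.leaf 0)))))) (.node (.node (.node (.node (.node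 (.leaf 14) (.leaf 5)) (.node (.leaf 4) (.leaf 0))) (.node (.node (.leaf 12) (.leaf 0)) (.node (.leaf 4) (.leaf 0)))) (.node (.node (.node (.leaf 6) (.leaf 2)) (.node (.leaf 12) (.leaf 0))) (.node (.node (.leaf 2) (.leaf 13)) (.node (.leaf 10) (.leaf 0))))) (.node (.node (.node (.leaf 0) (.node (.leaf 12) (.leaf 0))) (.node (.node (.leaf 13) (.leaf 0)) (.node (.leaf 5) (.leaf 0)))) (.node (.node (.node (.leaf 8) (.leaf 3)) (.node (.leaf 3) (.leaf 0))) (.node (.node (.leaf 15) (.leaf 14)) (.leaf 0)))))))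

/-- Classes modulo the second ideal, part 21. -/
def clsBPart21 : Tree :=
  .node (.node (.node (.node (.node (.node (.node (.leaf 5) (.node (.leaf 8) (.leaf 0))) (.node (.node (.leaf 7) (.leaf 11)) (.node (.leaf 14) (.leaf 0)))) (.node (.node (.leaf 0) (.node (.leaf 5) (.leaf 0))) (.node (.node (.leaf 3) (.leaf 14)) (.leaf 0)))) (.node (.node (.node (.node (.leaf 7) (.leaf 3)) (.node (.leaf 7) (.leaf 0))) (.node (.node (.leaf 6) (.leaf 0)) (.node (.leaf 4) (.leaf 0)))) (.node (.node (.leaf 10) (.node (.leaf 15) (.leaf 0))) (.node (.node (.leaf 14) (.leaf 5)) (.node (.leaf 5) (.leaf 0)))))) (.node (.node (.node (.node (.leaf 9) (.node (.leaf 9) (.leaf 0))) (.node (.leaf 15) (.node (.leaf 8) (.leaf 0)))) (.node (.node (.node (.leaf 3) (.leaf 4)) (.node (.leaf 5) (.leaf 0))) (.node (.leaf 10) (.node (.leaf 9) (.leaf 0))))) (.node (.node (.node (.node (.leaf 7) (.leaf 3)) (.node (.leaf 6) (.leaf 0))) (.node (.node (.leaf 4) (.leaf 0)) (.node (.leaf 13) (.leaf 0)))) (.node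 (.node (.node (.leaf 4) (.leaf 12)) (.node (.leaf 11) (.leaf 0))) (.node (.node (.leaf 3) (.leaf 13)) (.leaf 0)))))) (.node (.node (.node (.node (.node (.node (.leaf 5) (.leaf 7)) (.node (.leaf 6) (.leaf 0))) (.node (.node (.leaf 7) (.leaf 13)) (.node (.leaf 10) (.leaf 0)))) (.node (.node (.node (.leaf 0) (.leaf 5)) (.node (.leaf 1) (.leaf 0))) (.node (.node (.leaf 2) (.leaf 8)) (.leaf 0)))) (.node (.node (.node (.node (.leaf 9) (.leaf 14)) (.node (.leaf 2) (.leaf 0))) (.node (.node (.leaf 2) (.leaf 3)) (.node (.leaf 1) (.leaf 0)))) (.node (.node (.node (.leaf 5) (.leaf 4)) (.node (.leaf 11) (.leaf 0))) (.node (.node (.leaf 8) (.leaf 3)) (.node (.leaf 5) (.leaf 0)))))) (.node (.node (.node (.node (.node (.leaf 14) (.leaf 3)) (.node (.leaf 1) (.leaf 0))) (.node (.node (.leaf 15) (.leaf 0)) (.node (.leaf 2) (.leaf 0)))) (.node (.node (.node (.leaf 7) (.leaf 1)) (.node (.leaf 9) (.leaf 0))) (.node (.node (.leaf 9) (.leaf 1)) (.node (.leaf 15) (.leaf 0))))) (.node (.node (.node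 (.node (.leaf 2) (.leaf 0)) (.node (.leaf 10) (.leaf 0))) (.node (.node (.leaf 4) (.leaf 0)) (.node (.leaf 2) (.leaf 0)))) (.node (.node (.node (.leaf 15) (.leaf 13)) (.node (.leaf 9) (.leaf 0))) (.node (.node (.leaf 13) (.leaf 11)) (.leaf 0))))))) (.node (.node (.node (.node (.node (.node (.node (.leaf 3) (.leaf 12)) (.node (.leaf 9) (.leaf 0))) (.node (.node (.leaf 5) (.leaf 3)) (.node (.leaf 11) (.leaf 0)))) (.node (.node (.leaf 0) (.node (.leaf 13) (.leaf 0))) (.node (.node (.leaf 6) (.leaf 2)) (.leaf 0)))) (.node (.node (.node (.node (.leaf 10) (.leaf 5)) (.node (.leaf 5) (.leaf 0))) (.node (.node (.leaf 14) (.leaf 7)) (.node (.leaf 11) (.leaf 0)))) (.node (.node (.node (.leaf 9) (.leaf 3)) (.node (.leaf 10) (.leaf 0))) (.node (.node (.leaf 2) (.leaf 15)) (.node (.leaf 3) (.leaf 0)))))) (.node (.node (.node (.node (.node (.leaf 8) (.leaf 7)) (.node (.leaf 11) (.leaf 0))) (.node (.node (.leaf 3) (.leaf 0)) (.node (.leaf 14) (.leaf 0)))) (.node (.node (.node (.leaf 15)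 (.leaf 1)) (.node (.leaf 3) (.leaf 0))) (.node (.leaf 11) (.node (.leaf 6) (.leaf 0))))) (.node (.node (.node (.node (.leaf 5) (.leaf 15)) (.node (.leaf 8) (.leaf 0))) (.node (.node (.leaf 1) (.leaf 0)) (.node (.leaf 6) (.leaf 0)))) (.node (.node (.node (.leaf 1) (.leaf 5)) (.node (.leaf 13) (.leaf 0))) (.node (.node (.leaf 7) (.leaf 2)) (.leaf 0)))))) (.node (.node (.node (.node (.node (.node (.leaf 14) (.leaf 8)) (.node (.leaf 6) (.leaf 0))) (.node (.node (.leaf 3) (.leaf 6)) (.node (.leaf 7) (.leaf 0)))) (.node (.node (.node (.leaf 7) (.leaf 15)) (.node (.leaf 12) (.leaf 0))) (.node (.node (.leaf 2) (.leaf 4)) (.leaf 0)))) (.node (.node (.node (.node (.leaf 13) (.leaf 7)) (.node (.leaf 8) (.leaf 0))) (.node (.node (.leaf 8) (.leaf 15)) (.node (.leaf 11) (.leaf 0)))) (.node (.node (.node (.leaf 15) (.leaf 1)) (.node (.leaf 1) (.leaf 0))) (.node (.node (.leaf 4) (.leaf 5)) (.node (.leaf 14) (.leaf 0)))))) (.node (.node (.node (.node (.node (.leaf 7) (.leaf 5)) (.node (.leaf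 13) (.leaf 0))) (.node (.node (.leaf 8) (.leaf 0)) (.node (.leaf 8) (.leaf 0)))) (.node (.node (.node (.leaf 7) (.leaf 4)) (.node (.leaf 6) (.leaf 0))) (.node (.node (.leaf 4) (.leaf 9)) (.node (.leaf 10) (.leaf 0))))) (.node (.node (.node (.leaf 0) (.node (.leaf 15) (.leaf 0))) (.node (.node (.leaf 10) (.leaf 0)) (.node (.leaf 2) (.leaf 0)))) (.node (.node (.node (.leaf 13) (.leaf 2)) (.node (.leaf 8) (.leaf 0))) (.node (.node (.leaf 6) (.leaf 0)) (.node (.leaf 13) (.leaf 0))))))))

/-- Classes modulo the second ideal, part 13. -/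
def clsBPart13 : Tree :=
  .node (.node (.node (.node (.node (.node (.node (.node (.leaf 4) (.leaf 2)) (.node (.leaf 2) (.leaf 0))) (.node (.node (.leaf 3) (.leaf 8)) (.node (.leaf 10) (.leaf 0)))) (.node (.node (.leaf 0) (.node (.leaf 2) (.leaf 0))) (.node (.node (.leaf 14) (.leaf 15)) (.node (.leaf 12) (.leaf 0))))) (.node (.node (.node (.node (.leaf 15) (.leaf 11)) (.node (.leaf 1) (.leaf 0))) (.node (.node (.leaf 1) (.leaf 0)) (.node (.leaf 10) (.leaf 0)))) (.node (.node (.node (.leaf 5) (.leaf 12)) (.node (.leaf 14) (.leaf 0))) (.node (.node (.leaf 15) (.leaf 7)) (.node (.leaf 4) (.leaf 0)))))) (.node (.node (.node (.node (.node (.leaf 1) (.leaf 9)) (.node (.leaf 5) (.leaf 0))) (.node (.node (.leaf 2) (.leaf 4)) (.node (.leaf 5) (.leaf 0)))) (.node (.node (.node (.leaf 14) (.leaf 8)) (.node (.leaf 9) (.leaf 0))) (.node (.node (.leaf 12) (.leaf 10)) (.node (.leaf 4) (.leaf 0))))) (.node (.node (.node (.node (.leaf 1) (.leaf 14)) (.node (.leaf 5) (.leaf 0))) (.node (.node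 (.leaf 10) (.leaf 8)) (.node (.leaf 5) (.leaf 0)))) (.node (.node (.node (.leaf 8) (.leaf 7)) (.node (.leaf 10) (.leaf 0))) (.node (.node (.leaf 9) (.leaf 14)) (.leaf 0)))))) (.node (.node (.node (.node (.node (.node (.leaf 13) (.leaf 9)) (.node (.leaf 9) (.leaf 0))) (.node (.node (.leaf 9) (.leaf 11)) (.node (.leaf 13) (.leaf 0)))) (.node (.node (.node (.leaf 0) (.leaf 3)) (.node (.leaf 1) (.leaf 0))) (.node (.node (.leaf 5) (.leaf 3)) (.leaf 0)))) (.node (.node (.node (.node (.leaf 13) (.leaf 8)) (.node (.leaf 14) (.leaf 0))) (.node (.node (.leaf 3) (.leaf 14)) (.node (.leaf 8) (.leaf 0)))) (.node (.node (.node (.leaf 3) (.leaf 15)) (.node (.leaf 2) (.leaf 0))) (.node (.node (.leaf 3) (.leaf 15)) (.node (.leaf 13) (.leaf 0)))))) (.node (.node (.node (.node (.node (.leaf 10) (.leaf 1)) (.node (.leaf 3) (.leaf 0))) (.node (.node (.leaf 11) (.leaf 0)) (.node (.leaf 3) (.leaf 0)))) (.node (.node (.node (.leaf 8) (.leaf 15)) (.node (.leaf 4) (.leaf 0))) (.node (.node (.leaf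 3) (.leaf 11)) (.node (.leaf 14) (.leaf 0))))) (.node (.node (.node (.node (.leaf 14) (.leaf 8)) (.node (.leaf 11) (.leaf 0))) (.node (.node (.leaf 3) (.leaf 0)) (.node (.leaf 5) (.leaf 0)))) (.node (.node (.node (.leaf 1) (.leaf 14)) (.node (.leaf 1) (.leaf 0))) (.node (.node (.leaf 15) (.leaf 8)) (.leaf 0))))))) (.node (.node (.node (.node (.node (.node (.node (.leaf 11) (.leaf 6)) (.node (.leaf 9) (.leaf 0))) (.node (.node (.leaf 12) (.leaf 10)) (.node (.leaf 3) (.leaf 0)))) (.node (.node (.leaf 0) (.node (.leaf 14) (.leaf 0))) (.node (.node (.leaf 13) (.leaf 3)) (.leaf 0)))) (.node (.node (.node (.node (.leaf 5) (.leaf 13)) (.node (.leaf 1) (.leaf 0))) (.node (.node (.leaf 15) (.leaf 9)) (.node (.leaf 2) (.leaf 0)))) (.node (.node (.node (.leaf 13) (.leaf 14)) (.node (.leaf 15) (.leaf 0))) (.node (.node (.leaf 3) (.leaf 15)) (.node (.leaf 11) (.leaf 0)))))) (.node (.node (.node (.node (.node (.leaf 4) (.leaf 11)) (.node (.leaf 15) (.leaf 0))) (.node (.node (.leaf 8)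 (.leaf 0)) (.node (.leaf 15) (.leaf 0)))) (.node (.node (.node (.leaf 2) (.leaf 6)) (.node (.leaf 6) (.leaf 0))) (.node (.node (.leaf 7) (.leaf 4)) (.node (.leaf 4) (.leaf 0))))) (.node (.node (.node (.node (.leaf 1) (.leaf 2)) (.node (.leaf 14) (.leaf 0))) (.node (.node (.leaf 15) (.leaf 0)) (.node (.leaf 13) (.leaf 0)))) (.node (.node (.node (.leaf 6) (.leaf 5)) (.node (.leaf 5) (.leaf 0))) (.node (.node (.leaf 6) (.leaf 14)) (.leaf 0)))))) (.node (.node (.node (.node (.node (.node (.leaf 8) (.leaf 6)) (.node (.leaf 7) (.leaf 0))) (.node (.node (.leaf 14) (.leaf 9)) (.node (.leaf 13) (.leaf 0)))) (.node (.node (.node (.leaf 9) (.leaf 15)) (.node (.leaf 8) (.leaf 0))) (.node (.node (.leaf 3) (.leaf 10)) (.leaf 0)))) (.node (.node (.node (.node (.leaf 12) (.leaf 9)) (.node (.leaf 7) (.leaf 0))) (.node (.node (.leaf 3) (.leaf 2)) (.node (.leaf 10) (.leaf 0)))) (.node (.node (.node (.leaf 15) (.leaf 13)) (.node (.leaf 8) (.leaf 0))) (.node (.node (.leaf 10) (.leaf 4)) (.node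 (.leaf 8) (.leaf 0)))))) (.node (.node (.node (.node (.node (.leaf 3) (.leaf 4)) (.node (.leaf 12) (.leaf 0))) (.node (.node (.leaf 12) (.leaf 0)) (.node (.leaf 3) (.leaf 0)))) (.node (.node (.node (.leaf 15) (.leaf 3)) (.node (.leaf 4) (.leaf 0))) (.node (.node (.leaf 15) (.leaf 7)) (.node (.leaf 15) (.leaf 0))))) (.node (.node (.node (.leaf 0) (.node (.leaf 6) (.leaf 0))) (.node (.node (.leaf 12) (.leaf 0)) (.node (.leaf 3) (.leaf 0)))) (.node (.node (.node (.leaf 10) (.leaf 14)) (.node (.leaf 4) (.leaf 0))) (.node (.node (.leaf 10) (.leaf 0)) (.leaf 0)))))))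

/-- Classes modulo the second ideal, part 29. -/
def clsBPart29 : Tree :=
  .node (.node (.node (.node (.node (.node (.node (.leaf 14) (.node (.leaf 12) (.leaf 0))) (.node (.node (.leaf 12) (.leaf 8)) (.node (.leaf 12) (.leaf 0)))) (.node (.node (.leaf 0) (.node (.leaf 10) (.leaf 0))) (.node (.node (.leaf 12) (.leaf 14)) (.leaf 0)))) (.node (.node (.node (.node (.leaf 1) (.leaf 14)) (.node (.leaf 5) (.leaf 0))) (.node (.node (.leaf 1) (.leaf 10)) (.node (.leaf 15) (.leaf 0)))) (.node (.node (.node (.leaf 9) (.leaf 14)) (.node (.leaf 13) (.leaf 0))) (.node (.node (.leaf 14) (.leaf 9)) (.node (.leaf 14) (.leaf 0)))))) (.node (.node (.node (.node (.node (.leaf 2) (.leaf 15)) (.node (.leaf 9) (.leaf 0))) (.node (.node (.leaf 4) (.leaf 8)) (.node (.leaf 5) (.leaf 0)))) (.node (.node (.node (.leaf 9) (.leaf 12)) (.node (.leaf 2) (.leaf 0))) (.node (.leaf 3) (.node (.leaf 3) (.leaf 0))))) (.node (.node (.node (.node (.leaf 5) (.leaf 9)) (.node (.leaf 10) (.leaf 0))) (.node (.node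 (.leaf 15) (.leaf 0)) (.node (.leaf 12) (.leaf 0)))) (.node (.node (.node (.leaf 12) (.leaf 2)) (.node (.leaf 5) (.leaf 0))) (.node (.node (.leaf 12) (.leaf 11)) (.leaf 0)))))) (.node (.node (.node (.node (.node (.node (.leaf 8) (.leaf 9)) (.node (.leaf 3) (.leaf 0))) (.node (.node (.leaf 11) (.leaf 14)) (.node (.leaf 8) (.leaf 0)))) (.node (.node (.node (.leaf 10) (.leaf 4)) (.node (.leaf 11) (.leaf 0))) (.node (.node (.leaf 1) (.leaf 6)) (.leaf 0)))) (.node (.node (.node (.node (.leaf 13) (.leaf 10)) (.node (.leaf 12) (.leaf 0))) (.node (.node (.leaf 8) (.leaf 9)) (.node (.leaf 13) (.leaf 0)))) (.node (.node (.node (.leaf 4) (.leaf 8)) (.node (.leaf 13) (.leaf 0))) (.node (.node (.leaf 6) (.leaf 1)) (.node (.leaf 8) (.leaf 0)))))) (.node (.node (.node (.node (.node (.leaf 12) (.leaf 4)) (.node (.leaf 3) (.leaf 0))) (.node (.node (.leaf 15) (.leaf 0)) (.node (.leaf 8) (.leaf 0)))) (.node (.node (.node (.leaf 12) (.leaf 9)) (.node (.leaf 3) (.leaf 0))) (.node (.node (.leaf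 6) (.leaf 7)) (.node (.leaf 13) (.leaf 0))))) (.node (.node (.node (.node (.leaf 12) (.leaf 0)) (.node (.leaf 7) (.leaf 0))) (.node (.node (.leaf 8) (.leaf 0)) (.node (.leaf 1) (.leaf 0)))) (.node (.node (.node (.leaf 4) (.leaf 11)) (.node (.leaf 2) (.leaf 0))) (.node (.node (.leaf 10) (.leaf 8)) (.leaf 0))))))) (.node (.node (.node (.node (.node (.node (.node (.leaf 14) (.leaf 1)) (.node (.leaf 5) (.leaf 0))) (.node (.node (.leaf 10) (.leaf 9)) (.node (.leaf 2) (.leaf 0)))) (.node (.node (.leaf 0) (.node (.leaf 9) (.leaf 0))) (.node (.node (.leaf 1) (.leaf 8)) (.leaf 0)))) (.node (.node (.node (.node (.leaf 9) (.leaf 8)) (.node (.leaf 3) (.leaf 0))) (.node (.node (.leaf 14) (.leaf 11)) (.node (.leaf 13) (.leaf 0)))) (.node (.node (.node (.leaf 13) (.leaf 14)) (.node (.leaf 6) (.leaf 0))) (.node (.node (.leaf 8) (.leaf 11)) (.node (.leaf 14) (.leaf 0)))))) (.node (.node (.node (.node (.node (.leaf 13) (.leaf 15)) (.node (.leaf 7) (.leaf 0))) (.node (.node (.leaf 5) (.leaf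 0)) (.node (.leaf 14) (.leaf 0)))) (.node (.node (.node (.leaf 4) (.leaf 2)) (.node (.leaf 6) (.leaf 0))) (.node (.node (.leaf 13) (.leaf 7)) (.node (.leaf 7) (.leaf 0))))) (.node (.node (.node (.node (.leaf 3) (.leaf 4)) (.node (.leaf 11) (.leaf 0))) (.node (.node (.leaf 9) (.leaf 0)) (.node (.leaf 1) (.leaf 0)))) (.node (.node (.node (.leaf 2) (.leaf 4)) (.node (.leaf 2) (.leaf 0))) (.node (.node (.leaf 11) (.leaf 13)) (.leaf 0)))))) (.node (.node (.node (.node (.node (.node (.leaf 2) (.leaf 7)) (.node (.leaf 8) (.leaf 0))) (.node (.node (.leaf 9) (.leaf 2)) (.node (.leaf 10) (.leaf 0)))) (.node (.node (.node (.leaf 11) (.leaf 12)) (.node (.leaf 12) (.leaf 0))) (.node (.node (.leaf 14) (.leaf 15)) (.leaf 0)))) (.node (.node (.node (.node (.leaf 13) (.leaf 11)) (.node (.leaf 10) (.leaf 0))) (.node (.node (.leaf 6) (.leaf 4)) (.node (.leaf 5) (.leaf 0)))) (.node (.node (.node (.leaf 12) (.leaf 15)) (.node (.leaf 13) (.leaf 0))) (.node (.node (.leaf 15) (.leaf 4)) (.leaf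 0))))) (.node (.node (.node (.node (.node (.leaf 12) (.leaf 14)) (.node (.leaf 13) (.leaf 0))) (.node (.node (.leaf 4) (.leaf 0)) (.node (.leaf 6) (.leaf 0)))) (.node (.node (.node (.leaf 1) (.leaf 8)) (.node (.leaf 7) (.leaf 0))) (.node (.node (.leaf 15) (.leaf 6)) (.node (.leaf 6) (.leaf 0))))) (.node (.node (.node (.leaf 0) (.node (.leaf 7) (.leaf 0))) (.node (.node (.leaf 14) (.leaf 0)) (.node (.leaf 14) (.leaf 0)))) (.node (.node (.node (.leaf 1) (.leaf 13)) (.node (.leaf 13) (.leaf 0))) (.node (.node (.leaf 1) (.leaf 0)) (.node (.leaf 6) (.leaf 0))))))))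

/-- Classes modulo the second ideal, part 3. -/
def clsBPart3 : Tree :=
  .node (.node (.node (.node (.node (.node (.node (.node (.leaf 1) (.leaf 15)) (.node (.leaf 15) (.leaf 0))) (.node (.leaf 4) (.node (.leaf 14) (.leaf 0)))) (.node (.node (.leaf 0) (.node (.leaf 1) (.leaf 0))) (.node (.node (.leaf 12) (.leaf 0)) (.node (.leaf 4) (.leaf 0))))) (.node (.node (.node (.node (.leaf 2) (.leaf 11)) (.node (.leaf 15) (.leaf 0))) (.node (.node (.leaf 6) (.leaf 0)) (.node (.leaf 12) (.leaf 0)))) (.node (.node (.node (.leaf 4) (.leaf 13)) (.node (.leaf 13) (.leaf 0))) (.node (.node (.leaf 4) (.leaf 12)) (.node (.leaf 1) (.leaf 0)))))) (.node (.node (.node (.node (.node (.leaf 7) (.leaf 3)) (.node (.leaf 10) (.leaf 0))) (.node (.node (.leaf 1) (.leaf 13)) (.node (.leaf 2) (.leaf 0)))) (.node (.node (.node (.leaf 15) (.leaf 11)) (.node (.leaf 3) (.leaf 0))) (.node (.node (.leaf 4) (.leaf 5)) (.leaf 0)))) (.node (.node (.node (.leaf 15) (.node (.leaf 5) (.leaf 0))) (.node (.leaf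 12) (.node (.leaf 6) (.leaf 0)))) (.node (.node (.node (.leaf 11) (.leaf 6)) (.node (.leaf 9) (.leaf 0))) (.node (.node (.leaf 13) (.leaf 11)) (.leaf 0)))))) (.node (.node (.node (.node (.node (.node (.leaf 12) (.leaf 5)) (.node (.leaf 12) (.leaf 0))) (.node (.node (.leaf 6) (.leaf 2)) (.node (.leaf 8) (.leaf 0)))) (.node (.node (.leaf 0) (.node (.leaf 3) (.leaf 0))) (.node (.node (.leaf 5) (.leaf 2)) (.leaf 0)))) (.node (.node (.node (.node (.leaf 14) (.leaf 1)) (.node (.leaf 9) (.leaf 0))) (.node (.node (.leaf 9) (.leaf 15)) (.node (.leaf 8) (.leaf 0)))) (.node (.node (.node (.leaf 6) (.leaf 3)) (.node (.leaf 6) (.leaf 0))) (.node (.node (.leaf 2) (.leaf 9)) (.node (.leaf 12) (.leaf 0)))))) (.node (.node (.node (.node (.node (.leaf 14) (.leaf 7)) (.node (.leaf 1) (.leaf 0))) (.node (.node (.leaf 14) (.leaf 0)) (.node (.leaf 9) (.leaf 0)))) (.node (.node (.node (.leaf 12) (.leaf 10)) (.node (.leaf 15) (.leaf 0))) (.node (.node (.leaf 9) (.leaf 11)) (.node (.leaf 13) (.leaf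 0))))) (.node (.node (.node (.node (.leaf 9) (.leaf 12)) (.node (.leaf 3) (.leaf 0))) (.node (.node (.leaf 4) (.leaf 0)) (.node (.leaf 5) (.leaf 0)))) (.node (.node (.node (.leaf 9) (.leaf 11)) (.node (.leaf 7) (.leaf 0))) (.node (.node (.leaf 14) (.leaf 4)) (.leaf 0))))))) (.node (.node (.node (.node (.node (.node (.node (.leaf 11) (.leaf 12)) (.node (.leaf 10) (.leaf 0))) (.node (.node (.leaf 14) (.leaf 10)) (.node (.leaf 6) (.leaf 0)))) (.node (.node (.leaf 0) (.node (.leaf 13) (.leaf 0))) (.node (.node (.leaf 10) (.leaf 9)) (.leaf 0)))) (.node (.node (.node (.node (.leaf 4) (.leaf 12)) (.node (.leaf 7) (.leaf 0))) (.node (.node (.leaf 9) (.leaf 6)) (.node (.leaf 6) (.leaf 0)))) (.node (.node (.node (.leaf 14) (.leaf 12)) (.node (.leaf 11) (.leaf 0))) (.node (.node (.leaf 9) (.leaf 14)) (.node (.leaf 11) (.leaf 0)))))) (.node (.node (.node (.node (.node (.leaf 3) (.leaf 5)) (.node (.leaf 1) (.leaf 0))) (.node (.node (.leaf 12) (.leaf 0)) (.node (.leaf 14) (.leaf 0))))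 (.node (.node (.node (.leaf 1) (.leaf 4)) (.node (.leaf 3) (.leaf 0))) (.node (.node (.leaf 12) (.leaf 3)) (.node (.leaf 5) (.leaf 0))))) (.node (.node (.node (.node (.leaf 7) (.leaf 1)) (.node (.leaf 15) (.leaf 0))) (.node (.node (.leaf 10) (.leaf 0)) (.node (.leaf 10) (.leaf 0)))) (.node (.node (.node (.leaf 4) (.leaf 9)) (.node (.leaf 6) (.leaf 0))) (.node (.node (.leaf 7) (.leaf 14)) (.leaf 0)))))) (.node (.node (.node (.node (.node (.node (.leaf 1) (.leaf 7)) (.node (.leaf 11) (.leaf 0))) (.node (.node (.leaf 15) (.leaf 6)) (.node (.leaf 13) (.leaf 0)))) (.node (.node (.node (.leaf 6) (.leaf 1)) (.node (.leaf 13) (.leaf 0))) (.node (.node (.leaf 11) (.leaf 12)) (.leaf 0)))) (.node (.node (.node (.leaf 6) (.node (.leaf 3) (.leaf 0))) (.node (.node (.leaf 2) (.leaf 1)) (.node (.leaf 9) (.leaf 0)))) (.node (.node (.node (.leaf 1) (.leaf 12)) (.node (.leaf 8) (.leaf 0))) (.node (.node (.leaf 12) (.leaf 8)) (.node (.leaf 1) (.leaf 0)))))) (.node (.node (.node (.node (.node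 (.leaf 6) (.leaf 1)) (.node (.leaf 12) (.leaf 0))) (.node (.node (.leaf 6) (.leaf 0)) (.node (.leaf 2) (.leaf 0)))) (.node (.node (.node (.leaf 2) (.leaf 4)) (.node (.leaf 5) (.leaf 0))) (.node (.node (.leaf 11) (.leaf 7)) (.node (.leaf 11) (.leaf 0))))) (.node (.node (.node (.leaf 0) (.node (.leaf 4) (.leaf 0))) (.node (.node (.leaf 13) (.leaf 0)) (.node (.leaf 11) (.leaf 0)))) (.node (.node (.node (.leaf 9) (.leaf 14)) (.node (.leaf 3) (.leaf 0))) (.node (.node (.leaf 15) (.leaf 10)) (.leaf 0)))))))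

/-- Classes modulo the second ideal, part 19. -/
def clsBPart19 : Tree :=
  .node (.node (.node (.node (.node (.node (.node (.node (.leaf 11) (.leaf 15)) (.node (.leaf 6) (.leaf 0))) (.node (.node (.leaf 8) (.leaf 1)) (.node (.leaf 8) (.leaf 0)))) (.node (.node (.leaf 0) (.node (.leaf 14) (.leaf 0))) (.node (.node (.leaf 1) (.leaf 13)) (.leaf 0)))) (.node (.node (.node (.node (.leaf 2) (.leaf 14)) (.node (.leaf 5) (.leaf 0))) (.node (.node (.leaf 8) (.leaf 0)) (.node (.leaf 7) (.leaf 0)))) (.node (.node (.leaf 10) (.node (.leaf 10) (.leaf 0))) (.node (.node (.leaf 13) (.leaf 3)) (.node (.leaf 11) (.leaf 0)))))) (.node (.node (.node (.node (.node (.leaf 11) (.leaf 14)) (.node (.leaf 10) (.leaf 0))) (.node (.node (.leaf 13) (.leaf 12)) (.node (.leaf 6) (.leaf 0)))) (.node (.node (.node (.leaf 6) (.leaf 15)) (.node (.leaf 1) (.leaf 0))) (.node (.node (.leaf 12) (.leaf 3)) (.node (.leaf 2) (.leaf 0))))) (.node (.node (.node (.node (.leaf 5) (.leaf 6)) (.node (.leaf 10) (.leaf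 0))) (.node (.node (.leaf 7) (.leaf 0)) (.node (.leaf 14) (.leaf 0)))) (.node (.node (.node (.leaf 15) (.leaf 10)) (.node (.leaf 2) (.leaf 0))) (.node (.node (.leaf 7) (.leaf 11)) (.leaf 0)))))) (.node (.node (.node (.node (.node (.node (.leaf 4) (.leaf 13)) (.node (.leaf 2) (.leaf 0))) (.node (.node (.leaf 2) (.leaf 15)) (.node (.leaf 8) (.leaf 0)))) (.node (.node (.node (.leaf 0) (.leaf 9)) (.node (.leaf 7) (.leaf 0))) (.node (.node (.leaf 7) (.leaf 5)) (.leaf 0)))) (.node (.node (.node (.node (.leaf 9) (.leaf 10)) (.node (.leaf 4) (.leaf 0))) (.node (.node (.leaf 8) (.leaf 6)) (.node (.leaf 13) (.leaf 0)))) (.node (.node (.node (.leaf 9) (.leaf 7)) (.node (.leaf 8) (.leaf 0))) (.node (.node (.leaf 5) (.leaf 7)) (.node (.leaf 4) (.leaf 0)))))) (.node (.node (.node (.node (.leaf 8) (.node (.leaf 11) (.leaf 0))) (.node (.node (.leaf 14) (.leaf 0)) (.node (.leaf 8) (.leaf 0)))) (.node (.node (.node (.leaf 14) (.leaf 4)) (.node (.leaf 2) (.leaf 0))) (.node (.node (.leaf 7)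 (.leaf 15)) (.node (.leaf 10) (.leaf 0))))) (.node (.node (.node (.node (.leaf 4) (.leaf 0)) (.node (.leaf 13) (.leaf 0))) (.node (.node (.leaf 7) (.leaf 0)) (.node (.leaf 7) (.leaf 0)))) (.node (.node (.node (.leaf 9) (.leaf 11)) (.node (.leaf 11) (.leaf 0))) (.node (.node (.leaf 13) (.leaf 1)) (.leaf 0))))))) (.node (.node (.node (.node (.node (.node (.node (.leaf 14) (.leaf 2)) (.node (.leaf 8) (.leaf 0))) (.node (.node (.leaf 2) (.leaf 6)) (.node (.leaf 6) (.leaf 0)))) (.node (.node (.leaf 0) (.node (.leaf 5) (.leaf 0))) (.node (.node (.leaf 15) (.leaf 8)) (.leaf 0)))) (.node (.node (.node (.node (.leaf 10) (.leaf 4)) (.node (.leaf 11) (.leaf 0))) (.node (.node (.leaf 13) (.leaf 2)) (.node (.leaf 8) (.leaf 0)))) (.node (.node (.node (.leaf 9) (.leaf 1)) (.node (.leaf 1) (.leaf 0))) (.node (.node (.leaf 8) (.leaf 5)) (.node (.leaf 14) (.leaf 0)))))) (.node (.node (.node (.node (.node (.leaf 10) (.leaf 9)) (.node (.leaf 6) (.leaf 0))) (.node (.node (.leaf 2) (.leaf 0))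 (.node (.leaf 13) (.leaf 0)))) (.node (.node (.node (.leaf 13) (.leaf 5)) (.node (.leaf 5) (.leaf 0))) (.node (.node (.leaf 12) (.leaf 8)) (.node (.leaf 6) (.leaf 0))))) (.node (.node (.node (.node (.leaf 11) (.leaf 13)) (.node (.leaf 7) (.leaf 0))) (.node (.node (.leaf 4) (.leaf 0)) (.node (.leaf 15) (.leaf 0)))) (.node (.node (.node (.leaf 5) (.leaf 1)) (.node (.leaf 14) (.leaf 0))) (.node (.node (.leaf 2) (.leaf 12)) (.leaf 0)))))) (.node (.node (.node (.node (.node (.node (.leaf 10) (.leaf 12)) (.node (.leaf 4) (.leaf 0))) (.node (.node (.leaf 6) (.leaf 1)) (.node (.leaf 9) (.leaf 0)))) (.node (.node (.node (.leaf 2) (.leaf 13)) (.node (.leaf 13) (.leaf 0))) (.node (.node (.leaf 9) (.leaf 7)) (.leaf 0)))) (.node (.node (.node (.node (.leaf 10) (.leaf 2)) (.node (.leaf 5) (.leaf 0))) (.node (.node (.leaf 5) (.leaf 13)) (.node (.leaf 2) (.leaf 0)))) (.node (.node (.node (.leaf 13) (.leaf 3)) (.node (.leaf 13) (.leaf 0))) (.node (.node (.leaf 7) (.leaf 1)) (.node (.leaf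 10) (.leaf 0)))))) (.node (.node (.node (.node (.node (.leaf 14) (.leaf 11)) (.node (.leaf 10) (.leaf 0))) (.node (.node (.leaf 3) (.leaf 0)) (.node (.leaf 5) (.leaf 0)))) (.node (.node (.node (.leaf 2) (.leaf 7)) (.node (.leaf 6) (.leaf 0))) (.node (.node (.leaf 10) (.leaf 5)) (.node (.leaf 1) (.leaf 0))))) (.node (.node (.node (.leaf 0) (.node (.leaf 8) (.leaf 0))) (.node (.node (.leaf 10) (.leaf 0)) (.node (.leaf 9) (.leaf 0)))) (.node (.node (.node (.leaf 15) (.leaf 12)) (.node (.leaf 10) (.leaf 0))) (.node (.node (.leaf 3) (.leaf 0)) (.node (.leaf 15) (.leaf 0))))))))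

/-- Classes modulo the second ideal, part 11. -/
def clsBPart11 : Tree :=
  .node (.node (.node (.node (.node (.node (.node (.node (.leaf 8) (.leaf 4)) (.node (.leaf 13) (.leaf 0))) (.node (.leaf 6) (.node (.leaf 10) (.leaf 0)))) (.node (.node (.leaf 0) (.node (.leaf 4) (.leaf 0))) (.node (.node (.leaf 6) (.leaf 11)) (.node (.leaf 8) (.leaf 0))))) (.node (.node (.node (.node (.leaf 8) (.leaf 4)) (.node (.leaf 6) (.leaf 0))) (.node (.node (.leaf 4) (.leaf 0)) (.node (.leaf 4) (.leaf 0)))) (.node (.node (.leaf 14) (.node (.leaf 14) (.leaf 0))) (.node (.node (.leaf 11) (.leaf 10)) (.node (.leaf 8) (.leaf 0)))))) (.node (.node (.node (.node (.node (.leaf 4) (.leaf 10)) (.node (.leaf 3) (.leaf 0))) (.node (.node (.leaf 11) (.leaf 10)) (.node (.leaf 3) (.leaf 0)))) (.node (.node (.node (.leaf 9) (.leaf 3)) (.node (.leaf 8) (.leaf 0))) (.node (.node (.leaf 8) (.leaf 14)) (.node (.leaf 13) (.leaf 0))))) (.node (.node (.node (.node (.leaf 6) (.leaf 9)) (.node (.leaf 7) (.leaf 0)))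 (.node (.leaf 4) (.node (.leaf 10) (.leaf 0)))) (.node (.node (.node (.leaf 3) (.leaf 8)) (.node (.leaf 4) (.leaf 0))) (.node (.node (.leaf 2) (.leaf 13)) (.leaf 0)))))) (.node (.node (.node (.node (.node (.node (.leaf 7) (.leaf 14)) (.node (.leaf 3) (.leaf 0))) (.node (.leaf 12) (.node (.leaf 10) (.leaf 0)))) (.node (.node (.node (.leaf 0) (.leaf 2)) (.node (.leaf 6) (.leaf 0))) (.node (.node (.leaf 11) (.leaf 8)) (.leaf 0)))) (.node (.node (.node (.node (.leaf 5) (.leaf 13)) (.node (.leaf 2) (.leaf 0))) (.node (.node (.leaf 1) (.leaf 9)) (.node (.leaf 2) (.leaf 0)))) (.node (.node (.node (.leaf 2) (.leaf 9)) (.node (.leaf 5) (.leaf 0))) (.node (.node (.leaf 8) (.leaf 1)) (.node (.leaf 7) (.leaf 0)))))) (.node (.node (.node (.node (.node (.leaf 10) (.leaf 11)) (.node (.leaf 7) (.leaf 0))) (.node (.node (.leaf 1) (.leaf 0)) (.node (.leaf 1) (.leaf 0)))) (.node (.node (.node (.leaf 4) (.leaf 7)) (.node (.leaf 13) (.leaf 0))) (.node (.node (.leaf 6) (.leaf 8)) (.node (.leaf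 14) (.leaf 0))))) (.node (.node (.node (.node (.leaf 2) (.leaf 4)) (.node (.leaf 14) (.leaf 0))) (.node (.node (.leaf 3) (.leaf 0)) (.node (.leaf 11) (.leaf 0)))) (.node (.node (.node (.leaf 3) (.leaf 13)) (.node (.leaf 4) (.leaf 0))) (.node (.node (.leaf 10) (.leaf 6)) (.leaf 0))))))) (.node (.node (.node (.node (.node (.node (.node (.leaf 4) (.leaf 1)) (.node (.leaf 3) (.leaf 0))) (.node (.node (.leaf 9) (.leaf 12)) (.node (.leaf 1) (.leaf 0)))) (.node (.node (.leaf 0) (.node (.leaf 14) (.leaf 0))) (.node (.node (.leaf 6) (.leaf 1)) (.leaf 0)))) (.node (.node (.node (.node (.leaf 14) (.leaf 7)) (.node (.leaf 5) (.leaf 0))) (.node (.node (.leaf 11) (.leaf 12)) (.node (.leaf 5) (.leaf 0)))) (.node (.node (.node (.leaf 5) (.leaf 6)) (.node (.leaf 15) (.leaf 0))) (.node (.leaf 1) (.node (.leaf 4) (.leaf 0)))))) (.node (.node (.node (.node (.node (.leaf 7) (.leaf 6)) (.node (.leaf 5) (.leaf 0))) (.node (.node (.leaf 4) (.leaf 0)) (.node (.leaf 11) (.leaf 0)))) (.node (.node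 (.node (.leaf 11) (.leaf 8)) (.node (.leaf 2) (.leaf 0))) (.node (.node (.leaf 2) (.leaf 11)) (.node (.leaf 7) (.leaf 0))))) (.node (.node (.node (.node (.leaf 5) (.leaf 11)) (.node (.leaf 2) (.leaf 0))) (.node (.node (.leaf 7) (.leaf 0)) (.node (.leaf 6) (.leaf 0)))) (.node (.node (.node (.leaf 8) (.leaf 2)) (.node (.leaf 10) (.leaf 0))) (.node (.node (.leaf 6) (.leaf 15)) (.leaf 0)))))) (.node (.node (.node (.node (.node (.node (.leaf 13) (.leaf 4)) (.node (.leaf 15) (.leaf 0))) (.node (.node (.leaf 9) (.leaf 7)) (.node (.leaf 12) (.leaf 0)))) (.node (.node (.node (.leaf 12) (.leaf 14)) (.node (.leaf 6) (.leaf 0))) (.node (.node (.leaf 9) (.leaf 4)) (.leaf 0)))) (.node (.node (.node (.node (.leaf 8) (.leaf 12)) (.node (.leaf 11) (.leaf 0))) (.node (.node (.leaf 8) (.leaf 11)) (.node (.leaf 4) (.leaf 0)))) (.node (.node (.node (.leaf 14) (.leaf 15)) (.node (.leaf 2) (.leaf 0))) (.node (.node (.leaf 4) (.leaf 12)) (.node (.leaf 13) (.leaf 0)))))) (.node (.node (.node (.node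 (.node (.leaf 1) (.leaf 8)) (.node (.leaf 8) (.leaf 0))) (.node (.node (.leaf 11) (.leaf 0)) (.node (.leaf 8) (.leaf 0)))) (.node (.node (.node (.leaf 8) (.leaf 3)) (.node (.leaf 7) (.leaf 0))) (.node (.node (.leaf 13) (.leaf 2)) (.node (.leaf 15) (.leaf 0))))) (.node (.node (.node (.leaf 0) (.node (.leaf 2) (.leaf 0))) (.node (.node (.leaf 14) (.leaf 0)) (.node (.leaf 9) (.leaf 0)))) (.node (.node (.node (.leaf 12) (.leaf 15)) (.node (.leaf 7) (.leaf 0))) (.node (.node (.leaf 1) (.leaf 0)) (.leaf 0)))))))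

/-- Classes modulo the second ideal, part 27. -/
def clsBPart27 : Tree :=
  .node (.node (.node (.node (.node (.node (.node (.node (.leaf 13) (.leaf 9)) (.node (.leaf 13) (.leaf 0))) (.node (.node (.leaf 10) (.leaf 13)) (.node (.leaf 12) (.leaf 0)))) (.node (.node (.leaf 0) (.node (.leaf 10) (.leaf 0))) (.node (.node (.leaf 8) (.leaf 1)) (.leaf 0)))) (.node (.node (.node (.node (.leaf 1) (.leaf 15)) (.node (.leaf 11) (.leaf 0))) (.node (.node (.leaf 5) (.leaf 12)) (.node (.leaf 11) (.leaf 0)))) (.node (.node (.node (.leaf 13) (.leaf 8)) (.node (.leaf 13) (.leaf 0))) (.node (.node (.leaf 1) (.leaf 10)) (.node (.leaf 13) (.leaf 0)))))) (.node (.node (.node (.node (.node (.leaf 4) (.leaf 1)) (.node (.leaf 14) (.leaf 0))) (.node (.node (.leaf 10) (.leaf 4)) (.node (.leaf 10) (.leaf 0)))) (.node (.node (.node (.leaf 7) (.leaf 6)) (.node (.leaf 12) (.leaf 0))) (.node (.node (.leaf 6) (.leaf 12)) (.node (.leaf 7) (.leaf 0))))) (.node (.node (.node (.node (.leaf 11) (.leaf 7))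 (.node (.leaf 9) (.leaf 0))) (.node (.node (.leaf 11) (.leaf 0)) (.node (.leaf 8) (.leaf 0)))) (.node (.node (.node (.leaf 6) (.leaf 14)) (.node (.leaf 3) (.leaf 0))) (.node (.node (.leaf 5) (.leaf 4)) (.leaf 0)))))) (.node (.node (.node (.node (.node (.node (.leaf 6) (.leaf 15)) (.node (.leaf 5) (.leaf 0))) (.node (.node (.leaf 12) (.leaf 9)) (.node (.leaf 2) (.leaf 0)))) (.node (.node (.node (.leaf 12) (.leaf 14)) (.node (.leaf 15) (.leaf 0))) (.node (.node (.leaf 5) (.leaf 12)) (.leaf 0)))) (.node (.node (.node (.node (.leaf 3) (.leaf 12)) (.node (.leaf 8) (.leaf 0))) (.node (.node (.leaf 5) (.leaf 7)) (.node (.leaf 12) (.leaf 0)))) (.node (.node (.node (.leaf 14) (.leaf 9)) (.node (.leaf 10) (.leaf 0))) (.node (.node (.leaf 12) (.leaf 11)) (.node (.leaf 6) (.leaf 0)))))) (.node (.node (.node (.node (.leaf 12) (.node (.leaf 8) (.leaf 0))) (.node (.node (.leaf 13) (.leaf 0)) (.node (.leaf 5) (.leaf 0)))) (.node (.node (.node (.leaf 4) (.leaf 11)) (.node (.leaf 7) (.leaf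 0))) (.node (.node (.leaf 1) (.leaf 15)) (.node (.leaf 13) (.leaf 0))))) (.node (.node (.node (.node (.leaf 8) (.leaf 0)) (.node (.leaf 14) (.leaf 0))) (.node (.node (.leaf 10) (.leaf 0)) (.node (.leaf 5) (.leaf 0)))) (.node (.node (.node (.leaf 7) (.leaf 4)) (.node (.leaf 4) (.leaf 0))) (.node (.node (.leaf 11) (.leaf 13)) (.leaf 0))))))) (.node (.node (.node (.node (.node (.node (.node (.leaf 15) (.leaf 3)) (.node (.leaf 1) (.leaf 0))) (.node (.leaf 12) (.node (.leaf 5) (.leaf 0)))) (.node (.node (.leaf 0) (.node (.leaf 9) (.leaf 0))) (.node (.node (.leaf 6) (.leaf 5)) (.leaf 0)))) (.node (.node (.node (.node (.leaf 13) (.leaf 6)) (.node (.leaf 9) (.leaf 0))) (.node (.node (.leaf 1) (.leaf 12)) (.node (.leaf 10) (.leaf 0)))) (.node (.node (.node (.leaf 3) (.leaf 9)) (.node (.leaf 3) (.leaf 0))) (.node (.node (.leaf 5) (.leaf 6)) (.node (.leaf 15) (.leaf 0)))))) (.node (.node (.node (.node (.node (.leaf 13) (.leaf 1)) (.node (.leaf 9) (.leaf 0))) (.node (.node (.leaf 9)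 (.leaf 0)) (.node (.leaf 1) (.leaf 0)))) (.node (.node (.node (.leaf 10) (.leaf 9)) (.node (.leaf 11) (.leaf 0))) (.node (.node (.leaf 15) (.leaf 4)) (.node (.leaf 2) (.leaf 0))))) (.node (.node (.node (.node (.leaf 9) (.leaf 10)) (.node (.leaf 1) (.leaf 0))) (.node (.node (.leaf 11) (.leaf 0)) (.node (.leaf 6) (.leaf 0)))) (.node (.node (.node (.leaf 9) (.leaf 8)) (.node (.leaf 10) (.leaf 0))) (.node (.node (.leaf 13) (.leaf 7)) (.leaf 0)))))) (.node (.node (.node (.node (.node (.leaf 10) (.node (.leaf 12) (.leaf 0))) (.node (.node (.leaf 7) (.leaf 11)) (.node (.leaf 4) (.leaf 0)))) (.node (.node (.node (.leaf 12) (.leaf 6)) (.node (.leaf 10) (.leaf 0))) (.node (.node (.leaf 2) (.leaf 11)) (.leaf 0)))) (.node (.node (.node (.node (.leaf 6) (.leaf 12)) (.node (.leaf 14) (.leaf 0))) (.node (.node (.leaf 12) (.leaf 10)) (.node (.leaf 3) (.leaf 0)))) (.node (.node (.node (.leaf 6) (.leaf 4)) (.node (.leaf 12) (.leaf 0))) (.node (.node (.leaf 11) (.leaf 8)) (.leaf 0))))) (.node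 (.node (.node (.node (.node (.leaf 4) (.leaf 13)) (.node (.leaf 6) (.leaf 0))) (.node (.node (.leaf 15) (.leaf 0)) (.node (.leaf 12) (.leaf 0)))) (.node (.node (.node (.leaf 1) (.leaf 10)) (.node (.leaf 2) (.leaf 0))) (.node (.node (.leaf 12) (.leaf 4)) (.node (.leaf 3) (.leaf 0))))) (.node (.node (.node (.leaf 0) (.node (.leaf 2) (.leaf 0))) (.node (.node (.leaf 8) (.leaf 0)) (.node (.leaf 2) (.leaf 0)))) (.node (.node (.node (.leaf 3) (.leaf 7)) (.node (.leaf 13) (.leaf 0))) (.node (.node (.leaf 7) (.leaf 0)) (.node (.leaf 1) (.leaf 0))))))))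

/-- Classes modulo the second ideal, part 7. -/
def clsBPart7 : Tree :=
  .node (.node (.node (.node (.node (.node (.node (.node (.leaf 2) (.leaf 1)) (.node (.leaf 15) (.leaf 0))) (.node (.node (.leaf 1) (.leaf 4)) (.node (.leaf 12) (.leaf 0)))) (.node (.node (.leaf 0) (.node (.leaf 6) (.leaf 0))) (.node (.node (.leaf 10) (.leaf 0)) (.node (.leaf 12) (.leaf 0))))) (.node (.node (.node (.node (.leaf 4) (.leaf 1)) (.node (.leaf 1) (.leaf 0))) (.node (.node (.leaf 9) (.leaf 0)) (.node (.leaf 15) (.leaf 0)))) (.node (.node (.node (.leaf 8) (.leaf 13)) (.node (.leaf 9) (.leaf 0))) (.node (.node (.leaf 3) (.leaf 12)) (.node (.leaf 2) (.leaf 0)))))) (.node (.node (.node (.node (.node (.leaf 13) (.leaf 14)) (.node (.leaf 12) (.leaf 0))) (.node (.node (.leaf 10) (.leaf 6)) (.node (.leaf 2) (.leaf 0)))) (.node (.node (.node (.leaf 11) (.leaf 3)) (.node (.leaf 14) (.leaf 0))) (.node (.node (.leaf 12) (.leaf 5)) (.leaf 0)))) (.node (.node (.node (.node (.leaf 1) (.leaf 11)) (.node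 (.leaf 3) (.leaf 0))) (.node (.node (.leaf 15) (.leaf 6)) (.node (.leaf 2) (.leaf 0)))) (.node (.node (.node (.leaf 3) (.leaf 14)) (.node (.leaf 8) (.leaf 0))) (.node (.node (.leaf 12) (.leaf 8)) (.leaf 0)))))) (.node (.node (.node (.node (.node (.node (.leaf 11) (.leaf 13)) (.node (.leaf 5) (.leaf 0))) (.node (.node (.leaf 8) (.leaf 4)) (.node (.leaf 5) (.leaf 0)))) (.node (.node (.leaf 0) (.node (.leaf 11) (.leaf 0))) (.node (.leaf 2) (.leaf 0)))) (.node (.node (.node (.node (.leaf 8) (.leaf 4)) (.node (.leaf 12) (.leaf 0))) (.node (.node (.leaf 3) (.leaf 11)) (.node (.leaf 6) (.leaf 0)))) (.node (.node (.node (.leaf 7) (.leaf 5)) (.node (.leaf 7) (.leaf 0))) (.node (.node (.leaf 2) (.leaf 11)) (.node (.leaf 11) (.leaf 0)))))) (.node (.node (.node (.node (.node (.leaf 12) (.leaf 10)) (.node (.leaf 12) (.leaf 0))) (.node (.node (.leaf 9) (.leaf 0)) (.node (.leaf 3) (.leaf 0)))) (.node (.node (.node (.leaf 6) (.leaf 9)) (.node (.leaf 14) (.leaf 0))) (.node (.node (.leaf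 9) (.leaf 12)) (.node (.leaf 9) (.leaf 0))))) (.node (.node (.node (.node (.leaf 12) (.leaf 6)) (.node (.leaf 7) (.leaf 0))) (.node (.node (.leaf 7) (.leaf 0)) (.node (.leaf 2) (.leaf 0)))) (.node (.node (.node (.leaf 10) (.leaf 8)) (.node (.leaf 13) (.leaf 0))) (.node (.node (.leaf 14) (.leaf 4)) (.leaf 0))))))) (.node (.node (.node (.node (.node (.node (.node (.leaf 1) (.leaf 12)) (.node (.leaf 13) (.leaf 0))) (.node (.node (.leaf 8) (.leaf 9)) (.node (.leaf 5) (.leaf 0)))) (.node (.node (.leaf 0) (.node (.leaf 9) (.leaf 0))) (.node (.node (.leaf 4) (.leaf 3)) (.leaf 0)))) (.node (.node (.node (.node (.leaf 8) (.leaf 11)) (.node (.leaf 7) (.leaf 0))) (.node (.node (.leaf 10) (.leaf 8)) (.node (.leaf 7) (.leaf 0)))) (.node (.node (.node (.leaf 8) (.leaf 10)) (.node (.leaf 8) (.leaf 0))) (.node (.node (.leaf 3) (.leaf 10)) (.node (.leaf 1) (.leaf 0)))))) (.node (.node (.node (.node (.node (.leaf 1) (.leaf 6)) (.node (.leaf 13) (.leaf 0))) (.node (.node (.leaf 6) (.leaf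 0)) (.node (.leaf 15) (.leaf 0)))) (.node (.node (.node (.leaf 10) (.leaf 14)) (.node (.leaf 15) (.leaf 0))) (.node (.node (.leaf 6) (.leaf 12)) (.node (.leaf 11) (.leaf 0))))) (.node (.node (.node (.node (.leaf 7) (.leaf 10)) (.node (.leaf 5) (.leaf 0))) (.node (.node (.leaf 9) (.leaf 0)) (.node (.leaf 4) (.leaf 0)))) (.node (.node (.node (.leaf 14) (.leaf 3)) (.node (.leaf 2) (.leaf 0))) (.node (.node (.leaf 2) (.leaf 3)) (.leaf 0)))))) (.node (.node (.node (.node (.node (.node (.leaf 4) (.leaf 6)) (.node (.leaf 13) (.leaf 0))) (.node (.node (.leaf 11) (.leaf 5)) (.node (.leaf 1) (.leaf 0)))) (.node (.node (.node (.leaf 8) (.leaf 13)) (.node (.leaf 15) (.leaf 0))) (.node (.node (.leaf 2) (.leaf 15)) (.leaf 0)))) (.node (.node (.node (.node (.leaf 7) (.leaf 8)) (.node (.leaf 4) (.leaf 0))) (.node (.node (.leaf 2) (.leaf 10)) (.node (.leaf 8) (.leaf 0)))) (.node (.node (.node (.leaf 13) (.leaf 8)) (.node (.leaf 6) (.leaf 0))) (.node (.node (.leaf 15) (.leaf 10)) (.node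 (.leaf 4) (.leaf 0)))))) (.node (.node (.node (.node (.node (.leaf 5) (.leaf 2)) (.node (.leaf 13) (.leaf 0))) (.node (.node (.leaf 10) (.leaf 0)) (.node (.leaf 2) (.leaf 0)))) (.node (.node (.node (.leaf 4) (.leaf 7)) (.node (.leaf 11) (.leaf 0))) (.node (.node (.leaf 10) (.leaf 15)) (.node (.leaf 8) (.leaf 0))))) (.node (.node (.node (.leaf 0) (.node (.leaf 10) (.leaf 0))) (.node (.node (.leaf 13) (.leaf 0)) (.node (.leaf 2) (.leaf 0)))) (.node (.node (.node (.leaf 11) (.leaf 3)) (.node (.leaf 1) (.leaf 0))) (.node (.node (.leaf 13) (.leaf 9)) (.leaf 0)))))))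

/-- Classes modulo the second ideal, part 23. -/
def clsBPart23 : Tree :=
  .node (.node (.node (.node (.node (.node (.node (.leaf 8) (.node (.leaf 10) (.leaf 0))) (.node (.node (.leaf 14) (.leaf 4)) (.node (.leaf 5) (.leaf 0)))) (.node (.node (.leaf 0) (.node (.leaf 12) (.leaf 0))) (.node (.node (.leaf 2) (.leaf 7)) (.leaf 0)))) (.node (.node (.node (.node (.leaf 4) (.leaf 3)) (.node (.leaf 2) (.leaf 0))) (.node (.node (.leaf 6) (.leaf 0)) (.node (.leaf 15) (.leaf 0)))) (.node (.node (.node (.leaf 10) (.leaf 11)) (.node (.leaf 15) (.leaf 0))) (.node (.node (.leaf 7) (.leaf 14)) (.node (.leaf 8) (.leaf 0)))))) (.node (.node (.node (.node (.node (.leaf 8) (.leaf 10)) (.node (.leaf 14) (.leaf 0))) (.node (.leaf 6) (.node (.leaf 2) (.leaf 0)))) (.node (.node (.node (.leaf 5) (.leaf 8)) (.node (.leaf 4) (.leaf 0))) (.node (.node (.leaf 13) (.leaf 14)) (.node (.leaf 14) (.leaf 0))))) (.node (.node (.node (.node (.leaf 2) (.leaf 5)) (.node (.leaf 6) (.leaf 0))) (.node (.node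 (.leaf 15) (.leaf 0)) (.node (.leaf 15) (.leaf 0)))) (.node (.node (.node (.leaf 8) (.leaf 3)) (.node (.leaf 2) (.leaf 0))) (.node (.node (.leaf 2) (.leaf 1)) (.leaf 0)))))) (.node (.node (.node (.node (.node (.node (.leaf 4) (.leaf 5)) (.node (.leaf 13) (.leaf 0))) (.node (.node (.leaf 4) (.leaf 11)) (.node (.leaf 6) (.leaf 0)))) (.node (.node (.node (.leaf 0) (.leaf 9)) (.node (.leaf 6) (.leaf 0))) (.node (.node (.leaf 7) (.leaf 4)) (.leaf 0)))) (.node (.node (.node (.node (.leaf 14) (.leaf 9)) (.node (.leaf 12) (.leaf 0))) (.node (.node (.leaf 4) (.leaf 5)) (.node (.leaf 1) (.leaf 0)))) (.node (.node (.node (.leaf 9) (.leaf 2)) (.node (.leaf 5) (.leaf 0))) (.node (.node (.leaf 4) (.leaf 10)) (.node (.leaf 4) (.leaf 0)))))) (.node (.node (.node (.node (.node (.leaf 5) (.leaf 10)) (.node (.leaf 1) (.leaf 0))) (.node (.node (.leaf 13) (.leaf 0)) (.node (.leaf 4) (.leaf 0)))) (.node (.node (.node (.leaf 15) (.leaf 7)) (.node (.leaf 14) (.leaf 0))) (.node (.leaf 3) (.node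 (.leaf 15) (.leaf 0))))) (.node (.node (.node (.node (.leaf 12) (.leaf 0)) (.node (.leaf 12) (.leaf 0))) (.node (.node (.leaf 11) (.leaf 0)) (.node (.leaf 7) (.leaf 0)))) (.node (.node (.node (.leaf 3) (.leaf 1)) (.node (.leaf 8) (.leaf 0))) (.node (.node (.leaf 5) (.leaf 4)) (.leaf 0))))))) (.node (.node (.node (.node (.node (.node (.node (.leaf 3) (.leaf 6)) (.node (.leaf 1) (.leaf 0))) (.node (.node (.leaf 1) (.leaf 8)) (.node (.leaf 7) (.leaf 0)))) (.node (.node (.leaf 0) (.node (.leaf 11) (.leaf 0))) (.node (.node (.leaf 1) (.leaf 4)) (.leaf 0)))) (.node (.node (.node (.node (.leaf 10) (.leaf 4)) (.node (.leaf 2) (.leaf 0))) (.node (.node (.leaf 7) (.leaf 4)) (.node (.leaf 5) (.leaf 0)))) (.node (.node (.node (.leaf 14) (.leaf 2)) (.node (.leaf 8) (.leaf 0))) (.node (.node (.leaf 4) (.leaf 6)) (.node (.leaf 3) (.leaf 0)))))) (.node (.node (.node (.node (.node (.leaf 15) (.leaf 11)) (.node (.leaf 2) (.leaf 0))) (.node (.node (.leaf 1) (.leaf 0)) (.node (.leaf 7) (.leaf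 0)))) (.node (.node (.node (.leaf 6) (.leaf 14)) (.node (.leaf 3) (.leaf 0))) (.node (.node (.leaf 5) (.leaf 4)) (.node (.leaf 3) (.leaf 0))))) (.node (.node (.node (.node (.leaf 2) (.leaf 6)) (.node (.leaf 7) (.leaf 0))) (.node (.node (.leaf 7) (.leaf 0)) (.node (.leaf 1) (.leaf 0)))) (.node (.node (.node (.leaf 14) (.leaf 2)) (.node (.leaf 15) (.leaf 0))) (.node (.node (.leaf 5) (.leaf 11)) (.leaf 0)))))) (.node (.node (.node (.node (.node (.node (.leaf 9) (.leaf 12)) (.node (.leaf 3) (.leaf 0))) (.node (.node (.leaf 5) (.leaf 10)) (.node (.leaf 8) (.leaf 0)))) (.node (.node (.node (.leaf 4) (.leaf 14)) (.node (.leaf 10) (.leaf 0))) (.node (.node (.leaf 12) (.leaf 15)) (.leaf 0)))) (.node (.node (.node (.leaf 4) (.node (.leaf 11) (.leaf 0))) (.node (.node (.leaf 4) (.leaf 6)) (.node (.leaf 2) (.leaf 0)))) (.node (.node (.node (.leaf 14) (.leaf 11)) (.node (.leaf 1) (.leaf 0))) (.node (.node (.leaf 15) (.leaf 2)) (.node (.leaf 9) (.leaf 0)))))) (.node (.node (.node (.node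 (.node (.leaf 15) (.leaf 8)) (.node (.leaf 4) (.leaf 0))) (.node (.node (.leaf 7) (.leaf 0)) (.node (.leaf 4) (.leaf 0)))) (.node (.node (.node (.leaf 4) (.leaf 11)) (.node (.leaf 3) (.leaf 0))) (.node (.node (.leaf 11) (.leaf 5)) (.node (.leaf 8) (.leaf 0))))) (.node (.node (.node (.leaf 0) (.node (.leaf 5) (.leaf 0))) (.node (.node (.leaf 11) (.leaf 0)) (.node (.leaf 12) (.leaf 0)))) (.node (.node (.node (.leaf 15) (.leaf 11)) (.node (.leaf 15) (.leaf 0))) (.node (.node (.leaf 4) (.leaf 0)) (.node (.leaf 14) (.leaf 0))))))))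

/-- Classes modulo the second ideal, part 15. -/
def clsBPart15 : Tree :=
  .node (.node (.node (.node (.node (.node (.node (.node (.leaf 6) (.leaf 7)) (.node (.leaf 15) (.leaf 0))) (.node (.node (.leaf 14) (.leaf 2)) (.node (.leaf 11) (.leaf 0)))) (.node (.node (.leaf 0) (.node (.leaf 8) (.leaf 0))) (.node (.node (.leaf 5) (.leaf 11)) (.node (.leaf 8) (.leaf 0))))) (.node (.node (.node (.node (.leaf 5) (.leaf 12)) (.node (.leaf 15) (.leaf 0))) (.node (.node (.leaf 14) (.leaf 0)) (.node (.leaf 12) (.leaf 0)))) (.node (.node (.leaf 12) (.node (.leaf 14) (.leaf 0))) (.node (.node (.leaf 11) (.leaf 12)) (.node (.leaf 6) (.leaf 0)))))) (.node (.node (.node (.node (.node (.leaf 7) (.leaf 14)) (.node (.leaf 14) (.leaf 0))) (.node (.node (.leaf 10) (.leaf 11)) (.node (.leaf 7) (.leaf 0)))) (.node (.node (.node (.leaf 9) (.leaf 7)) (.node (.leaf 1) (.leaf 0))) (.node (.node (.leaf 8) (.leaf 2)) (.node (.leaf 12) (.leaf 0))))) (.node (.node (.node (.node (.leaf 15) (.leaf 9)) (.node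 (.leaf 15) (.leaf 0))) (.node (.node (.leaf 12) (.leaf 3)) (.node (.leaf 7) (.leaf 0)))) (.node (.node (.node (.leaf 7) (.leaf 14)) (.node (.leaf 6) (.leaf 0))) (.node (.node (.leaf 14) (.leaf 15)) (.leaf 0)))))) (.node (.node (.node (.node (.node (.leaf 1) (.node (.leaf 15) (.leaf 0))) (.node (.node (.leaf 6) (.leaf 5)) (.node (.leaf 12) (.leaf 0)))) (.node (.node (.node (.leaf 0) (.leaf 1)) (.node (.leaf 7) (.leaf 0))) (.node (.node (.leaf 7) (.leaf 9)) (.leaf 0)))) (.node (.node (.node (.node (.leaf 11) (.leaf 2)) (.node (.leaf 9) (.leaf 0))) (.node (.leaf 9) (.node (.leaf 9) (.leaf 0)))) (.node (.node (.node (.leaf 1) (.leaf 3)) (.node (.leaf 3) (.leaf 0))) (.node (.node (.leaf 9) (.leaf 12)) (.node (.leaf 1) (.leaf 0)))))) (.node (.node (.node (.node (.node (.leaf 11) (.leaf 1)) (.node (.leaf 10) (.leaf 0))) (.node (.node (.leaf 13) (.leaf 0)) (.node (.leaf 9) (.leaf 0)))) (.node (.node (.node (.leaf 3) (.leaf 13)) (.node (.leaf 12) (.leaf 0))) (.node (.node (.leaf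 5) (.leaf 7)) (.node (.leaf 14) (.leaf 0))))) (.node (.node (.node (.node (.leaf 9) (.leaf 3)) (.node (.leaf 4) (.leaf 0))) (.node (.node (.leaf 1) (.leaf 0)) (.node (.leaf 7) (.leaf 0)))) (.node (.node (.node (.leaf 5) (.leaf 15)) (.node (.leaf 7) (.leaf 0))) (.node (.node (.leaf 15) (.leaf 2)) (.leaf 0))))))) (.node (.node (.node (.node (.node (.node (.node (.leaf 12) (.leaf 8)) (.node (.leaf 14) (.leaf 0))) (.node (.node (.leaf 3) (.leaf 13)) (.node (.leaf 2) (.leaf 0)))) (.node (.node (.leaf 0) (.node (.leaf 8) (.leaf 0))) (.node (.node (.leaf 10) (.leaf 9)) (.leaf 0)))) (.node (.node (.node (.node (.leaf 12) (.leaf 1)) (.node (.leaf 15) (.leaf 0))) (.node (.node (.leaf 11) (.leaf 6)) (.node (.leaf 3) (.leaf 0)))) (.node (.node (.node (.leaf 11) (.leaf 5)) (.node (.leaf 13) (.leaf 0))) (.node (.node (.leaf 9) (.leaf 13)) (.node (.leaf 12) (.leaf 0)))))) (.node (.node (.node (.node (.node (.leaf 11) (.leaf 2)) (.node (.leaf 6) (.leaf 0))) (.node (.node (.leaf 3) (.leaf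 0)) (.node (.leaf 11) (.leaf 0)))) (.node (.node (.node (.leaf 10) (.leaf 6)) (.node (.leaf 13) (.leaf 0))) (.node (.node (.leaf 4) (.leaf 7)) (.node (.leaf 2) (.leaf 0))))) (.node (.node (.node (.node (.leaf 15) (.leaf 10)) (.node (.leaf 3) (.leaf 0))) (.node (.node (.leaf 13) (.leaf 0)) (.node (.leaf 10) (.leaf 0)))) (.node (.node (.node (.leaf 6) (.leaf 1)) (.node (.leaf 7) (.leaf 0))) (.node (.node (.leaf 3) (.leaf 10)) (.leaf 0)))))) (.node (.node (.node (.node (.node (.node (.leaf 2) (.leaf 3)) (.node (.leaf 14) (.leaf 0))) (.node (.node (.leaf 9) (.leaf 3)) (.node (.leaf 14) (.leaf 0)))) (.node (.node (.node (.leaf 6) (.leaf 13)) (.node (.leaf 10) (.leaf 0))) (.node (.node (.leaf 6) (.leaf 12)) (.leaf 0)))) (.node (.node (.node (.node (.leaf 8) (.leaf 6)) (.node (.leaf 1) (.leaf 0))) (.node (.node (.leaf 9) (.leaf 10)) (.node (.leaf 6) (.leaf 0)))) (.node (.node (.node (.leaf 13) (.leaf 15)) (.node (.leaf 9) (.leaf 0))) (.node (.node (.leaf 12) (.leaf 13)) (.node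 (.leaf 2) (.leaf 0)))))) (.node (.node (.node (.node (.node (.leaf 2) (.leaf 6)) (.node (.leaf 8) (.leaf 0))) (.node (.node (.leaf 3) (.leaf 0)) (.node (.leaf 9) (.leaf 0)))) (.node (.node (.node (.leaf 5) (.leaf 1)) (.node (.leaf 2) (.leaf 0))) (.node (.node (.leaf 6) (.leaf 9)) (.node (.leaf 13) (.leaf 0))))) (.node (.node (.node (.leaf 0) (.node (.leaf 4) (.leaf 0))) (.node (.node (.leaf 12) (.leaf 0)) (.node (.leaf 6) (.leaf 0)))) (.node (.node (.node (.leaf 8) (.leaf 10)) (.node (.leaf 11) (.leaf 0))) (.node (.node (.leaf 8) (.leaf 0)) (.leaf 0)))))))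

/-- Classes modulo the second ideal, part 31. -/
def clsBPart31 : Tree :=
  .node (.node (.node (.node (.node (.node (.node (.node (.leaf 15) (.leaf 5)) (.node (.leaf 10) (.leaf 0))) (.node (.node (.leaf 3) (.leaf 2)) (.node (.leaf 10) (.leaf 0)))) (.node (.node (.leaf 0) (.node (.leaf 10) (.leaf 0))) (.node (.node (.leaf 8) (.leaf 13)) (.leaf 0)))) (.node (.node (.node (.node (.leaf 6) (.leaf 10)) (.node (.leaf 7) (.leaf 0))) (.node (.node (.leaf 14) (.leaf 13)) (.node (.leaf 11) (.leaf 0)))) (.node (.node (.node (.leaf 9) (.leaf 5)) (.node (.leaf 5) (.leaf 0))) (.node (.node (.leaf 13) (.leaf 14)) (.node (.leaf 15) (.leaf 0)))))) (.node (.node (.node (.node (.node (.leaf 7) (.leaf 13)) (.node (.leaf 10) (.leaf 0))) (.node (.node (.leaf 11) (.leaf 3)) (.node (.leaf 7) (.leaf 0)))) (.node (.node (.node (.leaf 3) (.leaf 9)) (.node (.leaf 5) (.leaf 0))) (.node (.node (.leaf 8) (.leaf 6)) (.node (.leaf 2) (.leaf 0))))) (.node (.node (.node (.node (.leaf 7) (.leaf 3)) (.node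 (.leaf 13) (.leaf 0))) (.node (.node (.leaf 11) (.leaf 0)) (.node (.leaf 8) (.leaf 0)))) (.node (.node (.node (.leaf 9) (.leaf 8)) (.node (.leaf 7) (.leaf 0))) (.node (.node (.leaf 11) (.leaf 12)) (.leaf 0)))))) (.node (.node (.node (.node (.node (.node (.leaf 2) (.leaf 1)) (.node (.leaf 3) (.leaf 0))) (.node (.node (.leaf 5) (.leaf 9)) (.node (.leaf 9) (.leaf 0)))) (.node (.node (.node (.leaf 13) (.leaf 9)) (.node (.leaf 15) (.leaf 0))) (.node (.node (.leaf 15) (.leaf 1)) (.leaf 0)))) (.node (.node (.node (.node (.leaf 11) (.leaf 13)) (.node (.leaf 8) (.leaf 0))) (.node (.node (.leaf 2) (.leaf 3)) (.node (.leaf 14) (.leaf 0)))) (.node (.node (.node (.leaf 9) (.leaf 11)) (.node (.leaf 12) (.leaf 0))) (.node (.leaf 1) (.node (.leaf 2) (.leaf 0)))))) (.node (.node (.node (.node (.node (.leaf 10) (.leaf 13)) (.node (.leaf 10) (.leaf 0))) (.node (.node (.leaf 14) (.leaf 0)) (.node (.leaf 2) (.leaf 0)))) (.node (.node (.node (.leaf 10) (.leaf 8)) (.node (.leaf 2) (.leaf 0)))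 (.node (.node (.leaf 10) (.leaf 9)) (.node (.leaf 5) (.leaf 0))))) (.node (.node (.node (.node (.leaf 8) (.leaf 0)) (.node (.leaf 15) (.leaf 0))) (.node (.node (.leaf 15) (.leaf 0)) (.node (.leaf 15) (.leaf 0)))) (.node (.node (.node (.leaf 2) (.leaf 12)) (.node (.leaf 7) (.leaf 0))) (.node (.node (.leaf 8) (.leaf 2)) (.leaf 0))))))) (.node (.node (.node (.node (.node (.node (.node (.leaf 10) (.leaf 13)) (.node (.leaf 4) (.leaf 0))) (.node (.node (.leaf 13) (.leaf 6)) (.node (.leaf 3) (.leaf 0)))) (.node (.node (.leaf 0) (.node (.leaf 14) (.leaf 0))) (.node (.node (.leaf 15) (.leaf 2)) (.leaf 0)))) (.node (.node (.node (.node (.leaf 9) (.leaf 2)) (.node (.leaf 6) (.leaf 0))) (.node (.node (.leaf 13) (.leaf 5)) (.node (.leaf 12) (.leaf 0)))) (.node (.node (.node (.leaf 11) (.leaf 10)) (.node (.leaf 4) (.leaf 0))) (.node (.leaf 2) (.node (.leaf 10) (.leaf 0)))))) (.node (.node (.node (.node (.node (.leaf 13) (.leaf 12)) (.node (.leaf 11) (.leaf 0))) (.node (.node (.leaf 9)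 (.leaf 0)) (.node (.leaf 13) (.leaf 0)))) (.node (.node (.node (.leaf 11) (.leaf 10)) (.node (.leaf 13) (.leaf 0))) (.node (.node (.leaf 11) (.leaf 4)) (.node (.leaf 5) (.leaf 0))))) (.node (.node (.node (.node (.leaf 6) (.leaf 11)) (.node (.leaf 4) (.leaf 0))) (.node (.node (.leaf 8) (.leaf 0)) (.node (.leaf 15) (.leaf 0)))) (.node (.node (.node (.leaf 10) (.leaf 6)) (.node (.leaf 9) (.leaf 0))) (.node (.node (.leaf 9) (.leaf 1)) (.leaf 0)))))) (.node (.node (.node (.node (.node (.node (.leaf 9) (.leaf 12)) (.node (.leaf 12) (.leaf 0))) (.node (.node (.leaf 3) (.leaf 10)) (.node (.leaf 6) (.leaf 0)))) (.node (.node (.node (.leaf 5) (.leaf 10)) (.node (.leaf 13) (.leaf 0))) (.node (.node (.leaf 9) (.leaf 11)) (.leaf 0)))) (.node (.node (.node (.node (.leaf 10) (.leaf 5)) (.node (.leaf 9) (.leaf 0))) (.node (.node (.leaf 1) (.leaf 11)) (.node (.leaf 7) (.leaf 0)))) (.node (.node (.node (.leaf 10) (.leaf 1)) (.node (.leaf 14) (.leaf 0))) (.node (.node (.leaf 11) (.leaf 6))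 (.leaf 0))))) (.node (.node (.node (.node (.node (.leaf 10) (.leaf 15)) (.node (.leaf 10) (.leaf 0))) (.node (.node (.leaf 8) (.leaf 0)) (.node (.leaf 1) (.leaf 0)))) (.node (.node (.node (.leaf 6) (.leaf 15)) (.node (.leaf 5) (.leaf 0))) (.node (.node (.leaf 6) (.leaf 3)) (.node (.leaf 4) (.leaf 0))))) (.node (.node (.node (.leaf 0) (.node (.leaf 4) (.leaf 0))) (.node (.node (.leaf 5) (.leaf 0)) (.node (.leaf 9) (.leaf 0)))) (.node (.node (.node (.leaf 11) (.leaf 1)) (.node (.leaf 13) (.leaf 0))) (.node (.node (.leaf 6) (.leaf 0)) (.node (.leaf 11) (.leaf 0))))))))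

/-- Classes modulo the second ideal -/
def clsB : Tree :=
  .node (.node (.node (.node (.node (clsBPart0) (clsBPart16)) (.node (clsBPart8) (clsBPart24))) (.node (.node (clsBPart4) (clsBPart20)) (.node (clsBPart12) (clsBPart28)))) (.node (.node (.node (clsBPart2) (clsBPart18)) (.node (clsBPart10) (clsBPart26))) (.node (.node (clsBPart6) (clsBPart22)) (.node (clsBPart14) (clsBPart30))))) (.node (.node (.node (.node (clsBPart1) (clsBPart17)) (.node (clsBPart9) (clsBPart25))) (.node (.node (clsBPart5) (clsBPart21)) (.node (clsBPart13) (clsBPart29)))) (.node (.node (.node (clsBPart3) (clsBPart19)) (.node (clsBPart11) (clsBPart27))) (.node (.node (clsBPart7) (clsBPart23)) (.node (clsBPart15) (clsBPart31)))))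

/-- The possible norms, four times. -/
def normVals : List Zt := [⟨0, 0⟩, ⟨4, 0⟩, ⟨4, 4⟩, ⟨8, -4⟩, ⟨8, 0⟩, ⟨8, 4⟩, ⟨12, -4⟩, ⟨12, 0⟩, ⟨16, 0⟩]

/-- Norm indices, part 0. -/
def normIdxPart0 : Tree :=
  .node (.node (.node (.node (.node (.node (.node (.node (.leaf 1) (.leaf 8)) (.node (.leaf 6) (.leaf 0))) (.node (.node (.leaf 5) (.leaf 8)) (.node (.leaf 7) (.leaf 0)))) (.node (.node (.node (.leaf 4) (.leaf 8)) (.node (.leaf 7) (.leaf 0))) (.node (.node (.leaf 5) (.leaf 8)) (.node (.leaf 7) (.leaf 0))))) (.node (.node (.node (.node (.leaf 3) (.leaf 8)) (.node (.leaf 6) (.leaf 0))) (.node (.node (.leaf 5) (.leaf 8)) (.node (.leaf 7) (.leaf 0)))) (.node (.node (.node (.leaf 4) (.leaf 8)) (.node (.leaf 7) (.leaf 0))) (.node (.node (.leaf 6) (.leaf 8)) (.node (.leaf 8) (.leaf 0)))))) (.node (.node (.node (.node (.node (.leaf 2) (.leaf 8)) (.node (.leaf 6) (.leaf 0))) (.node (.node (.leaf 5) (.leaf 8)) (.node (.leaf 7) (.leaf 0)))) (.node (.node (.node (.leaf 4) (.leaf 8)) (.node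 (.leaf 7) (.leaf 0))) (.node (.node (.leaf 5) (.leaf 8)) (.node (.leaf 8) (.leaf 0))))) (.node (.node (.node (.node (.leaf 4) (.leaf 8)) (.node (.leaf 7) (.leaf 0))) (.node (.node (.leaf 5) (.leaf 8)) (.node (.leaf 7) (.leaf 0)))) (.node (.node (.node (.leaf 4) (.leaf 8)) (.node (.leaf 7) (.leaf 0))) (.node (.node (.leaf 6) (.leaf 8)) (.node (.leaf 8) (.leaf 0))))))) (.node (.node (.node (.node (.node (.node (.leaf 1) (.leaf 8)) (.node (.leaf 6) (.leaf 0))) (.node (.node (.leaf 5) (.leaf 8)) (.node (.leaf 7) (.leaf 0)))) (.node (.node (.node (.leaf 4) (.leaf 8)) (.node (.leaf 7) (.leaf 0))) (.node (.node (.leaf 5) (.leaf 8)) (.node (.leaf 8) (.leaf 0))))) (.node (.node (.node (.node (.leaf 3) (.leaf 8)) (.node (.leaf 6) (.leaf 0))) (.node (.node (.leaf 5) (.leaf 8)) (.node (.leaf 7) (.leaf 0)))) (.node (.node (.node (.leaf 4) (.leaf 8)) (.node (.leaf 7) (.leaf 0))) (.node (.node (.leaf 6) (.leaf 8)) (.node (.leaf 8) (.leaf 0)))))) (.node (.node (.node (.node (.node (.leaf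 2) (.leaf 8)) (.node (.leaf 6) (.leaf 0))) (.node (.node (.leaf 5) (.leaf 8)) (.node (.leaf 7) (.leaf 0)))) (.node (.node (.node (.leaf 4) (.leaf 8)) (.node (.leaf 7) (.leaf 0))) (.node (.node (.leaf 6) (.leaf 8)) (.node (.leaf 8) (.leaf 0))))) (.node (.node (.node (.node (.leaf 4) (.leaf 8)) (.node (.leaf 7) (.leaf 0))) (.node (.node (.leaf 5) (.leaf 8)) (.node (.leaf 7) (.leaf 0)))) (.node (.node (.node (.leaf 5) (.leaf 8)) (.node (.leaf 7) (.leaf 0))) (.node (.node (.leaf 6) (.leaf 8)) (.node (.leaf 8) (.leaf 0)))))))) (.node (.node (.node (.node (.node (.node (.node (.leaf 1) (.leaf 8)) (.node (.leaf 6) (.leaf 0))) (.node (.node (.leaf 5) (.leaf 8)) (.node (.leaf 7) (.leaf 0)))) (.node (.node (.node (.leaf 4) (.leaf 8)) (.node (.leaf 7) (.leaf 0))) (.node (.node (.leaf 5) (.leaf 8)) (.node (.leaf 8) (.leaf 0))))) (.node (.node (.node (.node (.leaf 3) (.leaf 8)) (.node (.leaf 6) (.leaf 0))) (.node (.node (.leaf 5) (.leaf 8)) (.node (.leaf 7) (.leaf 0)))) (.node (.node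 (.node (.leaf 4) (.leaf 8)) (.node (.leaf 7) (.leaf 0))) (.node (.node (.leaf 6) (.leaf 8)) (.node (.leaf 8) (.leaf 0)))))) (.node (.node (.node (.node (.node (.leaf 2) (.leaf 8)) (.node (.leaf 6) (.leaf 0))) (.node (.node (.leaf 5) (.leaf 8)) (.node (.leaf 7) (.leaf 0)))) (.node (.node (.node (.leaf 4) (.leaf 8)) (.node (.leaf 7) (.leaf 0))) (.node (.node (.leaf 6) (.leaf 8)) (.node (.leaf 8) (.leaf 0))))) (.node (.node (.node (.node (.leaf 4) (.leaf 8)) (.node (.leaf 7) (.leaf 0))) (.node (.node (.leaf 5) (.leaf 8)) (.node (.leaf 7) (.leaf 0)))) (.node (.node (.node (.leaf 4) (.leaf 8)) (.node (.leaf 7) (.leaf 0))) (.node (.node (.leaf 6) (.leaf 8)) (.node (.leaf 8) (.leaf 0))))))) (.node (.node (.node (.node (.node (.node (.leaf 1) (.leaf 8)) (.node (.leaf 6) (.leaf 0))) (.node (.node (.leaf 5) (.leaf 8)) (.node (.leaf 7) (.leaf 0)))) (.node (.node (.node (.leaf 4) (.leaf 8)) (.node (.leaf 7) (.leaf 0))) (.node (.node (.leaf 5) (.leaf 8)) (.node (.leaf 8) (.leaf 0)))))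 (.node (.node (.node (.node (.leaf 3) (.leaf 8)) (.node (.leaf 7) (.leaf 0))) (.node (.node (.leaf 5) (.leaf 8)) (.node (.leaf 7) (.leaf 0)))) (.node (.node (.node (.leaf 4) (.leaf 8)) (.node (.leaf 7) (.leaf 0))) (.node (.node (.leaf 6) (.leaf 8)) (.node (.leaf 8) (.leaf 0)))))) (.node (.node (.node (.node (.node (.leaf 2) (.leaf 8)) (.node (.leaf 6) (.leaf 0))) (.node (.node (.leaf 5) (.leaf 8)) (.node (.leaf 7) (.leaf 0)))) (.node (.node (.node (.leaf 4) (.leaf 8)) (.node (.leaf 7) (.leaf 0))) (.node (.node (.leaf 6) (.leaf 8)) (.node (.leaf 8) (.leaf 0))))) (.node (.node (.node (.node (.leaf 4) (.leaf 8)) (.node (.leaf 7) (.leaf 0))) (.node (.node (.leaf 5) (.leaf 8)) (.node (.leaf 7) (.leaf 0)))) (.node (.node (.node (.leaf 5) (.leaf 8)) (.node (.leaf 7) (.leaf 0))) (.node (.node (.leaf 6) (.leaf 8)) (.node (.leaf 8) (.leaf 0))))))))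

/-- Norm indices, part 16. -/
def normIdxPart16 : Tree :=
  .node (.node (.node (.node (.node (.node (.node (.node (.leaf 1) (.leaf 8)) (.node (.leaf 6) (.leaf 0))) (.node (.node (.leaf 5) (.leaf 8)) (.node (.leaf 7) (.leaf 0)))) (.node (.node (.node (.leaf 4) (.leaf 8)) (.node (.leaf 7) (.leaf 0))) (.node (.node (.leaf 5) (.leaf 8)) (.node (.leaf 8) (.leaf 0))))) (.node (.node (.node (.node (.leaf 3) (.leaf 8)) (.node (.leaf 6) (.leaf 0))) (.node (.node (.leaf 5) (.leaf 8)) (.node (.leaf 7) (.leaf 0)))) (.node (.node (.node (.leaf 4) (.leaf 8)) (.node (.leaf 7) (.leaf 0))) (.node (.node (.leaf 6) (.leaf 8)) (.node (.leaf 8) (.leaf 0)))))) (.node (.node (.node (.node (.node (.leaf 2) (.leaf 8)) (.node (.leaf 6) (.leaf 0))) (.node (.node (.leaf 5) (.leaf 8)) (.node (.leaf 7) (.leaf 0)))) (.node (.node (.node (.leaf 4) (.leaf 8)) (.node (.leaf 7) (.leaf 0))) (.node (.node (.leaf 6) (.leaf 8)) (.node (.leaf 8) (.leaf 0))))) (.node (.node (.node (.node (.leaf 4) (.leaf 8))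 (.node (.leaf 7) (.leaf 0))) (.node (.node (.leaf 5) (.leaf 8)) (.node (.leaf 7) (.leaf 0)))) (.node (.node (.node (.leaf 4) (.leaf 8)) (.node (.leaf 7) (.leaf 0))) (.node (.node (.leaf 6) (.leaf 8)) (.node (.leaf 8) (.leaf 0))))))) (.node (.node (.node (.node (.node (.node (.leaf 1) (.leaf 8)) (.node (.leaf 6) (.leaf 0))) (.node (.node (.leaf 5) (.leaf 8)) (.node (.leaf 7) (.leaf 0)))) (.node (.node (.node (.leaf 4) (.leaf 8)) (.node (.leaf 7) (.leaf 0))) (.node (.node (.leaf 5) (.leaf 8)) (.node (.leaf 8) (.leaf 0))))) (.node (.node (.node (.node (.leaf 3) (.leaf 8)) (.node (.leaf 6) (.leaf 0))) (.node (.node (.leaf 5) (.leaf 8)) (.node (.leaf 7) (.leaf 0)))) (.node (.node (.node (.leaf 4) (.leaf 8)) (.node (.leaf 7) (.leaf 0))) (.node (.node (.leaf 6) (.leaf 8)) (.node (.leaf 8) (.leaf 0)))))) (.node (.node (.node (.node (.node (.leaf 2) (.leaf 8)) (.node (.leaf 6) (.leaf 0))) (.node (.node (.leaf 5) (.leaf 8)) (.node (.leaf 7) (.leaf 0)))) (.node (.node (.node (.leaf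 4) (.leaf 8)) (.node (.leaf 7) (.leaf 0))) (.node (.node (.leaf 6) (.leaf 8)) (.node (.leaf 8) (.leaf 0))))) (.node (.node (.node (.node (.leaf 4) (.leaf 8)) (.node (.leaf 7) (.leaf 0))) (.node (.node (.leaf 5) (.leaf 8)) (.node (.leaf 7) (.leaf 0)))) (.node (.node (.node (.leaf 5) (.leaf 8)) (.node (.leaf 7) (.leaf 0))) (.node (.node (.leaf 6) (.leaf 8)) (.node (.leaf 8) (.leaf 0)))))))) (.node (.node (.node (.node (.node (.node (.node (.leaf 1) (.leaf 8)) (.node (.leaf 6) (.leaf 0))) (.node (.node (.leaf 5) (.leaf 8)) (.node (.leaf 7) (.leaf 0)))) (.node (.node (.node (.leaf 4) (.leaf 8)) (.node (.leaf 7) (.leaf 0))) (.node (.node (.leaf 5) (.leaf 8)) (.node (.leaf 8) (.leaf 0))))) (.node (.node (.node (.node (.leaf 3) (.leaf 8)) (.node (.leaf 6) (.leaf 0))) (.node (.node (.leaf 5) (.leaf 8)) (.node (.leaf 7) (.leaf 0)))) (.node (.node (.node (.leaf 4) (.leaf 8)) (.node (.leaf 7) (.leaf 0))) (.node (.node (.leaf 6) (.leaf 8)) (.node (.leaf 8) (.leaf 0)))))) (.node (.node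 (.node (.node (.node (.leaf 2) (.leaf 8)) (.node (.leaf 6) (.leaf 0))) (.node (.node (.leaf 5) (.leaf 8)) (.node (.leaf 7) (.leaf 0)))) (.node (.node (.node (.leaf 4) (.leaf 8)) (.node (.leaf 7) (.leaf 0))) (.node (.node (.leaf 6) (.leaf 8)) (.node (.leaf 8) (.leaf 0))))) (.node (.node (.node (.node (.leaf 4) (.leaf 8)) (.node (.leaf 7) (.leaf 0))) (.node (.node (.leaf 5) (.leaf 8)) (.node (.leaf 7) (.leaf 0)))) (.node (.node (.node (.leaf 4) (.leaf 8)) (.node (.leaf 7) (.leaf 0))) (.node (.node (.leaf 6) (.leaf 8)) (.node (.leaf 8) (.leaf 0))))))) (.node (.node (.node (.node (.node (.node (.leaf 1) (.leaf 8)) (.node (.leaf 6) (.leaf 0))) (.node (.node (.leaf 5) (.leaf 8)) (.node (.leaf 7) (.leaf 0)))) (.node (.node (.node (.leaf 4) (.leaf 8)) (.node (.leaf 7) (.leaf 0))) (.node (.node (.leaf 5) (.leaf 8)) (.node (.leaf 8) (.leaf 0))))) (.node (.node (.node (.node (.leaf 4) (.leaf 8)) (.node (.leaf 7) (.leaf 0))) (.node (.node (.leaf 5) (.leaf 8)) (.node (.leaf 7) (.leaf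 0)))) (.node (.node (.node (.leaf 4) (.leaf 8)) (.node (.leaf 7) (.leaf 0))) (.node (.node (.leaf 6) (.leaf 8)) (.node (.leaf 8) (.leaf 0)))))) (.node (.node (.node (.node (.node (.leaf 3) (.leaf 8)) (.node (.leaf 6) (.leaf 0))) (.node (.node (.leaf 5) (.leaf 8)) (.node (.leaf 7) (.leaf 0)))) (.node (.node (.node (.leaf 4) (.leaf 8)) (.node (.leaf 7) (.leaf 0))) (.node (.node (.leaf 6) (.leaf 8)) (.node (.leaf 8) (.leaf 0))))) (.node (.node (.node (.node (.leaf 4) (.leaf 8)) (.node (.leaf 7) (.leaf 0))) (.node (.node (.leaf 5) (.leaf 8)) (.node (.leaf 7) (.leaf 0)))) (.node (.node (.node (.leaf 5) (.leaf 8)) (.node (.leaf 7) (.leaf 0))) (.node (.node (.leaf 6) (.leaf 0)) (.node (.leaf 8) (.leaf 0))))))))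

/-- Norm indices, part 8. -/
def normIdxPart8 : Tree :=
  .node (.node (.node (.node (.node (.node (.node (.node (.leaf 1) (.leaf 8)) (.node (.leaf 6) (.leaf 0))) (.node (.node (.leaf 5) (.leaf 8)) (.node (.leaf 7) (.leaf 0)))) (.node (.node (.node (.leaf 4) (.leaf 8)) (.node (.leaf 7) (.leaf 0))) (.node (.node (.leaf 5) (.leaf 8)) (.node (.leaf 7) (.leaf 0))))) (.node (.node (.node (.node (.leaf 3) (.leaf 8)) (.node (.leaf 6) (.leaf 0))) (.node (.node (.leaf 5) (.leaf 8)) (.node (.leaf 7) (.leaf 0)))) (.node (.node (.node (.leaf 4) (.leaf 8)) (.node (.leaf 7) (.leaf 0))) (.node (.node (.leaf 6) (.leaf 8)) (.node (.leaf 8) (.leaf 0)))))) (.node (.node (.node (.node (.node (.leaf 2) (.leaf 8)) (.node (.leaf 6) (.leaf 0))) (.node (.node (.leaf 5) (.leaf 8)) (.node (.leaf 7) (.leaf 0)))) (.node (.node (.node (.leaf 4) (.leaf 8)) (.node (.leaf 7) (.leaf 0))) (.node (.node (.leaf 5) (.leaf 8)) (.node (.leaf 8) (.leaf 0))))) (.node (.node (.node (.node (.leaf 4) (.leaf 8)) (.node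 (.leaf 7) (.leaf 0))) (.node (.node (.leaf 5) (.leaf 8)) (.node (.leaf 7) (.leaf 0)))) (.node (.node (.node (.leaf 4) (.leaf 8)) (.node (.leaf 7) (.leaf 0))) (.node (.node (.leaf 6) (.leaf 8)) (.node (.leaf 8) (.leaf 0))))))) (.node (.node (.node (.node (.node (.node (.leaf 1) (.leaf 8)) (.node (.leaf 6) (.leaf 0))) (.node (.node (.leaf 5) (.leaf 8)) (.node (.leaf 7) (.leaf 0)))) (.node (.node (.node (.leaf 4) (.leaf 8)) (.node (.leaf 7) (.leaf 0))) (.node (.node (.leaf 5) (.leaf 8)) (.node (.leaf 8) (.leaf 0))))) (.node (.node (.node (.node (.leaf 3) (.leaf 8)) (.node (.leaf 6) (.leaf 0))) (.node (.node (.leaf 5) (.leaf 8)) (.node (.leaf 7) (.leaf 0)))) (.node (.node (.node (.leaf 4) (.leaf 8)) (.node (.leaf 7) (.leaf 0))) (.node (.node (.leaf 6) (.leaf 8)) (.node (.leaf 8) (.leaf 0)))))) (.node (.node (.node (.node (.node (.leaf 2) (.leaf 8)) (.node (.leaf 6) (.leaf 0))) (.node (.node (.leaf 5) (.leaf 8)) (.node (.leaf 7) (.leaf 0)))) (.node (.node (.node (.leaf 4) (.leaf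 8)) (.node (.leaf 7) (.leaf 0))) (.node (.node (.leaf 6) (.leaf 8)) (.node (.leaf 8) (.leaf 0))))) (.node (.node (.node (.node (.leaf 4) (.leaf 8)) (.node (.leaf 7) (.leaf 0))) (.node (.node (.leaf 5) (.leaf 8)) (.node (.leaf 7) (.leaf 0)))) (.node (.node (.node (.leaf 5) (.leaf 8)) (.node (.leaf 7) (.leaf 0))) (.node (.node (.leaf 6) (.leaf 8)) (.node (.leaf 8) (.leaf 0)))))))) (.node (.node (.node (.node (.node (.node (.node (.leaf 1) (.leaf 8)) (.node (.leaf 6) (.leaf 0))) (.node (.node (.leaf 5) (.leaf 8)) (.node (.leaf 7) (.leaf 0)))) (.node (.node (.node (.leaf 4) (.leaf 8)) (.node (.leaf 7) (.leaf 0))) (.node (.node (.leaf 5) (.leaf 8)) (.node (.leaf 8) (.leaf 0))))) (.node (.node (.node (.node (.leaf 3) (.leaf 8)) (.node (.leaf 6) (.leaf 0))) (.node (.node (.leaf 5) (.leaf 8)) (.node (.leaf 7) (.leaf 0)))) (.node (.node (.node (.leaf 4) (.leaf 8)) (.node (.leaf 7) (.leaf 0))) (.node (.node (.leaf 6) (.leaf 8)) (.node (.leaf 8) (.leaf 0)))))) (.node (.node (.node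 (.node (.node (.leaf 2) (.leaf 8)) (.node (.leaf 6) (.leaf 0))) (.node (.node (.leaf 5) (.leaf 8)) (.node (.leaf 7) (.leaf 0)))) (.node (.node (.node (.leaf 4) (.leaf 8)) (.node (.leaf 7) (.leaf 0))) (.node (.node (.leaf 6) (.leaf 8)) (.node (.leaf 8) (.leaf 0))))) (.node (.node (.node (.node (.leaf 4) (.leaf 8)) (.node (.leaf 7) (.leaf 0))) (.node (.node (.leaf 5) (.leaf 8)) (.node (.leaf 7) (.leaf 0)))) (.node (.node (.node (.leaf 4) (.leaf 8)) (.node (.leaf 7) (.leaf 0))) (.node (.node (.leaf 6) (.leaf 8)) (.node (.leaf 8) (.leaf 0))))))) (.node (.node (.node (.node (.node (.node (.leaf 1) (.leaf 8)) (.node (.leaf 6) (.leaf 0))) (.node (.node (.leaf 5) (.leaf 8)) (.node (.leaf 7) (.leaf 0)))) (.node (.node (.node (.leaf 4) (.leaf 8)) (.node (.leaf 7) (.leaf 0))) (.node (.node (.leaf 5) (.leaf 8)) (.node (.leaf 8) (.leaf 0))))) (.node (.node (.node (.node (.leaf 4) (.leaf 8)) (.node (.leaf 7) (.leaf 0))) (.node (.node (.leaf 5) (.leaf 8)) (.node (.leaf 7) (.leaf 0))))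 (.node (.node (.node (.leaf 4) (.leaf 8)) (.node (.leaf 7) (.leaf 0))) (.node (.node (.leaf 6) (.leaf 8)) (.node (.leaf 8) (.leaf 0)))))) (.node (.node (.node (.node (.node (.leaf 2) (.leaf 8)) (.node (.leaf 6) (.leaf 0))) (.node (.node (.leaf 5) (.leaf 8)) (.node (.leaf 7) (.leaf 0)))) (.node (.node (.node (.leaf 4) (.leaf 8)) (.node (.leaf 7) (.leaf 0))) (.node (.node (.leaf 6) (.leaf 8)) (.node (.leaf 8) (.leaf 0))))) (.node (.node (.node (.node (.leaf 4) (.leaf 8)) (.node (.leaf 7) (.leaf 0))) (.node (.node (.leaf 5) (.leaf 8)) (.node (.leaf 7) (.leaf 0)))) (.node (.node (.node (.leaf 5) (.leaf 8)) (.node (.leaf 7) (.leaf 0))) (.node (.node (.leaf 6) (.leaf 0)) (.node (.leaf 8) (.leaf 0))))))))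

/-- Norm indices, part 24. -/
def normIdxPart24 : Tree :=
  .node (.node (.node (.node (.node (.node (.node (.node (.leaf 1) (.leaf 8)) (.node (.leaf 6) (.leaf 0))) (.node (.node (.leaf 5) (.leaf 8)) (.node (.leaf 7) (.leaf 0)))) (.node (.node (.node (.leaf 4) (.leaf 8)) (.node (.leaf 7) (.leaf 0))) (.node (.node (.leaf 5) (.leaf 8)) (.node (.leaf 8) (.leaf 0))))) (.node (.node (.node (.node (.leaf 3) (.leaf 8)) (.node (.leaf 6) (.leaf 0))) (.node (.node (.leaf 5) (.leaf 8)) (.node (.leaf 7) (.leaf 0)))) (.node (.node (.node (.leaf 4) (.leaf 8)) (.node (.leaf 7) (.leaf 0))) (.node (.node (.leaf 6) (.leaf 8)) (.node (.leaf 8) (.leaf 0)))))) (.node (.node (.node (.node (.node (.leaf 2) (.leaf 8)) (.node (.leaf 6) (.leaf 0))) (.node (.node (.leaf 5) (.leaf 8)) (.node (.leaf 7) (.leaf 0)))) (.node (.node (.node (.leaf 4) (.leaf 8)) (.node (.leaf 7) (.leaf 0))) (.node (.node (.leaf 6) (.leaf 8)) (.node (.leaf 8) (.leaf 0))))) (.node (.node (.node (.node (.leaf 4) (.leaf 8))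 (.node (.leaf 7) (.leaf 0))) (.node (.node (.leaf 5) (.leaf 8)) (.node (.leaf 7) (.leaf 0)))) (.node (.node (.node (.leaf 4) (.leaf 8)) (.node (.leaf 7) (.leaf 0))) (.node (.node (.leaf 6) (.leaf 8)) (.node (.leaf 8) (.leaf 0))))))) (.node (.node (.node (.node (.node (.node (.leaf 1) (.leaf 8)) (.node (.leaf 6) (.leaf 0))) (.node (.node (.leaf 5) (.leaf 8)) (.node (.leaf 7) (.leaf 0)))) (.node (.node (.node (.leaf 4) (.leaf 8)) (.node (.leaf 7) (.leaf 0))) (.node (.node (.leaf 5) (.leaf 8)) (.node (.leaf 8) (.leaf 0))))) (.node (.node (.node (.node (.leaf 3) (.leaf 8)) (.node (.leaf 6) (.leaf 0))) (.node (.node (.leaf 5) (.leaf 8)) (.node (.leaf 7) (.leaf 0)))) (.node (.node (.node (.leaf 4) (.leaf 8)) (.node (.leaf 7) (.leaf 0))) (.node (.node (.leaf 6) (.leaf 8)) (.node (.leaf 8) (.leaf 0)))))) (.node (.node (.node (.node (.node (.leaf 2) (.leaf 8)) (.node (.leaf 6) (.leaf 0))) (.node (.node (.leaf 5) (.leaf 8)) (.node (.leaf 7) (.leaf 0)))) (.node (.node (.node (.leaf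 4) (.leaf 8)) (.node (.leaf 7) (.leaf 0))) (.node (.node (.leaf 6) (.leaf 8)) (.node (.leaf 8) (.leaf 0))))) (.node (.node (.node (.node (.leaf 4) (.leaf 8)) (.node (.leaf 7) (.leaf 0))) (.node (.node (.leaf 5) (.leaf 8)) (.node (.leaf 7) (.leaf 0)))) (.node (.node (.node (.leaf 5) (.leaf 8)) (.node (.leaf 7) (.leaf 0))) (.node (.node (.leaf 6) (.leaf 8)) (.node (.leaf 8) (.leaf 0)))))))) (.node (.node (.node (.node (.node (.node (.node (.leaf 1) (.leaf 8)) (.node (.leaf 6) (.leaf 0))) (.node (.node (.leaf 5) (.leaf 8)) (.node (.leaf 7) (.leaf 0)))) (.node (.node (.node (.leaf 4) (.leaf 8)) (.node (.leaf 7) (.leaf 0))) (.node (.node (.leaf 5) (.leaf 8)) (.node (.leaf 8) (.leaf 0))))) (.node (.node (.node (.node (.leaf 3) (.leaf 8)) (.node (.leaf 6) (.leaf 0))) (.node (.node (.leaf 5) (.leaf 8)) (.node (.leaf 7) (.leaf 0)))) (.node (.node (.node (.leaf 4) (.leaf 8)) (.node (.leaf 7) (.leaf 0))) (.node (.node (.leaf 6) (.leaf 8)) (.node (.leaf 8) (.leaf 0)))))) (.node (.node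 (.node (.node (.node (.leaf 2) (.leaf 8)) (.node (.leaf 6) (.leaf 0))) (.node (.node (.leaf 5) (.leaf 8)) (.node (.leaf 7) (.leaf 0)))) (.node (.node (.node (.leaf 4) (.leaf 8)) (.node (.leaf 7) (.leaf 0))) (.node (.node (.leaf 6) (.leaf 8)) (.node (.leaf 8) (.leaf 0))))) (.node (.node (.node (.node (.leaf 4) (.leaf 8)) (.node (.leaf 7) (.leaf 0))) (.node (.node (.leaf 5) (.leaf 8)) (.node (.leaf 7) (.leaf 0)))) (.node (.node (.node (.leaf 4) (.leaf 8)) (.node (.leaf 7) (.leaf 0))) (.node (.node (.leaf 6) (.leaf 8)) (.node (.leaf 8) (.leaf 0))))))) (.node (.node (.node (.node (.node (.node (.leaf 2) (.leaf 8)) (.node (.leaf 6) (.leaf 0))) (.node (.node (.leaf 5) (.leaf 8)) (.node (.leaf 7) (.leaf 0)))) (.node (.node (.node (.leaf 4) (.leaf 8)) (.node (.leaf 7) (.leaf 0))) (.node (.node (.leaf 5) (.leaf 8)) (.node (.leaf 8) (.leaf 0))))) (.node (.node (.node (.node (.leaf 4) (.leaf 8)) (.node (.leaf 7) (.leaf 0))) (.node (.node (.leaf 5) (.leaf 8)) (.node (.leaf 7) (.leaf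 0)))) (.node (.node (.node (.leaf 4) (.leaf 8)) (.node (.leaf 7) (.leaf 0))) (.node (.node (.leaf 6) (.leaf 8)) (.node (.leaf 8) (.leaf 0)))))) (.node (.node (.node (.node (.node (.leaf 3) (.leaf 8)) (.node (.leaf 6) (.leaf 0))) (.node (.node (.leaf 5) (.leaf 8)) (.node (.leaf 7) (.leaf 0)))) (.node (.node (.node (.leaf 4) (.leaf 8)) (.node (.leaf 7) (.leaf 0))) (.node (.node (.leaf 6) (.leaf 8)) (.node (.leaf 8) (.leaf 0))))) (.node (.node (.node (.node (.leaf 4) (.leaf 8)) (.node (.leaf 7) (.leaf 0))) (.node (.node (.leaf 5) (.leaf 8)) (.node (.leaf 7) (.leaf 0)))) (.node (.node (.node (.leaf 5) (.leaf 8)) (.node (.leaf 7) (.leaf 0))) (.node (.node (.leaf 6) (.leaf 0)) (.node (.leaf 8) (.leaf 0))))))))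

/-- Norm indices, part 4. -/
def normIdxPart4 : Tree :=
  .node (.node (.node (.node (.node (.node (.node (.node (.leaf 1) (.leaf 8)) (.node (.leaf 6) (.leaf 0))) (.node (.node (.leaf 5) (.leaf 8)) (.node (.leaf 7) (.leaf 0)))) (.node (.node (.node (.leaf 4) (.leaf 8)) (.node (.leaf 7) (.leaf 0))) (.node (.node (.leaf 5) (.leaf 8)) (.node (.leaf 7) (.leaf 0))))) (.node (.node (.node (.node (.leaf 3) (.leaf 8)) (.node (.leaf 6) (.leaf 0))) (.node (.node (.leaf 5) (.leaf 8)) (.node (.leaf 7) (.leaf 0)))) (.node (.node (.node (.leaf 4) (.leaf 8)) (.node (.leaf 7) (.leaf 0))) (.node (.node (.leaf 6) (.leaf 8)) (.node (.leaf 8) (.leaf 0)))))) (.node (.node (.node (.node (.node (.leaf 2) (.leaf 8)) (.node (.leaf 6) (.leaf 0))) (.node (.node (.leaf 5) (.leaf 8)) (.node (.leaf 7) (.leaf 0)))) (.node (.node (.node (.leaf 4) (.leaf 8)) (.node (.leaf 7) (.leaf 0))) (.node (.node (.leaf 5) (.leaf 8)) (.node (.leaf 8) (.leaf 0))))) (.node (.node (.node (.node (.leaf 4) (.leaf 8)) (.node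 (.leaf 7) (.leaf 0))) (.node (.node (.leaf 5) (.leaf 8)) (.node (.leaf 7) (.leaf 0)))) (.node (.node (.node (.leaf 4) (.leaf 8)) (.node (.leaf 7) (.leaf 0))) (.node (.node (.leaf 6) (.leaf 8)) (.node (.leaf 8) (.leaf 0))))))) (.node (.node (.node (.node (.node (.node (.leaf 1) (.leaf 8)) (.node (.leaf 6) (.leaf 0))) (.node (.node (.leaf 5) (.leaf 8)) (.node (.leaf 7) (.leaf 0)))) (.node (.node (.node (.leaf 4) (.leaf 8)) (.node (.leaf 7) (.leaf 0))) (.node (.node (.leaf 5) (.leaf 8)) (.node (.leaf 8) (.leaf 0))))) (.node (.node (.node (.node (.leaf 3) (.leaf 8)) (.node (.leaf 6) (.leaf 0))) (.node (.node (.leaf 5) (.leaf 8)) (.node (.leaf 7) (.leaf 0)))) (.node (.node (.node (.leaf 4) (.leaf 8)) (.node (.leaf 7) (.leaf 0))) (.node (.node (.leaf 6) (.leaf 8)) (.node (.leaf 8) (.leaf 0)))))) (.node (.node (.node (.node (.node (.leaf 2) (.leaf 8)) (.node (.leaf 6) (.leaf 0))) (.node (.node (.leaf 5) (.leaf 8)) (.node (.leaf 7) (.leaf 0)))) (.node (.node (.node (.leaf 4) (.leaf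 8)) (.node (.leaf 7) (.leaf 0))) (.node (.node (.leaf 6) (.leaf 8)) (.node (.leaf 8) (.leaf 0))))) (.node (.node (.node (.node (.leaf 4) (.leaf 8)) (.node (.leaf 7) (.leaf 0))) (.node (.node (.leaf 5) (.leaf 8)) (.node (.leaf 7) (.leaf 0)))) (.node (.node (.node (.leaf 5) (.leaf 8)) (.node (.leaf 7) (.leaf 0))) (.node (.node (.leaf 6) (.leaf 8)) (.node (.leaf 8) (.leaf 0)))))))) (.node (.node (.node (.node (.node (.node (.node (.leaf 1) (.leaf 8)) (.node (.leaf 6) (.leaf 0))) (.node (.node (.leaf 5) (.leaf 8)) (.node (.leaf 7) (.leaf 0)))) (.node (.node (.node (.leaf 4) (.leaf 8)) (.node (.leaf 7) (.leaf 0))) (.node (.node (.leaf 5) (.leaf 8)) (.node (.leaf 8) (.leaf 0))))) (.node (.node (.node (.node (.leaf 3) (.leaf 8)) (.node (.leaf 6) (.leaf 0))) (.node (.node (.leaf 5) (.leaf 8)) (.node (.leaf 7) (.leaf 0)))) (.node (.node (.node (.leaf 4) (.leaf 8)) (.node (.leaf 7) (.leaf 0))) (.node (.node (.leaf 6) (.leaf 8)) (.node (.leaf 8) (.leaf 0)))))) (.node (.node (.node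 (.node (.node (.leaf 2) (.leaf 8)) (.node (.leaf 6) (.leaf 0))) (.node (.node (.leaf 5) (.leaf 8)) (.node (.leaf 7) (.leaf 0)))) (.node (.node (.node (.leaf 4) (.leaf 8)) (.node (.leaf 7) (.leaf 0))) (.node (.node (.leaf 6) (.leaf 8)) (.node (.leaf 8) (.leaf 0))))) (.node (.node (.node (.node (.leaf 4) (.leaf 8)) (.node (.leaf 7) (.leaf 0))) (.node (.node (.leaf 5) (.leaf 8)) (.node (.leaf 7) (.leaf 0)))) (.node (.node (.node (.leaf 4) (.leaf 8)) (.node (.leaf 7) (.leaf 0))) (.node (.node (.leaf 6) (.leaf 8)) (.node (.leaf 8) (.leaf 0))))))) (.node (.node (.node (.node (.node (.node (.leaf 1) (.leaf 8)) (.node (.leaf 6) (.leaf 0))) (.node (.node (.leaf 5) (.leaf 8)) (.node (.leaf 7) (.leaf 0)))) (.node (.node (.node (.leaf 4) (.leaf 8)) (.node (.leaf 7) (.leaf 0))) (.node (.node (.leaf 5) (.leaf 8)) (.node (.leaf 8) (.leaf 0))))) (.node (.node (.node (.node (.leaf 3) (.leaf 8)) (.node (.leaf 7) (.leaf 0))) (.node (.node (.leaf 5) (.leaf 8)) (.node (.leaf 7) (.leaf 0))))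 (.node (.node (.node (.leaf 4) (.leaf 8)) (.node (.leaf 7) (.leaf 0))) (.node (.node (.leaf 6) (.leaf 8)) (.node (.leaf 8) (.leaf 0)))))) (.node (.node (.node (.node (.node (.leaf 2) (.leaf 8)) (.node (.leaf 6) (.leaf 0))) (.node (.node (.leaf 5) (.leaf 8)) (.node (.leaf 7) (.leaf 0)))) (.node (.node (.node (.leaf 4) (.leaf 8)) (.node (.leaf 7) (.leaf 0))) (.node (.node (.leaf 6) (.leaf 8)) (.node (.leaf 8) (.leaf 0))))) (.node (.node (.node (.node (.leaf 4) (.leaf 8)) (.node (.leaf 7) (.leaf 0))) (.node (.node (.leaf 5) (.leaf 8)) (.node (.leaf 7) (.leaf 0)))) (.node (.node (.node (.leaf 5) (.leaf 8)) (.node (.leaf 7) (.leaf 0))) (.node (.node (.leaf 6) (.leaf 8)) (.node (.leaf 8) (.leaf 0))))))))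

/-- Norm indices, part 20. -/
def normIdxPart20 : Tree :=
  .node (.node (.node (.node (.node (.node (.node (.node (.leaf 1) (.leaf 8)) (.node (.leaf 6) (.leaf 0))) (.node (.node (.leaf 5) (.leaf 8)) (.node (.leaf 7) (.leaf 0)))) (.node (.node (.node (.leaf 4) (.leaf 8)) (.node (.leaf 7) (.leaf 0))) (.node (.node (.leaf 5) (.leaf 8)) (.node (.leaf 8) (.leaf 0))))) (.node (.node (.node (.node (.leaf 3) (.leaf 8)) (.node (.leaf 6) (.leaf 0))) (.node (.node (.leaf 5) (.leaf 8)) (.node (.leaf 7) (.leaf 0)))) (.node (.node (.node (.leaf 4) (.leaf 8)) (.node (.leaf 7) (.leaf 0))) (.node (.node (.leaf 6) (.leaf 8)) (.node (.leaf 8) (.leaf 0)))))) (.node (.node (.node (.node (.node (.leaf 2) (.leaf 8)) (.node (.leaf 6) (.leaf 0))) (.node (.node (.leaf 5) (.leaf 8)) (.node (.leaf 7) (.leaf 0)))) (.node (.node (.node (.leaf 4) (.leaf 8)) (.node (.leaf 7) (.leaf 0))) (.node (.node (.leaf 6) (.leaf 8)) (.node (.leaf 8) (.leaf 0))))) (.node (.node (.node (.node (.leaf 4) (.leaf 8))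 (.node (.leaf 7) (.leaf 0))) (.node (.node (.leaf 5) (.leaf 8)) (.node (.leaf 7) (.leaf 0)))) (.node (.node (.node (.leaf 4) (.leaf 8)) (.node (.leaf 7) (.leaf 0))) (.node (.node (.leaf 6) (.leaf 8)) (.node (.leaf 8) (.leaf 0))))))) (.node (.node (.node (.node (.node (.node (.leaf 1) (.leaf 8)) (.node (.leaf 6) (.leaf 0))) (.node (.node (.leaf 5) (.leaf 8)) (.node (.leaf 7) (.leaf 0)))) (.node (.node (.node (.leaf 4) (.leaf 8)) (.node (.leaf 7) (.leaf 0))) (.node (.node (.leaf 5) (.leaf 8)) (.node (.leaf 8) (.leaf 0))))) (.node (.node (.node (.node (.leaf 3) (.leaf 8)) (.node (.leaf 6) (.leaf 0))) (.node (.node (.leaf 5) (.leaf 8)) (.node (.leaf 7) (.leaf 0)))) (.node (.node (.node (.leaf 4) (.leaf 8)) (.node (.leaf 7) (.leaf 0))) (.node (.node (.leaf 6) (.leaf 8)) (.node (.leaf 8) (.leaf 0)))))) (.node (.node (.node (.node (.node (.leaf 2) (.leaf 8)) (.node (.leaf 6) (.leaf 0))) (.node (.node (.leaf 5) (.leaf 8)) (.node (.leaf 7) (.leaf 0)))) (.node (.node (.node (.leaf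 4) (.leaf 8)) (.node (.leaf 7) (.leaf 0))) (.node (.node (.leaf 6) (.leaf 8)) (.node (.leaf 8) (.leaf 0))))) (.node (.node (.node (.node (.leaf 4) (.leaf 8)) (.node (.leaf 7) (.leaf 0))) (.node (.node (.leaf 5) (.leaf 8)) (.node (.leaf 7) (.leaf 0)))) (.node (.node (.node (.leaf 5) (.leaf 8)) (.node (.leaf 7) (.leaf 0))) (.node (.node (.leaf 6) (.leaf 8)) (.node (.leaf 8) (.leaf 0)))))))) (.node (.node (.node (.node (.node (.node (.node (.leaf 1) (.leaf 8)) (.node (.leaf 6) (.leaf 0))) (.node (.node (.leaf 5) (.leaf 8)) (.node (.leaf 7) (.leaf 0)))) (.node (.node (.node (.leaf 4) (.leaf 8)) (.node (.leaf 7) (.leaf 0))) (.node (.node (.leaf 5) (.leaf 8)) (.node (.leaf 8) (.leaf 0))))) (.node (.node (.node (.node (.leaf 3) (.leaf 8)) (.node (.leaf 6) (.leaf 0))) (.node (.node (.leaf 5) (.leaf 8)) (.node (.leaf 7) (.leaf 0)))) (.node (.node (.node (.leaf 4) (.leaf 8)) (.node (.leaf 7) (.leaf 0))) (.node (.node (.leaf 6) (.leaf 8)) (.node (.leaf 8) (.leaf 0)))))) (.node (.node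 (.node (.node (.node (.leaf 2) (.leaf 8)) (.node (.leaf 6) (.leaf 0))) (.node (.node (.leaf 5) (.leaf 8)) (.node (.leaf 7) (.leaf 0)))) (.node (.node (.node (.leaf 4) (.leaf 8)) (.node (.leaf 7) (.leaf 0))) (.node (.node (.leaf 6) (.leaf 8)) (.node (.leaf 8) (.leaf 0))))) (.node (.node (.node (.node (.leaf 4) (.leaf 8)) (.node (.leaf 7) (.leaf 0))) (.node (.node (.leaf 5) (.leaf 8)) (.node (.leaf 7) (.leaf 0)))) (.node (.node (.node (.leaf 4) (.leaf 8)) (.node (.leaf 7) (.leaf 0))) (.node (.node (.leaf 6) (.leaf 8)) (.node (.leaf 8) (.leaf 0))))))) (.node (.node (.node (.node (.node (.node (.leaf 1) (.leaf 8)) (.node (.leaf 6) (.leaf 0))) (.node (.node (.leaf 5) (.leaf 8)) (.node (.leaf 7) (.leaf 0)))) (.node (.node (.node (.leaf 4) (.leaf 8)) (.node (.leaf 7) (.leaf 0))) (.node (.node (.leaf 5) (.leaf 8)) (.node (.leaf 8) (.leaf 0))))) (.node (.node (.node (.node (.leaf 4) (.leaf 8)) (.node (.leaf 7) (.leaf 0))) (.node (.node (.leaf 5) (.leaf 8)) (.node (.leaf 7) (.leaf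 0)))) (.node (.node (.node (.leaf 4) (.leaf 8)) (.node (.leaf 7) (.leaf 0))) (.node (.node (.leaf 6) (.leaf 8)) (.node (.leaf 8) (.leaf 0)))))) (.node (.node (.node (.node (.node (.leaf 3) (.leaf 8)) (.node (.leaf 6) (.leaf 0))) (.node (.node (.leaf 5) (.leaf 8)) (.node (.leaf 7) (.leaf 0)))) (.node (.node (.node (.leaf 4) (.leaf 8)) (.node (.leaf 7) (.leaf 0))) (.node (.node (.leaf 6) (.leaf 8)) (.node (.leaf 8) (.leaf 0))))) (.node (.node (.node (.node (.leaf 4) (.leaf 8)) (.node (.leaf 7) (.leaf 0))) (.node (.node (.leaf 5) (.leaf 8)) (.node (.leaf 7) (.leaf 0)))) (.node (.node (.node (.leaf 5) (.leaf 8)) (.node (.leaf 7) (.leaf 0))) (.node (.node (.leaf 6) (.leaf 0)) (.node (.leaf 8) (.leaf 0))))))))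

/-- Norm indices, part 12. -/
def normIdxPart12 : Tree :=
  .node (.node (.node (.node (.node (.node (.node (.node (.leaf 1) (.leaf 8)) (.node (.leaf 6) (.leaf 0))) (.node (.node (.leaf 5) (.leaf 8)) (.node (.leaf 7) (.leaf 0)))) (.node (.node (.node (.leaf 4) (.leaf 8)) (.node (.leaf 7) (.leaf 0))) (.node (.node (.leaf 5) (.leaf 8)) (.node (.leaf 7) (.leaf 0))))) (.node (.node (.node (.node (.leaf 3) (.leaf 8)) (.node (.leaf 6) (.leaf 0))) (.node (.node (.leaf 5) (.leaf 8)) (.node (.leaf 7) (.leaf 0)))) (.node (.node (.node (.leaf 4) (.leaf 8)) (.node (.leaf 7) (.leaf 0))) (.node (.node (.leaf 6) (.leaf 8)) (.node (.leaf 8) (.leaf 0)))))) (.node (.node (.node (.node (.node (.leaf 2) (.leaf 8)) (.node (.leaf 6) (.leaf 0))) (.node (.node (.leaf 5) (.leaf 8)) (.node (.leaf 7) (.leaf 0)))) (.node (.node (.node (.leaf 4) (.leaf 8)) (.node (.leaf 7) (.leaf 0))) (.node (.node (.leaf 5) (.leaf 8)) (.node (.leaf 8) (.leaf 0))))) (.node (.node (.node (.node (.leaf 4) (.leaf 8))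 (.node (.leaf 7) (.leaf 0))) (.node (.node (.leaf 5) (.leaf 8)) (.node (.leaf 7) (.leaf 0)))) (.node (.node (.node (.leaf 4) (.leaf 8)) (.node (.leaf 7) (.leaf 0))) (.node (.node (.leaf 6) (.leaf 8)) (.node (.leaf 8) (.leaf 0))))))) (.node (.node (.node (.node (.node (.node (.leaf 1) (.leaf 8)) (.node (.leaf 6) (.leaf 0))) (.node (.node (.leaf 5) (.leaf 8)) (.node (.leaf 7) (.leaf 0)))) (.node (.node (.node (.leaf 4) (.leaf 8)) (.node (.leaf 7) (.leaf 0))) (.node (.node (.leaf 5) (.leaf 8)) (.node (.leaf 8) (.leaf 0))))) (.node (.node (.node (.node (.leaf 3) (.leaf 8)) (.node (.leaf 6) (.leaf 0))) (.node (.node (.leaf 5) (.leaf 8)) (.node (.leaf 7) (.leaf 0)))) (.node (.node (.node (.leaf 4) (.leaf 8)) (.node (.leaf 7) (.leaf 0))) (.node (.node (.leaf 6) (.leaf 8)) (.node (.leaf 8) (.leaf 0)))))) (.node (.node (.node (.node (.node (.leaf 2) (.leaf 8)) (.node (.leaf 6) (.leaf 0))) (.node (.node (.leaf 5) (.leaf 8)) (.node (.leaf 7) (.leaf 0)))) (.node (.node (.node (.leaf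 4) (.leaf 8)) (.node (.leaf 7) (.leaf 0))) (.node (.node (.leaf 6) (.leaf 8)) (.node (.leaf 8) (.leaf 0))))) (.node (.node (.node (.node (.leaf 4) (.leaf 8)) (.node (.leaf 7) (.leaf 0))) (.node (.node (.leaf 5) (.leaf 8)) (.node (.leaf 7) (.leaf 0)))) (.node (.node (.node (.leaf 5) (.leaf 8)) (.node (.leaf 7) (.leaf 0))) (.node (.node (.leaf 6) (.leaf 8)) (.node (.leaf 8) (.leaf 0)))))))) (.node (.node (.node (.node (.node (.node (.node (.leaf 1) (.leaf 8)) (.node (.leaf 6) (.leaf 0))) (.node (.node (.leaf 5) (.leaf 8)) (.node (.leaf 7) (.leaf 0)))) (.node (.node (.node (.leaf 4) (.leaf 8)) (.node (.leaf 7) (.leaf 0))) (.node (.node (.leaf 5) (.leaf 8)) (.node (.leaf 8) (.leaf 0))))) (.node (.node (.node (.node (.leaf 3) (.leaf 8)) (.node (.leaf 6) (.leaf 0))) (.node (.node (.leaf 5) (.leaf 8)) (.node (.leaf 7) (.leaf 0)))) (.node (.node (.node (.leaf 4) (.leaf 8)) (.node (.leaf 7) (.leaf 0))) (.node (.node (.leaf 6) (.leaf 8)) (.node (.leaf 8) (.leaf 0)))))) (.node (.node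 (.node (.node (.node (.leaf 2) (.leaf 8)) (.node (.leaf 6) (.leaf 0))) (.node (.node (.leaf 5) (.leaf 8)) (.node (.leaf 7) (.leaf 0)))) (.node (.node (.node (.leaf 4) (.leaf 8)) (.node (.leaf 7) (.leaf 0))) (.node (.node (.leaf 6) (.leaf 8)) (.node (.leaf 8) (.leaf 0))))) (.node (.node (.node (.node (.leaf 4) (.leaf 8)) (.node (.leaf 7) (.leaf 0))) (.node (.node (.leaf 5) (.leaf 8)) (.node (.leaf 7) (.leaf 0)))) (.node (.node (.node (.leaf 4) (.leaf 8)) (.node (.leaf 7) (.leaf 0))) (.node (.node (.leaf 6) (.leaf 8)) (.node (.leaf 8) (.leaf 0))))))) (.node (.node (.node (.node (.node (.node (.leaf 1) (.leaf 8)) (.node (.leaf 6) (.leaf 0))) (.node (.node (.leaf 5) (.leaf 8)) (.node (.leaf 7) (.leaf 0)))) (.node (.node (.node (.leaf 4) (.leaf 8)) (.node (.leaf 7) (.leaf 0))) (.node (.node (.leaf 5) (.leaf 8)) (.node (.leaf 8) (.leaf 0))))) (.node (.node (.node (.node (.leaf 4) (.leaf 8)) (.node (.leaf 7) (.leaf 0))) (.node (.node (.leaf 5) (.leaf 8)) (.node (.leaf 7) (.leaf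 0)))) (.node (.node (.node (.leaf 4) (.leaf 8)) (.node (.leaf 7) (.leaf 0))) (.node (.node (.leaf 6) (.leaf 8)) (.node (.leaf 8) (.leaf 0)))))) (.node (.node (.node (.node (.node (.leaf 2) (.leaf 8)) (.node (.leaf 6) (.leaf 0))) (.node (.node (.leaf 5) (.leaf 8)) (.node (.leaf 7) (.leaf 0)))) (.node (.node (.node (.leaf 4) (.leaf 8)) (.node (.leaf 7) (.leaf 0))) (.node (.node (.leaf 6) (.leaf 8)) (.node (.leaf 8) (.leaf 0))))) (.node (.node (.node (.node (.leaf 4) (.leaf 8)) (.node (.leaf 7) (.leaf 0))) (.node (.node (.leaf 5) (.leaf 8)) (.node (.leaf 7) (.leaf 0)))) (.node (.node (.node (.leaf 5) (.leaf 8)) (.node (.leaf 7) (.leaf 0))) (.node (.node (.leaf 6) (.leaf 0)) (.node (.leaf 8) (.leaf 0))))))))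

/-- Norm indices, part 28. -/
def normIdxPart28 : Tree :=
  .node (.node (.node (.node (.node (.node (.node (.node (.leaf 1) (.leaf 8)) (.node (.leaf 6) (.leaf 0))) (.node (.node (.leaf 5) (.leaf 8)) (.node (.leaf 7) (.leaf 0)))) (.node (.node (.node (.leaf 4) (.leaf 8)) (.node (.leaf 7) (.leaf 0))) (.node (.node (.leaf 5) (.leaf 8)) (.node (.leaf 8) (.leaf 0))))) (.node (.node (.node (.node (.leaf 3) (.leaf 8)) (.node (.leaf 6) (.leaf 0))) (.node (.node (.leaf 5) (.leaf 8)) (.node (.leaf 7) (.leaf 0)))) (.node (.node (.node (.leaf 4) (.leaf 8)) (.node (.leaf 7) (.leaf 0))) (.node (.node (.leaf 6) (.leaf 8)) (.node (.leaf 8) (.leaf 0)))))) (.node (.node (.node (.node (.node (.leaf 2) (.leaf 8)) (.node (.leaf 6) (.leaf 0))) (.node (.node (.leaf 5) (.leaf 8)) (.node (.leaf 7) (.leaf 0)))) (.node (.node (.node (.leaf 4) (.leaf 8)) (.node (.leaf 7) (.leaf 0))) (.node (.node (.leaf 6) (.leaf 8)) (.node (.leaf 8) (.leaf 0))))) (.node (.node (.node (.node (.leaf 4) (.leaf 8))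 (.node (.leaf 7) (.leaf 0))) (.node (.node (.leaf 5) (.leaf 8)) (.node (.leaf 7) (.leaf 0)))) (.node (.node (.node (.leaf 4) (.leaf 8)) (.node (.leaf 7) (.leaf 0))) (.node (.node (.leaf 6) (.leaf 8)) (.node (.leaf 8) (.leaf 0))))))) (.node (.node (.node (.node (.node (.node (.leaf 1) (.leaf 8)) (.node (.leaf 6) (.leaf 0))) (.node (.node (.leaf 5) (.leaf 8)) (.node (.leaf 7) (.leaf 0)))) (.node (.node (.node (.leaf 4) (.leaf 8)) (.node (.leaf 7) (.leaf 0))) (.node (.node (.leaf 5) (.leaf 8)) (.node (.leaf 8) (.leaf 0))))) (.node (.node (.node (.node (.leaf 3) (.leaf 8)) (.node (.leaf 6) (.leaf 0))) (.node (.node (.leaf 5) (.leaf 8)) (.node (.leaf 7) (.leaf 0)))) (.node (.node (.node (.leaf 4) (.leaf 8)) (.node (.leaf 7) (.leaf 0))) (.node (.node (.leaf 6) (.leaf 8)) (.node (.leaf 8) (.leaf 0)))))) (.node (.node (.node (.node (.node (.leaf 2) (.leaf 8)) (.node (.leaf 6) (.leaf 0))) (.node (.node (.leaf 5) (.leaf 8)) (.node (.leaf 7) (.leaf 0)))) (.node (.node (.node (.leaf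 4) (.leaf 8)) (.node (.leaf 7) (.leaf 0))) (.node (.node (.leaf 6) (.leaf 8)) (.node (.leaf 8) (.leaf 0))))) (.node (.node (.node (.node (.leaf 4) (.leaf 8)) (.node (.leaf 7) (.leaf 0))) (.node (.node (.leaf 5) (.leaf 8)) (.node (.leaf 7) (.leaf 0)))) (.node (.node (.node (.leaf 5) (.leaf 8)) (.node (.leaf 7) (.leaf 0))) (.node (.node (.leaf 6) (.leaf 8)) (.node (.leaf 8) (.leaf 0)))))))) (.node (.node (.node (.node (.node (.node (.node (.leaf 1) (.leaf 8)) (.node (.leaf 6) (.leaf 0))) (.node (.node (.leaf 5) (.leaf 8)) (.node (.leaf 7) (.leaf 0)))) (.node (.node (.node (.leaf 4) (.leaf 8)) (.node (.leaf 7) (.leaf 0))) (.node (.node (.leaf 5) (.leaf 8)) (.node (.leaf 8) (.leaf 0))))) (.node (.node (.node (.node (.leaf 3) (.leaf 8)) (.node (.leaf 6) (.leaf 0))) (.node (.node (.leaf 5) (.leaf 8)) (.node (.leaf 7) (.leaf 0)))) (.node (.node (.node (.leaf 4) (.leaf 8)) (.node (.leaf 7) (.leaf 0))) (.node (.node (.leaf 6) (.leaf 8)) (.node (.leaf 8) (.leaf 0)))))) (.node (.node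 (.node (.node (.node (.leaf 2) (.leaf 8)) (.node (.leaf 6) (.leaf 0))) (.node (.node (.leaf 5) (.leaf 8)) (.node (.leaf 7) (.leaf 0)))) (.node (.node (.node (.leaf 4) (.leaf 8)) (.node (.leaf 7) (.leaf 0))) (.node (.node (.leaf 6) (.leaf 8)) (.node (.leaf 8) (.leaf 0))))) (.node (.node (.node (.node (.leaf 4) (.leaf 8)) (.node (.leaf 7) (.leaf 0))) (.node (.node (.leaf 5) (.leaf 8)) (.node (.leaf 7) (.leaf 0)))) (.node (.node (.node (.leaf 4) (.leaf 8)) (.node (.leaf 7) (.leaf 0))) (.node (.node (.leaf 6) (.leaf 8)) (.node (.leaf 8) (.leaf 0))))))) (.node (.node (.node (.node (.node (.node (.leaf 2) (.leaf 8)) (.node (.leaf 6) (.leaf 0))) (.node (.node (.leaf 5) (.leaf 8)) (.node (.leaf 7) (.leaf 0)))) (.node (.node (.node (.leaf 4) (.leaf 8)) (.node (.leaf 7) (.leaf 0))) (.node (.node (.leaf 5) (.leaf 8)) (.node (.leaf 8) (.leaf 0))))) (.node (.node (.node (.node (.leaf 4) (.leaf 8)) (.node (.leaf 7) (.leaf 0))) (.node (.node (.leaf 5) (.leaf 8)) (.node (.leaf 7) (.leaf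 0)))) (.node (.node (.node (.leaf 4) (.leaf 8)) (.node (.leaf 7) (.leaf 0))) (.node (.node (.leaf 6) (.leaf 8)) (.node (.leaf 8) (.leaf 0)))))) (.node (.node (.node (.node (.node (.leaf 3) (.leaf 8)) (.node (.leaf 6) (.leaf 0))) (.node (.node (.leaf 5) (.leaf 8)) (.node (.leaf 7) (.leaf 0)))) (.node (.node (.node (.leaf 4) (.leaf 8)) (.node (.leaf 7) (.leaf 0))) (.node (.node (.leaf 6) (.leaf 8)) (.node (.leaf 8) (.leaf 0))))) (.node (.node (.node (.node (.leaf 4) (.leaf 8)) (.node (.leaf 7) (.leaf 0))) (.node (.node (.leaf 5) (.leaf 8)) (.node (.leaf 7) (.leaf 0)))) (.node (.node (.node (.leaf 5) (.leaf 8)) (.node (.leaf 7) (.leaf 0))) (.node (.node (.leaf 6) (.leaf 0)) (.node (.leaf 8) (.leaf 0))))))))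

/-- Norm indices, part 2. -/
def normIdxPart2 : Tree :=
  .node (.node (.node (.node (.node (.node (.node (.node (.leaf 1) (.leaf 8)) (.node (.leaf 6) (.leaf 0))) (.node (.node (.leaf 5) (.leaf 8)) (.node (.leaf 7) (.leaf 0)))) (.node (.node (.node (.leaf 4) (.leaf 8)) (.node (.leaf 7) (.leaf 0))) (.node (.node (.leaf 5) (.leaf 8)) (.node (.leaf 7) (.leaf 0))))) (.node (.node (.node (.node (.leaf 3) (.leaf 8)) (.node (.leaf 6) (.leaf 0))) (.node (.node (.leaf 5) (.leaf 8)) (.node (.leaf 7) (.leaf 0)))) (.node (.node (.node (.leaf 4) (.leaf 8)) (.node (.leaf 7) (.leaf 0))) (.node (.node (.leaf 6) (.leaf 8)) (.node (.leaf 8) (.leaf 0)))))) (.node (.node (.node (.node (.node (.leaf 2) (.leaf 8)) (.node (.leaf 6) (.leaf 0))) (.node (.node (.leaf 5) (.leaf 8)) (.node (.leaf 7) (.leaf 0)))) (.node (.node (.node (.leaf 4) (.leaf 8)) (.node (.leaf 7) (.leaf 0))) (.node (.node (.leaf 5) (.leaf 8)) (.node (.leaf 8) (.leaf 0))))) (.node (.node (.node (.node (.leaf 4) (.leaf 8)) (.node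 (.leaf 7) (.leaf 0))) (.node (.node (.leaf 5) (.leaf 8)) (.node (.leaf 7) (.leaf 0)))) (.node (.node (.node (.leaf 4) (.leaf 8)) (.node (.leaf 7) (.leaf 0))) (.node (.node (.leaf 6) (.leaf 8)) (.node (.leaf 8) (.leaf 0))))))) (.node (.node (.node (.node (.node (.node (.leaf 1) (.leaf 8)) (.node (.leaf 6) (.leaf 0))) (.node (.node (.leaf 5) (.leaf 8)) (.node (.leaf 7) (.leaf 0)))) (.node (.node (.node (.leaf 4) (.leaf 8)) (.node (.leaf 7) (.leaf 0))) (.node (.node (.leaf 5) (.leaf 8)) (.node (.leaf 8) (.leaf 0))))) (.node (.node (.node (.node (.leaf 3) (.leaf 8)) (.node (.leaf 6) (.leaf 0))) (.node (.node (.leaf 5) (.leaf 8)) (.node (.leaf 7) (.leaf 0)))) (.node (.node (.node (.leaf 4) (.leaf 8)) (.node (.leaf 7) (.leaf 0))) (.node (.node (.leaf 6) (.leaf 8)) (.node (.leaf 8) (.leaf 0)))))) (.node (.node (.node (.node (.node (.leaf 2) (.leaf 8)) (.node (.leaf 6) (.leaf 0))) (.node (.node (.leaf 5) (.leaf 8)) (.node (.leaf 7) (.leaf 0)))) (.node (.node (.node (.leaf 4) (.leaf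 8)) (.node (.leaf 7) (.leaf 0))) (.node (.node (.leaf 6) (.leaf 8)) (.node (.leaf 8) (.leaf 0))))) (.node (.node (.node (.node (.leaf 4) (.leaf 8)) (.node (.leaf 7) (.leaf 0))) (.node (.node (.leaf 5) (.leaf 8)) (.node (.leaf 7) (.leaf 0)))) (.node (.node (.node (.leaf 5) (.leaf 8)) (.node (.leaf 7) (.leaf 0))) (.node (.node (.leaf 6) (.leaf 8)) (.node (.leaf 8) (.leaf 0)))))))) (.node (.node (.node (.node (.node (.node (.node (.leaf 1) (.leaf 8)) (.node (.leaf 6) (.leaf 0))) (.node (.node (.leaf 5) (.leaf 8)) (.node (.leaf 7) (.leaf 0)))) (.node (.node (.node (.leaf 4) (.leaf 8)) (.node (.leaf 7) (.leaf 0))) (.node (.node (.leaf 5) (.leaf 8)) (.node (.leaf 8) (.leaf 0))))) (.node (.node (.node (.node (.leaf 3) (.leaf 8)) (.node (.leaf 6) (.leaf 0))) (.node (.node (.leaf 5) (.leaf 8)) (.node (.leaf 7) (.leaf 0)))) (.node (.node (.node (.leaf 4) (.leaf 8)) (.node (.leaf 7) (.leaf 0))) (.node (.node (.leaf 6) (.leaf 8)) (.node (.leaf 8) (.leaf 0)))))) (.node (.node (.node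 (.node (.node (.leaf 2) (.leaf 8)) (.node (.leaf 6) (.leaf 0))) (.node (.node (.leaf 5) (.leaf 8)) (.node (.leaf 7) (.leaf 0)))) (.node (.node (.node (.leaf 4) (.leaf 8)) (.node (.leaf 7) (.leaf 0))) (.node (.node (.leaf 6) (.leaf 8)) (.node (.leaf 8) (.leaf 0))))) (.node (.node (.node (.node (.leaf 4) (.leaf 8)) (.node (.leaf 7) (.leaf 0))) (.node (.node (.leaf 5) (.leaf 8)) (.node (.leaf 7) (.leaf 0)))) (.node (.node (.node (.leaf 4) (.leaf 8)) (.node (.leaf 7) (.leaf 0))) (.node (.node (.leaf 6) (.leaf 8)) (.node (.leaf 8) (.leaf 0))))))) (.node (.node (.node (.node (.node (.node (.leaf 1) (.leaf 8)) (.node (.leaf 6) (.leaf 0))) (.node (.node (.leaf 5) (.leaf 8)) (.node (.leaf 7) (.leaf 0)))) (.node (.node (.node (.leaf 4) (.leaf 8)) (.node (.leaf 7) (.leaf 0))) (.node (.node (.leaf 5) (.leaf 8)) (.node (.leaf 8) (.leaf 0))))) (.node (.node (.node (.node (.leaf 3) (.leaf 8)) (.node (.leaf 7) (.leaf 0))) (.node (.node (.leaf 5) (.leaf 8)) (.node (.leaf 7) (.leaf 0))))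 (.node (.node (.node (.leaf 4) (.leaf 8)) (.node (.leaf 7) (.leaf 0))) (.node (.node (.leaf 6) (.leaf 8)) (.node (.leaf 8) (.leaf 0)))))) (.node (.node (.node (.node (.node (.leaf 2) (.leaf 8)) (.node (.leaf 6) (.leaf 0))) (.node (.node (.leaf 5) (.leaf 8)) (.node (.leaf 7) (.leaf 0)))) (.node (.node (.node (.leaf 4) (.leaf 8)) (.node (.leaf 7) (.leaf 0))) (.node (.node (.leaf 6) (.leaf 8)) (.node (.leaf 8) (.leaf 0))))) (.node (.node (.node (.node (.leaf 4) (.leaf 8)) (.node (.leaf 7) (.leaf 0))) (.node (.node (.leaf 5) (.leaf 8)) (.node (.leaf 7) (.leaf 0)))) (.node (.node (.node (.leaf 5) (.leaf 8)) (.node (.leaf 7) (.leaf 0))) (.node (.node (.leaf 6) (.leaf 8)) (.node (.leaf 8) (.leaf 0))))))))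

/-- Norm indices, part 18. -/
def normIdxPart18 : Tree :=
  .node (.node (.node (.node (.node (.node (.node (.node (.leaf 1) (.leaf 8)) (.node (.leaf 6) (.leaf 0))) (.node (.node (.leaf 5) (.leaf 8)) (.node (.leaf 7) (.leaf 0)))) (.node (.node (.node (.leaf 4) (.leaf 8)) (.node (.leaf 7) (.leaf 0))) (.node (.node (.leaf 5) (.leaf 8)) (.node (.leaf 8) (.leaf 0))))) (.node (.node (.node (.node (.leaf 3) (.leaf 8)) (.node (.leaf 6) (.leaf 0))) (.node (.node (.leaf 5) (.leaf 8)) (.node (.leaf 7) (.leaf 0)))) (.node (.node (.node (.leaf 4) (.leaf 8)) (.node (.leaf 7) (.leaf 0))) (.node (.node (.leaf 6) (.leaf 8)) (.node (.leaf 8) (.leaf 0)))))) (.node (.node (.node (.node (.node (.leaf 2) (.leaf 8)) (.node (.leaf 6) (.leaf 0))) (.node (.node (.leaf 5) (.leaf 8)) (.node (.leaf 7) (.leaf 0)))) (.node (.node (.node (.leaf 4) (.leaf 8)) (.node (.leaf 7) (.leaf 0))) (.node (.node (.leaf 6) (.leaf 8)) (.node (.leaf 8) (.leaf 0))))) (.node (.node (.node (.node (.leaf 4) (.leaf 8))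 (.node (.leaf 7) (.leaf 0))) (.node (.node (.leaf 5) (.leaf 8)) (.node (.leaf 7) (.leaf 0)))) (.node (.node (.node (.leaf 4) (.leaf 8)) (.node (.leaf 7) (.leaf 0))) (.node (.node (.leaf 6) (.leaf 8)) (.node (.leaf 8) (.leaf 0))))))) (.node (.node (.node (.node (.node (.node (.leaf 1) (.leaf 8)) (.node (.leaf 6) (.leaf 0))) (.node (.node (.leaf 5) (.leaf 8)) (.node (.leaf 7) (.leaf 0)))) (.node (.node (.node (.leaf 4) (.leaf 8)) (.node (.leaf 7) (.leaf 0))) (.node (.node (.leaf 5) (.leaf 8)) (.node (.leaf 8) (.leaf 0))))) (.node (.node (.node (.node (.leaf 3) (.leaf 8)) (.node (.leaf 6) (.leaf 0))) (.node (.node (.leaf 5) (.leaf 8)) (.node (.leaf 7) (.leaf 0)))) (.node (.node (.node (.leaf 4) (.leaf 8)) (.node (.leaf 7) (.leaf 0))) (.node (.node (.leaf 6) (.leaf 8)) (.node (.leaf 8) (.leaf 0)))))) (.node (.node (.node (.node (.node (.leaf 2) (.leaf 8)) (.node (.leaf 6) (.leaf 0))) (.node (.node (.leaf 5) (.leaf 8)) (.node (.leaf 7) (.leaf 0)))) (.node (.node (.node (.leaf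 4) (.leaf 8)) (.node (.leaf 7) (.leaf 0))) (.node (.node (.leaf 6) (.leaf 8)) (.node (.leaf 8) (.leaf 0))))) (.node (.node (.node (.node (.leaf 4) (.leaf 8)) (.node (.leaf 7) (.leaf 0))) (.node (.node (.leaf 5) (.leaf 8)) (.node (.leaf 7) (.leaf 0)))) (.node (.node (.node (.leaf 5) (.leaf 8)) (.node (.leaf 7) (.leaf 0))) (.node (.node (.leaf 6) (.leaf 8)) (.node (.leaf 8) (.leaf 0)))))))) (.node (.node (.node (.node (.node (.node (.node (.leaf 1) (.leaf 8)) (.node (.leaf 6) (.leaf 0))) (.node (.node (.leaf 5) (.leaf 8)) (.node (.leaf 7) (.leaf 0)))) (.node (.node (.node (.leaf 4) (.leaf 8)) (.node (.leaf 7) (.leaf 0))) (.node (.node (.leaf 5) (.leaf 8)) (.node (.leaf 8) (.leaf 0))))) (.node (.node (.node (.node (.leaf 3) (.leaf 8)) (.node (.leaf 6) (.leaf 0))) (.node (.node (.leaf 5) (.leaf 8)) (.node (.leaf 7) (.leaf 0)))) (.node (.node (.node (.leaf 4) (.leaf 8)) (.node (.leaf 7) (.leaf 0))) (.node (.node (.leaf 6) (.leaf 8)) (.node (.leaf 8) (.leaf 0)))))) (.node (.node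 (.node (.node (.node (.leaf 2) (.leaf 8)) (.node (.leaf 6) (.leaf 0))) (.node (.node (.leaf 5) (.leaf 8)) (.node (.leaf 7) (.leaf 0)))) (.node (.node (.node (.leaf 4) (.leaf 8)) (.node (.leaf 7) (.leaf 0))) (.node (.node (.leaf 6) (.leaf 8)) (.node (.leaf 8) (.leaf 0))))) (.node (.node (.node (.node (.leaf 4) (.leaf 8)) (.node (.leaf 7) (.leaf 0))) (.node (.node (.leaf 5) (.leaf 8)) (.node (.leaf 7) (.leaf 0)))) (.node (.node (.node (.leaf 4) (.leaf 8)) (.node (.leaf 7) (.leaf 0))) (.node (.node (.leaf 6) (.leaf 8)) (.node (.leaf 8) (.leaf 0))))))) (.node (.node (.node (.node (.node (.node (.leaf 1) (.leaf 8)) (.node (.leaf 6) (.leaf 0))) (.node (.node (.leaf 5) (.leaf 8)) (.node (.leaf 7) (.leaf 0)))) (.node (.node (.node (.leaf 4) (.leaf 8)) (.node (.leaf 7) (.leaf 0))) (.node (.node (.leaf 5) (.leaf 8)) (.node (.leaf 8) (.leaf 0))))) (.node (.node (.node (.node (.leaf 4) (.leaf 8)) (.node (.leaf 7) (.leaf 0))) (.node (.node (.leaf 5) (.leaf 8)) (.node (.leaf 7) (.leaf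 0)))) (.node (.node (.node (.leaf 4) (.leaf 8)) (.node (.leaf 7) (.leaf 0))) (.node (.node (.leaf 6) (.leaf 8)) (.node (.leaf 8) (.leaf 0)))))) (.node (.node (.node (.node (.node (.leaf 3) (.leaf 8)) (.node (.leaf 6) (.leaf 0))) (.node (.node (.leaf 5) (.leaf 8)) (.node (.leaf 7) (.leaf 0)))) (.node (.node (.node (.leaf 4) (.leaf 8)) (.node (.leaf 7) (.leaf 0))) (.node (.node (.leaf 6) (.leaf 8)) (.node (.leaf 8) (.leaf 0))))) (.node (.node (.node (.node (.leaf 4) (.leaf 8)) (.node (.leaf 7) (.leaf 0))) (.node (.node (.leaf 5) (.leaf 8)) (.node (.leaf 7) (.leaf 0)))) (.node (.node (.node (.leaf 5) (.leaf 8)) (.node (.leaf 7) (.leaf 0))) (.node (.node (.leaf 6) (.leaf 0)) (.node (.leaf 8) (.leaf 0))))))))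

/-- Norm indices, part 10. -/
def normIdxPart10 : Tree :=
  .node (.node (.node (.node (.node (.node (.node (.node (.leaf 1) (.leaf 8)) (.node (.leaf 6) (.leaf 0))) (.node (.node (.leaf 5) (.leaf 8)) (.node (.leaf 7) (.leaf 0)))) (.node (.node (.node (.leaf 4) (.leaf 8)) (.node (.leaf 7) (.leaf 0))) (.node (.node (.leaf 5) (.leaf 8)) (.node (.leaf 7) (.leaf 0))))) (.node (.node (.node (.node (.leaf 3) (.leaf 8)) (.node (.leaf 6) (.leaf 0))) (.node (.node (.leaf 5) (.leaf 8)) (.node (.leaf 7) (.leaf 0)))) (.node (.node (.node (.leaf 4) (.leaf 8)) (.node (.leaf 7) (.leaf 0))) (.node (.node (.leaf 6) (.leaf 8)) (.node (.leaf 8) (.leaf 0)))))) (.node (.node (.node (.node (.node (.leaf 2) (.leaf 8)) (.node (.leaf 6) (.leaf 0))) (.node (.node (.leaf 5) (.leaf 8)) (.node (.leaf 7) (.leaf 0)))) (.node (.node (.node (.leaf 4) (.leaf 8)) (.node (.leaf 7) (.leaf 0))) (.node (.node (.leaf 5) (.leaf 8)) (.node (.leaf 8) (.leaf 0))))) (.node (.node (.node (.node (.leaf 4) (.leaf 8))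 (.node (.leaf 7) (.leaf 0))) (.node (.node (.leaf 5) (.leaf 8)) (.node (.leaf 7) (.leaf 0)))) (.node (.node (.node (.leaf 4) (.leaf 8)) (.node (.leaf 7) (.leaf 0))) (.node (.node (.leaf 6) (.leaf 8)) (.node (.leaf 8) (.leaf 0))))))) (.node (.node (.node (.node (.node (.node (.leaf 1) (.leaf 8)) (.node (.leaf 6) (.leaf 0))) (.node (.node (.leaf 5) (.leaf 8)) (.node (.leaf 7) (.leaf 0)))) (.node (.node (.node (.leaf 4) (.leaf 8)) (.node (.leaf 7) (.leaf 0))) (.node (.node (.leaf 5) (.leaf 8)) (.node (.leaf 8) (.leaf 0))))) (.node (.node (.node (.node (.leaf 3) (.leaf 8)) (.node (.leaf 6) (.leaf 0))) (.node (.node (.leaf 5) (.leaf 8)) (.node (.leaf 7) (.leaf 0)))) (.node (.node (.node (.leaf 4) (.leaf 8)) (.node (.leaf 7) (.leaf 0))) (.node (.node (.leaf 6) (.leaf 8)) (.node (.leaf 8) (.leaf 0)))))) (.node (.node (.node (.node (.node (.leaf 2) (.leaf 8)) (.node (.leaf 6) (.leaf 0))) (.node (.node (.leaf 5) (.leaf 8)) (.node (.leaf 7) (.leaf 0)))) (.node (.node (.node (.leaf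 4) (.leaf 8)) (.node (.leaf 7) (.leaf 0))) (.node (.node (.leaf 6) (.leaf 8)) (.node (.leaf 8) (.leaf 0))))) (.node (.node (.node (.node (.leaf 4) (.leaf 8)) (.node (.leaf 7) (.leaf 0))) (.node (.node (.leaf 5) (.leaf 8)) (.node (.leaf 7) (.leaf 0)))) (.node (.node (.node (.leaf 5) (.leaf 8)) (.node (.leaf 7) (.leaf 0))) (.node (.node (.leaf 6) (.leaf 8)) (.node (.leaf 8) (.leaf 0)))))))) (.node (.node (.node (.node (.node (.node (.node (.leaf 1) (.leaf 8)) (.node (.leaf 6) (.leaf 0))) (.node (.node (.leaf 5) (.leaf 8)) (.node (.leaf 7) (.leaf 0)))) (.node (.node (.node (.leaf 4) (.leaf 8)) (.node (.leaf 7) (.leaf 0))) (.node (.node (.leaf 5) (.leaf 8)) (.node (.leaf 8) (.leaf 0))))) (.node (.node (.node (.node (.leaf 3) (.leaf 8)) (.node (.leaf 6) (.leaf 0))) (.node (.node (.leaf 5) (.leaf 8)) (.node (.leaf 7) (.leaf 0)))) (.node (.node (.node (.leaf 4) (.leaf 8)) (.node (.leaf 7) (.leaf 0))) (.node (.node (.leaf 6) (.leaf 8)) (.node (.leaf 8) (.leaf 0)))))) (.node (.node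 (.node (.node (.node (.leaf 2) (.leaf 8)) (.node (.leaf 6) (.leaf 0))) (.node (.node (.leaf 5) (.leaf 8)) (.node (.leaf 7) (.leaf 0)))) (.node (.node (.node (.leaf 4) (.leaf 8)) (.node (.leaf 7) (.leaf 0))) (.node (.node (.leaf 6) (.leaf 8)) (.node (.leaf 8) (.leaf 0))))) (.node (.node (.node (.node (.leaf 4) (.leaf 8)) (.node (.leaf 7) (.leaf 0))) (.node (.node (.leaf 5) (.leaf 8)) (.node (.leaf 7) (.leaf 0)))) (.node (.node (.node (.leaf 4) (.leaf 8)) (.node (.leaf 7) (.leaf 0))) (.node (.node (.leaf 6) (.leaf 8)) (.node (.leaf 8) (.leaf 0))))))) (.node (.node (.node (.node (.node (.node (.leaf 1) (.leaf 8)) (.node (.leaf 6) (.leaf 0))) (.node (.node (.leaf 5) (.leaf 8)) (.node (.leaf 7) (.leaf 0)))) (.node (.node (.node (.leaf 4) (.leaf 8)) (.node (.leaf 7) (.leaf 0))) (.node (.node (.leaf 5) (.leaf 8)) (.node (.leaf 8) (.leaf 0))))) (.node (.node (.node (.node (.leaf 4) (.leaf 8)) (.node (.leaf 7) (.leaf 0))) (.node (.node (.leaf 5) (.leaf 8)) (.node (.leaf 7) (.leaf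 0)))) (.node (.node (.node (.leaf 4) (.leaf 8)) (.node (.leaf 7) (.leaf 0))) (.node (.node (.leaf 6) (.leaf 8)) (.node (.leaf 8) (.leaf 0)))))) (.node (.node (.node (.node (.node (.leaf 2) (.leaf 8)) (.node (.leaf 6) (.leaf 0))) (.node (.node (.leaf 5) (.leaf 8)) (.node (.leaf 7) (.leaf 0)))) (.node (.node (.node (.leaf 4) (.leaf 8)) (.node (.leaf 7) (.leaf 0))) (.node (.node (.leaf 6) (.leaf 8)) (.node (.leaf 8) (.leaf 0))))) (.node (.node (.node (.node (.leaf 4) (.leaf 8)) (.node (.leaf 7) (.leaf 0))) (.node (.node (.leaf 5) (.leaf 8)) (.node (.leaf 7) (.leaf 0)))) (.node (.node (.node (.leaf 5) (.leaf 8)) (.node (.leaf 7) (.leaf 0))) (.node (.node (.leaf 6) (.leaf 0)) (.node (.leaf 8) (.leaf 0))))))))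

/-- Norm indices, part 26. -/
def normIdxPart26 : Tree :=
  .node (.node (.node (.node (.node (.node (.node (.node (.leaf 1) (.leaf 8)) (.node (.leaf 6) (.leaf 0))) (.node (.node (.leaf 5) (.leaf 8)) (.node (.leaf 7) (.leaf 0)))) (.node (.node (.node (.leaf 4) (.leaf 8)) (.node (.leaf 7) (.leaf 0))) (.node (.node (.leaf 5) (.leaf 8)) (.node (.leaf 8) (.leaf 0))))) (.node (.node (.node (.node (.leaf 3) (.leaf 8)) (.node (.leaf 6) (.leaf 0))) (.node (.node (.leaf 5) (.leaf 8)) (.node (.leaf 7) (.leaf 0)))) (.node (.node (.node (.leaf 4) (.leaf 8)) (.node (.leaf 7) (.leaf 0))) (.node (.node (.leaf 6) (.leaf 8)) (.node (.leaf 8) (.leaf 0)))))) (.node (.node (.node (.node (.node (.leaf 2) (.leaf 8)) (.node (.leaf 6) (.leaf 0))) (.node (.node (.leaf 5) (.leaf 8)) (.node (.leaf 7) (.leaf 0)))) (.node (.node (.node (.leaf 4) (.leaf 8)) (.node (.leaf 7) (.leaf 0))) (.node (.node (.leaf 6) (.leaf 8)) (.node (.leaf 8) (.leaf 0))))) (.node (.node (.node (.node (.leaf 4) (.leaf 8))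 (.node (.leaf 7) (.leaf 0))) (.node (.node (.leaf 5) (.leaf 8)) (.node (.leaf 7) (.leaf 0)))) (.node (.node (.node (.leaf 4) (.leaf 8)) (.node (.leaf 7) (.leaf 0))) (.node (.node (.leaf 6) (.leaf 8)) (.node (.leaf 8) (.leaf 0))))))) (.node (.node (.node (.node (.node (.node (.leaf 1) (.leaf 8)) (.node (.leaf 6) (.leaf 0))) (.node (.node (.leaf 5) (.leaf 8)) (.node (.leaf 7) (.leaf 0)))) (.node (.node (.node (.leaf 4) (.leaf 8)) (.node (.leaf 7) (.leaf 0))) (.node (.node (.leaf 5) (.leaf 8)) (.node (.leaf 8) (.leaf 0))))) (.node (.node (.node (.node (.leaf 3) (.leaf 8)) (.node (.leaf 6) (.leaf 0))) (.node (.node (.leaf 5) (.leaf 8)) (.node (.leaf 7) (.leaf 0)))) (.node (.node (.node (.leaf 4) (.leaf 8)) (.node (.leaf 7) (.leaf 0))) (.node (.node (.leaf 6) (.leaf 8)) (.node (.leaf 8) (.leaf 0)))))) (.node (.node (.node (.node (.node (.leaf 2) (.leaf 8)) (.node (.leaf 6) (.leaf 0))) (.node (.node (.leaf 5) (.leaf 8)) (.node (.leaf 7) (.leaf 0)))) (.node (.node (.node (.leaf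 4) (.leaf 8)) (.node (.leaf 7) (.leaf 0))) (.node (.node (.leaf 6) (.leaf 8)) (.node (.leaf 8) (.leaf 0))))) (.node (.node (.node (.node (.leaf 4) (.leaf 8)) (.node (.leaf 7) (.leaf 0))) (.node (.node (.leaf 5) (.leaf 8)) (.node (.leaf 7) (.leaf 0)))) (.node (.node (.node (.leaf 5) (.leaf 8)) (.node (.leaf 7) (.leaf 0))) (.node (.node (.leaf 6) (.leaf 8)) (.node (.leaf 8) (.leaf 0)))))))) (.node (.node (.node (.node (.node (.node (.node (.leaf 1) (.leaf 8)) (.node (.leaf 6) (.leaf 0))) (.node (.node (.leaf 5) (.leaf 8)) (.node (.leaf 7) (.leaf 0)))) (.node (.node (.node (.leaf 4) (.leaf 8)) (.node (.leaf 7) (.leaf 0))) (.node (.node (.leaf 5) (.leaf 8)) (.node (.leaf 8) (.leaf 0))))) (.node (.node (.node (.node (.leaf 3) (.leaf 8)) (.node (.leaf 6) (.leaf 0))) (.node (.node (.leaf 5) (.leaf 8)) (.node (.leaf 7) (.leaf 0)))) (.node (.node (.node (.leaf 4) (.leaf 8)) (.node (.leaf 7) (.leaf 0))) (.node (.node (.leaf 6) (.leaf 8)) (.node (.leaf 8) (.leaf 0)))))) (.node (.node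 (.node (.node (.node (.leaf 2) (.leaf 8)) (.node (.leaf 6) (.leaf 0))) (.node (.node (.leaf 5) (.leaf 8)) (.node (.leaf 7) (.leaf 0)))) (.node (.node (.node (.leaf 4) (.leaf 8)) (.node (.leaf 7) (.leaf 0))) (.node (.node (.leaf 6) (.leaf 8)) (.node (.leaf 8) (.leaf 0))))) (.node (.node (.node (.node (.leaf 4) (.leaf 8)) (.node (.leaf 7) (.leaf 0))) (.node (.node (.leaf 5) (.leaf 8)) (.node (.leaf 7) (.leaf 0)))) (.node (.node (.node (.leaf 4) (.leaf 8)) (.node (.leaf 7) (.leaf 0))) (.node (.node (.leaf 6) (.leaf 8)) (.node (.leaf 8) (.leaf 0))))))) (.node (.node (.node (.node (.node (.node (.leaf 2) (.leaf 8)) (.node (.leaf 6) (.leaf 0))) (.node (.node (.leaf 5) (.leaf 8)) (.node (.leaf 7) (.leaf 0)))) (.node (.node (.node (.leaf 4) (.leaf 8)) (.node (.leaf 7) (.leaf 0))) (.node (.node (.leaf 5) (.leaf 8)) (.node (.leaf 8) (.leaf 0))))) (.node (.node (.node (.node (.leaf 4) (.leaf 8)) (.node (.leaf 7) (.leaf 0))) (.node (.node (.leaf 5) (.leaf 8)) (.node (.leaf 7) (.leaf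 0)))) (.node (.node (.node (.leaf 4) (.leaf 8)) (.node (.leaf 7) (.leaf 0))) (.node (.node (.leaf 6) (.leaf 8)) (.node (.leaf 8) (.leaf 0)))))) (.node (.node (.node (.node (.node (.leaf 3) (.leaf 8)) (.node (.leaf 6) (.leaf 0))) (.node (.node (.leaf 5) (.leaf 8)) (.node (.leaf 7) (.leaf 0)))) (.node (.node (.node (.leaf 4) (.leaf 8)) (.node (.leaf 7) (.leaf 0))) (.node (.node (.leaf 6) (.leaf 8)) (.node (.leaf 8) (.leaf 0))))) (.node (.node (.node (.node (.leaf 4) (.leaf 8)) (.node (.leaf 7) (.leaf 0))) (.node (.node (.leaf 5) (.leaf 8)) (.node (.leaf 7) (.leaf 0)))) (.node (.node (.node (.leaf 5) (.leaf 8)) (.node (.leaf 7) (.leaf 0))) (.node (.node (.leaf 6) (.leaf 0)) (.node (.leaf 8) (.leaf 0))))))))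

/-- Norm indices, part 6. -/
def normIdxPart6 : Tree :=
  .node (.node (.node (.node (.node (.node (.node (.node (.leaf 1) (.leaf 8)) (.node (.leaf 6) (.leaf 0))) (.node (.node (.leaf 5) (.leaf 8)) (.node (.leaf 7) (.leaf 0)))) (.node (.node (.node (.leaf 4) (.leaf 8)) (.node (.leaf 7) (.leaf 0))) (.node (.node (.leaf 5) (.leaf 8)) (.node (.leaf 7) (.leaf 0))))) (.node (.node (.node (.node (.leaf 3) (.leaf 8)) (.node (.leaf 6) (.leaf 0))) (.node (.node (.leaf 5) (.leaf 8)) (.node (.leaf 7) (.leaf 0)))) (.node (.node (.node (.leaf 4) (.leaf 8)) (.node (.leaf 7) (.leaf 0))) (.node (.node (.leaf 6) (.leaf 8)) (.node (.leaf 8) (.leaf 0)))))) (.node (.node (.node (.node (.node (.leaf 2) (.leaf 8)) (.node (.leaf 6) (.leaf 0))) (.node (.node (.leaf 5) (.leaf 8)) (.node (.leaf 7) (.leaf 0)))) (.node (.node (.node (.leaf 4) (.leaf 8)) (.node (.leaf 7) (.leaf 0))) (.node (.node (.leaf 5) (.leaf 8)) (.node (.leaf 8) (.leaf 0))))) (.node (.node (.node (.node (.leaf 4) (.leaf 8)) (.node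 (.leaf 7) (.leaf 0))) (.node (.node (.leaf 5) (.leaf 8)) (.node (.leaf 7) (.leaf 0)))) (.node (.node (.node (.leaf 4) (.leaf 8)) (.node (.leaf 7) (.leaf 0))) (.node (.node (.leaf 6) (.leaf 8)) (.node (.leaf 8) (.leaf 0))))))) (.node (.node (.node (.node (.node (.node (.leaf 1) (.leaf 8)) (.node (.leaf 6) (.leaf 0))) (.node (.node (.leaf 5) (.leaf 8)) (.node (.leaf 7) (.leaf 0)))) (.node (.node (.node (.leaf 4) (.leaf 8)) (.node (.leaf 7) (.leaf 0))) (.node (.node (.leaf 5) (.leaf 8)) (.node (.leaf 8) (.leaf 0))))) (.node (.node (.node (.node (.leaf 3) (.leaf 8)) (.node (.leaf 6) (.leaf 0))) (.node (.node (.leaf 5) (.leaf 8)) (.node (.leaf 7) (.leaf 0)))) (.node (.node (.node (.leaf 4) (.leaf 8)) (.node (.leaf 7) (.leaf 0))) (.node (.node (.leaf 6) (.leaf 8)) (.node (.leaf 8) (.leaf 0)))))) (.node (.node (.node (.node (.node (.leaf 2) (.leaf 8)) (.node (.leaf 6) (.leaf 0))) (.node (.node (.leaf 5) (.leaf 8)) (.node (.leaf 7) (.leaf 0)))) (.node (.node (.node (.leaf 4) (.leaf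 8)) (.node (.leaf 7) (.leaf 0))) (.node (.node (.leaf 6) (.leaf 8)) (.node (.leaf 8) (.leaf 0))))) (.node (.node (.node (.node (.leaf 4) (.leaf 8)) (.node (.leaf 7) (.leaf 0))) (.node (.node (.leaf 5) (.leaf 8)) (.node (.leaf 7) (.leaf 0)))) (.node (.node (.node (.leaf 5) (.leaf 8)) (.node (.leaf 7) (.leaf 0))) (.node (.node (.leaf 6) (.leaf 8)) (.node (.leaf 8) (.leaf 0)))))))) (.node (.node (.node (.node (.node (.node (.node (.leaf 1) (.leaf 8)) (.node (.leaf 6) (.leaf 0))) (.node (.node (.leaf 5) (.leaf 8)) (.node (.leaf 7) (.leaf 0)))) (.node (.node (.node (.leaf 4) (.leaf 8)) (.node (.leaf 7) (.leaf 0))) (.node (.node (.leaf 5) (.leaf 8)) (.node (.leaf 8) (.leaf 0))))) (.node (.node (.node (.node (.leaf 3) (.leaf 8)) (.node (.leaf 6) (.leaf 0))) (.node (.node (.leaf 5) (.leaf 8)) (.node (.leaf 7) (.leaf 0)))) (.node (.node (.node (.leaf 4) (.leaf 8)) (.node (.leaf 7) (.leaf 0))) (.node (.node (.leaf 6) (.leaf 8)) (.node (.leaf 8) (.leaf 0)))))) (.node (.node (.node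 (.node (.node (.leaf 2) (.leaf 8)) (.node (.leaf 6) (.leaf 0))) (.node (.node (.leaf 5) (.leaf 8)) (.node (.leaf 7) (.leaf 0)))) (.node (.node (.node (.leaf 4) (.leaf 8)) (.node (.leaf 7) (.leaf 0))) (.node (.node (.leaf 6) (.leaf 8)) (.node (.leaf 8) (.leaf 0))))) (.node (.node (.node (.node (.leaf 4) (.leaf 8)) (.node (.leaf 7) (.leaf 0))) (.node (.node (.leaf 5) (.leaf 8)) (.node (.leaf 7) (.leaf 0)))) (.node (.node (.node (.leaf 4) (.leaf 8)) (.node (.leaf 7) (.leaf 0))) (.node (.node (.leaf 6) (.leaf 8)) (.node (.leaf 8) (.leaf 0))))))) (.node (.node (.node (.node (.node (.node (.leaf 1) (.leaf 8)) (.node (.leaf 6) (.leaf 0))) (.node (.node (.leaf 5) (.leaf 8)) (.node (.leaf 7) (.leaf 0)))) (.node (.node (.node (.leaf 4) (.leaf 8)) (.node (.leaf 7) (.leaf 0))) (.node (.node (.leaf 5) (.leaf 8)) (.node (.leaf 8) (.leaf 0))))) (.node (.node (.node (.node (.leaf 3) (.leaf 8)) (.node (.leaf 7) (.leaf 0))) (.node (.node (.leaf 5) (.leaf 8)) (.node (.leaf 7) (.leaf 0))))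 (.node (.node (.node (.leaf 4) (.leaf 8)) (.node (.leaf 7) (.leaf 0))) (.node (.node (.leaf 6) (.leaf 8)) (.node (.leaf 8) (.leaf 0)))))) (.node (.node (.node (.node (.node (.leaf 2) (.leaf 8)) (.node (.leaf 6) (.leaf 0))) (.node (.node (.leaf 5) (.leaf 8)) (.node (.leaf 7) (.leaf 0)))) (.node (.node (.node (.leaf 4) (.leaf 8)) (.node (.leaf 7) (.leaf 0))) (.node (.node (.leaf 6) (.leaf 8)) (.node (.leaf 8) (.leaf 0))))) (.node (.node (.node (.node (.leaf 4) (.leaf 8)) (.node (.leaf 7) (.leaf 0))) (.node (.node (.leaf 5) (.leaf 8)) (.node (.leaf 7) (.leaf 0)))) (.node (.node (.node (.leaf 5) (.leaf 8)) (.node (.leaf 7) (.leaf 0))) (.node (.node (.leaf 6) (.leaf 8)) (.node (.leaf 8) (.leaf 0))))))))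

/-- Norm indices, part 22. -/
def normIdxPart22 : Tree :=
  .node (.node (.node (.node (.node (.node (.node (.node (.leaf 1) (.leaf 8)) (.node (.leaf 6) (.leaf 0))) (.node (.node (.leaf 5) (.leaf 8)) (.node (.leaf 7) (.leaf 0)))) (.node (.node (.node (.leaf 4) (.leaf 8)) (.node (.leaf 7) (.leaf 0))) (.node (.node (.leaf 5) (.leaf 8)) (.node (.leaf 8) (.leaf 0))))) (.node (.node (.node (.node (.leaf 3) (.leaf 8)) (.node (.leaf 6) (.leaf 0))) (.node (.node (.leaf 5) (.leaf 8)) (.node (.leaf 7) (.leaf 0)))) (.node (.node (.node (.leaf 4) (.leaf 8)) (.node (.leaf 7) (.leaf 0))) (.node (.node (.leaf 6) (.leaf 8)) (.node (.leaf 8) (.leaf 0)))))) (.node (.node (.node (.node (.node (.leaf 2) (.leaf 8)) (.node (.leaf 6) (.leaf 0))) (.node (.node (.leaf 5) (.leaf 8)) (.node (.leaf 7) (.leaf 0)))) (.node (.node (.node (.leaf 4) (.leaf 8)) (.node (.leaf 7) (.leaf 0))) (.node (.node (.leaf 6) (.leaf 8)) (.node (.leaf 8) (.leaf 0))))) (.node (.node (.node (.node (.leaf 4) (.leaf 8))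 (.node (.leaf 7) (.leaf 0))) (.node (.node (.leaf 5) (.leaf 8)) (.node (.leaf 7) (.leaf 0)))) (.node (.node (.node (.leaf 4) (.leaf 8)) (.node (.leaf 7) (.leaf 0))) (.node (.node (.leaf 6) (.leaf 8)) (.node (.leaf 8) (.leaf 0))))))) (.node (.node (.node (.node (.node (.node (.leaf 1) (.leaf 8)) (.node (.leaf 6) (.leaf 0))) (.node (.node (.leaf 5) (.leaf 8)) (.node (.leaf 7) (.leaf 0)))) (.node (.node (.node (.leaf 4) (.leaf 8)) (.node (.leaf 7) (.leaf 0))) (.node (.node (.leaf 5) (.leaf 8)) (.node (.leaf 8) (.leaf 0))))) (.node (.node (.node (.node (.leaf 3) (.leaf 8)) (.node (.leaf 6) (.leaf 0))) (.node (.node (.leaf 5) (.leaf 8)) (.node (.leaf 7) (.leaf 0)))) (.node (.node (.node (.leaf 4) (.leaf 8)) (.node (.leaf 7) (.leaf 0))) (.node (.node (.leaf 6) (.leaf 8)) (.node (.leaf 8) (.leaf 0)))))) (.node (.node (.node (.node (.node (.leaf 2) (.leaf 8)) (.node (.leaf 6) (.leaf 0))) (.node (.node (.leaf 5) (.leaf 8)) (.node (.leaf 7) (.leaf 0)))) (.node (.node (.node (.leaf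 4) (.leaf 8)) (.node (.leaf 7) (.leaf 0))) (.node (.node (.leaf 6) (.leaf 8)) (.node (.leaf 8) (.leaf 0))))) (.node (.node (.node (.node (.leaf 4) (.leaf 8)) (.node (.leaf 7) (.leaf 0))) (.node (.node (.leaf 5) (.leaf 8)) (.node (.leaf 7) (.leaf 0)))) (.node (.node (.node (.leaf 5) (.leaf 8)) (.node (.leaf 7) (.leaf 0))) (.node (.node (.leaf 6) (.leaf 8)) (.node (.leaf 8) (.leaf 0)))))))) (.node (.node (.node (.node (.node (.node (.node (.leaf 1) (.leaf 8)) (.node (.leaf 6) (.leaf 0))) (.node (.node (.leaf 5) (.leaf 8)) (.node (.leaf 7) (.leaf 0)))) (.node (.node (.node (.leaf 4) (.leaf 8)) (.node (.leaf 7) (.leaf 0))) (.node (.node (.leaf 5) (.leaf 8)) (.node (.leaf 8) (.leaf 0))))) (.node (.node (.node (.node (.leaf 3) (.leaf 8)) (.node (.leaf 6) (.leaf 0))) (.node (.node (.leaf 5) (.leaf 8)) (.node (.leaf 7) (.leaf 0)))) (.node (.node (.node (.leaf 4) (.leaf 8)) (.node (.leaf 7) (.leaf 0))) (.node (.node (.leaf 6) (.leaf 8)) (.node (.leaf 8) (.leaf 0)))))) (.node (.node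 (.node (.node (.node (.leaf 2) (.leaf 8)) (.node (.leaf 6) (.leaf 0))) (.node (.node (.leaf 5) (.leaf 8)) (.node (.leaf 7) (.leaf 0)))) (.node (.node (.node (.leaf 4) (.leaf 8)) (.node (.leaf 7) (.leaf 0))) (.node (.node (.leaf 6) (.leaf 8)) (.node (.leaf 8) (.leaf 0))))) (.node (.node (.node (.node (.leaf 4) (.leaf 8)) (.node (.leaf 7) (.leaf 0))) (.node (.node (.leaf 5) (.leaf 8)) (.node (.leaf 7) (.leaf 0)))) (.node (.node (.node (.leaf 4) (.leaf 8)) (.node (.leaf 7) (.leaf 0))) (.node (.node (.leaf 6) (.leaf 8)) (.node (.leaf 8) (.leaf 0))))))) (.node (.node (.node (.node (.node (.node (.leaf 1) (.leaf 8)) (.node (.leaf 6) (.leaf 0))) (.node (.node (.leaf 5) (.leaf 8)) (.node (.leaf 7) (.leaf 0)))) (.node (.node (.node (.leaf 4) (.leaf 8)) (.node (.leaf 7) (.leaf 0))) (.node (.node (.leaf 5) (.leaf 8)) (.node (.leaf 8) (.leaf 0))))) (.node (.node (.node (.node (.leaf 4) (.leaf 8)) (.node (.leaf 7) (.leaf 0))) (.node (.node (.leaf 5) (.leaf 8)) (.node (.leaf 7) (.leaf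 0)))) (.node (.node (.node (.leaf 4) (.leaf 8)) (.node (.leaf 7) (.leaf 0))) (.node (.node (.leaf 6) (.leaf 8)) (.node (.leaf 8) (.leaf 0)))))) (.node (.node (.node (.node (.node (.leaf 3) (.leaf 8)) (.node (.leaf 6) (.leaf 0))) (.node (.node (.leaf 5) (.leaf 8)) (.node (.leaf 7) (.leaf 0)))) (.node (.node (.node (.leaf 4) (.leaf 8)) (.node (.leaf 7) (.leaf 0))) (.node (.node (.leaf 6) (.leaf 8)) (.node (.leaf 8) (.leaf 0))))) (.node (.node (.node (.node (.leaf 4) (.leaf 8)) (.node (.leaf 7) (.leaf 0))) (.node (.node (.leaf 5) (.leaf 8)) (.node (.leaf 7) (.leaf 0)))) (.node (.node (.node (.leaf 5) (.leaf 8)) (.node (.leaf 7) (.leaf 0))) (.node (.node (.leaf 6) (.leaf 0)) (.node (.leaf 8) (.leaf 0))))))))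

/-- Norm indices, part 14. -/
def normIdxPart14 : Tree :=
  .node (.node (.node (.node (.node (.node (.node (.node (.leaf 1) (.leaf 8)) (.node (.leaf 6) (.leaf 0))) (.node (.node (.leaf 5) (.leaf 8)) (.node (.leaf 7) (.leaf 0)))) (.node (.node (.node (.leaf 4) (.leaf 8)) (.node (.leaf 7) (.leaf 0))) (.node (.node (.leaf 5) (.leaf 8)) (.node (.leaf 7) (.leaf 0))))) (.node (.node (.node (.node (.leaf 3) (.leaf 8)) (.node (.leaf 6) (.leaf 0))) (.node (.node (.leaf 5) (.leaf 8)) (.node (.leaf 7) (.leaf 0)))) (.node (.node (.node (.leaf 4) (.leaf 8)) (.node (.leaf 7) (.leaf 0))) (.node (.node (.leaf 6) (.leaf 8)) (.node (.leaf 8) (.leaf 0)))))) (.node (.node (.node (.node (.node (.leaf 2) (.leaf 8)) (.node (.leaf 6) (.leaf 0))) (.node (.node (.leaf 5) (.leaf 8)) (.node (.leaf 7) (.leaf 0)))) (.node (.node (.node (.leaf 4) (.leaf 8)) (.node (.leaf 7) (.leaf 0))) (.node (.node (.leaf 5) (.leaf 8)) (.node (.leaf 8) (.leaf 0))))) (.node (.node (.node (.node (.leaf 4) (.leaf 8))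 (.node (.leaf 7) (.leaf 0))) (.node (.node (.leaf 5) (.leaf 8)) (.node (.leaf 7) (.leaf 0)))) (.node (.node (.node (.leaf 4) (.leaf 8)) (.node (.leaf 7) (.leaf 0))) (.node (.node (.leaf 6) (.leaf 8)) (.node (.leaf 8) (.leaf 0))))))) (.node (.node (.node (.node (.node (.node (.leaf 1) (.leaf 8)) (.node (.leaf 6) (.leaf 0))) (.node (.node (.leaf 5) (.leaf 8)) (.node (.leaf 7) (.leaf 0)))) (.node (.node (.node (.leaf 4) (.leaf 8)) (.node (.leaf 7) (.leaf 0))) (.node (.node (.leaf 5) (.leaf 8)) (.node (.leaf 8) (.leaf 0))))) (.node (.node (.node (.node (.leaf 3) (.leaf 8)) (.node (.leaf 6) (.leaf 0))) (.node (.node (.leaf 5) (.leaf 8)) (.node (.leaf 7) (.leaf 0)))) (.node (.node (.node (.leaf 4) (.leaf 8)) (.node (.leaf 7) (.leaf 0))) (.node (.node (.leaf 6) (.leaf 8)) (.node (.leaf 8) (.leaf 0)))))) (.node (.node (.node (.node (.node (.leaf 2) (.leaf 8)) (.node (.leaf 6) (.leaf 0))) (.node (.node (.leaf 5) (.leaf 8)) (.node (.leaf 7) (.leaf 0)))) (.node (.node (.node (.leaf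 4) (.leaf 8)) (.node (.leaf 7) (.leaf 0))) (.node (.node (.leaf 6) (.leaf 8)) (.node (.leaf 8) (.leaf 0))))) (.node (.node (.node (.node (.leaf 4) (.leaf 8)) (.node (.leaf 7) (.leaf 0))) (.node (.node (.leaf 5) (.leaf 8)) (.node (.leaf 7) (.leaf 0)))) (.node (.node (.node (.leaf 5) (.leaf 8)) (.node (.leaf 7) (.leaf 0))) (.node (.node (.leaf 6) (.leaf 8)) (.node (.leaf 8) (.leaf 0)))))))) (.node (.node (.node (.node (.node (.node (.node (.leaf 1) (.leaf 8)) (.node (.leaf 6) (.leaf 0))) (.node (.node (.leaf 5) (.leaf 8)) (.node (.leaf 7) (.leaf 0)))) (.node (.node (.node (.leaf 4) (.leaf 8)) (.node (.leaf 7) (.leaf 0))) (.node (.node (.leaf 5) (.leaf 8)) (.node (.leaf 8) (.leaf 0))))) (.node (.node (.node (.node (.leaf 3) (.leaf 8)) (.node (.leaf 6) (.leaf 0))) (.node (.node (.leaf 5) (.leaf 8)) (.node (.leaf 7) (.leaf 0)))) (.node (.node (.node (.leaf 4) (.leaf 8)) (.node (.leaf 7) (.leaf 0))) (.node (.node (.leaf 6) (.leaf 8)) (.node (.leaf 8) (.leaf 0)))))) (.node (.node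 (.node (.node (.node (.leaf 2) (.leaf 8)) (.node (.leaf 6) (.leaf 0))) (.node (.node (.leaf 5) (.leaf 8)) (.node (.leaf 7) (.leaf 0)))) (.node (.node (.node (.leaf 4) (.leaf 8)) (.node (.leaf 7) (.leaf 0))) (.node (.node (.leaf 6) (.leaf 8)) (.node (.leaf 8) (.leaf 0))))) (.node (.node (.node (.node (.leaf 4) (.leaf 8)) (.node (.leaf 7) (.leaf 0))) (.node (.node (.leaf 5) (.leaf 8)) (.node (.leaf 7) (.leaf 0)))) (.node (.node (.node (.leaf 4) (.leaf 8)) (.node (.leaf 7) (.leaf 0))) (.node (.node (.leaf 6) (.leaf 8)) (.node (.leaf 8) (.leaf 0))))))) (.node (.node (.node (.node (.node (.node (.leaf 1) (.leaf 8)) (.node (.leaf 6) (.leaf 0))) (.node (.node (.leaf 5) (.leaf 8)) (.node (.leaf 7) (.leaf 0)))) (.node (.node (.node (.leaf 4) (.leaf 8)) (.node (.leaf 7) (.leaf 0))) (.node (.node (.leaf 5) (.leaf 8)) (.node (.leaf 8) (.leaf 0))))) (.node (.node (.node (.node (.leaf 4) (.leaf 8)) (.node (.leaf 7) (.leaf 0))) (.node (.node (.leaf 5) (.leaf 8)) (.node (.leaf 7) (.leaf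 0)))) (.node (.node (.node (.leaf 4) (.leaf 8)) (.node (.leaf 7) (.leaf 0))) (.node (.node (.leaf 6) (.leaf 8)) (.node (.leaf 8) (.leaf 0)))))) (.node (.node (.node (.node (.node (.leaf 2) (.leaf 8)) (.node (.leaf 6) (.leaf 0))) (.node (.node (.leaf 5) (.leaf 8)) (.node (.leaf 7) (.leaf 0)))) (.node (.node (.node (.leaf 4) (.leaf 8)) (.node (.leaf 7) (.leaf 0))) (.node (.node (.leaf 6) (.leaf 8)) (.node (.leaf 8) (.leaf 0))))) (.node (.node (.node (.node (.leaf 4) (.leaf 8)) (.node (.leaf 7) (.leaf 0))) (.node (.node (.leaf 5) (.leaf 8)) (.node (.leaf 7) (.leaf 0)))) (.node (.node (.node (.leaf 5) (.leaf 8)) (.node (.leaf 7) (.leaf 0))) (.node (.node (.leaf 6) (.leaf 0)) (.node (.leaf 8) (.leaf 0))))))))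

/-- Norm indices, part 30. -/
def normIdxPart30 : Tree :=
  .node (.node (.node (.node (.node (.node (.node (.node (.leaf 1) (.leaf 8)) (.node (.leaf 6) (.leaf 0))) (.node (.node (.leaf 5) (.leaf 8)) (.node (.leaf 7) (.leaf 0)))) (.node (.node (.node (.leaf 4) (.leaf 8)) (.node (.leaf 7) (.leaf 0))) (.node (.node (.leaf 5) (.leaf 8)) (.node (.leaf 8) (.leaf 0))))) (.node (.node (.node (.node (.leaf 3) (.leaf 8)) (.node (.leaf 6) (.leaf 0))) (.node (.node (.leaf 5) (.leaf 8)) (.node (.leaf 7) (.leaf 0)))) (.node (.node (.node (.leaf 4) (.leaf 8)) (.node (.leaf 7) (.leaf 0))) (.node (.node (.leaf 6) (.leaf 8)) (.node (.leaf 8) (.leaf 0)))))) (.node (.node (.node (.node (.node (.leaf 2) (.leaf 8)) (.node (.leaf 6) (.leaf 0))) (.node (.node (.leaf 5) (.leaf 8)) (.node (.leaf 7) (.leaf 0)))) (.node (.node (.node (.leaf 4) (.leaf 8)) (.node (.leaf 7) (.leaf 0))) (.node (.node (.leaf 6) (.leaf 8)) (.node (.leaf 8) (.leaf 0))))) (.node (.node (.node (.node (.leaf 4) (.leaf 8))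 (.node (.leaf 7) (.leaf 0))) (.node (.node (.leaf 5) (.leaf 8)) (.node (.leaf 7) (.leaf 0)))) (.node (.node (.node (.leaf 4) (.leaf 8)) (.node (.leaf 7) (.leaf 0))) (.node (.node (.leaf 6) (.leaf 8)) (.node (.leaf 8) (.leaf 0))))))) (.node (.node (.node (.node (.node (.node (.leaf 1) (.leaf 8)) (.node (.leaf 6) (.leaf 0))) (.node (.node (.leaf 5) (.leaf 8)) (.node (.leaf 7) (.leaf 0)))) (.node (.node (.node (.leaf 4) (.leaf 8)) (.node (.leaf 7) (.leaf 0))) (.node (.node (.leaf 5) (.leaf 8)) (.node (.leaf 8) (.leaf 0))))) (.node (.node (.node (.node (.leaf 3) (.leaf 8)) (.node (.leaf 6) (.leaf 0))) (.node (.node (.leaf 5) (.leaf 8)) (.node (.leaf 7) (.leaf 0)))) (.node (.node (.node (.leaf 4) (.leaf 8)) (.node (.leaf 7) (.leaf 0))) (.node (.node (.leaf 6) (.leaf 8)) (.node (.leaf 8) (.leaf 0)))))) (.node (.node (.node (.node (.node (.leaf 2) (.leaf 8)) (.node (.leaf 6) (.leaf 0))) (.node (.node (.leaf 5) (.leaf 8)) (.node (.leaf 7) (.leaf 0)))) (.node (.node (.node (.leaf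 4) (.leaf 8)) (.node (.leaf 7) (.leaf 0))) (.node (.node (.leaf 6) (.leaf 8)) (.node (.leaf 8) (.leaf 0))))) (.node (.node (.node (.node (.leaf 4) (.leaf 8)) (.node (.leaf 7) (.leaf 0))) (.node (.node (.leaf 5) (.leaf 8)) (.node (.leaf 7) (.leaf 0)))) (.node (.node (.node (.leaf 5) (.leaf 8)) (.node (.leaf 7) (.leaf 0))) (.node (.node (.leaf 6) (.leaf 8)) (.node (.leaf 8) (.leaf 0)))))))) (.node (.node (.node (.node (.node (.node (.node (.leaf 1) (.leaf 8)) (.node (.leaf 6) (.leaf 0))) (.node (.node (.leaf 5) (.leaf 8)) (.node (.leaf 7) (.leaf 0)))) (.node (.node (.node (.leaf 4) (.leaf 8)) (.node (.leaf 7) (.leaf 0))) (.node (.node (.leaf 5) (.leaf 8)) (.node (.leaf 8) (.leaf 0))))) (.node (.node (.node (.node (.leaf 3) (.leaf 8)) (.node (.leaf 6) (.leaf 0))) (.node (.node (.leaf 5) (.leaf 8)) (.node (.leaf 7) (.leaf 0)))) (.node (.node (.node (.leaf 4) (.leaf 8)) (.node (.leaf 7) (.leaf 0))) (.node (.node (.leaf 6) (.leaf 8)) (.node (.leaf 8) (.leaf 0)))))) (.node (.node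 (.node (.node (.node (.leaf 2) (.leaf 8)) (.node (.leaf 6) (.leaf 0))) (.node (.node (.leaf 5) (.leaf 8)) (.node (.leaf 7) (.leaf 0)))) (.node (.node (.node (.leaf 4) (.leaf 8)) (.node (.leaf 7) (.leaf 0))) (.node (.node (.leaf 6) (.leaf 8)) (.node (.leaf 8) (.leaf 0))))) (.node (.node (.node (.node (.leaf 4) (.leaf 8)) (.node (.leaf 7) (.leaf 0))) (.node (.node (.leaf 5) (.leaf 8)) (.node (.leaf 7) (.leaf 0)))) (.node (.node (.node (.leaf 4) (.leaf 8)) (.node (.leaf 7) (.leaf 0))) (.node (.node (.leaf 6) (.leaf 8)) (.node (.leaf 8) (.leaf 0))))))) (.node (.node (.node (.node (.node (.node (.leaf 2) (.leaf 8)) (.node (.leaf 6) (.leaf 0))) (.node (.node (.leaf 5) (.leaf 8)) (.node (.leaf 7) (.leaf 0)))) (.node (.node (.node (.leaf 4) (.leaf 8)) (.node (.leaf 7) (.leaf 0))) (.node (.node (.leaf 5) (.leaf 8)) (.node (.leaf 8) (.leaf 0))))) (.node (.node (.node (.node (.leaf 4) (.leaf 8)) (.node (.leaf 7) (.leaf 0))) (.node (.node (.leaf 5) (.leaf 8)) (.node (.leaf 7) (.leaf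 0)))) (.node (.node (.node (.leaf 4) (.leaf 8)) (.node (.leaf 7) (.leaf 0))) (.node (.node (.leaf 6) (.leaf 8)) (.node (.leaf 8) (.leaf 0)))))) (.node (.node (.node (.node (.node (.leaf 3) (.leaf 8)) (.node (.leaf 6) (.leaf 0))) (.node (.node (.leaf 5) (.leaf 8)) (.node (.leaf 7) (.leaf 0)))) (.node (.node (.node (.leaf 4) (.leaf 8)) (.node (.leaf 7) (.leaf 0))) (.node (.node (.leaf 6) (.leaf 8)) (.node (.leaf 8) (.leaf 0))))) (.node (.node (.node (.node (.leaf 4) (.leaf 8)) (.node (.leaf 7) (.leaf 0))) (.node (.node (.leaf 5) (.leaf 8)) (.node (.leaf 7) (.leaf 0)))) (.node (.node (.node (.leaf 5) (.leaf 8)) (.node (.leaf 7) (.leaf 0))) (.node (.node (.leaf 6) (.leaf 0)) (.node (.leaf 8) (.leaf 0))))))))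

/-- Norm indices, part 1. -/
def normIdxPart1 : Tree :=
  .node (.node (.node (.node (.node (.node (.node (.node (.leaf 1) (.leaf 8)) (.node (.leaf 6) (.leaf 0))) (.node (.node (.leaf 5) (.leaf 8)) (.node (.leaf 7) (.leaf 0)))) (.node (.node (.node (.leaf 4) (.leaf 8)) (.node (.leaf 7) (.leaf 0))) (.node (.node (.leaf 5) (.leaf 8)) (.node (.leaf 7) (.leaf 0))))) (.node (.node (.node (.node (.leaf 3) (.leaf 8)) (.node (.leaf 6) (.leaf 0))) (.node (.node (.leaf 5) (.leaf 8)) (.node (.leaf 7) (.leaf 0)))) (.node (.node (.node (.leaf 4) (.leaf 8)) (.node (.leaf 7) (.leaf 0))) (.node (.node (.leaf 6) (.leaf 8)) (.node (.leaf 8) (.leaf 0)))))) (.node (.node (.node (.node (.node (.leaf 2) (.leaf 8)) (.node (.leaf 6) (.leaf 0))) (.node (.node (.leaf 5) (.leaf 8)) (.node (.leaf 7) (.leaf 0)))) (.node (.node (.node (.leaf 4) (.leaf 8)) (.node (.leaf 7) (.leaf 0))) (.node (.node (.leaf 5) (.leaf 8)) (.node (.leaf 8) (.leaf 0))))) (.node (.node (.node (.node (.leaf 4) (.leaf 8)) (.node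 (.leaf 7) (.leaf 0))) (.node (.node (.leaf 5) (.leaf 8)) (.node (.leaf 7) (.leaf 0)))) (.node (.node (.node (.leaf 4) (.leaf 8)) (.node (.leaf 7) (.leaf 0))) (.node (.node (.leaf 6) (.leaf 8)) (.node (.leaf 8) (.leaf 0))))))) (.node (.node (.node (.node (.node (.node (.leaf 1) (.leaf 8)) (.node (.leaf 6) (.leaf 0))) (.node (.node (.leaf 5) (.leaf 8)) (.node (.leaf 7) (.leaf 0)))) (.node (.node (.node (.leaf 4) (.leaf 8)) (.node (.leaf 7) (.leaf 0))) (.node (.node (.leaf 5) (.leaf 8)) (.node (.leaf 8) (.leaf 0))))) (.node (.node (.node (.node (.leaf 3) (.leaf 8)) (.node (.leaf 6) (.leaf 0))) (.node (.node (.leaf 5) (.leaf 8)) (.node (.leaf 7) (.leaf 0)))) (.node (.node (.node (.leaf 4) (.leaf 8)) (.node (.leaf 7) (.leaf 0))) (.node (.node (.leaf 6) (.leaf 8)) (.node (.leaf 8) (.leaf 0)))))) (.node (.node (.node (.node (.node (.leaf 2) (.leaf 8)) (.node (.leaf 6) (.leaf 0))) (.node (.node (.leaf 5) (.leaf 8)) (.node (.leaf 7) (.leaf 0)))) (.node (.node (.node (.leaf 4) (.leaf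 8)) (.node (.leaf 7) (.leaf 0))) (.node (.node (.leaf 6) (.leaf 8)) (.node (.leaf 8) (.leaf 0))))) (.node (.node (.node (.node (.leaf 4) (.leaf 8)) (.node (.leaf 7) (.leaf 0))) (.node (.node (.leaf 5) (.leaf 8)) (.node (.leaf 7) (.leaf 0)))) (.node (.node (.node (.leaf 5) (.leaf 8)) (.node (.leaf 7) (.leaf 0))) (.node (.node (.leaf 6) (.leaf 8)) (.node (.leaf 8) (.leaf 0)))))))) (.node (.node (.node (.node (.node (.node (.node (.leaf 1) (.leaf 8)) (.node (.leaf 6) (.leaf 0))) (.node (.node (.leaf 5) (.leaf 8)) (.node (.leaf 7) (.leaf 0)))) (.node (.node (.node (.leaf 4) (.leaf 8)) (.node (.leaf 7) (.leaf 0))) (.node (.node (.leaf 5) (.leaf 8)) (.node (.leaf 8) (.leaf 0))))) (.node (.node (.node (.node (.leaf 3) (.leaf 8)) (.node (.leaf 6) (.leaf 0))) (.node (.node (.leaf 5) (.leaf 8)) (.node (.leaf 7) (.leaf 0)))) (.node (.node (.node (.leaf 4) (.leaf 8)) (.node (.leaf 7) (.leaf 0))) (.node (.node (.leaf 6) (.leaf 8)) (.node (.leaf 8) (.leaf 0)))))) (.node (.node (.node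 (.node (.node (.leaf 2) (.leaf 8)) (.node (.leaf 6) (.leaf 0))) (.node (.node (.leaf 5) (.leaf 8)) (.node (.leaf 7) (.leaf 0)))) (.node (.node (.node (.leaf 4) (.leaf 8)) (.node (.leaf 7) (.leaf 0))) (.node (.node (.leaf 6) (.leaf 8)) (.node (.leaf 8) (.leaf 0))))) (.node (.node (.node (.node (.leaf 4) (.leaf 8)) (.node (.leaf 7) (.leaf 0))) (.node (.node (.leaf 5) (.leaf 8)) (.node (.leaf 7) (.leaf 0)))) (.node (.node (.node (.leaf 4) (.leaf 8)) (.node (.leaf 7) (.leaf 0))) (.node (.node (.leaf 6) (.leaf 8)) (.node (.leaf 8) (.leaf 0))))))) (.node (.node (.node (.node (.node (.node (.leaf 1) (.leaf 8)) (.node (.leaf 6) (.leaf 0))) (.node (.node (.leaf 5) (.leaf 8)) (.node (.leaf 7) (.leaf 0)))) (.node (.node (.node (.leaf 4) (.leaf 8)) (.node (.leaf 7) (.leaf 0))) (.node (.node (.leaf 5) (.leaf 8)) (.node (.leaf 8) (.leaf 0))))) (.node (.node (.node (.node (.leaf 3) (.leaf 8)) (.node (.leaf 7) (.leaf 0))) (.node (.node (.leaf 5) (.leaf 8)) (.node (.leaf 7) (.leaf 0))))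 (.node (.node (.node (.leaf 4) (.leaf 8)) (.node (.leaf 7) (.leaf 0))) (.node (.node (.leaf 6) (.leaf 8)) (.node (.leaf 8) (.leaf 0)))))) (.node (.node (.node (.node (.node (.leaf 2) (.leaf 8)) (.node (.leaf 6) (.leaf 0))) (.node (.node (.leaf 5) (.leaf 8)) (.node (.leaf 7) (.leaf 0)))) (.node (.node (.node (.leaf 4) (.leaf 8)) (.node (.leaf 7) (.leaf 0))) (.node (.node (.leaf 6) (.leaf 8)) (.node (.leaf 8) (.leaf 0))))) (.node (.node (.node (.node (.leaf 4) (.leaf 8)) (.node (.leaf 7) (.leaf 0))) (.node (.node (.leaf 5) (.leaf 8)) (.node (.leaf 7) (.leaf 0)))) (.node (.node (.node (.leaf 5) (.leaf 8)) (.node (.leaf 7) (.leaf 0))) (.node (.node (.leaf 6) (.leaf 8)) (.node (.leaf 8) (.leaf 0))))))))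

/-- Norm indices, part 17. -/
def normIdxPart17 : Tree :=
  .node (.node (.node (.node (.node (.node (.node (.node (.leaf 1) (.leaf 8)) (.node (.leaf 6) (.leaf 0))) (.node (.node (.leaf 5) (.leaf 8)) (.node (.leaf 7) (.leaf 0)))) (.node (.node (.node (.leaf 4) (.leaf 8)) (.node (.leaf 7) (.leaf 0))) (.node (.node (.leaf 5) (.leaf 8)) (.node (.leaf 8) (.leaf 0))))) (.node (.node (.node (.node (.leaf 3) (.leaf 8)) (.node (.leaf 6) (.leaf 0))) (.node (.node (.leaf 5) (.leaf 8)) (.node (.leaf 7) (.leaf 0)))) (.node (.node (.node (.leaf 4) (.leaf 8)) (.node (.leaf 7) (.leaf 0))) (.node (.node (.leaf 6) (.leaf 8)) (.node (.leaf 8) (.leaf 0)))))) (.node (.node (.node (.node (.node (.leaf 2) (.leaf 8)) (.node (.leaf 6) (.leaf 0))) (.node (.node (.leaf 5) (.leaf 8)) (.node (.leaf 7) (.leaf 0)))) (.node (.node (.node (.leaf 4) (.leaf 8)) (.node (.leaf 7) (.leaf 0))) (.node (.node (.leaf 6) (.leaf 8)) (.node (.leaf 8) (.leaf 0))))) (.node (.node (.node (.node (.leaf 4) (.leaf 8))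 (.node (.leaf 7) (.leaf 0))) (.node (.node (.leaf 5) (.leaf 8)) (.node (.leaf 7) (.leaf 0)))) (.node (.node (.node (.leaf 4) (.leaf 8)) (.node (.leaf 7) (.leaf 0))) (.node (.node (.leaf 6) (.leaf 8)) (.node (.leaf 8) (.leaf 0))))))) (.node (.node (.node (.node (.node (.node (.leaf 1) (.leaf 8)) (.node (.leaf 6) (.leaf 0))) (.node (.node (.leaf 5) (.leaf 8)) (.node (.leaf 7) (.leaf 0)))) (.node (.node (.node (.leaf 4) (.leaf 8)) (.node (.leaf 7) (.leaf 0))) (.node (.node (.leaf 5) (.leaf 8)) (.node (.leaf 8) (.leaf 0))))) (.node (.node (.node (.node (.leaf 3) (.leaf 8)) (.node (.leaf 6) (.leaf 0))) (.node (.node (.leaf 5) (.leaf 8)) (.node (.leaf 7) (.leaf 0)))) (.node (.node (.node (.leaf 4) (.leaf 8)) (.node (.leaf 7) (.leaf 0))) (.node (.node (.leaf 6) (.leaf 8)) (.node (.leaf 8) (.leaf 0)))))) (.node (.node (.node (.node (.node (.leaf 2) (.leaf 8)) (.node (.leaf 6) (.leaf 0))) (.node (.node (.leaf 5) (.leaf 8)) (.node (.leaf 7) (.leaf 0)))) (.node (.node (.node (.leaf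 4) (.leaf 8)) (.node (.leaf 7) (.leaf 0))) (.node (.node (.leaf 6) (.leaf 8)) (.node (.leaf 8) (.leaf 0))))) (.node (.node (.node (.node (.leaf 4) (.leaf 8)) (.node (.leaf 7) (.leaf 0))) (.node (.node (.leaf 5) (.leaf 8)) (.node (.leaf 7) (.leaf 0)))) (.node (.node (.node (.leaf 5) (.leaf 8)) (.node (.leaf 7) (.leaf 0))) (.node (.node (.leaf 6) (.leaf 8)) (.node (.leaf 8) (.leaf 0)))))))) (.node (.node (.node (.node (.node (.node (.node (.leaf 1) (.leaf 8)) (.node (.leaf 6) (.leaf 0))) (.node (.node (.leaf 5) (.leaf 8)) (.node (.leaf 7) (.leaf 0)))) (.node (.node (.node (.leaf 4) (.leaf 8)) (.node (.leaf 7) (.leaf 0))) (.node (.node (.leaf 5) (.leaf 8)) (.node (.leaf 8) (.leaf 0))))) (.node (.node (.node (.node (.leaf 3) (.leaf 8)) (.node (.leaf 6) (.leaf 0))) (.node (.node (.leaf 5) (.leaf 8)) (.node (.leaf 7) (.leaf 0)))) (.node (.node (.node (.leaf 4) (.leaf 8)) (.node (.leaf 7) (.leaf 0))) (.node (.node (.leaf 6) (.leaf 8)) (.node (.leaf 8) (.leaf 0)))))) (.node (.node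 (.node (.node (.node (.leaf 2) (.leaf 8)) (.node (.leaf 6) (.leaf 0))) (.node (.node (.leaf 5) (.leaf 8)) (.node (.leaf 7) (.leaf 0)))) (.node (.node (.node (.leaf 4) (.leaf 8)) (.node (.leaf 7) (.leaf 0))) (.node (.node (.leaf 6) (.leaf 8)) (.node (.leaf 8) (.leaf 0))))) (.node (.node (.node (.node (.leaf 4) (.leaf 8)) (.node (.leaf 7) (.leaf 0))) (.node (.node (.leaf 5) (.leaf 8)) (.node (.leaf 7) (.leaf 0)))) (.node (.node (.node (.leaf 4) (.leaf 8)) (.node (.leaf 7) (.leaf 0))) (.node (.node (.leaf 6) (.leaf 8)) (.node (.leaf 8) (.leaf 0))))))) (.node (.node (.node (.node (.node (.node (.leaf 1) (.leaf 8)) (.node (.leaf 6) (.leaf 0))) (.node (.node (.leaf 5) (.leaf 8)) (.node (.leaf 7) (.leaf 0)))) (.node (.node (.node (.leaf 4) (.leaf 8)) (.node (.leaf 7) (.leaf 0))) (.node (.node (.leaf 5) (.leaf 8)) (.node (.leaf 8) (.leaf 0))))) (.node (.node (.node (.node (.leaf 4) (.leaf 8)) (.node (.leaf 7) (.leaf 0))) (.node (.node (.leaf 5) (.leaf 8)) (.node (.leaf 7) (.leaf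 0)))) (.node (.node (.node (.leaf 4) (.leaf 8)) (.node (.leaf 7) (.leaf 0))) (.node (.node (.leaf 6) (.leaf 8)) (.node (.leaf 8) (.leaf 0)))))) (.node (.node (.node (.node (.node (.leaf 3) (.leaf 8)) (.node (.leaf 6) (.leaf 0))) (.node (.node (.leaf 5) (.leaf 8)) (.node (.leaf 7) (.leaf 0)))) (.node (.node (.node (.leaf 4) (.leaf 8)) (.node (.leaf 7) (.leaf 0))) (.node (.node (.leaf 6) (.leaf 8)) (.node (.leaf 8) (.leaf 0))))) (.node (.node (.node (.node (.leaf 4) (.leaf 8)) (.node (.leaf 7) (.leaf 0))) (.node (.node (.leaf 5) (.leaf 8)) (.node (.leaf 7) (.leaf 0)))) (.node (.node (.node (.leaf 5) (.leaf 8)) (.node (.leaf 7) (.leaf 0))) (.node (.node (.leaf 6) (.leaf 0)) (.node (.leaf 8) (.leaf 0))))))))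

/-- Norm indices, part 9. -/
def normIdxPart9 : Tree :=
  .node (.node (.node (.node (.node (.node (.node (.node (.leaf 1) (.leaf 8)) (.node (.leaf 6) (.leaf 0))) (.node (.node (.leaf 5) (.leaf 8)) (.node (.leaf 7) (.leaf 0)))) (.node (.node (.node (.leaf 4) (.leaf 8)) (.node (.leaf 7) (.leaf 0))) (.node (.node (.leaf 5) (.leaf 8)) (.node (.leaf 7) (.leaf 0))))) (.node (.node (.node (.node (.leaf 3) (.leaf 8)) (.node (.leaf 6) (.leaf 0))) (.node (.node (.leaf 5) (.leaf 8)) (.node (.leaf 7) (.leaf 0)))) (.node (.node (.node (.leaf 4) (.leaf 8)) (.node (.leaf 7) (.leaf 0))) (.node (.node (.leaf 6) (.leaf 8)) (.node (.leaf 8) (.leaf 0)))))) (.node (.node (.node (.node (.node (.leaf 2) (.leaf 8)) (.node (.leaf 6) (.leaf 0))) (.node (.node (.leaf 5) (.leaf 8)) (.node (.leaf 7) (.leaf 0)))) (.node (.node (.node (.leaf 4) (.leaf 8)) (.node (.leaf 7) (.leaf 0))) (.node (.node (.leaf 5) (.leaf 8)) (.node (.leaf 8) (.leaf 0))))) (.node (.node (.node (.node (.leaf 4) (.leaf 8)) (.node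 (.leaf 7) (.leaf 0))) (.node (.node (.leaf 5) (.leaf 8)) (.node (.leaf 7) (.leaf 0)))) (.node (.node (.node (.leaf 4) (.leaf 8)) (.node (.leaf 7) (.leaf 0))) (.node (.node (.leaf 6) (.leaf 8)) (.node (.leaf 8) (.leaf 0))))))) (.node (.node (.node (.node (.node (.node (.leaf 1) (.leaf 8)) (.node (.leaf 6) (.leaf 0))) (.node (.node (.leaf 5) (.leaf 8)) (.node (.leaf 7) (.leaf 0)))) (.node (.node (.node (.leaf 4) (.leaf 8)) (.node (.leaf 7) (.leaf 0))) (.node (.node (.leaf 5) (.leaf 8)) (.node (.leaf 8) (.leaf 0))))) (.node (.node (.node (.node (.leaf 3) (.leaf 8)) (.node (.leaf 6) (.leaf 0))) (.node (.node (.leaf 5) (.leaf 8)) (.node (.leaf 7) (.leaf 0)))) (.node (.node (.node (.leaf 4) (.leaf 8)) (.node (.leaf 7) (.leaf 0))) (.node (.node (.leaf 6) (.leaf 8)) (.node (.leaf 8) (.leaf 0)))))) (.node (.node (.node (.node (.node (.leaf 2) (.leaf 8)) (.node (.leaf 6) (.leaf 0))) (.node (.node (.leaf 5) (.leaf 8)) (.node (.leaf 7) (.leaf 0)))) (.node (.node (.node (.leaf 4) (.leaf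 8)) (.node (.leaf 7) (.leaf 0))) (.node (.node (.leaf 6) (.leaf 8)) (.node (.leaf 8) (.leaf 0))))) (.node (.node (.node (.node (.leaf 4) (.leaf 8)) (.node (.leaf 7) (.leaf 0))) (.node (.node (.leaf 5) (.leaf 8)) (.node (.leaf 7) (.leaf 0)))) (.node (.node (.node (.leaf 5) (.leaf 8)) (.node (.leaf 7) (.leaf 0))) (.node (.node (.leaf 6) (.leaf 8)) (.node (.leaf 8) (.leaf 0)))))))) (.node (.node (.node (.node (.node (.node (.node (.leaf 1) (.leaf 8)) (.node (.leaf 6) (.leaf 0))) (.node (.node (.leaf 5) (.leaf 8)) (.node (.leaf 7) (.leaf 0)))) (.node (.node (.node (.leaf 4) (.leaf 8)) (.node (.leaf 7) (.leaf 0))) (.node (.node (.leaf 5) (.leaf 8)) (.node (.leaf 8) (.leaf 0))))) (.node (.node (.node (.node (.leaf 3) (.leaf 8)) (.node (.leaf 6) (.leaf 0))) (.node (.node (.leaf 5) (.leaf 8)) (.node (.leaf 7) (.leaf 0)))) (.node (.node (.node (.leaf 4) (.leaf 8)) (.node (.leaf 7) (.leaf 0))) (.node (.node (.leaf 6) (.leaf 8)) (.node (.leaf 8) (.leaf 0)))))) (.node (.node (.node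 (.node (.node (.leaf 2) (.leaf 8)) (.node (.leaf 6) (.leaf 0))) (.node (.node (.leaf 5) (.leaf 8)) (.node (.leaf 7) (.leaf 0)))) (.node (.node (.node (.leaf 4) (.leaf 8)) (.node (.leaf 7) (.leaf 0))) (.node (.node (.leaf 6) (.leaf 8)) (.node (.leaf 8) (.leaf 0))))) (.node (.node (.node (.node (.leaf 4) (.leaf 8)) (.node (.leaf 7) (.leaf 0))) (.node (.node (.leaf 5) (.leaf 8)) (.node (.leaf 7) (.leaf 0)))) (.node (.node (.node (.leaf 4) (.leaf 8)) (.node (.leaf 7) (.leaf 0))) (.node (.node (.leaf 6) (.leaf 8)) (.node (.leaf 8) (.leaf 0))))))) (.node (.node (.node (.node (.node (.node (.leaf 1) (.leaf 8)) (.node (.leaf 6) (.leaf 0))) (.node (.node (.leaf 5) (.leaf 8)) (.node (.leaf 7) (.leaf 0)))) (.node (.node (.node (.leaf 4) (.leaf 8)) (.node (.leaf 7) (.leaf 0))) (.node (.node (.leaf 5) (.leaf 8)) (.node (.leaf 8) (.leaf 0))))) (.node (.node (.node (.node (.leaf 4) (.leaf 8)) (.node (.leaf 7) (.leaf 0))) (.node (.node (.leaf 5) (.leaf 8)) (.node (.leaf 7) (.leaf 0))))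 (.node (.node (.node (.leaf 4) (.leaf 8)) (.node (.leaf 7) (.leaf 0))) (.node (.node (.leaf 6) (.leaf 8)) (.node (.leaf 8) (.leaf 0)))))) (.node (.node (.node (.node (.node (.leaf 2) (.leaf 8)) (.node (.leaf 6) (.leaf 0))) (.node (.node (.leaf 5) (.leaf 8)) (.node (.leaf 7) (.leaf 0)))) (.node (.node (.node (.leaf 4) (.leaf 8)) (.node (.leaf 7) (.leaf 0))) (.node (.node (.leaf 6) (.leaf 8)) (.node (.leaf 8) (.leaf 0))))) (.node (.node (.node (.node (.leaf 4) (.leaf 8)) (.node (.leaf 7) (.leaf 0))) (.node (.node (.leaf 5) (.leaf 8)) (.node (.leaf 7) (.leaf 0)))) (.node (.node (.node (.leaf 5) (.leaf 8)) (.node (.leaf 7) (.leaf 0))) (.node (.node (.leaf 6) (.leaf 0)) (.node (.leaf 8) (.leaf 0))))))))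

/-- Norm indices, part 25. -/
def normIdxPart25 : Tree :=
  .node (.node (.node (.node (.node (.node (.node (.node (.leaf 1) (.leaf 8)) (.node (.leaf 6) (.leaf 0))) (.node (.node (.leaf 5) (.leaf 8)) (.node (.leaf 7) (.leaf 0)))) (.node (.node (.node (.leaf 4) (.leaf 8)) (.node (.leaf 7) (.leaf 0))) (.node (.node (.leaf 5) (.leaf 8)) (.node (.leaf 8) (.leaf 0))))) (.node (.node (.node (.node (.leaf 3) (.leaf 8)) (.node (.leaf 6) (.leaf 0))) (.node (.node (.leaf 5) (.leaf 8)) (.node (.leaf 7) (.leaf 0)))) (.node (.node (.node (.leaf 4) (.leaf 8)) (.node (.leaf 7) (.leaf 0))) (.node (.node (.leaf 6) (.leaf 8)) (.node (.leaf 8) (.leaf 0)))))) (.node (.node (.node (.node (.node (.leaf 2) (.leaf 8)) (.node (.leaf 6) (.leaf 0))) (.node (.node (.leaf 5) (.leaf 8)) (.node (.leaf 7) (.leaf 0)))) (.node (.node (.node (.leaf 4) (.leaf 8)) (.node (.leaf 7) (.leaf 0))) (.node (.node (.leaf 6) (.leaf 8)) (.node (.leaf 8) (.leaf 0))))) (.node (.node (.node (.node (.leaf 4) (.leaf 8))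 (.node (.leaf 7) (.leaf 0))) (.node (.node (.leaf 5) (.leaf 8)) (.node (.leaf 7) (.leaf 0)))) (.node (.node (.node (.leaf 4) (.leaf 8)) (.node (.leaf 7) (.leaf 0))) (.node (.node (.leaf 6) (.leaf 8)) (.node (.leaf 8) (.leaf 0))))))) (.node (.node (.node (.node (.node (.node (.leaf 1) (.leaf 8)) (.node (.leaf 6) (.leaf 0))) (.node (.node (.leaf 5) (.leaf 8)) (.node (.leaf 7) (.leaf 0)))) (.node (.node (.node (.leaf 4) (.leaf 8)) (.node (.leaf 7) (.leaf 0))) (.node (.node (.leaf 5) (.leaf 8)) (.node (.leaf 8) (.leaf 0))))) (.node (.node (.node (.node (.leaf 3) (.leaf 8)) (.node (.leaf 6) (.leaf 0))) (.node (.node (.leaf 5) (.leaf 8)) (.node (.leaf 7) (.leaf 0)))) (.node (.node (.node (.leaf 4) (.leaf 8)) (.node (.leaf 7) (.leaf 0))) (.node (.node (.leaf 6) (.leaf 8)) (.node (.leaf 8) (.leaf 0)))))) (.node (.node (.node (.node (.node (.leaf 2) (.leaf 8)) (.node (.leaf 6) (.leaf 0))) (.node (.node (.leaf 5) (.leaf 8)) (.node (.leaf 7) (.leaf 0)))) (.node (.node (.node (.leaf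 4) (.leaf 8)) (.node (.leaf 7) (.leaf 0))) (.node (.node (.leaf 6) (.leaf 8)) (.node (.leaf 8) (.leaf 0))))) (.node (.node (.node (.node (.leaf 4) (.leaf 8)) (.node (.leaf 7) (.leaf 0))) (.node (.node (.leaf 5) (.leaf 8)) (.node (.leaf 7) (.leaf 0)))) (.node (.node (.node (.leaf 5) (.leaf 8)) (.node (.leaf 7) (.leaf 0))) (.node (.node (.leaf 6) (.leaf 8)) (.node (.leaf 8) (.leaf 0)))))))) (.node (.node (.node (.node (.node (.node (.node (.leaf 1) (.leaf 8)) (.node (.leaf 6) (.leaf 0))) (.node (.node (.leaf 5) (.leaf 8)) (.node (.leaf 7) (.leaf 0)))) (.node (.node (.node (.leaf 4) (.leaf 8)) (.node (.leaf 7) (.leaf 0))) (.node (.node (.leaf 5) (.leaf 8)) (.node (.leaf 8) (.leaf 0))))) (.node (.node (.node (.node (.leaf 3) (.leaf 8)) (.node (.leaf 6) (.leaf 0))) (.node (.node (.leaf 5) (.leaf 8)) (.node (.leaf 7) (.leaf 0)))) (.node (.node (.node (.leaf 4) (.leaf 8)) (.node (.leaf 7) (.leaf 0))) (.node (.node (.leaf 6) (.leaf 8)) (.node (.leaf 8) (.leaf 0)))))) (.node (.node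 (.node (.node (.node (.leaf 2) (.leaf 8)) (.node (.leaf 6) (.leaf 0))) (.node (.node (.leaf 5) (.leaf 8)) (.node (.leaf 7) (.leaf 0)))) (.node (.node (.node (.leaf 4) (.leaf 8)) (.node (.leaf 7) (.leaf 0))) (.node (.node (.leaf 6) (.leaf 8)) (.node (.leaf 8) (.leaf 0))))) (.node (.node (.node (.node (.leaf 4) (.leaf 8)) (.node (.leaf 7) (.leaf 0))) (.node (.node (.leaf 5) (.leaf 8)) (.node (.leaf 7) (.leaf 0)))) (.node (.node (.node (.leaf 4) (.leaf 8)) (.node (.leaf 7) (.leaf 0))) (.node (.node (.leaf 6) (.leaf 8)) (.node (.leaf 8) (.leaf 0))))))) (.node (.node (.node (.node (.node (.node (.leaf 2) (.leaf 8)) (.node (.leaf 6) (.leaf 0))) (.node (.node (.leaf 5) (.leaf 8)) (.node (.leaf 7) (.leaf 0)))) (.node (.node (.node (.leaf 4) (.leaf 8)) (.node (.leaf 7) (.leaf 0))) (.node (.node (.leaf 5) (.leaf 8)) (.node (.leaf 8) (.leaf 0))))) (.node (.node (.node (.node (.leaf 4) (.leaf 8)) (.node (.leaf 7) (.leaf 0))) (.node (.node (.leaf 5) (.leaf 8)) (.node (.leaf 7) (.leaf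 0)))) (.node (.node (.node (.leaf 4) (.leaf 8)) (.node (.leaf 7) (.leaf 0))) (.node (.node (.leaf 6) (.leaf 8)) (.node (.leaf 8) (.leaf 0)))))) (.node (.node (.node (.node (.node (.leaf 3) (.leaf 8)) (.node (.leaf 6) (.leaf 0))) (.node (.node (.leaf 5) (.leaf 8)) (.node (.leaf 7) (.leaf 0)))) (.node (.node (.node (.leaf 4) (.leaf 8)) (.node (.leaf 7) (.leaf 0))) (.node (.node (.leaf 6) (.leaf 8)) (.node (.leaf 8) (.leaf 0))))) (.node (.node (.node (.node (.leaf 4) (.leaf 8)) (.node (.leaf 7) (.leaf 0))) (.node (.node (.leaf 5) (.leaf 8)) (.node (.leaf 7) (.leaf 0)))) (.node (.node (.node (.leaf 5) (.leaf 8)) (.node (.leaf 7) (.leaf 0))) (.node (.node (.leaf 6) (.leaf 0)) (.node (.leaf 8) (.leaf 0))))))))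

/-- Norm indices, part 5. -/
def normIdxPart5 : Tree :=
  .node (.node (.node (.node (.node (.node (.node (.node (.leaf 1) (.leaf 8)) (.node (.leaf 6) (.leaf 0))) (.node (.node (.leaf 5) (.leaf 8)) (.node (.leaf 7) (.leaf 0)))) (.node (.node (.node (.leaf 4) (.leaf 8)) (.node (.leaf 7) (.leaf 0))) (.node (.node (.leaf 5) (.leaf 8)) (.node (.leaf 7) (.leaf 0))))) (.node (.node (.node (.node (.leaf 3) (.leaf 8)) (.node (.leaf 6) (.leaf 0))) (.node (.node (.leaf 5) (.leaf 8)) (.node (.leaf 7) (.leaf 0)))) (.node (.node (.node (.leaf 4) (.leaf 8)) (.node (.leaf 7) (.leaf 0))) (.node (.node (.leaf 6) (.leaf 8)) (.node (.leaf 8) (.leaf 0)))))) (.node (.node (.node (.node (.node (.leaf 2) (.leaf 8)) (.node (.leaf 6) (.leaf 0))) (.node (.node (.leaf 5) (.leaf 8)) (.node (.leaf 7) (.leaf 0)))) (.node (.node (.node (.leaf 4) (.leaf 8)) (.node (.leaf 7) (.leaf 0))) (.node (.node (.leaf 5) (.leaf 8)) (.node (.leaf 8) (.leaf 0))))) (.node (.node (.node (.node (.leaf 4) (.leaf 8)) (.node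 (.leaf 7) (.leaf 0))) (.node (.node (.leaf 5) (.leaf 8)) (.node (.leaf 7) (.leaf 0)))) (.node (.node (.node (.leaf 4) (.leaf 8)) (.node (.leaf 7) (.leaf 0))) (.node (.node (.leaf 6) (.leaf 8)) (.node (.leaf 8) (.leaf 0))))))) (.node (.node (.node (.node (.node (.node (.leaf 1) (.leaf 8)) (.node (.leaf 6) (.leaf 0))) (.node (.node (.leaf 5) (.leaf 8)) (.node (.leaf 7) (.leaf 0)))) (.node (.node (.node (.leaf 4) (.leaf 8)) (.node (.leaf 7) (.leaf 0))) (.node (.node (.leaf 5) (.leaf 8)) (.node (.leaf 8) (.leaf 0))))) (.node (.node (.node (.node (.leaf 3) (.leaf 8)) (.node (.leaf 6) (.leaf 0))) (.node (.node (.leaf 5) (.leaf 8)) (.node (.leaf 7) (.leaf 0)))) (.node (.node (.node (.leaf 4) (.leaf 8)) (.node (.leaf 7) (.leaf 0))) (.node (.node (.leaf 6) (.leaf 8)) (.node (.leaf 8) (.leaf 0)))))) (.node (.node (.node (.node (.node (.leaf 2) (.leaf 8)) (.node (.leaf 6) (.leaf 0))) (.node (.node (.leaf 5) (.leaf 8)) (.node (.leaf 7) (.leaf 0)))) (.node (.node (.node (.leaf 4) (.leaf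 8)) (.node (.leaf 7) (.leaf 0))) (.node (.node (.leaf 6) (.leaf 8)) (.node (.leaf 8) (.leaf 0))))) (.node (.node (.node (.node (.leaf 4) (.leaf 8)) (.node (.leaf 7) (.leaf 0))) (.node (.node (.leaf 5) (.leaf 8)) (.node (.leaf 7) (.leaf 0)))) (.node (.node (.node (.leaf 5) (.leaf 8)) (.node (.leaf 7) (.leaf 0))) (.node (.node (.leaf 6) (.leaf 8)) (.node (.leaf 8) (.leaf 0)))))))) (.node (.node (.node (.node (.node (.node (.node (.leaf 1) (.leaf 8)) (.node (.leaf 6) (.leaf 0))) (.node (.node (.leaf 5) (.leaf 8)) (.node (.leaf 7) (.leaf 0)))) (.node (.node (.node (.leaf 4) (.leaf 8)) (.node (.leaf 7) (.leaf 0))) (.node (.node (.leaf 5) (.leaf 8)) (.node (.leaf 8) (.leaf 0))))) (.node (.node (.node (.node (.leaf 3) (.leaf 8)) (.node (.leaf 6) (.leaf 0))) (.node (.node (.leaf 5) (.leaf 8)) (.node (.leaf 7) (.leaf 0)))) (.node (.node (.node (.leaf 4) (.leaf 8)) (.node (.leaf 7) (.leaf 0))) (.node (.node (.leaf 6) (.leaf 8)) (.node (.leaf 8) (.leaf 0)))))) (.node (.node (.node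 (.node (.node (.leaf 2) (.leaf 8)) (.node (.leaf 6) (.leaf 0))) (.node (.node (.leaf 5) (.leaf 8)) (.node (.leaf 7) (.leaf 0)))) (.node (.node (.node (.leaf 4) (.leaf 8)) (.node (.leaf 7) (.leaf 0))) (.node (.node (.leaf 6) (.leaf 8)) (.node (.leaf 8) (.leaf 0))))) (.node (.node (.node (.node (.leaf 4) (.leaf 8)) (.node (.leaf 7) (.leaf 0))) (.node (.node (.leaf 5) (.leaf 8)) (.node (.leaf 7) (.leaf 0)))) (.node (.node (.node (.leaf 4) (.leaf 8)) (.node (.leaf 7) (.leaf 0))) (.node (.node (.leaf 6) (.leaf 8)) (.node (.leaf 8) (.leaf 0))))))) (.node (.node (.node (.node (.node (.node (.leaf 1) (.leaf 8)) (.node (.leaf 6) (.leaf 0))) (.node (.node (.leaf 5) (.leaf 8)) (.node (.leaf 7) (.leaf 0)))) (.node (.node (.node (.leaf 4) (.leaf 8)) (.node (.leaf 7) (.leaf 0))) (.node (.node (.leaf 5) (.leaf 8)) (.node (.leaf 8) (.leaf 0))))) (.node (.node (.node (.node (.leaf 3) (.leaf 8)) (.node (.leaf 7) (.leaf 0))) (.node (.node (.leaf 5) (.leaf 8)) (.node (.leaf 7) (.leaf 0))))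 (.node (.node (.node (.leaf 4) (.leaf 8)) (.node (.leaf 7) (.leaf 0))) (.node (.node (.leaf 6) (.leaf 8)) (.node (.leaf 8) (.leaf 0)))))) (.node (.node (.node (.node (.node (.leaf 2) (.leaf 8)) (.node (.leaf 6) (.leaf 0))) (.node (.node (.leaf 5) (.leaf 8)) (.node (.leaf 7) (.leaf 0)))) (.node (.node (.node (.leaf 4) (.leaf 8)) (.node (.leaf 7) (.leaf 0))) (.node (.node (.leaf 6) (.leaf 8)) (.node (.leaf 8) (.leaf 0))))) (.node (.node (.node (.node (.leaf 4) (.leaf 8)) (.node (.leaf 7) (.leaf 0))) (.node (.node (.leaf 5) (.leaf 8)) (.node (.leaf 7) (.leaf 0)))) (.node (.node (.node (.leaf 5) (.leaf 8)) (.node (.leaf 7) (.leaf 0))) (.node (.node (.leaf 6) (.leaf 8)) (.node (.leaf 8) (.leaf 0))))))))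

/-- Norm indices, part 21. -/
def normIdxPart21 : Tree :=
  .node (.node (.node (.node (.node (.node (.node (.node (.leaf 1) (.leaf 8)) (.node (.leaf 6) (.leaf 0))) (.node (.node (.leaf 5) (.leaf 8)) (.node (.leaf 7) (.leaf 0)))) (.node (.node (.node (.leaf 4) (.leaf 8)) (.node (.leaf 7) (.leaf 0))) (.node (.node (.leaf 5) (.leaf 8)) (.node (.leaf 8) (.leaf 0))))) (.node (.node (.node (.node (.leaf 3) (.leaf 8)) (.node (.leaf 6) (.leaf 0))) (.node (.node (.leaf 5) (.leaf 8)) (.node (.leaf 7) (.leaf 0)))) (.node (.node (.node (.leaf 4) (.leaf 8)) (.node (.leaf 7) (.leaf 0))) (.node (.node (.leaf 6) (.leaf 8)) (.node (.leaf 8) (.leaf 0)))))) (.node (.node (.node (.node (.node (.leaf 2) (.leaf 8)) (.node (.leaf 6) (.leaf 0))) (.node (.node (.leaf 5) (.leaf 8)) (.node (.leaf 7) (.leaf 0)))) (.node (.node (.node (.leaf 4) (.leaf 8)) (.node (.leaf 7) (.leaf 0))) (.node (.node (.leaf 6) (.leaf 8)) (.node (.leaf 8) (.leaf 0))))) (.node (.node (.node (.node (.leaf 4) (.leaf 8))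 (.node (.leaf 7) (.leaf 0))) (.node (.node (.leaf 5) (.leaf 8)) (.node (.leaf 7) (.leaf 0)))) (.node (.node (.node (.leaf 4) (.leaf 8)) (.node (.leaf 7) (.leaf 0))) (.node (.node (.leaf 6) (.leaf 8)) (.node (.leaf 8) (.leaf 0))))))) (.node (.node (.node (.node (.node (.node (.leaf 1) (.leaf 8)) (.node (.leaf 6) (.leaf 0))) (.node (.node (.leaf 5) (.leaf 8)) (.node (.leaf 7) (.leaf 0)))) (.node (.node (.node (.leaf 4) (.leaf 8)) (.node (.leaf 7) (.leaf 0))) (.node (.node (.leaf 5) (.leaf 8)) (.node (.leaf 8) (.leaf 0))))) (.node (.node (.node (.node (.leaf 3) (.leaf 8)) (.node (.leaf 6) (.leaf 0))) (.node (.node (.leaf 5) (.leaf 8)) (.node (.leaf 7) (.leaf 0)))) (.node (.node (.node (.leaf 4) (.leaf 8)) (.node (.leaf 7) (.leaf 0))) (.node (.node (.leaf 6) (.leaf 8)) (.node (.leaf 8) (.leaf 0)))))) (.node (.node (.node (.node (.node (.leaf 2) (.leaf 8)) (.node (.leaf 6) (.leaf 0))) (.node (.node (.leaf 5) (.leaf 8)) (.node (.leaf 7) (.leaf 0)))) (.node (.node (.node (.leaf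 4) (.leaf 8)) (.node (.leaf 7) (.leaf 0))) (.node (.node (.leaf 6) (.leaf 8)) (.node (.leaf 8) (.leaf 0))))) (.node (.node (.node (.node (.leaf 4) (.leaf 8)) (.node (.leaf 7) (.leaf 0))) (.node (.node (.leaf 5) (.leaf 8)) (.node (.leaf 7) (.leaf 0)))) (.node (.node (.node (.leaf 5) (.leaf 8)) (.node (.leaf 7) (.leaf 0))) (.node (.node (.leaf 6) (.leaf 8)) (.node (.leaf 8) (.leaf 0)))))))) (.node (.node (.node (.node (.node (.node (.node (.leaf 1) (.leaf 8)) (.node (.leaf 6) (.leaf 0))) (.node (.node (.leaf 5) (.leaf 8)) (.node (.leaf 7) (.leaf 0)))) (.node (.node (.node (.leaf 4) (.leaf 8)) (.node (.leaf 7) (.leaf 0))) (.node (.node (.leaf 5) (.leaf 8)) (.node (.leaf 8) (.leaf 0))))) (.node (.node (.node (.node (.leaf 3) (.leaf 8)) (.node (.leaf 6) (.leaf 0))) (.node (.node (.leaf 5) (.leaf 8)) (.node (.leaf 7) (.leaf 0)))) (.node (.node (.node (.leaf 4) (.leaf 8)) (.node (.leaf 7) (.leaf 0))) (.node (.node (.leaf 6) (.leaf 8)) (.node (.leaf 8) (.leaf 0)))))) (.node (.node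 (.node (.node (.node (.leaf 2) (.leaf 8)) (.node (.leaf 6) (.leaf 0))) (.node (.node (.leaf 5) (.leaf 8)) (.node (.leaf 7) (.leaf 0)))) (.node (.node (.node (.leaf 4) (.leaf 8)) (.node (.leaf 7) (.leaf 0))) (.node (.node (.leaf 6) (.leaf 8)) (.node (.leaf 8) (.leaf 0))))) (.node (.node (.node (.node (.leaf 4) (.leaf 8)) (.node (.leaf 7) (.leaf 0))) (.node (.node (.leaf 5) (.leaf 8)) (.node (.leaf 7) (.leaf 0)))) (.node (.node (.node (.leaf 4) (.leaf 8)) (.node (.leaf 7) (.leaf 0))) (.node (.node (.leaf 6) (.leaf 8)) (.node (.leaf 8) (.leaf 0))))))) (.node (.node (.node (.node (.node (.node (.leaf 1) (.leaf 8)) (.node (.leaf 6) (.leaf 0))) (.node (.node (.leaf 5) (.leaf 8)) (.node (.leaf 7) (.leaf 0)))) (.node (.node (.node (.leaf 4) (.leaf 8)) (.node (.leaf 7) (.leaf 0))) (.node (.node (.leaf 5) (.leaf 8)) (.node (.leaf 8) (.leaf 0))))) (.node (.node (.node (.node (.leaf 4) (.leaf 8)) (.node (.leaf 7) (.leaf 0))) (.node (.node (.leaf 5) (.leaf 8)) (.node (.leaf 7) (.leaf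 0)))) (.node (.node (.node (.leaf 4) (.leaf 8)) (.node (.leaf 7) (.leaf 0))) (.node (.node (.leaf 6) (.leaf 8)) (.node (.leaf 8) (.leaf 0)))))) (.node (.node (.node (.node (.node (.leaf 3) (.leaf 8)) (.node (.leaf 6) (.leaf 0))) (.node (.node (.leaf 5) (.leaf 8)) (.node (.leaf 7) (.leaf 0)))) (.node (.node (.node (.leaf 4) (.leaf 8)) (.node (.leaf 7) (.leaf 0))) (.node (.node (.leaf 6) (.leaf 8)) (.node (.leaf 8) (.leaf 0))))) (.node (.node (.node (.node (.leaf 4) (.leaf 8)) (.node (.leaf 7) (.leaf 0))) (.node (.node (.leaf 5) (.leaf 8)) (.node (.leaf 7) (.leaf 0)))) (.node (.node (.node (.leaf 5) (.leaf 8)) (.node (.leaf 7) (.leaf 0))) (.node (.node (.leaf 6) (.leaf 0)) (.node (.leaf 8) (.leaf 0))))))))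

/-- Norm indices, part 13. -/
def normIdxPart13 : Tree :=
  .node (.node (.node (.node (.node (.node (.node (.node (.leaf 1) (.leaf 8)) (.node (.leaf 6) (.leaf 0))) (.node (.node (.leaf 5) (.leaf 8)) (.node (.leaf 7) (.leaf 0)))) (.node (.node (.node (.leaf 4) (.leaf 8)) (.node (.leaf 7) (.leaf 0))) (.node (.node (.leaf 5) (.leaf 8)) (.node (.leaf 7) (.leaf 0))))) (.node (.node (.node (.node (.leaf 3) (.leaf 8)) (.node (.leaf 6) (.leaf 0))) (.node (.node (.leaf 5) (.leaf 8)) (.node (.leaf 7) (.leaf 0)))) (.node (.node (.node (.leaf 4) (.leaf 8)) (.node (.leaf 7) (.leaf 0))) (.node (.node (.leaf 6) (.leaf 8)) (.node (.leaf 8) (.leaf 0)))))) (.node (.node (.node (.node (.node (.leaf 2) (.leaf 8)) (.node (.leaf 6) (.leaf 0))) (.node (.node (.leaf 5) (.leaf 8)) (.node (.leaf 7) (.leaf 0)))) (.node (.node (.node (.leaf 4) (.leaf 8)) (.node (.leaf 7) (.leaf 0))) (.node (.node (.leaf 5) (.leaf 8)) (.node (.leaf 8) (.leaf 0))))) (.node (.node (.node (.node (.leaf 4) (.leaf 8))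 (.node (.leaf 7) (.leaf 0))) (.node (.node (.leaf 5) (.leaf 8)) (.node (.leaf 7) (.leaf 0)))) (.node (.node (.node (.leaf 4) (.leaf 8)) (.node (.leaf 7) (.leaf 0))) (.node (.node (.leaf 6) (.leaf 8)) (.node (.leaf 8) (.leaf 0))))))) (.node (.node (.node (.node (.node (.node (.leaf 1) (.leaf 8)) (.node (.leaf 6) (.leaf 0))) (.node (.node (.leaf 5) (.leaf 8)) (.node (.leaf 7) (.leaf 0)))) (.node (.node (.node (.leaf 4) (.leaf 8)) (.node (.leaf 7) (.leaf 0))) (.node (.node (.leaf 5) (.leaf 8)) (.node (.leaf 8) (.leaf 0))))) (.node (.node (.node (.node (.leaf 3) (.leaf 8)) (.node (.leaf 6) (.leaf 0))) (.node (.node (.leaf 5) (.leaf 8)) (.node (.leaf 7) (.leaf 0)))) (.node (.node (.node (.leaf 4) (.leaf 8)) (.node (.leaf 7) (.leaf 0))) (.node (.node (.leaf 6) (.leaf 8)) (.node (.leaf 8) (.leaf 0)))))) (.node (.node (.node (.node (.node (.leaf 2) (.leaf 8)) (.node (.leaf 6) (.leaf 0))) (.node (.node (.leaf 5) (.leaf 8)) (.node (.leaf 7) (.leaf 0)))) (.node (.node (.node (.leaf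 4) (.leaf 8)) (.node (.leaf 7) (.leaf 0))) (.node (.node (.leaf 6) (.leaf 8)) (.node (.leaf 8) (.leaf 0))))) (.node (.node (.node (.node (.leaf 4) (.leaf 8)) (.node (.leaf 7) (.leaf 0))) (.node (.node (.leaf 5) (.leaf 8)) (.node (.leaf 7) (.leaf 0)))) (.node (.node (.node (.leaf 5) (.leaf 8)) (.node (.leaf 7) (.leaf 0))) (.node (.node (.leaf 6) (.leaf 8)) (.node (.leaf 8) (.leaf 0)))))))) (.node (.node (.node (.node (.node (.node (.node (.leaf 1) (.leaf 8)) (.node (.leaf 6) (.leaf 0))) (.node (.node (.leaf 5) (.leaf 8)) (.node (.leaf 7) (.leaf 0)))) (.node (.node (.node (.leaf 4) (.leaf 8)) (.node (.leaf 7) (.leaf 0))) (.node (.node (.leaf 5) (.leaf 8)) (.node (.leaf 8) (.leaf 0))))) (.node (.node (.node (.node (.leaf 3) (.leaf 8)) (.node (.leaf 6) (.leaf 0))) (.node (.node (.leaf 5) (.leaf 8)) (.node (.leaf 7) (.leaf 0)))) (.node (.node (.node (.leaf 4) (.leaf 8)) (.node (.leaf 7) (.leaf 0))) (.node (.node (.leaf 6) (.leaf 8)) (.node (.leaf 8) (.leaf 0)))))) (.node (.node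 (.node (.node (.node (.leaf 2) (.leaf 8)) (.node (.leaf 6) (.leaf 0))) (.node (.node (.leaf 5) (.leaf 8)) (.node (.leaf 7) (.leaf 0)))) (.node (.node (.node (.leaf 4) (.leaf 8)) (.node (.leaf 7) (.leaf 0))) (.node (.node (.leaf 6) (.leaf 8)) (.node (.leaf 8) (.leaf 0))))) (.node (.node (.node (.node (.leaf 4) (.leaf 8)) (.node (.leaf 7) (.leaf 0))) (.node (.node (.leaf 5) (.leaf 8)) (.node (.leaf 7) (.leaf 0)))) (.node (.node (.node (.leaf 4) (.leaf 8)) (.node (.leaf 7) (.leaf 0))) (.node (.node (.leaf 6) (.leaf 8)) (.node (.leaf 8) (.leaf 0))))))) (.node (.node (.node (.node (.node (.node (.leaf 1) (.leaf 8)) (.node (.leaf 6) (.leaf 0))) (.node (.node (.leaf 5) (.leaf 8)) (.node (.leaf 7) (.leaf 0)))) (.node (.node (.node (.leaf 4) (.leaf 8)) (.node (.leaf 7) (.leaf 0))) (.node (.node (.leaf 5) (.leaf 8)) (.node (.leaf 8) (.leaf 0))))) (.node (.node (.node (.node (.leaf 4) (.leaf 8)) (.node (.leaf 7) (.leaf 0))) (.node (.node (.leaf 5) (.leaf 8)) (.node (.leaf 7) (.leaf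 0)))) (.node (.node (.node (.leaf 4) (.leaf 8)) (.node (.leaf 7) (.leaf 0))) (.node (.node (.leaf 6) (.leaf 8)) (.node (.leaf 8) (.leaf 0)))))) (.node (.node (.node (.node (.node (.leaf 2) (.leaf 8)) (.node (.leaf 6) (.leaf 0))) (.node (.node (.leaf 5) (.leaf 8)) (.node (.leaf 7) (.leaf 0)))) (.node (.node (.node (.leaf 4) (.leaf 8)) (.node (.leaf 7) (.leaf 0))) (.node (.node (.leaf 6) (.leaf 8)) (.node (.leaf 8) (.leaf 0))))) (.node (.node (.node (.node (.leaf 4) (.leaf 8)) (.node (.leaf 7) (.leaf 0))) (.node (.node (.leaf 5) (.leaf 8)) (.node (.leaf 7) (.leaf 0)))) (.node (.node (.node (.leaf 5) (.leaf 8)) (.node (.leaf 7) (.leaf 0))) (.node (.node (.leaf 6) (.leaf 0)) (.node (.leaf 8) (.leaf 0))))))))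

/-- Norm indices, part 29. -/
def normIdxPart29 : Tree :=
  .node (.node (.node (.node (.node (.node (.node (.node (.leaf 1) (.leaf 8)) (.node (.leaf 6) (.leaf 0))) (.node (.node (.leaf 5) (.leaf 8)) (.node (.leaf 7) (.leaf 0)))) (.node (.node (.node (.leaf 4) (.leaf 8)) (.node (.leaf 7) (.leaf 0))) (.node (.node (.leaf 5) (.leaf 8)) (.node (.leaf 8) (.leaf 0))))) (.node (.node (.node (.node (.leaf 3) (.leaf 8)) (.node (.leaf 6) (.leaf 0))) (.node (.node (.leaf 5) (.leaf 8)) (.node (.leaf 7) (.leaf 0)))) (.node (.node (.node (.leaf 4) (.leaf 8)) (.node (.leaf 7) (.leaf 0))) (.node (.node (.leaf 6) (.leaf 8)) (.node (.leaf 8) (.leaf 0)))))) (.node (.node (.node (.node (.node (.leaf 2) (.leaf 8)) (.node (.leaf 6) (.leaf 0))) (.node (.node (.leaf 5) (.leaf 8)) (.node (.leaf 7) (.leaf 0)))) (.node (.node (.node (.leaf 4) (.leaf 8)) (.node (.leaf 7) (.leaf 0))) (.node (.node (.leaf 6) (.leaf 8)) (.node (.leaf 8) (.leaf 0))))) (.node (.node (.node (.node (.leaf 4) (.leaf 8))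 (.node (.leaf 7) (.leaf 0))) (.node (.node (.leaf 5) (.leaf 8)) (.node (.leaf 7) (.leaf 0)))) (.node (.node (.node (.leaf 4) (.leaf 8)) (.node (.leaf 7) (.leaf 0))) (.node (.node (.leaf 6) (.leaf 8)) (.node (.leaf 8) (.leaf 0))))))) (.node (.node (.node (.node (.node (.node (.leaf 1) (.leaf 8)) (.node (.leaf 6) (.leaf 0))) (.node (.node (.leaf 5) (.leaf 8)) (.node (.leaf 7) (.leaf 0)))) (.node (.node (.node (.leaf 4) (.leaf 8)) (.node (.leaf 7) (.leaf 0))) (.node (.node (.leaf 5) (.leaf 8)) (.node (.leaf 8) (.leaf 0))))) (.node (.node (.node (.node (.leaf 3) (.leaf 8)) (.node (.leaf 6) (.leaf 0))) (.node (.node (.leaf 5) (.leaf 8)) (.node (.leaf 7) (.leaf 0)))) (.node (.node (.node (.leaf 4) (.leaf 8)) (.node (.leaf 7) (.leaf 0))) (.node (.node (.leaf 6) (.leaf 8)) (.node (.leaf 8) (.leaf 0)))))) (.node (.node (.node (.node (.node (.leaf 2) (.leaf 8)) (.node (.leaf 6) (.leaf 0))) (.node (.node (.leaf 5) (.leaf 8)) (.node (.leaf 7) (.leaf 0)))) (.node (.node (.node (.leaf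 4) (.leaf 8)) (.node (.leaf 7) (.leaf 0))) (.node (.node (.leaf 6) (.leaf 8)) (.node (.leaf 8) (.leaf 0))))) (.node (.node (.node (.node (.leaf 4) (.leaf 8)) (.node (.leaf 7) (.leaf 0))) (.node (.node (.leaf 5) (.leaf 8)) (.node (.leaf 7) (.leaf 0)))) (.node (.node (.node (.leaf 5) (.leaf 8)) (.node (.leaf 7) (.leaf 0))) (.node (.node (.leaf 6) (.leaf 8)) (.node (.leaf 8) (.leaf 0)))))))) (.node (.node (.node (.node (.node (.node (.node (.leaf 1) (.leaf 8)) (.node (.leaf 6) (.leaf 0))) (.node (.node (.leaf 5) (.leaf 8)) (.node (.leaf 7) (.leaf 0)))) (.node (.node (.node (.leaf 4) (.leaf 8)) (.node (.leaf 7) (.leaf 0))) (.node (.node (.leaf 5) (.leaf 8)) (.node (.leaf 8) (.leaf 0))))) (.node (.node (.node (.node (.leaf 3) (.leaf 8)) (.node (.leaf 6) (.leaf 0))) (.node (.node (.leaf 5) (.leaf 8)) (.node (.leaf 7) (.leaf 0)))) (.node (.node (.node (.leaf 4) (.leaf 8)) (.node (.leaf 7) (.leaf 0))) (.node (.node (.leaf 6) (.leaf 8)) (.node (.leaf 8) (.leaf 0)))))) (.node (.node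 (.node (.node (.node (.leaf 2) (.leaf 8)) (.node (.leaf 6) (.leaf 0))) (.node (.node (.leaf 5) (.leaf 8)) (.node (.leaf 7) (.leaf 0)))) (.node (.node (.node (.leaf 4) (.leaf 8)) (.node (.leaf 7) (.leaf 0))) (.node (.node (.leaf 6) (.leaf 8)) (.node (.leaf 8) (.leaf 0))))) (.node (.node (.node (.node (.leaf 4) (.leaf 8)) (.node (.leaf 7) (.leaf 0))) (.node (.node (.leaf 5) (.leaf 8)) (.node (.leaf 7) (.leaf 0)))) (.node (.node (.node (.leaf 4) (.leaf 8)) (.node (.leaf 7) (.leaf 0))) (.node (.node (.leaf 6) (.leaf 8)) (.node (.leaf 8) (.leaf 0))))))) (.node (.node (.node (.node (.node (.node (.leaf 2) (.leaf 8)) (.node (.leaf 6) (.leaf 0))) (.node (.node (.leaf 5) (.leaf 8)) (.node (.leaf 7) (.leaf 0)))) (.node (.node (.node (.leaf 4) (.leaf 8)) (.node (.leaf 7) (.leaf 0))) (.node (.node (.leaf 5) (.leaf 8)) (.node (.leaf 8) (.leaf 0))))) (.node (.node (.node (.node (.leaf 4) (.leaf 8)) (.node (.leaf 7) (.leaf 0))) (.node (.node (.leaf 5) (.leaf 8)) (.node (.leaf 7) (.leaf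 0)))) (.node (.node (.node (.leaf 4) (.leaf 8)) (.node (.leaf 7) (.leaf 0))) (.node (.node (.leaf 6) (.leaf 8)) (.node (.leaf 8) (.leaf 0)))))) (.node (.node (.node (.node (.node (.leaf 3) (.leaf 8)) (.node (.leaf 6) (.leaf 0))) (.node (.node (.leaf 5) (.leaf 8)) (.node (.leaf 7) (.leaf 0)))) (.node (.node (.node (.leaf 4) (.leaf 8)) (.node (.leaf 7) (.leaf 0))) (.node (.node (.leaf 6) (.leaf 8)) (.node (.leaf 8) (.leaf 0))))) (.node (.node (.node (.node (.leaf 4) (.leaf 8)) (.node (.leaf 7) (.leaf 0))) (.node (.node (.leaf 5) (.leaf 8)) (.node (.leaf 7) (.leaf 0)))) (.node (.node (.node (.leaf 5) (.leaf 8)) (.node (.leaf 7) (.leaf 0))) (.node (.node (.leaf 6) (.leaf 0)) (.node (.leaf 8) (.leaf 0))))))))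

/-- Norm indices, part 3. -/
def normIdxPart3 : Tree :=
  .node (.node (.node (.node (.node (.node (.node (.node (.leaf 1) (.leaf 8)) (.node (.leaf 6) (.leaf 0))) (.node (.node (.leaf 5) (.leaf 8)) (.node (.leaf 7) (.leaf 0)))) (.node (.node (.node (.leaf 4) (.leaf 8)) (.node (.leaf 7) (.leaf 0))) (.node (.node (.leaf 5) (.leaf 8)) (.node (.leaf 7) (.leaf 0))))) (.node (.node (.node (.node (.leaf 3) (.leaf 8)) (.node (.leaf 6) (.leaf 0))) (.node (.node (.leaf 5) (.leaf 8)) (.node (.leaf 7) (.leaf 0)))) (.node (.node (.node (.leaf 4) (.leaf 8)) (.node (.leaf 7) (.leaf 0))) (.node (.node (.leaf 6) (.leaf 8)) (.node (.leaf 8) (.leaf 0)))))) (.node (.node (.node (.node (.node (.leaf 2) (.leaf 8)) (.node (.leaf 6) (.leaf 0))) (.node (.node (.leaf 5) (.leaf 8)) (.node (.leaf 7) (.leaf 0)))) (.node (.node (.node (.leaf 4) (.leaf 8)) (.node (.leaf 7) (.leaf 0))) (.node (.node (.leaf 5) (.leaf 8)) (.node (.leaf 8) (.leaf 0))))) (.node (.node (.node (.node (.leaf 4) (.leaf 8)) (.node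 (.leaf 7) (.leaf 0))) (.node (.node (.leaf 5) (.leaf 8)) (.node (.leaf 7) (.leaf 0)))) (.node (.node (.node (.leaf 4) (.leaf 8)) (.node (.leaf 7) (.leaf 0))) (.node (.node (.leaf 6) (.leaf 8)) (.node (.leaf 8) (.leaf 0))))))) (.node (.node (.node (.node (.node (.node (.leaf 1) (.leaf 8)) (.node (.leaf 6) (.leaf 0))) (.node (.node (.leaf 5) (.leaf 8)) (.node (.leaf 7) (.leaf 0)))) (.node (.node (.node (.leaf 4) (.leaf 8)) (.node (.leaf 7) (.leaf 0))) (.node (.node (.leaf 5) (.leaf 8)) (.node (.leaf 8) (.leaf 0))))) (.node (.node (.node (.node (.leaf 3) (.leaf 8)) (.node (.leaf 6) (.leaf 0))) (.node (.node (.leaf 5) (.leaf 8)) (.node (.leaf 7) (.leaf 0)))) (.node (.node (.node (.leaf 4) (.leaf 8)) (.node (.leaf 7) (.leaf 0))) (.node (.node (.leaf 6) (.leaf 8)) (.node (.leaf 8) (.leaf 0)))))) (.node (.node (.node (.node (.node (.leaf 2) (.leaf 8)) (.node (.leaf 6) (.leaf 0))) (.node (.node (.leaf 5) (.leaf 8)) (.node (.leaf 7) (.leaf 0)))) (.node (.node (.node (.leaf 4) (.leaf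 8)) (.node (.leaf 7) (.leaf 0))) (.node (.node (.leaf 6) (.leaf 8)) (.node (.leaf 8) (.leaf 0))))) (.node (.node (.node (.node (.leaf 4) (.leaf 8)) (.node (.leaf 7) (.leaf 0))) (.node (.node (.leaf 5) (.leaf 8)) (.node (.leaf 7) (.leaf 0)))) (.node (.node (.node (.leaf 5) (.leaf 8)) (.node (.leaf 7) (.leaf 0))) (.node (.node (.leaf 6) (.leaf 8)) (.node (.leaf 8) (.leaf 0)))))))) (.node (.node (.node (.node (.node (.node (.node (.leaf 1) (.leaf 8)) (.node (.leaf 6) (.leaf 0))) (.node (.node (.leaf 5) (.leaf 8)) (.node (.leaf 7) (.leaf 0)))) (.node (.node (.node (.leaf 4) (.leaf 8)) (.node (.leaf 7) (.leaf 0))) (.node (.node (.leaf 5) (.leaf 8)) (.node (.leaf 8) (.leaf 0))))) (.node (.node (.node (.node (.leaf 3) (.leaf 8)) (.node (.leaf 6) (.leaf 0))) (.node (.node (.leaf 5) (.leaf 8)) (.node (.leaf 7) (.leaf 0)))) (.node (.node (.node (.leaf 4) (.leaf 8)) (.node (.leaf 7) (.leaf 0))) (.node (.node (.leaf 6) (.leaf 8)) (.node (.leaf 8) (.leaf 0)))))) (.node (.node (.node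 (.node (.node (.leaf 2) (.leaf 8)) (.node (.leaf 6) (.leaf 0))) (.node (.node (.leaf 5) (.leaf 8)) (.node (.leaf 7) (.leaf 0)))) (.node (.node (.node (.leaf 4) (.leaf 8)) (.node (.leaf 7) (.leaf 0))) (.node (.node (.leaf 6) (.leaf 8)) (.node (.leaf 8) (.leaf 0))))) (.node (.node (.node (.node (.leaf 4) (.leaf 8)) (.node (.leaf 7) (.leaf 0))) (.node (.node (.leaf 5) (.leaf 8)) (.node (.leaf 7) (.leaf 0)))) (.node (.node (.node (.leaf 4) (.leaf 8)) (.node (.leaf 7) (.leaf 0))) (.node (.node (.leaf 6) (.leaf 8)) (.node (.leaf 8) (.leaf 0))))))) (.node (.node (.node (.node (.node (.node (.leaf 1) (.leaf 8)) (.node (.leaf 6) (.leaf 0))) (.node (.node (.leaf 5) (.leaf 8)) (.node (.leaf 7) (.leaf 0)))) (.node (.node (.node (.leaf 4) (.leaf 8)) (.node (.leaf 7) (.leaf 0))) (.node (.node (.leaf 5) (.leaf 8)) (.node (.leaf 8) (.leaf 0))))) (.node (.node (.node (.node (.leaf 3) (.leaf 8)) (.node (.leaf 7) (.leaf 0))) (.node (.node (.leaf 5) (.leaf 8)) (.node (.leaf 7) (.leaf 0))))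 (.node (.node (.node (.leaf 4) (.leaf 8)) (.node (.leaf 7) (.leaf 0))) (.node (.node (.leaf 6) (.leaf 8)) (.node (.leaf 8) (.leaf 0)))))) (.node (.node (.node (.node (.node (.leaf 2) (.leaf 8)) (.node (.leaf 6) (.leaf 0))) (.node (.node (.leaf 5) (.leaf 8)) (.node (.leaf 7) (.leaf 0)))) (.node (.node (.node (.leaf 4) (.leaf 8)) (.node (.leaf 7) (.leaf 0))) (.node (.node (.leaf 6) (.leaf 8)) (.node (.leaf 8) (.leaf 0))))) (.node (.node (.node (.node (.leaf 4) (.leaf 8)) (.node (.leaf 7) (.leaf 0))) (.node (.node (.leaf 5) (.leaf 8)) (.node (.leaf 7) (.leaf 0)))) (.node (.node (.node (.leaf 5) (.leaf 8)) (.node (.leaf 7) (.leaf 0))) (.node (.node (.leaf 6) (.leaf 8)) (.node (.leaf 8) (.leaf 0))))))))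

/-- Norm indices, part 19. -/
def normIdxPart19 : Tree :=
  .node (.node (.node (.node (.node (.node (.node (.node (.leaf 1) (.leaf 8)) (.node (.leaf 6) (.leaf 0))) (.node (.node (.leaf 5) (.leaf 8)) (.node (.leaf 7) (.leaf 0)))) (.node (.node (.node (.leaf 4) (.leaf 8)) (.node (.leaf 7) (.leaf 0))) (.node (.node (.leaf 5) (.leaf 8)) (.node (.leaf 8) (.leaf 0))))) (.node (.node (.node (.node (.leaf 3) (.leaf 8)) (.node (.leaf 6) (.leaf 0))) (.node (.node (.leaf 5) (.leaf 8)) (.node (.leaf 7) (.leaf 0)))) (.node (.node (.node (.leaf 4) (.leaf 8)) (.node (.leaf 7) (.leaf 0))) (.node (.node (.leaf 6) (.leaf 8)) (.node (.leaf 8) (.leaf 0)))))) (.node (.node (.node (.node (.node (.leaf 2) (.leaf 8)) (.node (.leaf 6) (.leaf 0))) (.node (.node (.leaf 5) (.leaf 8)) (.node (.leaf 7) (.leaf 0)))) (.node (.node (.node (.leaf 4) (.leaf 8)) (.node (.leaf 7) (.leaf 0))) (.node (.node (.leaf 6) (.leaf 8)) (.node (.leaf 8) (.leaf 0))))) (.node (.node (.node (.node (.leaf 4) (.leaf 8))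 (.node (.leaf 7) (.leaf 0))) (.node (.node (.leaf 5) (.leaf 8)) (.node (.leaf 7) (.leaf 0)))) (.node (.node (.node (.leaf 4) (.leaf 8)) (.node (.leaf 7) (.leaf 0))) (.node (.node (.leaf 6) (.leaf 8)) (.node (.leaf 8) (.leaf 0))))))) (.node (.node (.node (.node (.node (.node (.leaf 1) (.leaf 8)) (.node (.leaf 6) (.leaf 0))) (.node (.node (.leaf 5) (.leaf 8)) (.node (.leaf 7) (.leaf 0)))) (.node (.node (.node (.leaf 4) (.leaf 8)) (.node (.leaf 7) (.leaf 0))) (.node (.node (.leaf 5) (.leaf 8)) (.node (.leaf 8) (.leaf 0))))) (.node (.node (.node (.node (.leaf 3) (.leaf 8)) (.node (.leaf 6) (.leaf 0))) (.node (.node (.leaf 5) (.leaf 8)) (.node (.leaf 7) (.leaf 0)))) (.node (.node (.node (.leaf 4) (.leaf 8)) (.node (.leaf 7) (.leaf 0))) (.node (.node (.leaf 6) (.leaf 8)) (.node (.leaf 8) (.leaf 0)))))) (.node (.node (.node (.node (.node (.leaf 2) (.leaf 8)) (.node (.leaf 6) (.leaf 0))) (.node (.node (.leaf 5) (.leaf 8)) (.node (.leaf 7) (.leaf 0)))) (.node (.node (.node (.leaf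 4) (.leaf 8)) (.node (.leaf 7) (.leaf 0))) (.node (.node (.leaf 6) (.leaf 8)) (.node (.leaf 8) (.leaf 0))))) (.node (.node (.node (.node (.leaf 4) (.leaf 8)) (.node (.leaf 7) (.leaf 0))) (.node (.node (.leaf 5) (.leaf 8)) (.node (.leaf 7) (.leaf 0)))) (.node (.node (.node (.leaf 5) (.leaf 8)) (.node (.leaf 7) (.leaf 0))) (.node (.node (.leaf 6) (.leaf 8)) (.node (.leaf 8) (.leaf 0)))))))) (.node (.node (.node (.node (.node (.node (.node (.leaf 1) (.leaf 8)) (.node (.leaf 6) (.leaf 0))) (.node (.node (.leaf 5) (.leaf 8)) (.node (.leaf 7) (.leaf 0)))) (.node (.node (.node (.leaf 4) (.leaf 8)) (.node (.leaf 7) (.leaf 0))) (.node (.node (.leaf 5) (.leaf 8)) (.node (.leaf 8) (.leaf 0))))) (.node (.node (.node (.node (.leaf 3) (.leaf 8)) (.node (.leaf 6) (.leaf 0))) (.node (.node (.leaf 5) (.leaf 8)) (.node (.leaf 7) (.leaf 0)))) (.node (.node (.node (.leaf 4) (.leaf 8)) (.node (.leaf 7) (.leaf 0))) (.node (.node (.leaf 6) (.leaf 8)) (.node (.leaf 8) (.leaf 0)))))) (.node (.node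 (.node (.node (.node (.leaf 2) (.leaf 8)) (.node (.leaf 6) (.leaf 0))) (.node (.node (.leaf 5) (.leaf 8)) (.node (.leaf 7) (.leaf 0)))) (.node (.node (.node (.leaf 4) (.leaf 8)) (.node (.leaf 7) (.leaf 0))) (.node (.node (.leaf 6) (.leaf 8)) (.node (.leaf 8) (.leaf 0))))) (.node (.node (.node (.node (.leaf 4) (.leaf 8)) (.node (.leaf 7) (.leaf 0))) (.node (.node (.leaf 5) (.leaf 8)) (.node (.leaf 7) (.leaf 0)))) (.node (.node (.node (.leaf 4) (.leaf 8)) (.node (.leaf 7) (.leaf 0))) (.node (.node (.leaf 6) (.leaf 8)) (.node (.leaf 8) (.leaf 0))))))) (.node (.node (.node (.node (.node (.node (.leaf 1) (.leaf 8)) (.node (.leaf 6) (.leaf 0))) (.node (.node (.leaf 5) (.leaf 8)) (.node (.leaf 7) (.leaf 0)))) (.node (.node (.node (.leaf 4) (.leaf 8)) (.node (.leaf 7) (.leaf 0))) (.node (.node (.leaf 5) (.leaf 8)) (.node (.leaf 8) (.leaf 0))))) (.node (.node (.node (.node (.leaf 4) (.leaf 8)) (.node (.leaf 7) (.leaf 0))) (.node (.node (.leaf 5) (.leaf 8)) (.node (.leaf 7) (.leaf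 0)))) (.node (.node (.node (.leaf 4) (.leaf 8)) (.node (.leaf 7) (.leaf 0))) (.node (.node (.leaf 6) (.leaf 8)) (.node (.leaf 8) (.leaf 0)))))) (.node (.node (.node (.node (.node (.leaf 3) (.leaf 8)) (.node (.leaf 6) (.leaf 0))) (.node (.node (.leaf 5) (.leaf 8)) (.node (.leaf 7) (.leaf 0)))) (.node (.node (.node (.leaf 4) (.leaf 8)) (.node (.leaf 7) (.leaf 0))) (.node (.node (.leaf 6) (.leaf 8)) (.node (.leaf 8) (.leaf 0))))) (.node (.node (.node (.node (.leaf 4) (.leaf 8)) (.node (.leaf 7) (.leaf 0))) (.node (.node (.leaf 5) (.leaf 8)) (.node (.leaf 7) (.leaf 0)))) (.node (.node (.node (.leaf 5) (.leaf 8)) (.node (.leaf 7) (.leaf 0))) (.node (.node (.leaf 6) (.leaf 0)) (.node (.leaf 8) (.leaf 0))))))))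

/-- Norm indices, part 11. -/
def normIdxPart11 : Tree :=
  .node (.node (.node (.node (.node (.node (.node (.node (.leaf 1) (.leaf 8)) (.node (.leaf 6) (.leaf 0))) (.node (.node (.leaf 5) (.leaf 8)) (.node (.leaf 7) (.leaf 0)))) (.node (.node (.node (.leaf 4) (.leaf 8)) (.node (.leaf 7) (.leaf 0))) (.node (.node (.leaf 5) (.leaf 8)) (.node (.leaf 7) (.leaf 0))))) (.node (.node (.node (.node (.leaf 3) (.leaf 8)) (.node (.leaf 6) (.leaf 0))) (.node (.node (.leaf 5) (.leaf 8)) (.node (.leaf 7) (.leaf 0)))) (.node (.node (.node (.leaf 4) (.leaf 8)) (.node (.leaf 7) (.leaf 0))) (.node (.node (.leaf 6) (.leaf 8)) (.node (.leaf 8) (.leaf 0)))))) (.node (.node (.node (.node (.node (.leaf 2) (.leaf 8)) (.node (.leaf 6) (.leaf 0))) (.node (.node (.leaf 5) (.leaf 8)) (.node (.leaf 7) (.leaf 0)))) (.node (.node (.node (.leaf 4) (.leaf 8)) (.node (.leaf 7) (.leaf 0))) (.node (.node (.leaf 5) (.leaf 8)) (.node (.leaf 8) (.leaf 0))))) (.node (.node (.node (.node (.leaf 4) (.leaf 8))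 (.node (.leaf 7) (.leaf 0))) (.node (.node (.leaf 5) (.leaf 8)) (.node (.leaf 7) (.leaf 0)))) (.node (.node (.node (.leaf 4) (.leaf 8)) (.node (.leaf 7) (.leaf 0))) (.node (.node (.leaf 6) (.leaf 8)) (.node (.leaf 8) (.leaf 0))))))) (.node (.node (.node (.node (.node (.node (.leaf 1) (.leaf 8)) (.node (.leaf 6) (.leaf 0))) (.node (.node (.leaf 5) (.leaf 8)) (.node (.leaf 7) (.leaf 0)))) (.node (.node (.node (.leaf 4) (.leaf 8)) (.node (.leaf 7) (.leaf 0))) (.node (.node (.leaf 5) (.leaf 8)) (.node (.leaf 8) (.leaf 0))))) (.node (.node (.node (.node (.leaf 3) (.leaf 8)) (.node (.leaf 6) (.leaf 0))) (.node (.node (.leaf 5) (.leaf 8)) (.node (.leaf 7) (.leaf 0)))) (.node (.node (.node (.leaf 4) (.leaf 8)) (.node (.leaf 7) (.leaf 0))) (.node (.node (.leaf 6) (.leaf 8)) (.node (.leaf 8) (.leaf 0)))))) (.node (.node (.node (.node (.node (.leaf 2) (.leaf 8)) (.node (.leaf 6) (.leaf 0))) (.node (.node (.leaf 5) (.leaf 8)) (.node (.leaf 7) (.leaf 0)))) (.node (.node (.node (.leaf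 4) (.leaf 8)) (.node (.leaf 7) (.leaf 0))) (.node (.node (.leaf 6) (.leaf 8)) (.node (.leaf 8) (.leaf 0))))) (.node (.node (.node (.node (.leaf 4) (.leaf 8)) (.node (.leaf 7) (.leaf 0))) (.node (.node (.leaf 5) (.leaf 8)) (.node (.leaf 7) (.leaf 0)))) (.node (.node (.node (.leaf 5) (.leaf 8)) (.node (.leaf 7) (.leaf 0))) (.node (.node (.leaf 6) (.leaf 8)) (.node (.leaf 8) (.leaf 0)))))))) (.node (.node (.node (.node (.node (.node (.node (.leaf 1) (.leaf 8)) (.node (.leaf 6) (.leaf 0))) (.node (.node (.leaf 5) (.leaf 8)) (.node (.leaf 7) (.leaf 0)))) (.node (.node (.node (.leaf 4) (.leaf 8)) (.node (.leaf 7) (.leaf 0))) (.node (.node (.leaf 5) (.leaf 8)) (.node (.leaf 8) (.leaf 0))))) (.node (.node (.node (.node (.leaf 3) (.leaf 8)) (.node (.leaf 6) (.leaf 0))) (.node (.node (.leaf 5) (.leaf 8)) (.node (.leaf 7) (.leaf 0)))) (.node (.node (.node (.leaf 4) (.leaf 8)) (.node (.leaf 7) (.leaf 0))) (.node (.node (.leaf 6) (.leaf 8)) (.node (.leaf 8) (.leaf 0)))))) (.node (.node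 (.node (.node (.node (.leaf 2) (.leaf 8)) (.node (.leaf 6) (.leaf 0))) (.node (.node (.leaf 5) (.leaf 8)) (.node (.leaf 7) (.leaf 0)))) (.node (.node (.node (.leaf 4) (.leaf 8)) (.node (.leaf 7) (.leaf 0))) (.node (.node (.leaf 6) (.leaf 8)) (.node (.leaf 8) (.leaf 0))))) (.node (.node (.node (.node (.leaf 4) (.leaf 8)) (.node (.leaf 7) (.leaf 0))) (.node (.node (.leaf 5) (.leaf 8)) (.node (.leaf 7) (.leaf 0)))) (.node (.node (.node (.leaf 4) (.leaf 8)) (.node (.leaf 7) (.leaf 0))) (.node (.node (.leaf 6) (.leaf 8)) (.node (.leaf 8) (.leaf 0))))))) (.node (.node (.node (.node (.node (.node (.leaf 1) (.leaf 8)) (.node (.leaf 6) (.leaf 0))) (.node (.node (.leaf 5) (.leaf 8)) (.node (.leaf 7) (.leaf 0)))) (.node (.node (.node (.leaf 4) (.leaf 8)) (.node (.leaf 7) (.leaf 0))) (.node (.node (.leaf 5) (.leaf 8)) (.node (.leaf 8) (.leaf 0))))) (.node (.node (.node (.node (.leaf 4) (.leaf 8)) (.node (.leaf 7) (.leaf 0))) (.node (.node (.leaf 5) (.leaf 8)) (.node (.leaf 7) (.leaf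 0)))) (.node (.node (.node (.leaf 4) (.leaf 8)) (.node (.leaf 7) (.leaf 0))) (.node (.node (.leaf 6) (.leaf 8)) (.node (.leaf 8) (.leaf 0)))))) (.node (.node (.node (.node (.node (.leaf 2) (.leaf 8)) (.node (.leaf 6) (.leaf 0))) (.node (.node (.leaf 5) (.leaf 8)) (.node (.leaf 7) (.leaf 0)))) (.node (.node (.node (.leaf 4) (.leaf 8)) (.node (.leaf 7) (.leaf 0))) (.node (.node (.leaf 6) (.leaf 8)) (.node (.leaf 8) (.leaf 0))))) (.node (.node (.node (.node (.leaf 4) (.leaf 8)) (.node (.leaf 7) (.leaf 0))) (.node (.node (.leaf 5) (.leaf 8)) (.node (.leaf 7) (.leaf 0)))) (.node (.node (.node (.leaf 5) (.leaf 8)) (.node (.leaf 7) (.leaf 0))) (.node (.node (.leaf 6) (.leaf 0)) (.node (.leaf 8) (.leaf 0))))))))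

/-- Norm indices, part 27. -/
def normIdxPart27 : Tree :=
  .node (.node (.node (.node (.node (.node (.node (.node (.leaf 1) (.leaf 8)) (.node (.leaf 6) (.leaf 0))) (.node (.node (.leaf 5) (.leaf 8)) (.node (.leaf 7) (.leaf 0)))) (.node (.node (.node (.leaf 4) (.leaf 8)) (.node (.leaf 7) (.leaf 0))) (.node (.node (.leaf 5) (.leaf 8)) (.node (.leaf 8) (.leaf 0))))) (.node (.node (.node (.node (.leaf 3) (.leaf 8)) (.node (.leaf 6) (.leaf 0))) (.node (.node (.leaf 5) (.leaf 8)) (.node (.leaf 7) (.leaf 0)))) (.node (.node (.node (.leaf 4) (.leaf 8)) (.node (.leaf 7) (.leaf 0))) (.node (.node (.leaf 6) (.leaf 8)) (.node (.leaf 8) (.leaf 0)))))) (.node (.node (.node (.node (.node (.leaf 2) (.leaf 8)) (.node (.leaf 6) (.leaf 0))) (.node (.node (.leaf 5) (.leaf 8)) (.node (.leaf 7) (.leaf 0)))) (.node (.node (.node (.leaf 4) (.leaf 8)) (.node (.leaf 7) (.leaf 0))) (.node (.node (.leaf 6) (.leaf 8)) (.node (.leaf 8) (.leaf 0))))) (.node (.node (.node (.node (.leaf 4) (.leaf 8))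 (.node (.leaf 7) (.leaf 0))) (.node (.node (.leaf 5) (.leaf 8)) (.node (.leaf 7) (.leaf 0)))) (.node (.node (.node (.leaf 4) (.leaf 8)) (.node (.leaf 7) (.leaf 0))) (.node (.node (.leaf 6) (.leaf 8)) (.node (.leaf 8) (.leaf 0))))))) (.node (.node (.node (.node (.node (.node (.leaf 1) (.leaf 8)) (.node (.leaf 6) (.leaf 0))) (.node (.node (.leaf 5) (.leaf 8)) (.node (.leaf 7) (.leaf 0)))) (.node (.node (.node (.leaf 4) (.leaf 8)) (.node (.leaf 7) (.leaf 0))) (.node (.node (.leaf 5) (.leaf 8)) (.node (.leaf 8) (.leaf 0))))) (.node (.node (.node (.node (.leaf 3) (.leaf 8)) (.node (.leaf 6) (.leaf 0))) (.node (.node (.leaf 5) (.leaf 8)) (.node (.leaf 7) (.leaf 0)))) (.node (.node (.node (.leaf 4) (.leaf 8)) (.node (.leaf 7) (.leaf 0))) (.node (.node (.leaf 6) (.leaf 8)) (.node (.leaf 8) (.leaf 0)))))) (.node (.node (.node (.node (.node (.leaf 2) (.leaf 8)) (.node (.leaf 6) (.leaf 0))) (.node (.node (.leaf 5) (.leaf 8)) (.node (.leaf 7) (.leaf 0)))) (.node (.node (.node (.leaf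 4) (.leaf 8)) (.node (.leaf 7) (.leaf 0))) (.node (.node (.leaf 6) (.leaf 8)) (.node (.leaf 8) (.leaf 0))))) (.node (.node (.node (.node (.leaf 4) (.leaf 8)) (.node (.leaf 7) (.leaf 0))) (.node (.node (.leaf 5) (.leaf 8)) (.node (.leaf 7) (.leaf 0)))) (.node (.node (.node (.leaf 5) (.leaf 8)) (.node (.leaf 7) (.leaf 0))) (.node (.node (.leaf 6) (.leaf 8)) (.node (.leaf 8) (.leaf 0)))))))) (.node (.node (.node (.node (.node (.node (.node (.leaf 1) (.leaf 8)) (.node (.leaf 6) (.leaf 0))) (.node (.node (.leaf 5) (.leaf 8)) (.node (.leaf 7) (.leaf 0)))) (.node (.node (.node (.leaf 4) (.leaf 8)) (.node (.leaf 7) (.leaf 0))) (.node (.node (.leaf 5) (.leaf 8)) (.node (.leaf 8) (.leaf 0))))) (.node (.node (.node (.node (.leaf 3) (.leaf 8)) (.node (.leaf 6) (.leaf 0))) (.node (.node (.leaf 5) (.leaf 8)) (.node (.leaf 7) (.leaf 0)))) (.node (.node (.node (.leaf 4) (.leaf 8)) (.node (.leaf 7) (.leaf 0))) (.node (.node (.leaf 6) (.leaf 8)) (.node (.leaf 8) (.leaf 0)))))) (.node (.node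 (.node (.node (.node (.leaf 2) (.leaf 8)) (.node (.leaf 6) (.leaf 0))) (.node (.node (.leaf 5) (.leaf 8)) (.node (.leaf 7) (.leaf 0)))) (.node (.node (.node (.leaf 4) (.leaf 8)) (.node (.leaf 7) (.leaf 0))) (.node (.node (.leaf 6) (.leaf 8)) (.node (.leaf 8) (.leaf 0))))) (.node (.node (.node (.node (.leaf 4) (.leaf 8)) (.node (.leaf 7) (.leaf 0))) (.node (.node (.leaf 5) (.leaf 8)) (.node (.leaf 7) (.leaf 0)))) (.node (.node (.node (.leaf 4) (.leaf 8)) (.node (.leaf 7) (.leaf 0))) (.node (.node (.leaf 6) (.leaf 8)) (.node (.leaf 8) (.leaf 0))))))) (.node (.node (.node (.node (.node (.node (.leaf 2) (.leaf 8)) (.node (.leaf 6) (.leaf 0))) (.node (.node (.leaf 5) (.leaf 8)) (.node (.leaf 7) (.leaf 0)))) (.node (.node (.node (.leaf 4) (.leaf 8)) (.node (.leaf 7) (.leaf 0))) (.node (.node (.leaf 5) (.leaf 8)) (.node (.leaf 8) (.leaf 0))))) (.node (.node (.node (.node (.leaf 4) (.leaf 8)) (.node (.leaf 7) (.leaf 0))) (.node (.node (.leaf 5) (.leaf 8)) (.node (.leaf 7) (.leaf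 0)))) (.node (.node (.node (.leaf 4) (.leaf 8)) (.node (.leaf 7) (.leaf 0))) (.node (.node (.leaf 6) (.leaf 8)) (.node (.leaf 8) (.leaf 0)))))) (.node (.node (.node (.node (.node (.leaf 3) (.leaf 8)) (.node (.leaf 6) (.leaf 0))) (.node (.node (.leaf 5) (.leaf 8)) (.node (.leaf 7) (.leaf 0)))) (.node (.node (.node (.leaf 4) (.leaf 8)) (.node (.leaf 7) (.leaf 0))) (.node (.node (.leaf 6) (.leaf 8)) (.node (.leaf 8) (.leaf 0))))) (.node (.node (.node (.node (.leaf 4) (.leaf 8)) (.node (.leaf 7) (.leaf 0))) (.node (.node (.leaf 5) (.leaf 8)) (.node (.leaf 7) (.leaf 0)))) (.node (.node (.node (.leaf 5) (.leaf 8)) (.node (.leaf 7) (.leaf 0))) (.node (.node (.leaf 6) (.leaf 0)) (.node (.leaf 8) (.leaf 0))))))))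

/-- Norm indices, part 7. -/
def normIdxPart7 : Tree :=
  .node (.node (.node (.node (.node (.node (.node (.node (.leaf 1) (.leaf 8)) (.node (.leaf 6) (.leaf 0))) (.node (.node (.leaf 5) (.leaf 8)) (.node (.leaf 7) (.leaf 0)))) (.node (.node (.node (.leaf 4) (.leaf 8)) (.node (.leaf 7) (.leaf 0))) (.node (.node (.leaf 5) (.leaf 8)) (.node (.leaf 7) (.leaf 0))))) (.node (.node (.node (.node (.leaf 3) (.leaf 8)) (.node (.leaf 6) (.leaf 0))) (.node (.node (.leaf 5) (.leaf 8)) (.node (.leaf 7) (.leaf 0)))) (.node (.node (.node (.leaf 4) (.leaf 8)) (.node (.leaf 7) (.leaf 0))) (.node (.node (.leaf 6) (.leaf 8)) (.node (.leaf 8) (.leaf 0)))))) (.node (.node (.node (.node (.node (.leaf 2) (.leaf 8)) (.node (.leaf 6) (.leaf 0))) (.node (.node (.leaf 5) (.leaf 8)) (.node (.leaf 7) (.leaf 0)))) (.node (.node (.node (.leaf 4) (.leaf 8)) (.node (.leaf 7) (.leaf 0))) (.node (.node (.leaf 5) (.leaf 8)) (.node (.leaf 8) (.leaf 0))))) (.node (.node (.node (.node (.leaf 4) (.leaf 8)) (.node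 (.leaf 7) (.leaf 0))) (.node (.node (.leaf 5) (.leaf 8)) (.node (.leaf 7) (.leaf 0)))) (.node (.node (.node (.leaf 4) (.leaf 8)) (.node (.leaf 7) (.leaf 0))) (.node (.node (.leaf 6) (.leaf 8)) (.node (.leaf 8) (.leaf 0))))))) (.node (.node (.node (.node (.node (.node (.leaf 1) (.leaf 8)) (.node (.leaf 6) (.leaf 0))) (.node (.node (.leaf 5) (.leaf 8)) (.node (.leaf 7) (.leaf 0)))) (.node (.node (.node (.leaf 4) (.leaf 8)) (.node (.leaf 7) (.leaf 0))) (.node (.node (.leaf 5) (.leaf 8)) (.node (.leaf 8) (.leaf 0))))) (.node (.node (.node (.node (.leaf 3) (.leaf 8)) (.node (.leaf 6) (.leaf 0))) (.node (.node (.leaf 5) (.leaf 8)) (.node (.leaf 7) (.leaf 0)))) (.node (.node (.node (.leaf 4) (.leaf 8)) (.node (.leaf 7) (.leaf 0))) (.node (.node (.leaf 6) (.leaf 8)) (.node (.leaf 8) (.leaf 0)))))) (.node (.node (.node (.node (.node (.leaf 2) (.leaf 8)) (.node (.leaf 6) (.leaf 0))) (.node (.node (.leaf 5) (.leaf 8)) (.node (.leaf 7) (.leaf 0)))) (.node (.node (.node (.leaf 4) (.leaf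 8)) (.node (.leaf 7) (.leaf 0))) (.node (.node (.leaf 6) (.leaf 8)) (.node (.leaf 8) (.leaf 0))))) (.node (.node (.node (.node (.leaf 4) (.leaf 8)) (.node (.leaf 7) (.leaf 0))) (.node (.node (.leaf 5) (.leaf 8)) (.node (.leaf 7) (.leaf 0)))) (.node (.node (.node (.leaf 5) (.leaf 8)) (.node (.leaf 7) (.leaf 0))) (.node (.node (.leaf 6) (.leaf 8)) (.node (.leaf 8) (.leaf 0)))))))) (.node (.node (.node (.node (.node (.node (.node (.leaf 1) (.leaf 8)) (.node (.leaf 6) (.leaf 0))) (.node (.node (.leaf 5) (.leaf 8)) (.node (.leaf 7) (.leaf 0)))) (.node (.node (.node (.leaf 4) (.leaf 8)) (.node (.leaf 7) (.leaf 0))) (.node (.node (.leaf 5) (.leaf 8)) (.node (.leaf 8) (.leaf 0))))) (.node (.node (.node (.node (.leaf 3) (.leaf 8)) (.node (.leaf 6) (.leaf 0))) (.node (.node (.leaf 5) (.leaf 8)) (.node (.leaf 7) (.leaf 0)))) (.node (.node (.node (.leaf 4) (.leaf 8)) (.node (.leaf 7) (.leaf 0))) (.node (.node (.leaf 6) (.leaf 8)) (.node (.leaf 8) (.leaf 0)))))) (.node (.node (.node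 (.node (.node (.leaf 2) (.leaf 8)) (.node (.leaf 6) (.leaf 0))) (.node (.node (.leaf 5) (.leaf 8)) (.node (.leaf 7) (.leaf 0)))) (.node (.node (.node (.leaf 4) (.leaf 8)) (.node (.leaf 7) (.leaf 0))) (.node (.node (.leaf 6) (.leaf 8)) (.node (.leaf 8) (.leaf 0))))) (.node (.node (.node (.node (.leaf 4) (.leaf 8)) (.node (.leaf 7) (.leaf 0))) (.node (.node (.leaf 5) (.leaf 8)) (.node (.leaf 7) (.leaf 0)))) (.node (.node (.node (.leaf 4) (.leaf 8)) (.node (.leaf 7) (.leaf 0))) (.node (.node (.leaf 6) (.leaf 8)) (.node (.leaf 8) (.leaf 0))))))) (.node (.node (.node (.node (.node (.node (.leaf 1) (.leaf 8)) (.node (.leaf 6) (.leaf 0))) (.node (.node (.leaf 5) (.leaf 8)) (.node (.leaf 7) (.leaf 0)))) (.node (.node (.node (.leaf 4) (.leaf 8)) (.node (.leaf 7) (.leaf 0))) (.node (.node (.leaf 5) (.leaf 8)) (.node (.leaf 8) (.leaf 0))))) (.node (.node (.node (.node (.leaf 3) (.leaf 8)) (.node (.leaf 7) (.leaf 0))) (.node (.node (.leaf 5) (.leaf 8)) (.node (.leaf 7) (.leaf 0))))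 (.node (.node (.node (.leaf 4) (.leaf 8)) (.node (.leaf 7) (.leaf 0))) (.node (.node (.leaf 6) (.leaf 8)) (.node (.leaf 8) (.leaf 0)))))) (.node (.node (.node (.node (.node (.leaf 2) (.leaf 8)) (.node (.leaf 6) (.leaf 0))) (.node (.node (.leaf 5) (.leaf 8)) (.node (.leaf 7) (.leaf 0)))) (.node (.node (.node (.leaf 4) (.leaf 8)) (.node (.leaf 7) (.leaf 0))) (.node (.node (.leaf 6) (.leaf 8)) (.node (.leaf 8) (.leaf 0))))) (.node (.node (.node (.node (.leaf 4) (.leaf 8)) (.node (.leaf 7) (.leaf 0))) (.node (.node (.leaf 5) (.leaf 8)) (.node (.leaf 7) (.leaf 0)))) (.node (.node (.node (.leaf 5) (.leaf 8)) (.node (.leaf 7) (.leaf 0))) (.node (.node (.leaf 6) (.leaf 8)) (.node (.leaf 8) (.leaf 0))))))))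

/-- Norm indices, part 23. -/
def normIdxPart23 : Tree :=
  .node (.node (.node (.node (.node (.node (.node (.node (.leaf 1) (.leaf 8)) (.node (.leaf 6) (.leaf 0))) (.node (.node (.leaf 5) (.leaf 8)) (.node (.leaf 7) (.leaf 0)))) (.node (.node (.node (.leaf 4) (.leaf 8)) (.node (.leaf 7) (.leaf 0))) (.node (.node (.leaf 5) (.leaf 8)) (.node (.leaf 8) (.leaf 0))))) (.node (.node (.node (.node (.leaf 3) (.leaf 8)) (.node (.leaf 6) (.leaf 0))) (.node (.node (.leaf 5) (.leaf 8)) (.node (.leaf 7) (.leaf 0)))) (.node (.node (.node (.leaf 4) (.leaf 8)) (.node (.leaf 7) (.leaf 0))) (.node (.node (.leaf 6) (.leaf 8)) (.node (.leaf 8) (.leaf 0)))))) (.node (.node (.node (.node (.node (.leaf 2) (.leaf 8)) (.node (.leaf 6) (.leaf 0))) (.node (.node (.leaf 5) (.leaf 8)) (.node (.leaf 7) (.leaf 0)))) (.node (.node (.node (.leaf 4) (.leaf 8)) (.node (.leaf 7) (.leaf 0))) (.node (.node (.leaf 6) (.leaf 8)) (.node (.leaf 8) (.leaf 0))))) (.node (.node (.node (.node (.leaf 4) (.leaf 8))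 (.node (.leaf 7) (.leaf 0))) (.node (.node (.leaf 5) (.leaf 8)) (.node (.leaf 7) (.leaf 0)))) (.node (.node (.node (.leaf 4) (.leaf 8)) (.node (.leaf 7) (.leaf 0))) (.node (.node (.leaf 6) (.leaf 8)) (.node (.leaf 8) (.leaf 0))))))) (.node (.node (.node (.node (.node (.node (.leaf 1) (.leaf 8)) (.node (.leaf 6) (.leaf 0))) (.node (.node (.leaf 5) (.leaf 8)) (.node (.leaf 7) (.leaf 0)))) (.node (.node (.node (.leaf 4) (.leaf 8)) (.node (.leaf 7) (.leaf 0))) (.node (.node (.leaf 5) (.leaf 8)) (.node (.leaf 8) (.leaf 0))))) (.node (.node (.node (.node (.leaf 3) (.leaf 8)) (.node (.leaf 6) (.leaf 0))) (.node (.node (.leaf 5) (.leaf 8)) (.node (.leaf 7) (.leaf 0)))) (.node (.node (.node (.leaf 4) (.leaf 8)) (.node (.leaf 7) (.leaf 0))) (.node (.node (.leaf 6) (.leaf 8)) (.node (.leaf 8) (.leaf 0)))))) (.node (.node (.node (.node (.node (.leaf 2) (.leaf 8)) (.node (.leaf 6) (.leaf 0))) (.node (.node (.leaf 5) (.leaf 8)) (.node (.leaf 7) (.leaf 0)))) (.node (.node (.node (.leaf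 4) (.leaf 8)) (.node (.leaf 7) (.leaf 0))) (.node (.node (.leaf 6) (.leaf 8)) (.node (.leaf 8) (.leaf 0))))) (.node (.node (.node (.node (.leaf 4) (.leaf 8)) (.node (.leaf 7) (.leaf 0))) (.node (.node (.leaf 5) (.leaf 8)) (.node (.leaf 7) (.leaf 0)))) (.node (.node (.node (.leaf 5) (.leaf 8)) (.node (.leaf 7) (.leaf 0))) (.node (.node (.leaf 6) (.leaf 8)) (.node (.leaf 8) (.leaf 0)))))))) (.node (.node (.node (.node (.node (.node (.node (.leaf 1) (.leaf 8)) (.node (.leaf 6) (.leaf 0))) (.node (.node (.leaf 5) (.leaf 8)) (.node (.leaf 7) (.leaf 0)))) (.node (.node (.node (.leaf 4) (.leaf 8)) (.node (.leaf 7) (.leaf 0))) (.node (.node (.leaf 5) (.leaf 8)) (.node (.leaf 8) (.leaf 0))))) (.node (.node (.node (.node (.leaf 3) (.leaf 8)) (.node (.leaf 6) (.leaf 0))) (.node (.node (.leaf 5) (.leaf 8)) (.node (.leaf 7) (.leaf 0)))) (.node (.node (.node (.leaf 4) (.leaf 8)) (.node (.leaf 7) (.leaf 0))) (.node (.node (.leaf 6) (.leaf 8)) (.node (.leaf 8) (.leaf 0)))))) (.node (.node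 (.node (.node (.node (.leaf 2) (.leaf 8)) (.node (.leaf 6) (.leaf 0))) (.node (.node (.leaf 5) (.leaf 8)) (.node (.leaf 7) (.leaf 0)))) (.node (.node (.node (.leaf 4) (.leaf 8)) (.node (.leaf 7) (.leaf 0))) (.node (.node (.leaf 6) (.leaf 8)) (.node (.leaf 8) (.leaf 0))))) (.node (.node (.node (.node (.leaf 4) (.leaf 8)) (.node (.leaf 7) (.leaf 0))) (.node (.node (.leaf 5) (.leaf 8)) (.node (.leaf 7) (.leaf 0)))) (.node (.node (.node (.leaf 4) (.leaf 8)) (.node (.leaf 7) (.leaf 0))) (.node (.node (.leaf 6) (.leaf 8)) (.node (.leaf 8) (.leaf 0))))))) (.node (.node (.node (.node (.node (.node (.leaf 1) (.leaf 8)) (.node (.leaf 6) (.leaf 0))) (.node (.node (.leaf 5) (.leaf 8)) (.node (.leaf 7) (.leaf 0)))) (.node (.node (.node (.leaf 4) (.leaf 8)) (.node (.leaf 7) (.leaf 0))) (.node (.node (.leaf 5) (.leaf 8)) (.node (.leaf 8) (.leaf 0))))) (.node (.node (.node (.node (.leaf 4) (.leaf 8)) (.node (.leaf 7) (.leaf 0))) (.node (.node (.leaf 5) (.leaf 8)) (.node (.leaf 7) (.leaf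 0)))) (.node (.node (.node (.leaf 4) (.leaf 8)) (.node (.leaf 7) (.leaf 0))) (.node (.node (.leaf 6) (.leaf 8)) (.node (.leaf 8) (.leaf 0)))))) (.node (.node (.node (.node (.node (.leaf 3) (.leaf 8)) (.node (.leaf 6) (.leaf 0))) (.node (.node (.leaf 5) (.leaf 8)) (.node (.leaf 7) (.leaf 0)))) (.node (.node (.node (.leaf 4) (.leaf 8)) (.node (.leaf 7) (.leaf 0))) (.node (.node (.leaf 6) (.leaf 8)) (.node (.leaf 8) (.leaf 0))))) (.node (.node (.node (.node (.leaf 4) (.leaf 8)) (.node (.leaf 7) (.leaf 0))) (.node (.node (.leaf 5) (.leaf 8)) (.node (.leaf 7) (.leaf 0)))) (.node (.node (.node (.leaf 5) (.leaf 8)) (.node (.leaf 7) (.leaf 0))) (.node (.node (.leaf 6) (.leaf 0)) (.node (.leaf 8) (.leaf 0))))))))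

/-- Norm indices, part 15. -/
def normIdxPart15 : Tree :=
  .node (.node (.node (.node (.node (.node (.node (.node (.leaf 1) (.leaf 8)) (.node (.leaf 6) (.leaf 0))) (.node (.node (.leaf 5) (.leaf 8)) (.node (.leaf 7) (.leaf 0)))) (.node (.node (.node (.leaf 4) (.leaf 8)) (.node (.leaf 7) (.leaf 0))) (.node (.node (.leaf 5) (.leaf 8)) (.node (.leaf 7) (.leaf 0))))) (.node (.node (.node (.node (.leaf 3) (.leaf 8)) (.node (.leaf 6) (.leaf 0))) (.node (.node (.leaf 5) (.leaf 8)) (.node (.leaf 7) (.leaf 0)))) (.node (.node (.node (.leaf 4) (.leaf 8)) (.node (.leaf 7) (.leaf 0))) (.node (.node (.leaf 6) (.leaf 8)) (.node (.leaf 8) (.leaf 0)))))) (.node (.node (.node (.node (.node (.leaf 2) (.leaf 8)) (.node (.leaf 6) (.leaf 0))) (.node (.node (.leaf 5) (.leaf 8)) (.node (.leaf 7) (.leaf 0)))) (.node (.node (.node (.leaf 4) (.leaf 8)) (.node (.leaf 7) (.leaf 0))) (.node (.node (.leaf 5) (.leaf 8)) (.node (.leaf 8) (.leaf 0))))) (.node (.node (.node (.node (.leaf 4) (.leaf 8))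 (.node (.leaf 7) (.leaf 0))) (.node (.node (.leaf 5) (.leaf 8)) (.node (.leaf 7) (.leaf 0)))) (.node (.node (.node (.leaf 4) (.leaf 8)) (.node (.leaf 7) (.leaf 0))) (.node (.node (.leaf 6) (.leaf 8)) (.node (.leaf 8) (.leaf 0))))))) (.node (.node (.node (.node (.node (.node (.leaf 1) (.leaf 8)) (.node (.leaf 6) (.leaf 0))) (.node (.node (.leaf 5) (.leaf 8)) (.node (.leaf 7) (.leaf 0)))) (.node (.node (.node (.leaf 4) (.leaf 8)) (.node (.leaf 7) (.leaf 0))) (.node (.node (.leaf 5) (.leaf 8)) (.node (.leaf 8) (.leaf 0))))) (.node (.node (.node (.node (.leaf 3) (.leaf 8)) (.node (.leaf 6) (.leaf 0))) (.node (.node (.leaf 5) (.leaf 8)) (.node (.leaf 7) (.leaf 0)))) (.node (.node (.node (.leaf 4) (.leaf 8)) (.node (.leaf 7) (.leaf 0))) (.node (.node (.leaf 6) (.leaf 8)) (.node (.leaf 8) (.leaf 0)))))) (.node (.node (.node (.node (.node (.leaf 2) (.leaf 8)) (.node (.leaf 6) (.leaf 0))) (.node (.node (.leaf 5) (.leaf 8)) (.node (.leaf 7) (.leaf 0)))) (.node (.node (.node (.leaf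 4) (.leaf 8)) (.node (.leaf 7) (.leaf 0))) (.node (.node (.leaf 6) (.leaf 8)) (.node (.leaf 8) (.leaf 0))))) (.node (.node (.node (.node (.leaf 4) (.leaf 8)) (.node (.leaf 7) (.leaf 0))) (.node (.node (.leaf 5) (.leaf 8)) (.node (.leaf 7) (.leaf 0)))) (.node (.node (.node (.leaf 5) (.leaf 8)) (.node (.leaf 7) (.leaf 0))) (.node (.node (.leaf 6) (.leaf 8)) (.node (.leaf 8) (.leaf 0)))))))) (.node (.node (.node (.node (.node (.node (.node (.leaf 1) (.leaf 8)) (.node (.leaf 6) (.leaf 0))) (.node (.node (.leaf 5) (.leaf 8)) (.node (.leaf 7) (.leaf 0)))) (.node (.node (.node (.leaf 4) (.leaf 8)) (.node (.leaf 7) (.leaf 0))) (.node (.node (.leaf 5) (.leaf 8)) (.node (.leaf 8) (.leaf 0))))) (.node (.node (.node (.node (.leaf 3) (.leaf 8)) (.node (.leaf 6) (.leaf 0))) (.node (.node (.leaf 5) (.leaf 8)) (.node (.leaf 7) (.leaf 0)))) (.node (.node (.node (.leaf 4) (.leaf 8)) (.node (.leaf 7) (.leaf 0))) (.node (.node (.leaf 6) (.leaf 8)) (.node (.leaf 8) (.leaf 0)))))) (.node (.node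 (.node (.node (.node (.leaf 2) (.leaf 8)) (.node (.leaf 6) (.leaf 0))) (.node (.node (.leaf 5) (.leaf 8)) (.node (.leaf 7) (.leaf 0)))) (.node (.node (.node (.leaf 4) (.leaf 8)) (.node (.leaf 7) (.leaf 0))) (.node (.node (.leaf 6) (.leaf 8)) (.node (.leaf 8) (.leaf 0))))) (.node (.node (.node (.node (.leaf 4) (.leaf 8)) (.node (.leaf 7) (.leaf 0))) (.node (.node (.leaf 5) (.leaf 8)) (.node (.leaf 7) (.leaf 0)))) (.node (.node (.node (.leaf 4) (.leaf 8)) (.node (.leaf 7) (.leaf 0))) (.node (.node (.leaf 6) (.leaf 8)) (.node (.leaf 8) (.leaf 0))))))) (.node (.node (.node (.node (.node (.node (.leaf 1) (.leaf 8)) (.node (.leaf 6) (.leaf 0))) (.node (.node (.leaf 5) (.leaf 8)) (.node (.leaf 7) (.leaf 0)))) (.node (.node (.node (.leaf 4) (.leaf 8)) (.node (.leaf 7) (.leaf 0))) (.node (.node (.leaf 5) (.leaf 8)) (.node (.leaf 8) (.leaf 0))))) (.node (.node (.node (.node (.leaf 4) (.leaf 8)) (.node (.leaf 7) (.leaf 0))) (.node (.node (.leaf 5) (.leaf 8)) (.node (.leaf 7) (.leaf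 0)))) (.node (.node (.node (.leaf 4) (.leaf 8)) (.node (.leaf 7) (.leaf 0))) (.node (.node (.leaf 6) (.leaf 8)) (.node (.leaf 8) (.leaf 0)))))) (.node (.node (.node (.node (.node (.leaf 2) (.leaf 8)) (.node (.leaf 6) (.leaf 0))) (.node (.node (.leaf 5) (.leaf 8)) (.node (.leaf 7) (.leaf 0)))) (.node (.node (.node (.leaf 4) (.leaf 8)) (.node (.leaf 7) (.leaf 0))) (.node (.node (.leaf 6) (.leaf 8)) (.node (.leaf 8) (.leaf 0))))) (.node (.node (.node (.node (.leaf 4) (.leaf 8)) (.node (.leaf 7) (.leaf 0))) (.node (.node (.leaf 5) (.leaf 8)) (.node (.leaf 7) (.leaf 0)))) (.node (.node (.node (.leaf 5) (.leaf 8)) (.node (.leaf 7) (.leaf 0))) (.node (.node (.leaf 6) (.leaf 0)) (.node (.leaf 8) (.leaf 0))))))))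

/-- Norm indices, part 31. -/
def normIdxPart31 : Tree :=
  .node (.node (.node (.node (.node (.node (.node (.node (.leaf 1) (.leaf 8)) (.node (.leaf 6) (.leaf 0))) (.node (.node (.leaf 5) (.leaf 8)) (.node (.leaf 7) (.leaf 0)))) (.node (.node (.node (.leaf 4) (.leaf 8)) (.node (.leaf 7) (.leaf 0))) (.node (.node (.leaf 5) (.leaf 8)) (.node (.leaf 8) (.leaf 0))))) (.node (.node (.node (.node (.leaf 3) (.leaf 8)) (.node (.leaf 6) (.leaf 0))) (.node (.node (.leaf 5) (.leaf 8)) (.node (.leaf 7) (.leaf 0)))) (.node (.node (.node (.leaf 4) (.leaf 8)) (.node (.leaf 7) (.leaf 0))) (.node (.node (.leaf 6) (.leaf 8)) (.node (.leaf 8) (.leaf 0)))))) (.node (.node (.node (.node (.node (.leaf 2) (.leaf 8)) (.node (.leaf 6) (.leaf 0))) (.node (.node (.leaf 5) (.leaf 8)) (.node (.leaf 7) (.leaf 0)))) (.node (.node (.node (.leaf 4) (.leaf 8)) (.node (.leaf 7) (.leaf 0))) (.node (.node (.leaf 6) (.leaf 8)) (.node (.leaf 8) (.leaf 0))))) (.node (.node (.node (.node (.leaf 4) (.leaf 8))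 (.node (.leaf 7) (.leaf 0))) (.node (.node (.leaf 5) (.leaf 8)) (.node (.leaf 7) (.leaf 0)))) (.node (.node (.node (.leaf 4) (.leaf 8)) (.node (.leaf 7) (.leaf 0))) (.node (.node (.leaf 6) (.leaf 8)) (.node (.leaf 8) (.leaf 0))))))) (.node (.node (.node (.node (.node (.node (.leaf 1) (.leaf 8)) (.node (.leaf 6) (.leaf 0))) (.node (.node (.leaf 5) (.leaf 8)) (.node (.leaf 7) (.leaf 0)))) (.node (.node (.node (.leaf 4) (.leaf 8)) (.node (.leaf 7) (.leaf 0))) (.node (.node (.leaf 5) (.leaf 8)) (.node (.leaf 8) (.leaf 0))))) (.node (.node (.node (.node (.leaf 3) (.leaf 8)) (.node (.leaf 6) (.leaf 0))) (.node (.node (.leaf 5) (.leaf 8)) (.node (.leaf 7) (.leaf 0)))) (.node (.node (.node (.leaf 4) (.leaf 8)) (.node (.leaf 7) (.leaf 0))) (.node (.node (.leaf 6) (.leaf 8)) (.node (.leaf 8) (.leaf 0)))))) (.node (.node (.node (.node (.node (.leaf 2) (.leaf 8)) (.node (.leaf 6) (.leaf 0))) (.node (.node (.leaf 5) (.leaf 8)) (.node (.leaf 7) (.leaf 0)))) (.node (.node (.node (.leaf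 4) (.leaf 8)) (.node (.leaf 7) (.leaf 0))) (.node (.node (.leaf 6) (.leaf 8)) (.node (.leaf 8) (.leaf 0))))) (.node (.node (.node (.node (.leaf 4) (.leaf 8)) (.node (.leaf 7) (.leaf 0))) (.node (.node (.leaf 5) (.leaf 8)) (.node (.leaf 7) (.leaf 0)))) (.node (.node (.node (.leaf 5) (.leaf 8)) (.node (.leaf 7) (.leaf 0))) (.node (.node (.leaf 6) (.leaf 8)) (.node (.leaf 8) (.leaf 0)))))))) (.node (.node (.node (.node (.node (.node (.node (.leaf 1) (.leaf 8)) (.node (.leaf 6) (.leaf 0))) (.node (.node (.leaf 5) (.leaf 8)) (.node (.leaf 7) (.leaf 0)))) (.node (.node (.node (.leaf 4) (.leaf 8)) (.node (.leaf 7) (.leaf 0))) (.node (.node (.leaf 5) (.leaf 8)) (.node (.leaf 8) (.leaf 0))))) (.node (.node (.node (.node (.leaf 3) (.leaf 8)) (.node (.leaf 6) (.leaf 0))) (.node (.node (.leaf 5) (.leaf 8)) (.node (.leaf 7) (.leaf 0)))) (.node (.node (.node (.leaf 4) (.leaf 8)) (.node (.leaf 7) (.leaf 0))) (.node (.node (.leaf 6) (.leaf 8)) (.node (.leaf 8) (.leaf 0)))))) (.node (.node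 (.node (.node (.node (.leaf 2) (.leaf 8)) (.node (.leaf 6) (.leaf 0))) (.node (.node (.leaf 5) (.leaf 8)) (.node (.leaf 7) (.leaf 0)))) (.node (.node (.node (.leaf 4) (.leaf 8)) (.node (.leaf 7) (.leaf 0))) (.node (.node (.leaf 6) (.leaf 8)) (.node (.leaf 8) (.leaf 0))))) (.node (.node (.node (.node (.leaf 4) (.leaf 8)) (.node (.leaf 7) (.leaf 0))) (.node (.node (.leaf 5) (.leaf 8)) (.node (.leaf 7) (.leaf 0)))) (.node (.node (.node (.leaf 4) (.leaf 8)) (.node (.leaf 7) (.leaf 0))) (.node (.node (.leaf 6) (.leaf 8)) (.node (.leaf 8) (.leaf 0))))))) (.node (.node (.node (.node (.node (.node (.leaf 2) (.leaf 8)) (.node (.leaf 6) (.leaf 0))) (.node (.node (.leaf 5) (.leaf 8)) (.node (.leaf 7) (.leaf 0)))) (.node (.node (.node (.leaf 4) (.leaf 8)) (.node (.leaf 7) (.leaf 0))) (.node (.node (.leaf 5) (.leaf 8)) (.node (.leaf 8) (.leaf 0))))) (.node (.node (.node (.node (.leaf 4) (.leaf 8)) (.node (.leaf 7) (.leaf 0))) (.node (.node (.leaf 5) (.leaf 8)) (.node (.leaf 7) (.leaf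 0)))) (.node (.node (.node (.leaf 4) (.leaf 8)) (.node (.leaf 7) (.leaf 0))) (.node (.node (.leaf 6) (.leaf 8)) (.node (.leaf 8) (.leaf 0)))))) (.node (.node (.node (.node (.node (.leaf 3) (.leaf 8)) (.node (.leaf 6) (.leaf 0))) (.node (.node (.leaf 5) (.leaf 8)) (.node (.leaf 7) (.leaf 0)))) (.node (.node (.node (.leaf 4) (.leaf 8)) (.node (.leaf 7) (.leaf 0))) (.node (.node (.leaf 6) (.leaf 8)) (.node (.leaf 8) (.leaf 0))))) (.node (.node (.node (.node (.leaf 4) (.leaf 8)) (.node (.leaf 7) (.leaf 0))) (.node (.node (.leaf 5) (.leaf 8)) (.node (.leaf 7) (.leaf 0)))) (.node (.node (.node (.leaf 5) (.leaf 8)) (.node (.leaf 7) (.leaf 0))) (.node (.node (.leaf 6) (.leaf 0)) (.node (.leaf 8) (.leaf 0))))))))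

/-- Norm indices -/
def normIdx : Tree :=
  .node (.node (.node (.node (.node (normIdxPart0) (normIdxPart16)) (.node (normIdxPart8) (normIdxPart24))) (.node (.node (normIdxPart4) (normIdxPart20)) (.node (normIdxPart12) (normIdxPart28)))) (.node (.node (.node (normIdxPart2) (normIdxPart18)) (.node (normIdxPart10) (normIdxPart26))) (.node (.node (normIdxPart6) (normIdxPart22)) (.node (normIdxPart14) (normIdxPart30))))) (.node (.node (.node (.node (normIdxPart1) (normIdxPart17)) (.node (normIdxPart9) (normIdxPart25))) (.node (.node (normIdxPart5) (normIdxPart21)) (.node (normIdxPart13) (normIdxPart29)))) (.node (.node (.node (normIdxPart3) (normIdxPart19)) (.node (normIdxPart11) (normIdxPart27))) (.node (.node (normIdxPart7) (normIdxPart23)) (.node (normIdxPart15) (normIdxPart31)))))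

/-- Index of a small icosian., part 1. -/
def elDictPart1 : Dict :=
  .node 498769378802 2766 (.node 498705383954 5023 (.node 466524553776 4318 (.node 465484400174 5177 (.node 465452941841 5929 (.node 465451924977 5046 (.node 465451861551 4697 (.node 465451861489 4489 (.nil) (.nil)) (.nil)) (.node 465452941839 6027 (.node 465451925039 4587 (.nil) (.nil)) (.nil))) (.node 465484398066 5526 (.node 465483381264 3819 (.node 465483319824 4162 (.nil) (.nil)) (.nil)) (.node 465484400114 5685 (.node 465484398126 5789 (.nil) (.nil)) (.nil)))) (.node 465516873263 4402 (.node 465515856399 4042 (.node 465485478416 5402 (.node 465485416976 5289 (.nil) (.nil)) (.nil)) (.node 465516873201 4882 (.node 465515856401 3939 (.nil) (.nil)) (.nil))) (.node 466523536912 5398 (.node 465516936751 5019 (.node 465516936689 4299 (.nil) (.nil)) (.nil)) (.node 466524553712 4977 (.node 466523538960 5505 (.nil) (.nil)) (.nil))))) (.node 466591662640 5150 (.node 466558107153 5278 (.node 466557092335 5946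 (.node 466524619312 4881 (.node 466524619248 4425 (.nil) (.nil)) (.nil)) (.node 466558107151 5758 (.node 466557092401 6042 (.nil) (.nil)) (.nil))) (.node 466559189487 3931 (.node 466558174737 5865 (.node 466558174735 5625 (.nil) (.nil)) (.nil)) (.node 466591662576 4651 (.node 466559189553 4070 (.nil) (.nil)) (.nil)))) (.node 498704303662 3857 (.node 466592742928 4171 (.node 466591728176 4550 (.node 466591728112 4771 (.nil) (.nil)) (.nil)) (.node 498704303602 5869 (.node 466592744976 3830 (.nil) (.nil)) (.nil))) (.node 498705381904 3703 (.node 498704367150 5730 (.node 498704367090 3966 (.nil) (.nil)) (.nil)) (.node 498705383952 3463 (.node 498705383950 4880 (.nil) (.nil)) (.nil)))))) (.node 498738937329 3169 (.node 498737859025 3769 (.node 498736842225 1245 (.node 498736840179 4326 (.node 498736840177 1485 (.node 498705386000 3680 (.nil) (.nil)) (.nil)) (.node 498736840239 1349 (.node 498736840237 5549 (.nil) (.nil)) (.nil))) (.node 498736842287 1520 (.node 498736842285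 4217 (.node 498736842227 5205 (.nil) (.nil)) (.nil)) (.node 498737857041 1569 (.node 498737857039 1097 (.nil) (.nil)) (.nil)))) (.node 498737920529 3583 (.node 498737859151 5601 (.node 498737859089 2529 (.node 498737859087 3497 (.nil) (.nil)) (.nil)) (.node 498737920527 2642 (.node 498737920465 5217 (.nil) (.nil)) (.nil))) (.node 498737922577 966 (.node 498737922575 1640 (.node 498737920591 4107 (.nil) (.nil)) (.nil)) (.node 498738873903 3837 (.node 498738873841 4009 (.nil) (.nil)) (.nil))))) (.node 498768298512 1589 (.node 498739954191 4317 (.node 498738939439 3267 (.node 498738939377 2449 (.node 498738937391 2787 (.nil) (.nil)) (.nil)) (.node 498739002927 3867 (.node 498739002865 4184 (.nil) (.nil)) (.nil))) (.node 498740019729 4424 (.node 498740019727 4064 (.node 498739954193 3957 (.nil) (.nil)) (.nil)) (.node 498768298450 3645 (.node 498768235024 5049 (.nil) (.nil)) (.nil)))) (.node 498769315376 969 (.node 498769315312 1365 (.node 498768362000 4682 (.node 498768298574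 3629 (.nil) (.nil)) (.nil)) (.node 498769315374 2417 (.node 498769315314 2925 (.nil) (.nil)) (.nil))) (.node 498769376752 4082 (.node 498769317424 3729 (.node 498769317360 4642 (.nil) (.nil)) (.nil)) (.node 498769378800 1082 (.node 498769376816 4539 (.nil) (.nil)) (.nil))))))) (.node 498801917487 5309 (.node 498771414512 5466 (.node 498770395666 1326 (.node 498770393554 4737 (.node 498770332174 3617 (.node 498769378864 1229 (.node 498769378862 3029 (.nil) (.nil)) (.nil)) (.node 498770332178 3609 (.node 498770332176 3009 (.nil) (.nil)) (.nil))) (.node 498770395602 3289 (.node 498770393678 4827 (.node 498770393616 1059 (.nil) (.nil)) (.nil)) (.node 498770395664 219 (.node 498770395662 1217 (.nil) (.nil)) (.nil)))) (.node 498770459152 2882 (.node 498770397712 1162 (.node 498770397650 4969 (.node 498770395726 3147 (.nil) (.nil)) (.nil)) (.node 498770459150 3602 (.node 498770397774 5121 (.nil) (.nil)) (.nil))) (.node 498771412466 2689 (.node 498771412464 1009 (.node 498770459154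 3606 (.nil) (.nil)) (.nil)) (.node 498771412528 1209 (.node 498771412526 2897 (.nil) (.nil)) (.nil))))) (.node 498772556304 4904 (.node 498771476014 2547 (.node 498771473968 5322 (.node 498771473904 4322 (.node 498771414576 4209 (.nil) (.nil)) (.nil)) (.node 498771475954 3006 (.node 498771475952 1322 (.nil) (.nil)) (.nil))) (.node 498772492754 3649 (.node 498772429328 5037 (.node 498771476016 1107 (.nil) (.nil)) (.nil)) (.node 498772492878 3627 (.node 498772492816 1489 (.nil) (.nil)) (.nil)))) (.node 498801788463 5897 (.node 498800837135 4522 (.node 498800771601 4659 (.node 498800771599 6099 (.nil) (.nil)) (.nil)) (.node 498801788401 5445 (.node 498800837137 5962 (.nil) (.nil)) (.nil))) (.node 498801853937 3202 (.node 498801851951 3339 (.node 498801851889 2619 (.nil) (.nil)) (.nil)) (.node 498801917425 6006 (.node 498801853999 2722 (.nil) (.nil)) (.nil)))))) (.node 498835407378 4779 (.node 498802934289 1522 (.node 498802870863 5482 (.node 498802870737 5805 (.node 498802868753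 1179 (.node 498802868751 1457 (.nil) (.nil)) (.nil)) (.node 498802870801 3369 (.node 498802870799 2842 (.nil) (.nil)) (.nil))) (.node 498802932241 2499 (.node 498802932239 3459 (.node 498802932177 5379 (.nil) (.nil)) (.nil)) (.node 498802934287 1042 (.node 498802932303 5669 (.nil) (.nil)) (.nil)))) (.node 498803951091 4670 (.node 498803949101 4531 (.node 498803949043 5766 (.node 498803949041 1299 (.nil) (.nil)) (.nil)) (.node 498803951089 1642 (.node 498803949103 1587 (.nil) (.nil)) (.nil))) (.node 498835405328 3699 (.node 498803951151 1402 (.node 498803951149 5657 (.nil) (.nil)) (.nil)) (.node 498835407376 3579 (.node 498835407374 5122 (.nil) (.nil)) (.nil))))) (.node 499778076113 4257 (.node 499776997873 5629 (.node 498836424238 5602 (.node 498836424178 6110 (.node 498835409424 3682 (.nil) (.nil)) (.nil)) (.node 498836487726 5971 (.node 498836487666 5259 (.nil) (.nil)) (.nil))) (.node 499777059375 5250 (.node 499777059313 6103 (.node 499776997935 5960 (.nil) (.nil)) (.nil))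 (.node 499778012689 4809 (.node 499778012687 4577 (.nil) (.nil)) (.nil)))) (.node 499778078225 3109 (.node 499778076239 5082 (.node 499778076177 3343 (.node 499778076175 2970 (.nil) (.nil)) (.nil)) (.node 499778078223 3200 (.node 499778078161 4746 (.nil) (.nil)) (.nil))) (.node 499778141713 4446 (.node 499778141711 4922 (.node 499778078287 4401 (.nil) (.nil)) (.nil)) (.node 499779093041 5749 (.node 499779092975 5490 (.nil) (.nil)) (.nil)))))))

/-- Index of a small icosian., part 2. -/
def elDictPart2 : Dict :=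
  .node 499844168239 2322 (.node 499812714000 2744 (.node 499810616848 1425 (.node 499809597936 3842 (.node 499809534448 1005 (.node 499809471024 3969 (.node 499809470960 5221 (.node 499779158577 5389 (.nil) (.nil)) (.nil)) (.node 499809532462 4349 (.node 499809532402 5925 (.nil) (.nil)) (.nil))) (.node 499809534512 1109 (.node 499809534510 2789 (.node 499809534450 2445 (.nil) (.nil)) (.nil)) (.node 499809536558 6029 (.node 499809536498 4245 (.nil) (.nil)) (.nil)))) (.node 499810551312 609 (.node 499810549264 1318 (.node 499810549202 3897 (.node 499809598000 5557 (.nil) (.nil)) (.nil)) (.node 499810551310 2537 (.node 499810549326 5429 (.nil) (.nil)) (.nil))) (.node 499810614800 722 (.node 499810614798 3242 (.node 499810551314 3129 (.nil) (.nil)) (.nil)) (.node 499810616786 5325 (.node 499810614802 2646 (.nil) (.nil)) (.nil))))) (.node 499811697138 3726 (.node 499811631600 546 (.node 499811566126 4097 (.node 499811566066 6117 (.node 499810616910 4041 (.nil) (.nil)) (.nil))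 (.node 499811629616 3042 (.node 499811629552 2457 (.nil) (.nil)) (.nil))) (.node 499811631664 882 (.node 499811631662 2067 (.node 499811631602 1969 (.nil) (.nil)) (.nil)) (.node 499811633712 2841 (.node 499811633648 2946 (.nil) (.nil)) (.nil)))) (.node 499812648464 1797 (.node 499812646416 2637 (.node 499812646414 5397 (.node 499811697198 5984 (.nil) (.nil)) (.nil)) (.node 499812648400 4146 (.node 499812646418 4677 (.nil) (.nil)) (.nil))) (.node 499812711952 1904 (.node 499812711888 5697 (.node 499812648528 5841 (.nil) (.nil)) (.nil)) (.node 499812713998 4544 (.node 499812712016 3762 (.nil) (.nil)) (.nil)))))) (.node 499843087891 5406 (.node 499842073073 3405 (.node 499842007537 2685 (.node 499840990737 5755 (.node 499840990735 4829 (.node 499812714002 5504 (.nil) (.nil)) (.nil)) (.node 499840992785 4965 (.node 499840992783 5875 (.nil) (.nil)) (.nil))) (.node 499842009649 4449 (.node 499842009583 5701 (.node 499842007599 3478 (.nil) (.nil)) (.nil)) (.node 499842071089 5797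 (.node 499842071023 4562 (.nil) (.nil)) (.nil)))) (.node 499843085839 5139 (.node 499843024399 3137 (.node 499843024337 4365 (.node 499842073135 2549 (.nil) (.nil)) (.nil)) (.node 499843024463 5038 (.node 499843024401 3598 (.nil) (.nil)) (.nil))) (.node 499843087885 4680 (.node 499843087825 3537 (.node 499843085841 4059 (.nil) (.nil)) (.nil)) (.node 499843087889 459 (.node 499843087887 939 (.nil) (.nil)) (.nil))))) (.node 499843153425 3246 (.node 499843089939 5043 (.node 499843089933 5297 (.node 499843089873 3045 (.node 499843087951 2909 (.nil) (.nil)) (.nil)) (.node 499843089937 562 (.node 499843089935 442 (.nil) (.nil)) (.nil))) (.node 499843091985 4762 (.node 499843091983 3922 (.node 499843089999 3509 (.nil) (.nil)) (.nil)) (.node 499843153423 3482 (.node 499843153361 4905 (.nil) (.nil)) (.nil)))) (.node 499844106735 2706 (.node 499844104689 777 (.node 499844104687 1577 (.node 499843153487 4229 (.nil) (.nil)) (.nil)) (.node 499844104753 1449 (.node 499844104751 497 (.nil)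 (.nil)) (.nil))) (.node 499844106801 2409 (.node 499844106799 2177 (.node 499844106737 2289 (.nil) (.nil)) (.nil)) (.node 499844168177 2217 (.node 499844168175 2762 (.nil) (.nil)) (.nil))))))) (.node 499875626448 5432 (.node 499845189135 4807 (.node 499845184977 2937 (.node 499845121489 5089 (.node 499844170225 846 (.node 499844170223 1506 (.node 499844168241 2562 (.nil) (.nil)) (.nil)) (.node 499844170289 1641 (.node 499844170287 681 (.nil) (.nil)) (.nil))) (.node 499845121615 4557 (.node 499845121553 3357 (.node 499845121551 3477 (.nil) (.nil)) (.nil)) (.node 499845182993 4921 (.node 499845182991 5937 (.nil) (.nil)) (.nil)))) (.node 499845187025 3409 (.node 499845185041 710 (.node 499845185039 451 (.node 499845185037 3811 (.nil) (.nil)) (.nil)) (.node 499845185103 3402 (.node 499845185043 4910 (.nil) (.nil)) (.nil))) (.node 499845187089 470 (.node 499845187087 811 (.node 499845187085 5011 (.nil) (.nil)) (.nil)) (.node 499845187151 3081 (.node 499845187091 4190 (.nil)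 (.nil)) (.nil))))) (.node 499846267377 2864 (.node 499846201841 3597 (.node 499845250575 3224 (.node 499845250513 4664 (.node 499845189137 6081 (.nil) (.nil)) (.nil)) (.node 499845250639 4707 (.node 499845250577 3366 (.nil) (.nil)) (.nil))) (.node 499846203953 5169 (.node 499846203887 4386 (.node 499846201903 2517 (.nil) (.nil)) (.nil)) (.node 499846265393 4242 (.node 499846265327 5522 (.nil) (.nil)) (.nil)))) (.node 499875560974 4276 (.node 499847282193 4797 (.node 499847282191 5277 (.node 499846267439 3507 (.nil) (.nil)) (.nil)) (.node 499847284241 5624 (.node 499847284239 5144 (.nil) (.nil)) (.nil))) (.node 499875562960 5565 (.node 499875560978 4179 (.node 499875560976 2859 (.nil) (.nil)) (.nil)) (.node 499875563088 5298 (.node 499875563024 1882 (.nil) (.nil)) (.nil)))))) (.node 499877723662 2491 (.node 499876643374 2011 (.node 499876577778 5348 (.node 499875628558 3802 (.node 499875626576 5189 (.node 499875626512 1779 (.nil) (.nil)) (.nil)) (.node 499875628562 4372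 (.node 499875628560 2482 (.nil) (.nil)) (.nil))) (.node 499876641328 2739 (.node 499876641264 3099 (.node 499876577838 3916 (.nil) (.nil)) (.nil)) (.node 499876643314 2150 (.node 499876643312 682 (.nil) (.nil)) (.nil)))) (.node 499877658066 3724 (.node 499876645424 2962 (.node 499876645360 2602 (.node 499876643376 819 (.nil) (.nil)) (.nil)) (.node 499876708910 5492 (.node 499876708850 4012 (.nil) (.nil)) (.nil))) (.node 499877660174 3331 (.node 499877658190 6024 (.node 499877658128 1419 (.nil) (.nil)) (.nil)) (.node 499877660178 2870 (.node 499877660176 950 (.nil) (.nil)) (.nil))))) (.node 499878740526 2731 (.node 499878676976 5938 (.node 499877725650 5890 (.node 499877723666 3230 (.node 499877723664 571 (.nil) (.nil)) (.nil)) (.node 499877725774 4094 (.node 499877725712 1282 (.nil) (.nil)) (.nil))) (.node 499878738478 4051 (.node 499878738418 4444 (.node 499878677040 5649 (.nil) (.nil)) (.nil)) (.node 499878740466 2630 (.node 499878740464 1171 (.nil) (.nil)) (.nil))))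 (.node 499909116399 5236 (.node 499878742574 4574 (.node 499878742514 3950 (.node 499878740528 1070 (.nil) (.nil)) (.nil)) (.node 499878804016 6040 (.node 499878803952 5762 (.nil) (.nil)) (.nil))) (.node 499909182001 5572 (.node 499909181935 4172 (.node 499909116465 3788 (.nil) (.nil)) (.nil)) (.node 499910133263 4756 (.nil) (.nil)))))))

/-- Index of a small icosian., part 3. -/
def elDictPart3 : Dict :=
  .node 499779158511 5850 (elDictPart1) (elDictPart2)

/-- Index of a small icosian., part 4. -/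
def elDictPart4 : Dict :=
  .node 500918959598 4291 (.node 500885338639 4497 (.node 500882226673 4485 (.node 499911215663 5842 (.node 499910198799 3082 (.node 499910196753 2979 (.node 499910196751 3211 (.node 499910196689 4924 (.nil) (.nil)) (.nil)) (.node 499910198737 4450 (.node 499910196815 4584 (.nil) (.nil)) (.nil))) (.node 499910262287 4412 (.node 499910198863 4814 (.node 499910198801 3350 (.nil) (.nil)) (.nil)) (.node 499911215601 3970 (.node 499910262289 5092 (.nil) (.nil)) (.nil)))) (.node 500850770450 3709 (.node 500850768400 4770 (.node 499911277103 3864 (.node 499911277041 5739 (.nil) (.nil)) (.nil)) (.node 500850770448 3570 (.node 500850770446 3690 (.nil) (.nil)) (.nil))) (.node 500851785264 5562 (.node 500851785200 3777 (.node 500850772496 5149 (.nil) (.nil)) (.nil)) (.node 500851852848 4161 (.node 500851852784 5226 (.nil) (.nil)) (.nil))))) (.node 500884260335 5878 (.node 500883243537 2638 (.node 500882228783 4589 (.node 500882228721 3765 (.node 500882226735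 4109 (.nil) (.nil)) (.nil)) (.node 500883243535 3118 (.node 500883243473 4005 (.nil) (.nil)) (.nil))) (.node 500883309071 2745 (.node 500883309009 4185 (.node 500883243599 3838 (.nil) (.nil)) (.nil)) (.node 500883309135 3869 (.node 500883309073 2985 (.nil) (.nil)) (.nil)))) (.node 500884325871 2466 (.node 500884323825 1737 (.node 500884323823 3417 (.node 500884260401 3958 (.nil) (.nil)) (.nil)) (.node 500884323889 2802 (.node 500884323887 2250 (.nil) (.nil)) (.nil))) (.node 500884325937 3469 (.node 500884325935 1881 (.node 500884325873 2226 (.nil) (.nil)) (.nil)) (.node 500884389425 5745 (.node 500884389359 4065 (.nil) (.nil)) (.nil)))))) (.node 500916864560 3201 (.node 500915847696 3705 (.node 500885408271 5706 (.node 500885340689 2157 (.node 500885340687 2397 (.node 500885338641 5802 (.nil) (.nil)) (.nil)) (.node 500885406225 2389 (.node 500885406223 2024 (.nil) (.nil)) (.nil))) (.node 500915782096 5085 (.node 500915716624 3718 (.node 500885408273 4641 (.nil) (.nil))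 (.nil)) (.node 500915782224 4709 (.node 500915782160 2398 (.nil) (.nil)) (.nil)))) (.node 500916799026 5889 (.node 500916798958 4506 (.node 500916796976 2518 (.node 500916796912 3297 (.nil) (.nil)) (.nil)) (.node 500916799024 1798 (.node 500916798960 1986 (.nil) (.nil)) (.nil))) (.node 500916862512 2082 (.node 500916862448 1905 (.node 500916862446 6002 (.nil) (.nil)) (.nil)) (.node 500916864496 2865 (.node 500916862514 4602 (.nil) (.nil)) (.nil))))) (.node 500917881296 3666 (.node 500917877328 3642 (.node 500917813778 4798 (.node 500917813776 2998 (.node 500917813774 4817 (.nil) (.nil)) (.nil)) (.node 500917877264 1977 (.node 500917877200 3657 (.nil) (.nil)) (.nil))) (.node 500917879312 350 (.node 500917879310 1771 (.node 500917879248 3186 (.nil) (.nil)) (.nil)) (.node 500917879376 3282 (.node 500917879314 1910 (.nil) (.nil)) (.nil)))) (.node 500918894064 2697 (.node 500917944846 5145 (.node 500917881424 3681 (.node 500917881360 2121 (.nil) (.nil)) (.nil)) (.node 500917944850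 4926 (.node 500917944848 3105 (.nil) (.nil)) (.nil))) (.node 500918896112 1866 (.node 500918896110 4026 (.node 500918894128 3237 (.nil) (.nil)) (.nil)) (.node 500918896178 4430 (.node 500918896176 2037 (.nil) (.nil)) (.nil))))))) (.node 500984988174 3691 (.node 500951432753 3522 (.node 500950350353 4419 (.node 500919910928 3717 (.node 500918959666 3882 (.node 500918959664 1722 (.node 500918959600 2144 (.nil) (.nil)) (.nil)) (.node 500918961712 2601 (.node 500918961648 3344 (.nil) (.nil)) (.nil))) (.node 500919976528 4962 (.node 500919976464 2277 (.node 500919976400 4866 (.nil) (.nil)) (.nil)) (.node 500950350351 5619 (.node 500920042000 3704 (.nil) (.nil)) (.nil)))) (.node 500950419985 5242 (.node 500950417935 2251 (.node 500950352401 2278 (.node 500950352399 2131 (.nil) (.nil)) (.nil)) (.node 500950419983 4282 (.node 500950417937 2030 (.nil) (.nil)) (.nil))) (.node 500951432687 2611 (.node 500951369265 5630 (.node 500951369199 6091 (.nil) (.nil)) (.nil)) (.node 500951432751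 1891 (.node 500951432689 2390 (.nil) (.nil)) (.nil))))) (.node 500952515087 2971 (.node 500951498289 5990 (.node 500951434799 2361 (.node 500951434737 1790 (.node 500951434735 3571 (.nil) (.nil)) (.nil)) (.node 500951498223 5251 (.node 500951434801 2750 (.nil) (.nil)) (.nil))) (.node 500952449553 3110 (.node 500952449551 2851 (.node 500952449489 5457 (.nil) (.nil)) (.nil)) (.node 500952515025 6104 (.node 500952449615 5997 (.nil) (.nil)) (.nil)))) (.node 500953531951 5491 (.node 500953529841 5390 (.node 500952515151 5361 (.node 500952515089 2510 (.nil) (.nil)) (.nil)) (.node 500953531889 4310 (.node 500953529903 4411 (.nil) (.nil)) (.nil))) (.node 500983973360 5362 (.node 500983905840 5499 (.node 500983905776 5859 (.nil) (.nil)) (.nil)) (.node 500984986128 4891 (.node 500983973424 5722 (.nil) (.nil)) (.nil)))))) (.node 530951225842 4729 (.node 530950143442 4609 (.node 530917670415 5383 (.node 500984990224 5030 (.node 500984988178 3710 (.node 500984988176 3470 (.nil) (.nil))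 (.nil)) (.node 530917606929 5480 (.node 530917606927 4400 (.nil) (.nil)) (.nil))) (.node 530949065262 4937 (.node 530949065202 6009 (.node 530917670417 4303 (.nil) (.nil)) (.nil)) (.node 530949126702 5882 (.node 530949126642 4806 (.nil) (.nil)) (.nil)))) (.node 530951160306 4129 (.node 530950145490 3889 (.node 530950143566 3987 (.node 530950143504 1303 (.nil) (.nil)) (.nil)) (.node 530950145614 4467 (.node 530950145552 1400 (.nil) (.nil)) (.nil))) (.node 530951162416 4864 (.node 530951162352 5600 (.node 530951160366 5067 (.nil) (.nil)) (.nil)) (.node 530951223856 5263 (.node 530951223792 5008 (.nil) (.nil)) (.nil))))) (.node 530982618639 1679 (.node 530981601777 1079 (.node 530952242704 5840 (.node 530952240656 5743 (.node 530951225902 3747 (.nil) (.nil)) (.nil)) (.node 530981538351 5660 (.node 530981538289 4211 (.nil) (.nil)) (.nil))) (.node 530981601839 1199 (.node 530981601837 5477 (.node 530981601779 5333 (.nil) (.nil)) (.nil)) (.node 530981665327 4345 (.node 530981665265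 5799 (.nil) (.nil)) (.nil)))) (.node 530982682127 1442 (.node 530982620689 4024 (.node 530982620687 5952 (.node 530982618641 1559 (.nil) (.nil)) (.nil)) (.node 530982680081 6054 (.node 530982680079 3928 (.nil) (.nil)) (.nil))) (.node 530983635503 4579 (.node 530983635441 5171 (.node 530982682129 1566 (.nil) (.nil)) (.nil)) (.node 530983698931 3774 (.node 530983698929 1129 (.nil) (.nil)) (.nil)))))))

/-- Index of a small icosian., part 5. -/
def elDictPart5 : Dict :=
  .node 532023920173 4752 (.node 531991444976 5489 (.node 531047630351 3739 (.node 531014140402 5447 (.node 531014074866 4931 (.node 530983762479 5545 (.node 530983762417 4478 (.node 530983698991 987 (.nil) (.nil)) (.nil)) (.node 531013060112 5582 (.node 531013058064 5246 (.nil) (.nil)) (.nil))) (.node 531014076976 5822 (.node 531014076912 4792 (.node 531014074926 5311 (.nil) (.nil)) (.nil)) (.node 531014138416 5138 (.node 531014138352 5726 (.nil) (.nil)) (.nil)))) (.node 531015157264 1319 (.node 531015155216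 1439 (.node 531015155154 5992 (.node 531014140462 4825 (.nil) (.nil)) (.nil)) (.node 531015157202 4367 (.node 531015155278 4231 (.nil) (.nil)) (.nil))) (.node 531016174126 3859 (.node 531016174066 5104 (.node 531015157326 6098 (.nil) (.nil)) (.nil)) (.node 531016235566 4768 (.node 531016235506 3998 (.nil) (.nil)) (.nil))))) (.node 531990362638 4442 (.node 531990299090 5645 (.node 531047693841 4118 (.node 531047693839 4598 (.node 531047630353 4459 (.nil) (.nil)) (.nil)) (.node 531957826065 3823 (.node 531957826063 4160 (.nil) (.nil)) (.nil))) (.node 531990301198 4040 (.node 531990299214 6031 (.node 531990299152 1063 (.nil) (.nil)) (.nil)) (.node 531990301202 4569 (.node 531990301200 2720 (.nil) (.nil)) (.nil)))) (.node 531991315952 5993 (.node 531990364626 5927 (.node 531990362642 3943 (.node 531990362640 2623 (.nil) (.nil)) (.nil)) (.node 531990364750 5773 (.node 531990364688 1160 (.nil) (.nil)) (.nil))) (.node 531991379504 2503 (.node 531991379440 3103 (.node 531991316016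 5351 (.nil) (.nil)) (.nil)) (.node 531991381552 2960 (.node 531991381488 2840 (.nil) (.nil)) (.nil)))))) (.node 532022839823 1040 (.node 532021820973 5069 (.node 532021759473 4862 (.node 532021757427 4725 (.node 532021757425 1125 (.node 531991445040 6095 (.nil) (.nil)) (.nil)) (.node 532021757487 1220 (.node 532021757485 3737 (.nil) (.nil)) (.nil))) (.node 532021818927 5006 (.node 532021818865 5439 (.node 532021759535 5300 (.nil) (.nil)) (.nil)) (.node 532021820915 4086 (.node 532021820913 1359 (.nil) (.nil)) (.nil)))) (.node 532022835727 1663 (.node 532022774287 3257 (.node 532022774225 5291 (.node 532021820975 989 (.nil) (.nil)) (.nil)) (.node 532022774351 5180 (.node 532022774289 2769 (.nil) (.nil)) (.nil))) (.node 532022837775 137 (.node 532022837713 1605 (.node 532022835729 1183 (.nil) (.nil)) (.nil)) (.node 532022837839 1655 (.node 532022837777 223 (.nil) (.nil)) (.nil))))) (.node 532023854639 737 (.node 532023852529 1423 (.node 532022901263 2402 (.node 532022901201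 5559 (.node 532022839825 1622 (.nil) (.nil)) (.nil)) (.node 532022901327 5425 (.node 532022901265 3126 (.nil) (.nil)) (.nil))) (.node 532023852591 1543 (.node 532023852589 5233 (.node 532023852531 5094 (.nil) (.nil)) (.nil)) (.node 532023854577 409 (.node 532023854575 1553 (.nil) (.nil)) (.nil)))) (.node 532023918063 962 (.node 532023856689 3849 (.node 532023856623 5120 (.node 532023854641 1089 (.nil) (.nil)) (.nil)) (.node 532023916081 4783 (.node 532023916015 3962 (.nil) (.nil)) (.nil))) (.node 532023918129 1446 (.node 532023918127 387 (.node 532023918065 606 (.nil) (.nil)) (.nil)) (.node 532023920115 5575 (.node 532023920113 1487 (.nil) (.nil)) (.nil))))))) (.node 532055374352 482 (.node 532053215760 4382 (.node 532024936913 4249 (.node 532024934865 2569 (.node 532024932879 3328 (.node 532024932817 5863 (.node 532023920175 1280 (.nil) (.nil)) (.nil)) (.node 532024932943 4347 (.node 532024932881 2983 (.nil) (.nil)) (.nil))) (.node 532024934929 529 (.node 532024934927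 867 (.node 532024934925 4632 (.nil) (.nil)) (.nil)) (.node 532024934991 2667 (.node 532024934931 4494 (.nil) (.nil)) (.nil)))) (.node 532025951727 4738 (.node 532024937039 5720 (.node 532024936977 3184 (.node 532024936975 3080 (.nil) (.nil)) (.nil)) (.node 532025949743 5547 (.node 532025949681 4849 (.nil) (.nil)) (.nil))) (.node 532026015281 5080 (.node 532026015215 5914 (.node 532025951793 6016 (.nil) (.nil)) (.nil)) (.node 532026017327 4947 (.node 532026017265 5209 (.nil) (.nil)) (.nil))))) (.node 532054359538 4566 (.node 532054294062 3566 (.node 532054230574 4457 (.node 532054230514 3731 (.node 532053277200 4286 (.nil) (.nil)) (.nil)) (.node 532054294002 3053 (.node 532054294000 1286 (.nil) (.nil)) (.nil))) (.node 532054296050 3525 (.node 532054296048 1517 (.node 532054294064 1469 (.nil) (.nil)) (.nil)) (.node 532054296112 1382 (.node 532054296110 2957 (.nil) (.nil)) (.nil)))) (.node 532055310866 1253 (.node 532055310802 3371 (.node 532055247376 5529 (.node 532054359598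 4105 (.nil) (.nil)) (.nil)) (.node 532055310864 131 (.node 532055310862 977 (.nil) (.nil)) (.nil))) (.node 532055312912 849 (.node 532055312910 3377 (.node 532055310926 2551 (.nil) (.nil)) (.nil)) (.node 532055374350 3122 (.node 532055312914 3249 (.nil) (.nil)) (.nil)))))) (.node 532056393264 129 (.node 532056389106 4201 (.node 532055376462 3389 (.node 532055376398 1397 (.node 532055376338 2687 (.node 532055374354 3413 (.nil) (.nil)) (.nil)) (.node 532055376402 1086 (.node 532055376400 239 (.nil) (.nil)) (.nil))) (.node 532056327666 2411 (.node 532056327664 1211 (.node 532055439888 5162 (.nil) (.nil)) (.nil)) (.node 532056327728 1329 (.node 532056327726 2657 (.nil) (.nil)) (.nil)))) (.node 532056391216 151 (.node 532056391152 208 (.node 532056391090 6049 (.node 532056389166 4648 (.nil) (.nil)) (.nil)) (.node 532056391214 627 (.node 532056391154 894 (.nil) (.nil)) (.nil))) (.node 532056393200 169 (.node 532056393138 4007 (.node 532056391278 3871 (.nil) (.nil)) (.nil)) (.node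 532056393262 552 (.node 532056393202 769 (.nil) (.nil)) (.nil))))) (.node 532057408018 1014 (.node 532056456750 2785 (.node 532056395310 4327 (.node 532056395250 4504 (.node 532056393326 5907 (.nil) (.nil)) (.nil)) (.node 532056456690 2526 (.node 532056456688 1202 (.nil) (.nil)) (.nil))) (.node 532057407954 2809 (.node 532057344528 5769 (.node 532056456752 1345 (.nil) (.nil)) (.nil)) (.node 532057408016 237 (.node 532057408014 1337 (.nil) (.nil)) (.nil)))) (.node 532057471504 808 (.node 532057410064 664 (.node 532057410062 3192 (.node 532057408078 3511 (.nil) (.nil)) (.nil)) (.node 532057471502 3568 (.node 532057410066 3489 (.nil) (.nil)) (.nil))) (.node 532057473550 1152 (.node 532057473490 3529 (.node 532057471506 3294 (.nil) (.nil)) (.nil)) (.node 532057473552 147 (.nil) (.nil)))))))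

/-- Index of a small icosian., part 6. -/
def elDictPart6 : Dict :=
  .node 530983698989 4152 (elDictPart4) (elDictPart5)

/-- Index of a small icosian., part 7. -/
def elDictPart7 : Dict :=
  .node 499910133265 4268 (elDictPart3) (elDictPart6)

/-- Index of a small icosian., part 8. -/
def elDictPart8 : Dict :=
  .node 532122419728 979 (.node 532088868401 4929 (.node 532086834735 5717 (.node 532058490416 1624 (.node 532058488306 3414 (.node 532058424818 4369 (.node 532057537040 5642 (.node 532057473614 2427 (.nil) (.nil)) (.nil)) (.node 532058488304 1609 (.node 532058424878 5417 (.nil) (.nil)) (.nil))) (.node 532058490352 1249 (.node 532058488368 1347 (.node 532058488366 3027 (.nil) (.nil)) (.nil)) (.node 532058490414 3387 (.node 532058490354 2929 (.nil) (.nil)) (.nil)))) (.node 532086767151 4766 (.node 532059507216 4556 (.node 532058553902 4227 (.node 532058553842 5286 (.nil) (.nil)) (.nil)) (.node 532086767089 5813 (.node 532059568656 4676 (.nil) (.nil)) (.nil))) (.node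 532086832623 5032 (.node 532086769201 4898 (.node 532086769135 3952 (.nil) (.nil)) (.nil)) (.node 532086834673 5102 (.node 532086832689 4058 (.nil) (.nil)) (.nil))))) (.node 532087851535 3322 (.node 532087849485 4397 (.node 532087847441 3219 (.node 532087847439 2966 (.node 532087847377 4552 (.nil) (.nil)) (.nil)) (.node 532087849425 2512 (.node 532087847503 5618 (.nil) (.nil)) (.nil))) (.node 532087849491 4253 (.node 532087849489 698 (.node 532087849487 832 (.nil) (.nil)) (.nil)) (.node 532087851473 5272 (.node 532087849551 2858 (.nil) (.nil)) (.nil)))) (.node 532088864303 1231 (.node 532088864241 1659 (.node 532087851599 4658 (.node 532087851537 3062 (.nil) (.nil)) (.nil)) (.node 532088864301 4996 (.node 532088864243 5693 (.nil) (.nil)) (.nil))) (.node 532088866351 379 (.node 532088866289 592 (.node 532088866287 1192 (.nil) (.nil)) (.nil)) (.node 532088868335 6082 (.node 532088866353 1658 (.nil) (.nil)) (.nil)))))) (.node 532090010127 3278 (.node 532089883151 2539 (.node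 532088929841 1058 (.node 532088929775 1562 (.node 532088927793 5979 (.node 532088927727 4802 (.nil) (.nil)) (.nil)) (.node 532088929839 938 (.node 532088929777 398 (.nil) (.nil)) (.nil))) (.node 532088931885 5837 (.node 532088931827 4852 (.node 532088931825 1367 (.nil) (.nil)) (.nil)) (.node 532089883089 5651 (.node 532088931887 1585 (.nil) (.nil)) (.nil)))) (.node 532089946639 139 (.node 532089944591 1168 (.node 532089883215 4099 (.node 532089883153 3139 (.nil) (.nil)) (.nil)) (.node 532089946577 1552 (.node 532089944593 1539 (.nil) (.nil)) (.nil))) (.node 532089948687 1512 (.node 532089946703 1467 (.node 532089946641 174 (.nil) (.nil)) (.nil)) (.node 532090010065 3758 (.node 532089948689 1024 (.nil) (.nil)) (.nil))))) (.node 532091026931 4974 (.node 532090963503 1099 (.node 532090963441 1369 (.node 532090010191 5785 (.node 532090010129 2678 (.nil) (.nil)) (.nil)) (.node 532090963501 4872 (.node 532090963443 5449 (.nil) (.nil)) (.nil))) (.node 532091024881 5078 (.node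 532090965551 4699 (.node 532090965489 4090 (.nil) (.nil)) (.nil)) (.node 532091026929 998 (.node 532091024943 3744 (.nil) (.nil)) (.nil)))) (.node 532121402928 3098 (.node 532121339376 4192 (.node 532091026991 1227 (.node 532091026989 5307 (.nil) (.nil)) (.nil)) (.node 532121402864 2752 (.node 532121339440 3979 (.nil) (.nil)) (.nil))) (.node 532121468400 3878 (.node 532121404976 2618 (.node 532121404912 2992 (.nil) (.nil)) (.nil)) (.node 532122419666 3844 (.node 532121468464 3818 (.nil) (.nil)) (.nil))))))) (.node 533065156175 5240 (.node 533063056913 1669 (.node 532154958353 5378 (.node 532122483216 2798 (.node 532122421776 2419 (.node 532122421774 4219 (.node 532122419790 5191 (.nil) (.nil)) (.nil)) (.node 532122483214 6038 (.node 532122421778 5899 (.nil) (.nil)) (.nil))) (.node 532122485264 1118 (.node 532122485202 5567 (.node 532122483218 4358 (.nil) (.nil)) (.nil)) (.node 532154958351 5512 (.node 532122485326 3974 (.nil) (.nil)) (.nil)))) (.node 533062993425 1429 (.node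 533031600624 4640 (.node 533031535152 4543 (.node 533031535088 5143 (.nil) (.nil)) (.nil)) (.node 533062993423 1580 (.node 533031600688 4760 (.nil) (.nil)) (.nil))) (.node 533063054863 5782 (.node 533062995473 5652 (.node 533062995471 4520 (.nil) (.nil)) (.nil)) (.node 533063056911 1290 (.node 533063054865 4663 (.nil) (.nil)) (.nil))))) (.node 533064137265 5886 (.node 533064073713 943 (.node 533064071665 2863 (.node 533064010289 4089 (.node 533064010223 6017 (.nil) (.nil)) (.nil)) (.node 533064073711 1410 (.node 533064071727 3223 (.nil) (.nil)) (.nil))) (.node 533064075761 3320 (.node 533064073777 1309 (.node 533064073775 560 (.nil) (.nil)) (.nil)) (.node 533064137199 3722 (.node 533064075823 2480 (.nil) (.nil)) (.nil)))) (.node 533065090577 2351 (.node 533065088529 2743 (.node 533065088527 3553 (.node 533065088465 5623 (.nil) (.nil)) (.nil)) (.node 533065090575 1880 (.node 533065088591 5983 (.nil) (.nil)) (.nil))) (.node 533065156049 6080 (.node 533065154065 1783 (.node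 533065154063 2383 (.nil) (.nil)) (.nil)) (.node 533065156113 3560 (.node 533065156111 2600 (.nil) (.nil)) (.nil)))))) (.node 533096546800 177 (.node 533095530062 2669 (.node 533095466512 1460 (.node 533094513138 5093 (.node 533094451758 4757 (.node 533094451698 3885 (.nil) (.nil)) (.nil)) (.node 533095466450 4125 (.node 533094513198 3989 (.nil) (.nil)) (.nil))) (.node 533095529998 1530 (.node 533095529938 3165 (.node 533095466574 5778 (.nil) (.nil)) (.nil)) (.node 533095530002 1013 (.node 533095530000 206 (.nil) (.nil)) (.nil)))) (.node 533095595474 5672 (.node 533095532048 165 (.node 533095532046 1157 (.node 533095531986 2565 (.nil) (.nil)) (.nil)) (.node 533095532110 3269 (.node 533095532050 1502 (.nil) (.nil)) (.nil))) (.node 533096483312 4741 (.node 533095595598 3749 (.node 533095595536 1545 (.nil) (.nil)) (.nil)) (.node 533096546738 4845 (.node 533096483376 4329 (.nil) (.nil)) (.nil))))) (.node 533096610352 642 (.node 533096548850 2049 (.node 533096546864 238 (.node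 533096546862 377 (.node 533096546802 525 (.nil) (.nil)) (.nil)) (.node 533096548848 786 (.node 533096546926 4591 (.nil) (.nil)) (.nil))) (.node 533096610288 362 (.node 533096548912 369 (.node 533096548910 1697 (.nil) (.nil)) (.nil)) (.node 533096610350 1922 (.node 533096610290 1806 (.nil) (.nil)) (.nil)))) (.node 533096612462 4949 (.node 533096612338 366 (.node 533096612336 122 (.node 533096612274 4487 (.nil) (.nil)) (.nil)) (.node 533096612400 149 (.node 533096612398 869 (.nil) (.nil)) (.nil))) (.node 533097563662 2777 (.node 533096675888 5077 (.node 533096675824 4202 (.nil) (.nil)) (.nil)) (.node 533097563666 3431 (.node 533097563664 957 (.nil) (.nil)) (.nil)))))))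

/-- Index of a small icosian., part 9. -/
def elDictPart9 : Dict :=
  .node 533129148977 3037 (.node 533099726416 4576 (.node 533098641966 4753 (.node 533097629198 680 (.node 533097627152 103 (.node 533097627088 1257 (.node 533097625106 3721 (.node 533097625104 3361 (.nil) (.nil)) (.nil)) (.node 533097627150 720 (.node 533097627090 2089 (.nil) (.nil)) (.nil))) (.node 533097627216 1002 (.node 533097627214 1827 (.node 533097627154 823 (.nil) (.nil)) (.nil)) (.node 533097629138 1729 (.node 533097629136 1146 (.nil) (.nil)) (.nil)))) (.node 533097631248 3440 (.node 533097629262 1947 (.node 533097629202 603 (.node 533097629200 80 (.nil) (.nil)) (.nil)) (.node 533097631246 4087 (.node 533097629264 1401 (.nil) (.nil)) (.nil))) (.node 533097692688 584 (.node 533097692686 3362 (.node 533097631250 5944 (.nil) (.nil)) (.nil)) (.node 533098641906 5503 (.node 533097692690 2406 (.nil) (.nil)) (.nil))))) (.node 533098707506 5560 (.node 533098646000 2218 (.node 533098644014 2233 (.node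 533098643954 1849 (.node 533098643952 649 (.nil) (.nil)) (.nil)) (.node 533098645998 5218 (.node 533098644016 477 (.nil) (.nil)) (.nil))) (.node 533098707438 5042 (.node 533098646066 4689 (.node 533098646064 2056 (.nil) (.nil)) (.nil)) (.node 533098707504 2263 (.node 533098707440 1954 (.nil) (.nil)) (.nil)))) (.node 533098711598 5360 (.node 533098709550 1707 (.node 533098709490 2209 (.node 533098709488 464 (.nil) (.nil)) (.nil)) (.node 533098711538 5095 (.node 533098709552 747 (.nil) (.nil)) (.nil))) (.node 533099724368 5427 (.node 533099724304 2156 (.node 533099724240 4474 (.nil) (.nil)) (.nil)) (.node 533099726352 2036 (.node 533099726288 5329 (.nil) (.nil)) (.nil)))))) (.node 533129019891 4451 (.node 533128005137 765 (.node 533126990383 5237 (.node 533126988273 3285 (.node 533126986287 3926 (.node 533126986225 5573 (.nil) (.nil)) (.nil)) (.node 533126990321 4022 (.node 533126988335 3149 (.nil) (.nil)) (.nil))) (.node 533128005073 2805 (.node 533128003089 1373 (.node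 533128003087 1166 (.nil) (.nil)) (.nil)) (.node 533128005135 557 (.node 533128005133 4157 (.nil) (.nil)) (.nil)))) (.node 533128068625 893 (.node 533128068561 2912 (.node 533128005199 3018 (.node 533128005139 5523 (.nil) (.nil)) (.nil)) (.node 533128068623 629 (.node 533128068621 5160 (.nil) (.nil)) (.nil))) (.node 533128070671 1277 (.node 533128068687 2429 (.node 533128068627 3773 (.nil) (.nil)) (.nil)) (.node 533129019889 971 (.node 533128070673 1022 (.nil) (.nil)) (.nil))))) (.node 533129085425 45 (.node 533129022001 2649 (.node 533129021935 2941 (.node 533129019951 1591 (.node 533129019949 3977 (.nil) (.nil)) (.nil)) (.node 533129021999 1937 (.node 533129021937 2221 (.nil) (.nil)) (.nil))) (.node 533129083439 806 (.node 533129083377 699 (.node 533129083375 1406 (.nil) (.nil)) (.nil)) (.node 533129085423 232 (.node 533129083441 1602 (.nil) (.nil)) (.nil)))) (.node 533129087473 662 (.node 533129085487 29 (.node 533129085485 2160 (.node 533129085427 2205 (.nil) (.nil))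 (.nil)) (.node 533129087471 1637 (.node 533129085489 173 (.nil) (.nil)) (.nil))) (.node 533129148911 2522 (.node 533129087537 1262 (.node 533129087535 802 (.nil) (.nil)) (.nil)) (.node 533129148975 2162 (.node 533129148913 2046 (.nil) (.nil)) (.nil))))))) (.node 533131184625 490 (.node 533130165839 507 (.node 533130102289 9 (.node 533130100239 196 (.node 533129151021 4585 (.node 533129150963 3846 (.node 533129150961 1665 (.nil) (.nil)) (.nil)) (.node 533130100177 1137 (.node 533129151023 1105 (.nil) (.nil)) (.nil))) (.node 533130102225 889 (.node 533130100303 1111 (.node 533130100241 121 (.nil) (.nil)) (.nil)) (.node 533130102287 17 (.node 533130102285 3017 (.nil) (.nil)) (.nil)))) (.node 533130163729 1681 (.node 533130104335 1807 (.node 533130102351 616 (.node 533130102291 3003 (.nil) (.nil)) (.nil)) (.node 533130163727 1802 (.node 533130104337 1689 (.nil) (.nil)) (.nil))) (.node 533130165775 2 (.node 533130165773 2880 (.node 533130165713 754 (.nil) (.nil)) (.nil)) (.node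 533130165779 2886 (.node 533130165777 6 (.nil) (.nil)) (.nil))))) (.node 533131119153 2889 (.node 533131117043 5891 (.node 533130167825 126 (.node 533130167823 202 (.node 533130167761 1007 (.nil) (.nil)) (.nil)) (.node 533131117041 1451 (.node 533130167887 1041 (.nil) (.nil)) (.nil))) (.node 533131119087 2458 (.node 533131117103 1077 (.node 533131117101 4337 (.nil) (.nil)) (.nil)) (.node 533131119151 2296 (.node 533131119089 1978 (.nil) (.nil)) (.nil)))) (.node 533131182577 49 (.node 533131180591 864 (.node 533131180529 537 (.node 533131180527 1497 (.nil) (.nil)) (.nil)) (.node 533131182575 211 (.node 533131180593 1242 (.nil) (.nil)) (.nil))) (.node 533131182639 27 (.node 533131182637 2307 (.node 533131182579 2283 (.nil) (.nil)) (.nil)) (.node 533131184623 1386 (.node 533131182641 162 (.nil) (.nil)) (.nil)))))) (.node 533132262991 2907 (.node 533132197393 1197 (.node 533131246129 2800 (.node 533131246063 3002 (.node 533131184689 1504 (.node 533131184687 921 (.nil) (.nil))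 (.nil)) (.node 533131246127 2080 (.node 533131246065 2286 (.nil) (.nil)) (.nil))) (.node 533131248173 6025 (.node 533131248115 4206 (.node 533131248113 1184 (.nil) (.nil)) (.nil)) (.node 533132197391 1317 (.node 533131248175 1544 (.nil) (.nil)) (.nil)))) (.node 533132199503 2536 (.node 533132199439 538 (.node 533132199437 5777 (.node 533132199377 3049 (.nil) (.nil)) (.nil)) (.node 533132199443 5283 (.node 533132199441 837 (.nil) (.nil)) (.nil))) (.node 533132262927 704 (.node 533132262925 5400 (.node 533132262865 2674 (.nil) (.nil)) (.nil)) (.node 533132262931 5646 (.node 533132262929 880 (.nil) (.nil)) (.nil))))) (.node 533160543696 4312 (.node 533133279791 3236 (.node 533133277681 6116 (.node 533132264977 1424 (.node 533132264975 1064 (.nil) (.nil)) (.nil)) (.node 533133279729 3356 (.node 533133277743 5787 (.nil) (.nil)) (.nil))) (.node 533160541648 3832 (.node 533133281839 5996 (.node 533133281777 5689 (.nil) (.nil)) (.nil)) (.node 533160541776 4418 (.node 533160541712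 2139 (.nil) (.nil)) (.nil)))) (.node 533161558514 2348 (.node 533161556466 4899 (.node 533160543824 4178 (.node 533160543760 2002 (.nil) (.nil)) (.nil)) (.node 533161558512 472 (.node 533161556526 3796 (.nil) (.nil)) (.nil))) (.node 533161560558 4877 (.node 533161558576 908 (.node 533161558574 1756 (.nil) (.nil)) (.nil)) (.node 533161560560 2122 (.nil) (.nil)))))))

/-- Index of a small icosian., part 10. -/
def elDictPart10 : Dict :=
  .node 533097625102 6088 (elDictPart8) (elDictPart9)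

/-- Index of a small icosian., part 11. -/
def elDictPart11 : Dict :=
  .node 533196192241 3244 (.node 533163657774 2054 (.node 533162638928 1418 (.node 533162575374 3556 (.node 533161624048 572 (.node 533161622000 2379 (.node 533161621998 5846 (.node 533161560626 5702 (.nil) (.nil)) (.nil)) (.node 533161622066 4973 (.node 533161622064 2019 (.nil) (.nil)) (.nil))) (.node 533161624112 458 (.node 533161624110 2309 (.node 533161624050 1852 (.nil) (.nil)) (.nil)) (.node 533161626158 5002 (.node 533161626098 4132 (.nil) (.nil)) (.nil)))) (.node 533162638800 1072 (.node 533162636814 5486 (.node 533162575378 2588 (.node 533162575376 619 (.nil) (.nil)) (.nil)) (.node 533162636818 3841 (.node 533162636816 3481 (.nil) (.nil)) (.nil))) (.node 533162638864 99 (.node 533162638862 480 (.node 533162638802 1684 (.nil) (.nil)) (.nil)) (.node 533162638926 2064 (.node 533162638866 579 (.nil) (.nil)) (.nil))))) (.node 533162704400 758 (.node 533162640974 1814 (.node 533162640910 922 (.node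 533162640850 1930 (.node 533162640848 1312 (.nil) (.nil)) (.nil)) (.node 533162640914 843 (.node 533162640912 82 (.nil) (.nil)) (.nil))) (.node 533162642960 3562 (.node 533162642958 3967 (.node 533162640976 1178 (.nil) (.nil)) (.nil)) (.node 533162704398 2732 (.node 533162642962 5342 (.nil) (.nil)) (.nil)))) (.node 533163655666 364 (.node 533163592240 4819 (.node 533163592176 4498 (.node 533162704402 3486 (.nil) (.nil)) (.nil)) (.node 533163655664 124 (.node 533163655602 4204 (.nil) (.nil)) (.nil))) (.node 533163655790 4711 (.node 533163655728 188 (.node 533163655726 796 (.nil) (.nil)) (.nil)) (.node 533163657714 1810 (.node 533163657712 370 (.nil) (.nil)) (.nil)))))) (.node 533164738064 230 (.node 533163784688 4958 (.node 533163721138 5087 (.node 533163719154 1924 (.node 533163719152 878 (.node 533163657776 499 (.nil) (.nil)) (.nil)) (.node 533163719216 384 (.node 533163719214 1704 (.nil) (.nil)) (.nil))) (.node 533163721262 374 (.node 533163721202 652 (.node 533163721200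 158 (.nil) (.nil)) (.nil)) (.node 533163721326 4334 (.node 533163721264 218 (.nil) (.nil)) (.nil)))) (.node 533164736014 1051 (.node 533164672528 1579 (.node 533164672466 5569 (.node 533163784752 4600 (.nil) (.nil)) (.nil)) (.node 533164735954 2404 (.node 533164672590 5296 (.nil) (.nil)) (.nil))) (.node 533164736078 3264 (.node 533164736018 1670 (.node 533164736016 144 (.nil) (.nil)) (.nil)) (.node 533164738062 1632 (.node 533164738002 3130 (.nil) (.nil)) (.nil))))) (.node 533195111953 3428 (.node 533165754866 4810 (.node 533164801490 5434 (.node 533164738126 2774 (.node 533164738066 1190 (.nil) (.nil)) (.nil)) (.node 533164801614 5187 (.node 533164801552 1664 (.nil) (.nil)) (.nil))) (.node 533165816366 4944 (.node 533165816306 5884 (.node 533165754926 6014 (.nil) (.nil)) (.nil)) (.node 533195111951 2476 (.node 533195111889 4072 (.nil) (.nil)) (.nil)))) (.node 533195179473 5752 (.node 533195114001 1748 (.node 533195113999 2236 (.node 533195112015 5858 (.nil) (.nil)) (.nil))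 (.node 533195177489 2259 (.node 533195177487 1892 (.nil) (.nil)) (.nil))) (.node 533195179599 3938 (.node 533195179537 2812 (.node 533195179535 3442 (.nil) (.nil)) (.nil)) (.node 533196130865 3908 (.node 533196130799 5299 (.nil) (.nil)) (.nil))))))) (.node 534137848336 709 (.node 534104292849 4909 (.node 533197213199 5179 (.node 533196196337 2650 (.node 533196194289 724 (.node 533196194287 1432 (.node 533196192303 2544 (.nil) (.nil)) (.nil)) (.node 533196194353 1298 (.node 533196194351 614 (.nil) (.nil)) (.nil))) (.node 533196257841 5438 (.node 533196257775 4052 (.node 533196196399 3134 (.nil) (.nil)) (.nil)) (.node 533197211153 1459 (.node 533197211151 1219 (.nil) (.nil)) (.nil)))) (.node 533228667376 4432 (.node 533197272593 5558 (.node 533197272591 4224 (.node 533197213201 4330 (.nil) (.nil)) (.nil)) (.node 533197274641 1358 (.node 533197274639 1531 (.nil) (.nil)) (.nil))) (.node 533228732976 4298 (.node 533228732912 4892 (.node 533228667440 4988 (.nil) (.nil)) (.nil))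 (.node 534104229423 5010 (.node 534104229361 4429 (.nil) (.nil)) (.nil))))) (.node 534136831474 5795 (.node 534136765998 2490 (.node 534136702510 5699 (.node 534136702450 5509 (.node 534104292911 4290 (.nil) (.nil)) (.nil)) (.node 534136765938 3365 (.node 534136765936 1170 (.nil) (.nil)) (.nil))) (.node 534136767986 2869 (.node 534136767984 1452 (.node 534136766000 1549 (.nil) (.nil)) (.nil)) (.node 534136768048 1069 (.node 534136768046 3450 (.nil) (.nil)) (.nil)))) (.node 534137784848 2000 (.node 534137782800 810 (.node 534137782798 2730 (.node 534136831534 5370 (.nil) (.nil)) (.nil)) (.node 534137784784 3906 (.node 534137782802 2989 (.nil) (.nil)) (.nil))) (.node 534137846288 2143 (.node 534137846224 5337 (.node 534137784912 5481 (.nil) (.nil)) (.nil)) (.node 534137848334 3090 (.node 534137846352 4002 (.nil) (.nil)) (.nil)))))) (.node 534169243119 4986 (.node 534168224271 1435 (.node 534138865134 5610 (.node 534138863088 2274 (.node 534138863086 4410 (.node 534137848338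 2629 (.nil) (.nil)) (.nil)) (.node 534138863154 5269 (.node 534138863152 2023 (.nil) (.nil)) (.nil))) (.node 534138865202 4309 (.node 534138865200 2240 (.node 534138865136 2120 (.nil) (.nil)) (.nil)) (.node 534168160785 6118 (.node 534168160783 4261 (.nil) (.nil)) (.nil)))) (.node 534169239085 5970 (.node 534168287761 4357 (.node 534168287759 5985 (.node 534168224273 1315 (.nil) (.nil)) (.nil)) (.node 534169239027 4925 (.node 534169239025 1678 (.nil) (.nil)) (.nil))) (.node 534169241073 405 (.node 534169241071 1261 (.node 534169239087 1078 (.nil) (.nil)) (.nil)) (.node 534169241137 1578 (.node 534169241135 958 (.nil) (.nil)) (.nil))))) (.node 534170255887 1438 (.node 534169304623 389 (.node 534169302577 4842 (.node 534169302511 5683 (.node 534169243185 5827 (.nil) (.nil)) (.nil)) (.node 534169304561 585 (.node 534169304559 1650 (.nil) (.nil)) (.nil))) (.node 534169306611 6109 (.node 534169306609 1185 (.node 534169304625 1357 (.nil) (.nil)) (.nil)) (.node 534169306671 1573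 (.node 534169306669 4813 (.nil) (.nil)) (.nil)))) (.node 534170319375 570 (.node 534170257937 1809 (.node 534170257935 2057 (.node 534170255889 1198 (.nil) (.nil)) (.nil)) (.node 534170319373 3840 (.node 534170319313 2577 (.nil) (.nil)) (.nil))) (.node 534170319439 3502 (.node 534170319379 5331 (.node 534170319377 841 (.nil) (.nil)) (.nil)) (.node 534170321361 645 (.nil) (.nil)))))))

/-- Index of a small icosian., part 12. -/
def elDictPart12 : Dict :=
  .node 534202857936 2672 (.node 534172418639 2376 (.node 534171338287 357 (.node 534170384913 1926 (.node 534170323469 5475 (.node 534170321427 3589 (.node 534170321425 109 (.node 534170321423 90 (.nil) (.nil)) (.nil)) (.node 534170323409 3546 (.node 534170321487 749 (.nil) (.nil)) (.nil))) (.node 534170323475 3963 (.node 534170323473 949 (.node 534170323471 487 (.nil) (.nil)) (.nil)) (.node 534170384911 1682 (.node 534170323535 2721 (.nil) (.nil)) (.nil)))) (.node 534171336177 417 (.node 534171272689 4244 (.node 534170386961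 1305 (.node 534170386959 1065 (.nil) (.nil)) (.nil)) (.node 534171336175 1017 (.node 534171272751 5157 (.nil) (.nil)) (.nil))) (.node 534171338161 4626 (.node 534171336241 1362 (.node 534171336239 717 (.nil) (.nil)) (.nil)) (.node 534171338225 289 (.node 534171338223 426 (.nil) (.nil)) (.nil))))) (.node 534171403825 1161 (.node 534171401775 282 (.node 534171401649 4954 (.node 534171338351 4816 (.node 534171338289 489 (.nil) (.nil)) (.nil)) (.node 534171401713 246 (.node 534171401711 842 (.nil) (.nil)) (.nil))) (.node 534171403759 1266 (.node 534171401839 4482 (.node 534171401777 402 (.nil) (.nil)) (.nil)) (.node 534171403823 441 (.node 534171403761 824 (.nil) (.nil)) (.nil)))) (.node 534172353103 4077 (.node 534172352977 5204 (.node 534171467311 4343 (.node 534171467249 4784 (.nil) (.nil)) (.nil)) (.node 534172353041 2877 (.node 534172353039 3117 (.nil) (.nil)) (.nil))) (.node 534172418513 2329 (.node 534172416529 2336 (.node 534172416527 1721 (.nil) (.nil)) (.nil)) (.node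 534172418577 296 (.node 534172418575 344 (.nil) (.nil)) (.nil)))))) (.node 534201777712 509 (.node 534200697360 2995 (.node 534172484175 5543 (.node 534172484049 3944 (.node 534172420625 1865 (.node 534172420623 2360 (.nil) (.nil)) (.nil)) (.node 534172484113 2984 (.node 534172484111 2504 (.nil) (.nil)) (.nil))) (.node 534173500911 3824 (.node 534173433393 4197 (.node 534173433327 4961 (.nil) (.nil)) (.nil)) (.node 534200697358 5515 (.node 534173500977 4865 (.nil) (.nil)) (.nil)))) (.node 534201714224 3358 (.node 534200762896 3115 (.node 534200762894 5635 (.node 534200697362 5275 (.nil) (.nil)) (.nil)) (.node 534201714160 2461 (.node 534200762898 5395 (.nil) (.nil)) (.nil))) (.node 534201777648 752 (.node 534201775664 6001 (.node 534201775600 5203 (.nil) (.nil)) (.nil)) (.node 534201777710 1829 (.node 534201777650 1965 (.nil) (.nil)) (.nil))))) (.node 534202794448 1501 (.node 534201781808 5587 (.node 534201779758 2069 (.node 534201779698 1725 (.node 534201779696 885 (.nil)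 (.nil)) (.nil)) (.node 534201781744 5887 (.node 534201779760 618 (.nil) (.nil)) (.nil))) (.node 534202792402 4617 (.node 534201843248 2797 (.node 534201843184 3225 (.nil) (.nil)) (.nil)) (.node 534202792526 5308 (.node 534202792464 1558 (.nil) (.nil)) (.nil)))) (.node 534202794576 1218 (.node 534202794512 118 (.node 534202794510 617 (.node 534202794450 1845 (.nil) (.nil)) (.nil)) (.node 534202794574 2308 (.node 534202794514 668 (.nil) (.nil)) (.nil))) (.node 534202796560 249 (.node 534202796558 2297 (.node 534202796496 3306 (.nil) (.nil)) (.nil)) (.node 534202796624 2538 (.node 534202796562 1929 (.nil) (.nil)) (.nil))))))) (.node 534204891728 1576 (.node 534203874862 331 (.node 534202862034 5450 (.node 534202859986 2325 (.node 534202858002 2331 (.node 534202858000 339 (.node 534202857998 2042 (.nil) (.nil)) (.nil)) (.node 534202859984 1352 (.node 534202858064 3162 (.nil) (.nil)) (.nil))) (.node 534202860050 726 (.node 534202860048 105 (.node 534202860046 812 (.nil) (.nil))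 (.nil)) (.node 534202860112 1521 (.node 534202860110 1709 (.nil) (.nil)) (.nil)))) (.node 534203811376 838 (.node 534203811312 541 (.node 534202862158 4521 (.node 534202862096 1447 (.nil) (.nil)) (.nil)) (.node 534203811374 1817 (.node 534203811314 1724 (.nil) (.nil)) (.nil))) (.node 534203874798 1080 (.node 534203872816 3241 (.node 534203872752 3177 (.nil) (.nil)) (.nil)) (.node 534203874802 244 (.node 534203874800 57 (.nil) (.nil)) (.nil))))) (.node 534203940338 1686 (.node 534203876910 321 (.node 534203876846 1026 (.node 534203874866 1122 (.node 534203874864 42 (.nil) (.nil)) (.nil)) (.node 534203876850 243 (.node 534203876848 66 (.nil) (.nil)) (.nil))) (.node 534203878896 3127 (.node 534203876914 963 (.node 534203876912 81 (.nil) (.nil)) (.nil)) (.node 534203940336 705 (.node 534203878960 3321 (.nil) (.nil)) (.nil)))) (.node 534204891600 1377 (.node 534204889554 4137 (.node 534203940400 877 (.node 534203940398 1823 (.nil) (.nil)) (.nil)) (.node 534204889678 4228 (.node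 534204889616 1677 (.nil) (.nil)) (.nil))) (.node 534204891664 117 (.node 534204891662 931 (.node 534204891602 2204 (.nil) (.nil)) (.nil)) (.node 534204891726 1708 (.node 534204891666 896 (.nil) (.nil)) (.nil)))))) (.node 534205969968 5682 (.node 534204957138 1850 (.node 534204955088 3274 (.node 534204893712 305 (.node 534204893710 1994 (.node 534204893648 2826 (.nil) (.nil)) (.nil)) (.node 534204893776 3136 (.node 534204893714 2169 (.nil) (.nil)) (.nil))) (.node 534204955154 2096 (.node 534204955152 276 (.node 534204955150 2201 (.nil) (.nil)) (.nil)) (.node 534204957136 1626 (.node 534204955216 2442 (.nil) (.nil)) (.nil)))) (.node 534204959186 4370 (.node 534204957202 590 (.node 534204957200 104 (.node 534204957198 554 (.nil) (.nil)) (.nil)) (.node 534204957264 1281 (.node 534204957262 2187 (.nil) (.nil)) (.nil))) (.node 534205908464 3178 (.node 534204959310 3801 (.node 534204959248 1567 (.nil) (.nil)) (.nil)) (.node 534205969904 3881 (.node 534205908528 2757 (.nil) (.nil))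 (.nil))))) (.node 534206037552 3280 (.node 534205974002 2105 (.node 534205972014 1961 (.node 534205971954 1736 (.node 534205971952 761 (.nil) (.nil)) (.nil)) (.node 534205974000 944 (.node 534205972016 597 (.nil) (.nil)) (.nil))) (.node 534205976048 5826 (.node 534205974064 665 (.node 534205974062 1874 (.nil) (.nil)) (.nil)) (.node 534206037488 2624 (.node 534205976112 4025 (.nil) (.nil)) (.nil)))) (.node 534207054354 5864 (.node 534206988818 3776 (.node 534206988816 2997 (.node 534206988814 5757 (.nil) (.nil)) (.nil)) (.node 534207054352 3104 (.node 534207054350 4154 (.nil) (.nil)) (.nil))) (.node 534234318319 4772 (.node 534234250801 5108 (.node 534234250735 5356 (.nil) (.nil)) (.nil)) (.node 534234318385 5452 (.nil) (.nil)))))))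

/-- Index of a small icosian., part 13. -/
def elDictPart13 : Dict :=
  .node 534170321421 3480 (elDictPart11) (elDictPart12)

/-- Index of a small icosian., part 14. -/
def elDictPart14 : Dict :=
  .node 533161560624 2298 (elDictPart10) (elDictPart13)

/-- Index of a small icosian., part 15. -/
def elDictPart15 : Dict :=
  .node 532057473554 1206 (elDictPart7) (elDictPart14)

/-- Index of a small icosian., part 16. -/
def elDictPart16 : Dict :=
  .node 534268888558 4652 (.node 534237428243 6056 (.node 534236349937 250 (.node 534235398609 5792 (.node 534235333073 2271 (.node 534235267663 5658 (.node 534235267601 3068 (.node 534235267599 2596 (.nil) (.nil)) (.nil)) (.node 534235331089 1899 (.node 534235331087 2203 (.nil) (.nil)) (.nil))) (.node 534235333199 2189 (.node 534235333137 308 (.node 534235333135 322 (.nil) (.nil)) (.nil)) (.node 534235335185 2242 (.node 534235335183 1762 (.nil) (.nil)) (.nil)))) (.node 534236347887 1276 (.node 534235398735 6037 (.node 534235398673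 2692 (.node 534235398671 2972 (.nil) (.nil)) (.nil)) (.node 534236284463 4636 (.node 534236284401 4964 (.nil) (.nil)) (.nil))) (.node 534236347953 1028 (.node 534236347951 436 (.node 534236347889 844 (.nil) (.nil)) (.nil)) (.node 534236349935 831 (.node 534236349873 4791 (.nil) (.nil)) (.nil))))) (.node 534236415535 494 (.node 534236413425 292 (.node 534236350063 4218 (.node 534236350001 428 (.node 534236349999 300 (.nil) (.nil)) (.nil)) (.node 534236413423 452 (.node 534236413361 4352 (.nil) (.nil)) (.nil))) (.node 534236413551 5137 (.node 534236413489 697 (.node 534236413487 337 (.nil) (.nil)) (.nil)) (.node 534236415473 412 (.node 534236415471 1172 (.nil) (.nil)) (.nil)))) (.node 534237366799 1740 (.node 534236479023 4823 (.node 534236478961 4492 (.node 534236415537 1372 (.nil) (.nil)) (.nil)) (.node 534237364753 1268 (.node 534237364751 1156 (.nil) (.nil)) (.nil))) (.node 534237428237 4080 (.node 534237428177 3364 (.node 534237366801 2100 (.nil) (.nil)) (.nil)) (.node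 534237428241 721 (.node 534237428239 691 (.nil) (.nil)) (.nil)))))) (.node 534238447151 420 (.node 534237432339 3723 (.node 534237430291 3363 (.node 534237430285 3451 (.node 534237430225 591 (.node 534237428303 2784 (.nil) (.nil)) (.nil)) (.node 534237430289 110 (.node 534237430287 91 (.nil) (.nil)) (.nil))) (.node 534237432333 5954 (.node 534237432273 2410 (.node 534237430351 937 (.nil) (.nil)) (.nil)) (.node 534237432337 830 (.node 534237432335 607 (.nil) (.nil)) (.nil)))) (.node 534238445041 964 (.node 534237493777 1836 (.node 534237493775 1956 (.node 534237432399 3441 (.nil) (.nil)) (.nil)) (.node 534237495825 1012 (.node 534237495823 1412 (.nil) (.nil)) (.nil))) (.node 534238445103 1557 (.node 534238445101 5131 (.node 534238445043 3964 (.nil) (.nil)) (.nil)) (.node 534238447089 610 (.node 534238447087 1498 (.nil) (.nil)) (.nil))))) (.node 534238512685 3854 (.node 534238510575 1291 (.node 534238449201 5105 (.node 534238449135 5586 (.node 534238447153 1430 (.nil) (.nil))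 (.nil)) (.node 534238508593 5202 (.node 534238508527 4721 (.nil) (.nil)) (.nil))) (.node 534238510641 1550 (.node 534238510639 744 (.node 534238510577 396 (.nil) (.nil)) (.nil)) (.node 534238512627 4790 (.node 534238512625 1450 (.nil) (.nil)) (.nil)))) (.node 534239590927 4476 (.node 534239463953 4620 (.node 534239463951 3900 (.node 534238512687 1094 (.nil) (.nil)) (.nil)) (.node 534239527441 1310 (.node 534239527439 1411 (.nil) (.nil)) (.nil))) (.node 534268886512 2031 (.node 534268886510 5716 (.node 534239590929 3996 (.nil) (.nil)) (.nil)) (.node 534268886578 4508 (.node 534268886576 2377 (.nil) (.nil)) (.nil))))))) (.node 535211557423 1770 (.node 534270985774 2534 (.node 534269966928 4104 (.node 534269903378 2468 (.node 534268888626 5812 (.node 534268888624 2137 (.node 534268888560 2362 (.nil) (.nil)) (.nil)) (.node 534269903376 556 (.node 534269903374 2956 (.nil) (.nil)) (.nil))) (.node 534269905488 6097 (.node 534269905424 1980 (.node 534269905360 3730 (.nil) (.nil))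 (.nil)) (.node 534269966864 2076 (.node 534269966800 5991 (.nil) (.nil)) (.nil)))) (.node 534270983664 1651 (.node 534269968914 3052 (.node 534269968912 892 (.node 534269968910 2852 (.nil) (.nil)) (.nil)) (.node 534270920238 3780 (.node 534270920178 5228 (.nil) (.nil)) (.nil))) (.node 534270983728 1104 (.node 534270983726 3504 (.node 534270983666 2644 (.nil) (.nil)) (.nil)) (.node 534270985714 3590 (.node 534270985712 970 (.nil) (.nil)) (.nil))))) (.node 535210477073 2749 (.node 534303522289 4596 (.node 534271049262 5612 (.node 534271049202 4116 (.node 534270985776 1574 (.nil) (.nil)) (.nil)) (.node 534303458863 4500 (.node 534303458801 5050 (.nil) (.nil)) (.nil))) (.node 535178003984 4069 (.node 535178001936 3930 (.node 534303522351 4704 (.nil) (.nil)) (.nil)) (.node 535210477071 3330 (.node 535210477009 5892 (.nil) (.nil)) (.nil)))) (.node 535211491825 5324 (.node 535210540559 2610 (.node 535210540497 5435 (.node 535210477135 5339 (.nil) (.nil)) (.nil)) (.node 535210540623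 6022 (.node 535210540561 3229 (.nil) (.nil)) (.nil))) (.node 535211555377 4362 (.node 535211555311 4170 (.node 535211491887 5219 (.nil) (.nil)) (.nil)) (.node 535211557361 1909 (.node 535211557359 2850 (.nil) (.nil)) (.nil)))))) (.node 535243017744 4387 (.node 535241998834 4785 (.node 535241933298 5811 (.node 535211559473 3829 (.node 535211559407 4266 (.node 535211557425 2509 (.nil) (.nil)) (.nil)) (.node 535211622959 5423 (.node 535211622897 5555 (.nil) (.nil)) (.nil))) (.node 535241935408 4818 (.node 535241935344 5341 (.node 535241933358 5158 (.nil) (.nil)) (.nil)) (.node 535241996848 5437 (.node 535241996784 4952 (.nil) (.nil)) (.nil)))) (.node 535243013646 3210 (.node 535242950160 2878 (.node 535242950158 5638 (.node 535241998894 5715 (.nil) (.nil)) (.nil)) (.node 535243011600 4243 (.node 535242950162 4678 (.nil) (.nil)) (.nil))) (.node 535243015694 2955 (.node 535243013650 3051 (.node 535243013648 718 (.nil) (.nil)) (.nil)) (.node 535243015698 3349 (.node 535243015696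 825 (.nil) (.nil)) (.nil))))) (.node 535244032560 2339 (.node 535244030448 897 (.node 535243079186 5265 (.node 535243079184 2505 (.node 535243079182 4545 (.nil) (.nil)) (.nil)) (.node 535244028462 4963 (.node 535244028402 5691 (.nil) (.nil)) (.nil))) (.node 535244030512 478 (.node 535244030510 2010 (.node 535244030450 2324 (.nil) (.nil)) (.nil)) (.node 535244032496 1746 (.node 535244032494 3786 (.nil) (.nil)) (.nil)))) (.node 535244095984 465 (.node 535244093936 2337 (.node 535244093934 4890 (.node 535244032562 5029 (.nil) (.nil)) (.nil)) (.node 535244094002 4122 (.node 535244094000 1842 (.nil) (.nil)) (.nil))) (.node 535244096048 561 (.node 535244096046 2370 (.node 535244095986 2149 (.nil) (.nil)) (.nil)) (.node 535244098094 5835 (.node 535244098034 4867 (.nil) (.nil)) (.nil)))))))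

/-- Index of a small icosian., part 17. -/
def elDictPart17 : Dict :=
  .node 535278668271 3066 (.node 535276569009 5271 (.node 535246193200 2136 (.node 535245112912 2961 (.node 535245110802 2269 (.node 535245110736 3057 (.node 535245047376 6028 (.node 535245047312 2219 (.nil) (.nil)) (.nil)) (.node 535245110800 297 (.node 535245110798 1890 (.nil) (.nil)) (.nil))) (.node 535245112846 2234 (.node 535245112784 2586 (.node 535245110864 2682 (.nil) (.nil)) (.nil)) (.node 535245112850 1789 (.node 535245112848 349 (.nil) (.nil)) (.nil)))) (.node 535246127598 5994 (.node 535245176400 5783 (.node 535245176336 2264 (.node 535245176272 5930 (.nil) (.nil)) (.nil)) (.node 535246125616 4917 (.node 535246125552 4017 (.nil) (.nil)) (.nil))) (.node 535246127666 5096 (.node 535246127664 1917 (.node 535246127600 2034 (.nil) (.nil)) (.nil)) (.node 535246193136 1784 (.node 535246193134 4754 (.nil) (.nil)) (.nil))))) (.node 535275552271 2025 (.node 535275486673 6057 (.node 535246195248 3921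 (.node 535246195184 5024 (.node 535246193202 6096 (.nil) (.nil)) (.nil)) (.node 535274471985 4315 (.node 535274471919 4435 (.nil) (.nil)) (.nil))) (.node 535275486799 4558 (.node 535275486737 3238 (.node 535275486735 3523 (.nil) (.nil)) (.nil)) (.node 535275488785 2158 (.node 535275488783 2235 (.nil) (.nil)) (.nil)))) (.node 535276503537 3404 (.node 535275554319 3345 (.node 535275554257 4665 (.node 535275552273 2265 (.nil) (.nil)) (.nil)) (.node 535275554383 5961 (.node 535275554321 3585 (.nil) (.nil)) (.nil))) (.node 535276567025 2097 (.node 535276567023 2923 (.node 535276503599 2758 (.nil) (.nil)) (.nil)) (.node 535276567089 3411 (.node 535276567087 1723 (.nil) (.nil)) (.nil)))))) (.node 535277649361 1970 (.node 535277520399 5518 (.node 535276571119 3426 (.node 535276569135 358 (.node 535276569073 285 (.node 535276569071 555 (.nil) (.nil)) (.nil)) (.node 535276569199 5617 (.node 535276569137 891 (.nil) (.nil)) (.nil))) (.node 535276571185 3067 (.node 535276571183 2001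 (.node 535276571121 1867 (.nil) (.nil)) (.nil)) (.node 535276634671 3465 (.node 535276634609 2625 (.nil) (.nil)) (.nil)))) (.node 535277583891 4251 (.node 535277583885 4560 (.node 535277583825 2817 (.node 535277520401 3764 (.nil) (.nil)) (.nil)) (.node 535277583889 598 (.node 535277583887 763 (.nil) (.nil)) (.nil))) (.node 535277585935 306 (.node 535277585873 2106 (.node 535277583951 2548 (.nil) (.nil)) (.nil)) (.node 535277585999 2068 (.node 535277585937 284 (.nil) (.nil)) (.nil))))) (.node 535278600689 2444 (.node 535277651471 945 (.node 535277649487 1962 (.node 535277649425 291 (.node 535277649423 345 (.nil) (.nil)) (.nil)) (.node 535277651469 4395 (.node 535277651409 2690 (.nil) (.nil)) (.nil))) (.node 535277651535 2481 (.node 535277651475 4443 (.node 535277651473 667 (.nil) (.nil)) (.nil)) (.node 535277714961 5385 (.node 535277714959 4103 (.nil) (.nil)) (.nil)))) (.node 535278666161 5817 (.node 535278664177 1857 (.node 535278664175 3521 (.node 535278600751 3508 (.nil)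 (.nil)) (.nil)) (.node 535278664241 2922 (.node 535278664239 2081 (.nil) (.nil)) (.nil))) (.node 535278666287 348 (.node 535278666225 290 (.node 535278666223 666 (.nil) (.nil)) (.nil)) (.node 535278666351 5721 (.node 535278666289 762 (.nil) (.nil)) (.nil))))))) (.node 535311137266 5044 (.node 535309042224 2038 (.node 535279746575 2384 (.node 535279680977 4377 (.node 535278668337 3561 (.node 535278668335 1761 (.node 535278668273 1985 (.nil) (.nil)) (.nil)) (.node 535278731823 2783 (.node 535278731761 3584 (.nil) (.nil)) (.nil))) (.node 535279681103 3868 (.node 535279681041 3416 (.node 535279681039 3281 (.nil) (.nil)) (.nil)) (.node 535279683089 2345 (.node 535279683087 2114 (.nil) (.nil)) (.nil)))) (.node 535280763375 4634 (.node 535279748623 3464 (.node 535279748561 4010 (.node 535279746577 1976 (.nil) (.nil)) (.nil)) (.node 535279748687 4281 (.node 535279748625 3185 (.nil) (.nil)) (.nil))) (.node 535309040176 5998 (.node 535309040112 4723 (.node 535280763441 4496 (.nil)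 (.nil)) (.nil)) (.node 535309042160 1791 (.node 535309042158 5031 (.nil) (.nil)) (.nil))))) (.node 535310122510 2371 (.node 535309109744 6105 (.node 535309107696 2145 (.node 535309107694 3932 (.node 535309042226 4028 (.nil) (.nil)) (.nil)) (.node 535309107762 4897 (.node 535309107760 1897 (.nil) (.nil)) (.nil))) (.node 535310059024 2340 (.node 535310058960 3951 (.node 535309109808 5107 (.nil) (.nil)) (.nil)) (.node 535310122448 2511 (.node 535310059088 5178 (.nil) (.nil)) (.nil)))) (.node 535310124560 307 (.node 535310122576 3097 (.node 535310122514 1731 (.node 535310122512 351 (.nil) (.nil)) (.nil)) (.node 535310124558 1875 (.node 535310124496 2991 (.nil) (.nil)) (.nil))) (.node 535310187984 5552 (.node 535310124624 2857 (.node 535310124562 2347 (.nil) (.nil)) (.nil)) (.node 535310188112 4057 (.node 535310188048 2385 (.nil) (.nil)) (.nil)))))) (.node 535312219662 3091 (.node 535311202864 2202 (.node 535311141358 5106 (.node 535311139314 1964 (.node 535311139312 471 (.node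 535311137326 5188 (.nil) (.nil)) (.nil)) (.node 535311139376 660 (.node 535311139374 2188 (.nil) (.nil)) (.nil))) (.node 535311141426 5510 (.node 535311141424 1860 (.node 535311141360 2220 (.nil) (.nil)) (.nil)) (.node 535311202800 1716 (.node 535311202798 5371 (.nil) (.nil)) (.nil)))) (.node 535311206898 5570 (.node 535311204850 2270 (.node 535311204848 756 (.node 535311202866 4722 (.nil) (.nil)) (.nil)) (.node 535311204912 457 (.node 535311204910 2063 (.nil) (.nil)) (.nil))) (.node 535312156176 2580 (.node 535312156174 4260 (.node 535311206958 4694 (.nil) (.nil)) (.nil)) (.node 535312217616 4601 (.node 535312156178 5870 (.nil) (.nil)) (.nil))))) (.node 535313238512 4740 (.node 535312223760 4505 (.node 535312221710 3194 (.node 535312219666 3296 (.node 535312219664 876 (.nil) (.nil)) (.nil)) (.node 535312221714 2990 (.node 535312221712 540 (.nil) (.nil)) (.nil))) (.node 535312285202 4356 (.node 535312285200 2676 (.node 535312285198 5731 (.nil) (.nil)) (.nil)) (.node 535313236526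 5611 (.node 535313236466 4976 (.nil) (.nil)) (.nil)))) (.node 535343612401 5708 (.node 535313300016 5076 (.node 535313299952 3756 (.node 535313238576 4140 (.nil) (.nil)) (.nil)) (.node 535313302062 4874 (.node 535313302002 5270 (.nil) (.nil)) (.nil))) (.node 535343675953 5377 (.node 535343675887 4551 (.node 535343612463 4156 (.nil) (.nil)) (.nil)) (.node 535343677935 2751 (.nil) (.nil)))))))

/-- Index of a small icosian., part 18. -/
def elDictPart18 : Dict :=
  .node 535245047248 5684 (elDictPart16) (elDictPart17)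

/-- Index of a small icosian., part 19. -/
def elDictPart19 : Dict :=
  .node 564235060750 5780 (.node 536350345744 4027 (.node 536316722735 4078 (.node 535344758287 3276 (.node 535343743535 5852 (.node 535343679983 5511 (.node 535343678001 2617 (.node 535343677999 1777 (.nil) (.nil)) (.nil)) (.node 535343743473 3772 (.node 535343680049 4657 (.nil) (.nil)) (.nil))) (.node 535344694801 3180 (.node 535344694799 2460 (.node 535344694737 4191 (.nil) (.nil)) (.nil)) (.node 535344758225 3876 (.node 535344694863 4020 (.nil) (.nil)) (.nil)))) (.node 536284249648 5989 (.node 535377231376 6036 (.node 535344758351 3817 (.node 535344758289 2796 (.nil) (.nil)) (.nil)) (.node 536284249584 4650 (.node 535377233424 5940 (.nil) (.nil)) (.nil))) (.node 536315707919 5235 (.node 536284251696 4549 (.node 536284251632 6090 (.nil) (.nil)) (.nil)) (.node 536316722673 4918 (.node 536315707921 5571 (.nil) (.nil)) (.nil))))) (.node 536317870609 4305 (.node 536316790319 5025 (.node 536316788207 5803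 (.node 536316724785 5707 (.node 536316724719 4755 (.nil) (.nil)) (.nil)) (.node 536316790257 3945 (.node 536316788273 5091 (.nil) (.nil)) (.nil))) (.node 536317805071 2130 (.node 536317739537 4198 (.node 536317739535 4438 (.nil) (.nil)) (.nil)) (.node 536317870607 3825 (.node 536317805073 2029 (.nil) (.nil)) (.nil)))) (.node 536350278096 4311 (.node 536318887407 5346 (.node 536318819889 5442 (.node 536318819823 5097 (.nil) (.nil)) (.nil)) (.node 536350276112 3883 (.node 536318887473 4761 (.nil) (.nil)) (.nil))) (.node 536350343632 5751 (.node 536350278224 5857 (.node 536350278160 1918 (.nil) (.nil)) (.nil)) (.node 536350343760 4417 (.node 536350343696 1785 (.nil) (.nil)) (.nil)))))) (.node 536384913937 2148 (.node 536352375376 4588 (.node 536351360496 2346 (.node 536351358512 2388 (.node 536351358448 2268 (.node 536351358446 5443 (.nil) (.nil)) (.nil)) (.node 536351360494 4155 (.node 536351358514 3771 (.nil) (.nil)) (.nil))) (.node 536352373264 6041 (.node 536351360562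 5347 (.node 536351360560 2241 (.nil) (.nil)) (.nil)) (.node 536352375312 1788 (.node 536352375248 5577 (.nil) (.nil)) (.nil)))) (.node 536383831601 4971 (.node 536352440912 5241 (.node 536352440848 1908 (.node 536352440784 4490 (.nil) (.nil)) (.nil)) (.node 536383831535 3831 (.node 536352442896 5945 (.nil) (.nil)) (.nil))) (.node 536384848399 5340 (.node 536383899185 4177 (.node 536383899119 4875 (.nil) (.nil)) (.nil)) (.node 536384913935 2028 (.node 536384848401 4484 (.nil) (.nil)) (.nil))))) (.node 536387011089 5750 (.node 536385930801 4860 (.node 536385928689 5924 (.node 536384979473 5436 (.node 536384979471 4583 (.nil) (.nil)) (.nil)) (.node 536385930735 5220 (.node 536385928751 4708 (.nil) (.nil)) (.nil))) (.node 536385996273 5090 (.node 536385994289 5556 (.node 536385994223 4956 (.nil) (.nil)) (.nil)) (.node 536387011087 5851 (.node 536385996335 6023 (.nil) (.nil)) (.nil)))) (.node 564202585615 4793 (.node 536418469360 4431 (.node 536418467376 4297 (.node 536418467312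 4071 (.nil) (.nil)) (.nil)) (.node 563194905104 3719 (.node 536418469424 3937 (.nil) (.nil)) (.nil))) (.node 564202587665 5135 (.node 564202587663 5273 (.node 564202585617 5615 (.nil) (.nil)) (.nil)) (.node 564234043950 4679 (.node 564234043890 4559 (.nil) (.nil)) (.nil))))))) (.node 564269760015 5065 (.node 564267599313 4127 (.node 564237155856 4528 (.node 564236138992 3808 (.node 564235124238 6119 (.node 564235060754 5999 (.node 564235060752 3239 (.nil) (.nil)) (.nil)) (.node 564235124242 5679 (.node 564235124240 3359 (.nil) (.nil)) (.nil))) (.node 564236141104 3095 (.node 564236141040 2993 (.node 564236139056 5855 (.nil) (.nil)) (.nil)) (.node 564236143152 4144 (.node 564236143088 5753 (.nil) (.nil)) (.nil)))) (.node 564267533839 4919 (.node 564266517039 4199 (.node 564266516977 4079 (.node 564237223440 4624 (.nil) (.nil)) (.nil)) (.node 564266582575 3959 (.node 564266582513 3839 (.nil) (.nil)) (.nil))) (.node 564267597327 2879 (.node 564267597265 5159 (.node 564267533841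 3851 (.nil) (.nil)) (.nil)) (.node 564267597391 3751 (.node 564267597329 2759 (.nil) (.nil)) (.nil))))) (.node 564268679665 3479 (.node 564268614129 3491 (.node 564267599439 4799 (.node 564267599377 2519 (.node 564267599375 2639 (.nil) (.nil)) (.nil)) (.node 564267662865 5039 (.node 564267662863 3985 (.nil) (.nil)) (.nil))) (.node 564268616241 4384 (.node 564268616175 4512 (.node 564268614191 3391 (.nil) (.nil)) (.nil)) (.node 564268677681 4614 (.node 564268677615 4288 (.nil) (.nil)) (.nil)))) (.node 564269694481 2574 (.node 564269630993 4691 (.node 564269630991 6019 (.node 564268679727 3599 (.nil) (.nil)) (.nil)) (.node 564269694479 2488 (.node 564269694417 5513 (.nil) (.nil)) (.nil))) (.node 564269696527 2712 (.node 564269696465 4847 (.node 564269694543 4951 (.nil) (.nil)) (.nil)) (.node 564269696591 5375 (.node 564269696529 2824 (.nil) (.nil)) (.nil)))))) (.node 564334708239 4939 (.node 564301154800 5399 (.node 564300070416 4439 (.node 564270711343 5968 (.node 564270711281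 5334 (.node 564269760017 5918 (.nil) (.nil)) (.nil)) (.node 564270776879 5472 (.node 564270776817 6064 (.nil) (.nil)) (.nil))) (.node 564301150768 5519 (.node 564301150704 5639 (.node 564300138000 4319 (.nil) (.nil)) (.nil)) (.node 564301152816 2999 (.node 564301152752 3119 (.nil) (.nil)) (.nil)))) (.node 564302233104 3158 (.node 564302169616 3259 (.node 564302169614 4032 (.node 564301154864 5279 (.nil) (.nil)) (.nil)) (.node 564302233102 5248 (.node 564302169618 5584 (.nil) (.nil)) (.nil))) (.node 564303249966 4392 (.node 564303249906 4254 (.node 564302233106 3894 (.nil) (.nil)) (.nil)) (.node 564334706193 4838 (.node 564334706191 5879 (.nil) (.nil)) (.nil))))) (.node 565276360240 2855 (.node 565275343376 3639 (.node 565275279826 5033 (.node 565275216400 3620 (.node 564334708241 5759 (.nil) (.nil)) (.nil)) (.node 565275279950 4895 (.node 565275279888 1479 (.nil) (.nil)) (.nil))) (.node 565276296688 2513 (.node 565276294702 4273 (.node 565276294642 5165 (.nil) (.nil)) (.nil))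 (.node 565276360176 3593 (.node 565276296752 3500 (.nil) (.nil)) (.nil)))) (.node 565277377104 3695 (.node 565277311504 4993 (.node 565276362286 5533 (.node 565276362226 4375 (.nil) (.nil)) (.nil)) (.node 565277377040 2273 (.node 565277376976 3713 (.nil) (.nil)) (.nil))) (.node 565307752977 1613 (.node 565307752975 1340 (.node 565277442576 4855 (.nil) (.nil)) (.nil)) (.node 565307754961 5412 (.nil) (.nil)))))))

/-- Index of a small icosian., part 20. -/
def elDictPart20 : Dict :=
  .node 565342388814 1711 (.node 565310932465 2104 (.node 565308898863 2665 (.node 565308831279 5662 (.node 565307816527 5302 (.node 565307816401 4359 (.node 565307755087 4220 (.node 565307755025 3380 (.nil) (.nil)) (.nil)) (.node 565307816465 2919 (.node 565307816463 3446 (.nil) (.nil)) (.nil))) (.node 565308769777 2531 (.node 565307818513 1239 (.node 565307818511 1599 (.nil) (.nil)) (.nil)) (.node 565308831217 5281 (.node 565308769839 2900 (.nil) (.nil)) (.nil)))) (.node 565308835313 527 (.node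 565308833327 871 (.node 565308833265 833 (.node 565308833263 1193 (.nil) (.nil)) (.nil)) (.node 565308835311 1313 (.node 565308833329 1415 (.nil) (.nil)) (.nil))) (.node 565308837361 5772 (.node 565308835377 1055 (.node 565308835375 695 (.nil) (.nil)) (.nil)) (.node 565308898801 3039 (.node 565308837423 5407 (.nil) (.nil)) (.nil))))) (.node 565309915661 3912 (.node 565309850191 3271 (.node 565309850127 593 (.node 565309850125 5713 (.node 565309850065 2753 (.nil) (.nil)) (.nil)) (.node 565309850131 4014 (.node 565309850129 654 (.nil) (.nil)) (.nil))) (.node 565309913615 1768 (.node 565309852177 1864 (.node 565309852175 1992 (.nil) (.nil)) (.nil)) (.node 565309915601 3167 (.node 565309913617 2094 (.nil) (.nil)) (.nil)))) (.node 565310866993 4271 (.node 565309915667 5815 (.node 565309915665 935 (.node 565309915663 792 (.nil) (.nil)) (.nil)) (.node 565310866927 3898 (.node 565309915727 2615 (.nil) (.nil)) (.nil))) (.node 565310930479 2008 (.node 565310930417 2334 (.node 565310930415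 3448 (.nil) (.nil)) (.nil)) (.node 565310932463 3312 (.node 565310930481 3174 (.nil) (.nil)) (.nil)))))) (.node 565341308462 2311 (.node 565340291598 2717 (.node 565339211312 5462 (.node 565310995951 4409 (.node 565310932529 3455 (.node 565310932527 2375 (.nil) (.nil)) (.nil)) (.node 565339211248 5957 (.node 565310996017 4000 (.nil) (.nil)) (.nil))) (.node 565340289550 3686 (.node 565339274800 6053 (.node 565339274736 5366 (.nil) (.nil)) (.nil)) (.node 565340289554 3653 (.node 565340289552 2486 (.nil) (.nil)) (.nil)))) (.node 565341306352 1526 (.node 565340293646 3677 (.node 565340291602 2573 (.node 565340291600 479 (.nil) (.nil)) (.nil)) (.node 565340293650 3662 (.node 565340293648 2822 (.nil) (.nil)) (.nil))) (.node 565341306416 991 (.node 565341306414 3031 (.node 565341306354 3251 (.nil) (.nil)) (.nil)) (.node 565341308402 1691 (.node 565341308400 719 (.nil) (.nil)) (.nil))))) (.node 565342323278 3631 (.node 565341373936 1127 (.node 565341371890 2333 (.node 565341371888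 959 (.node 565341308464 599 (.nil) (.nil)) (.nil)) (.node 565341371952 839 (.node 565341371950 1825 (.nil) (.nil)) (.nil))) (.node 565341374000 1465 (.node 565341373998 3145 (.node 565341373938 2927 (.nil) (.nil)) (.nil)) (.node 565342323216 1091 (.node 565342323154 3611 (.nil) (.nil)) (.nil)))) (.node 565342386706 2814 (.node 565342325328 5056 (.node 565342325264 2059 (.node 565342325200 4978 (.nil) (.nil)) (.nil)) (.node 565342386704 448 (.node 565342386702 2608 (.nil) (.nil)) (.nil))) (.node 565342388750 432 (.node 565342388690 1847 (.node 565342388688 1433 (.nil) (.nil)) (.nil)) (.node 565342388754 414 (.node 565342388752 119 (.nil) (.nil)) (.nil))))))) (.node 565373847087 2138 (.node 565343471090 3304 (.node 565343403506 3054 (.node 565342452240 1958 (.node 565342390800 424 (.node 565342390798 2472 (.node 565342388816 1295 (.nil) (.nil)) (.nil)) (.node 565342452176 4714 (.node 565342390802 2704 (.nil) (.nil)) (.nil))) (.node 565342454288 985 (.node 565342454226 3647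 (.node 565342452304 4840 (.nil) (.nil)) (.nil)) (.node 565343403504 1048 (.node 565342454350 3625 (.nil) (.nil)) (.nil)))) (.node 565343405616 856 (.node 565343405552 778 (.node 565343403568 1614 (.node 565343403566 3208 (.nil) (.nil)) (.nil)) (.node 565343405614 1872 (.node 565343405554 2171 (.nil) (.nil)) (.nil))) (.node 565343469102 2248 (.node 565343469042 1734 (.node 565343469040 514 (.nil) (.nil)) (.nil)) (.node 565343471088 1607 (.node 565343469104 640 (.nil) (.nil)) (.nil))))) (.node 565345502704 3836 (.node 565344485902 2832 (.node 565344483854 3688 (.node 565343471152 1144 (.node 565343471150 2952 (.nil) (.nil)) (.nil)) (.node 565344483858 3654 (.node 565344483856 2728 (.nil) (.nil)) (.nil))) (.node 565344487950 3672 (.node 565344485906 2454 (.node 565344485904 476 (.nil) (.nil)) (.nil)) (.node 565344487954 3664 (.node 565344487952 2584 (.nil) (.nil)) (.nil)))) (.node 565373844975 3352 (.node 565345566256 4196 (.node 565345566192 3956 (.node 565345502768 4076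 (.nil) (.nil)) (.nil)) (.node 565373781553 6068 (.node 565373781487 4672 (.nil) (.nil)) (.nil))) (.node 565373845041 3533 (.node 565373845039 2246 (.node 565373844977 2032 (.nil) (.nil)) (.nil)) (.node 565373847025 2272 (.node 565373847023 3592 (.nil) (.nil)) (.nil)))))) (.node 565375942127 1288 (.node 565374925327 2078 (.node 565374861839 859 (.node 565373910577 4538 (.node 565373910511 5972 (.node 565373847089 3218 (.nil) (.nil)) (.nil)) (.node 565374861837 5880 (.node 565374861777 3232 (.nil) (.nil)) (.nil))) (.node 565374861903 2431 (.node 565374861843 5213 (.node 565374861841 731 (.nil) (.nil)) (.nil)) (.node 565374863889 1939 (.node 565374863887 1699 (.nil) (.nil)) (.nil)))) (.node 565374927379 6003 (.node 565374927373 5597 (.node 565374927313 2807 (.node 565374925329 1838 (.nil) (.nil)) (.nil)) (.node 565374927377 518 (.node 565374927375 625 (.nil) (.nil)) (.nil))) (.node 565375878703 2779 (.node 565375878641 2891 (.node 565374927439 3338 (.nil) (.nil)) (.nil)) (.node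 565375940143 4168 (.node 565375940081 5161 (.nil) (.nil)) (.nil))))) (.node 565376958991 1528 (.node 565375944239 739 (.node 565375942193 1134 (.node 565375942191 568 (.node 565375942129 638 (.nil) (.nil)) (.nil)) (.node 565375944177 904 (.node 565375944175 1032 (.nil) (.nil)) (.nil))) (.node 565375946287 5527 (.node 565375946225 3784 (.node 565375944241 1384 (.nil) (.nil)) (.nil)) (.node 565376007727 3025 (.node 565376007665 2438 (.nil) (.nil)) (.nil)))) (.node 565377022417 4114 (.node 565376961039 3499 (.node 565376960977 4570 (.node 565376958993 1254 (.nil) (.nil)) (.nil)) (.node 565376961103 3736 (.node 565376961041 3064 (.nil) (.nil)) (.nil))) (.node 565377022543 4464 (.node 565377022481 3534 (.node 565377022479 2968 (.nil) (.nil)) (.nil)) (.node 565377024527 1392 (.nil) (.nil)))))))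

/-- Index of a small icosian., part 21. -/
def elDictPart21 : Dict :=
  .node 565307755023 3020 (elDictPart19) (elDictPart20)

/-- Index of a small icosian., part 22. -/
def elDictPart22 : Dict :=
  .node 535343677937 1911 (elDictPart18) (elDictPart21)

/-- Index of a small icosian., part 23. -/
def elDictPart23 : Dict :=
  .node 566381591088 3519 (.node 566350071309 5969 (.node 566348988915 4205 (.node 565408482802 5807 (.node 565408415218 4564 (.node 565407400464 2378 (.node 565407400400 3712 (.node 565407334928 5059 (.nil) (.nil)) (.nil)) (.node 565407466000 4718 (.node 565407400528 3698 (.nil) (.nil)) (.nil))) (.node 565408417328 2659 (.node 565408417264 3379 (.node 565408415278 5671 (.nil) (.nil)) (.nil)) (.node 565408480816 3458 (.node 565408480752 2558 (.nil) (.nil)) (.nil)))) (.node 565409561104 3638 (.node 565409497554 4684 (.node 565409434128 3619 (.node 565408482862 4454 (.nil) (.nil)) (.nil)) (.node 565409497678 5054 (.node 565409497616 1598 (.nil) (.nil))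 (.nil))) (.node 566317530640 4063 (.node 566316515886 5413 (.node 566316515826 5285 (.nil) (.nil)) (.nil)) (.node 566348988913 1205 (.node 566317598224 3920 (.nil) (.nil)) (.nil))))) (.node 566350005775 3433 (.node 566349052463 3022 (.node 566348990961 2892 (.node 566348988975 1100 (.node 566348988973 5353 (.nil) (.nil)) (.nil)) (.node 566349052401 2679 (.node 566348991023 2540 (.nil) (.nil)) (.nil))) (.node 566349054509 4333 (.node 566349054451 5455 (.node 566349054449 999 (.nil) (.nil)) (.nil)) (.node 566350005713 4553 (.node 566349054511 1333 (.nil) (.nil)) (.nil)))) (.node 566350069261 4920 (.node 566350067215 4903 (.node 566350005839 4700 (.node 566350005777 3071 (.nil) (.nil)) (.nil)) (.node 566350069201 3353 (.node 566350067217 4183 (.nil) (.nil)) (.nil))) (.node 566350069267 6071 (.node 566350069265 463 (.node 566350069263 703 (.nil) (.nil)) (.nil)) (.node 566350071249 3473 (.node 566350069327 3382 (.nil) (.nil)) (.nil)))))) (.node 566380447248 980 (.node 566351084079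 3913 (.node 566350073361 5000 (.node 566350071315 4803 (.node 566350071313 800 (.node 566350071311 440 (.nil) (.nil)) (.nil)) (.node 566350073359 3800 (.node 566350071375 3215 (.nil) (.nil)) (.nil))) (.node 566350134801 3399 (.node 566350134799 2969 (.node 566350134737 5079 (.nil) (.nil)) (.nil)) (.node 566351084017 4423 (.node 566350134863 4655 (.nil) (.nil)) (.nil)))) (.node 566351151601 1855 (.node 566351086127 1753 (.node 566351086065 2033 (.node 566351086063 3233 (.nil) (.nil)) (.nil)) (.node 566351151599 2729 (.node 566351086129 2591 (.nil) (.nil)) (.nil))) (.node 566351153649 4015 (.node 566351151665 3335 (.node 566351151663 2135 (.nil) (.nil)) (.nil)) (.node 566380447186 4605 (.node 566351153711 4280 (.nil) (.nil)) (.nil))))) (.node 566381525552 1222 (.node 566380510798 4469 (.node 566380508688 3806 (.node 566380449296 4142 (.node 566380447310 5538 (.nil) (.nil)) (.nil)) (.node 566380510736 1119 (.node 566380510674 5192 (.nil) (.nil)) (.nil))) (.node 566381525488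 1046 (.node 566381464112 2420 (.node 566381464048 3541 (.nil) (.nil)) (.nil)) (.node 566381525550 3326 (.node 566381525490 3485 (.nil) (.nil)) (.nil)))) (.node 566381527662 5653 (.node 566381527538 653 (.node 566381527536 233 (.node 566381527474 5765 (.nil) (.nil)) (.nil)) (.node 566381527600 140 (.node 566381527598 797 (.nil) (.nil)) (.nil))) (.node 566381529646 3557 (.node 566381529586 3182 (.node 566381529584 1332 (.nil) (.nil)) (.nil)) (.node 566381591024 2799 (.node 566381529648 1142 (.nil) (.nil)) (.nil))))))) (.node 566383624754 1563 (.node 566382607950 2302 (.node 566382544464 1535 (.node 566382544336 1073 (.node 566382542352 193 (.node 566382542350 1273 (.node 566382542290 2885 (.nil) (.nil)) (.nil)) (.node 566382542414 2791 (.node 566382542354 1493 (.nil) (.nil)) (.nil))) (.node 566382544400 20 (.node 566382544398 857 (.node 566382544338 2291 (.nil) (.nil)) (.nil)) (.node 566382544462 2071 (.node 566382544402 911 (.nil) (.nil)) (.nil)))) (.node 566382605904 4222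 (.node 566382546512 6018 (.node 566382546448 2300 (.node 566382546384 4332 (.nil) (.nil)) (.nil)) (.node 566382605840 2281 (.node 566382605776 5912 (.nil) (.nil)) (.nil))) (.node 566382607886 569 (.node 566382607826 1967 (.node 566382607824 1472 (.nil) (.nil)) (.nil)) (.node 566382607890 486 (.node 566382607888 39 (.nil) (.nil)) (.nil))))) (.node 566383561200 1738 (.node 566382609998 3013 (.node 566382609934 1529 (.node 566382609874 2447 (.node 566382607952 1175 (.nil) (.nil)) (.nil)) (.node 566382609938 1375 (.node 566382609936 200 (.nil) (.nil)) (.nil))) (.node 566383559214 2473 (.node 566383559154 3131 (.node 566383559152 1571 (.nil) (.nil)) (.nil)) (.node 566383561198 4258 (.node 566383559216 1271 (.nil) (.nil)) (.nil)))) (.node 566383622704 583 (.node 566383622640 928 (.node 566383561266 3791 (.node 566383561264 2180 (.nil) (.nil)) (.nil)) (.node 566383622702 2128 (.node 566383622642 2165 (.nil) (.nil)) (.nil))) (.node 566383624690 294 (.node 566383624688 113 (.node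 566383624686 1673 (.nil) (.nil)) (.nil)) (.node 566383624752 95 (.node 566383624750 267 (.nil) (.nil)) (.nil)))))) (.node 566384705040 280 (.node 566383690288 1615 (.node 566383688176 2194 (.node 566383626798 2232 (.node 566383626738 1984 (.node 566383626736 920 (.nil) (.nil)) (.nil)) (.node 566383688174 4169 (.node 566383626800 544 (.nil) (.nil)) (.nil))) (.node 566383690224 1409 (.node 566383688242 4360 (.node 566383688240 1840 (.nil) (.nil)) (.nil)) (.node 566383690286 3265 (.node 566383690226 2815 (.nil) (.nil)) (.nil)))) (.node 566384641550 2112 (.node 566384639504 793 (.node 566384639502 2953 (.node 566384576016 5711 (.nil) (.nil)) (.nil)) (.node 566384641488 3538 (.node 566384639506 3551 (.nil) (.nil)) (.nil))) (.node 566384641616 2776 (.node 566384641554 1751 (.node 566384641552 356 (.nil) (.nil)) (.nil)) (.node 566384705038 1889 (.node 566384704976 2434 (.nil) (.nil)) (.nil))))) (.node 566385721906 5934 (.node 566384770576 5849 (.node 566384707086 3552 (.node 566384705104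 3575 (.node 566384705042 1974 (.nil) (.nil)) (.nil)) (.node 566384707090 3055 (.node 566384707088 655 (.nil) (.nil)) (.nil))) (.node 566385721838 6072 (.node 566385656368 5231 (.node 566385656304 4618 (.nil) (.nil)) (.nil)) (.node 566385721904 1916 (.node 566385721840 1796 (.nil) (.nil)) (.nil)))) (.node 566412983823 2606 (.node 566412920335 4981 (.node 566385787440 4480 (.node 566385787376 5609 (.nil) (.nil)) (.nil)) (.node 566412983761 4712 (.node 566412920337 5364 (.nil) (.nil)) (.nil))) (.node 566412985809 6045 (.node 566412983887 5909 (.node 566412983825 2813 (.nil) (.nil)) (.nil)) (.node 566412985873 2702 (.node 566412985871 2477 (.nil) (.nil)) (.nil)))))))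

/-- Index of a small icosian., part 24. -/
def elDictPart24 : Dict :=
  .node 566417176143 5064 (.node 566415146513 637 (.node 566415017551 3151 (.node 566414064113 2192 (.node 566414000689 1133 (.node 566414000623 1646 (.node 566413049361 4837 (.node 566413049359 5506 (.nil) (.nil)) (.nil)) (.node 566414000687 631 (.node 566414000625 851 (.nil) (.nil)) (.nil))) (.node 566414002735 2237 (.node 566414002673 1862 (.node 566414002671 3197 (.nil) (.nil)) (.nil)) (.node 566414064111 3086 (.node 566414002737 2942 (.nil) (.nil)) (.nil)))) (.node 566414066225 1597 (.node 566414066159 1037 (.node 566414064177 3293 (.node 566414064175 1766 (.nil) (.nil)) (.nil)) (.node 566414066223 505 (.node 566414066161 767 (.nil) (.nil)) (.nil))) (.node 566415017487 781 (.node 566415017485 5057 (.node 566415017425 3011 (.nil) (.nil)) (.nil)) (.node 566415017491 5763 (.node 566415017489 371 (.nil) (.nil)) (.nil))))) (.node 566415083021 2837 (.node 566415080973 2400 (.node 566415078929 2521 (.node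 566415078927 2726 (.node 566415078865 5021 (.nil) (.nil)) (.nil)) (.node 566415080913 512 (.node 566415078991 5182 (.nil) (.nil)) (.nil))) (.node 566415080979 2453 (.node 566415080977 53 (.node 566415080975 86 (.nil) (.nil)) (.nil)) (.node 566415082961 407 (.node 566415081039 391 (.nil) (.nil)) (.nil)))) (.node 566415085071 2647 (.node 566415083027 2763 (.node 566415083025 62 (.node 566415083023 77 (.nil) (.nil)) (.nil)) (.node 566415085009 5532 (.node 566415083087 858 (.nil) (.nil)) (.nil))) (.node 566415146449 3287 (.node 566415085135 4878 (.node 566415085073 2582 (.nil) (.nil)) (.nil)) (.node 566415146511 385 (.node 566415146509 5640 (.nil) (.nil)) (.nil)))))) (.node 566416161327 264 (.node 566416097837 1920 (.node 566416095731 5574 (.node 566416034287 3778 (.node 566415146575 2905 (.node 566415146515 4686 (.nil) (.nil)) (.nil)) (.node 566416095729 1201 (.node 566416034353 5409 (.nil) (.nil)) (.nil))) (.node 566416097775 178 (.node 566416095791 1351 (.node 566416095789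 5791 (.nil) (.nil)) (.nil)) (.node 566416097779 1931 (.node 566416097777 11 (.nil) (.nil)) (.nil)))) (.node 566416099887 256 (.node 566416099761 5943 (.node 566416097841 191 (.node 566416097839 31 (.nil) (.nil)) (.nil)) (.node 566416099825 304 (.node 566416099823 543 (.nil) (.nil)) (.nil))) (.node 566416161201 3874 (.node 566416099951 3976 (.node 566416099889 729 (.nil) (.nil)) (.nil)) (.node 566416161265 278 (.node 566416161263 602 (.nil) (.nil)) (.nil))))) (.node 566416165423 1327 (.node 566416163373 2065 (.node 566416163311 192 (.node 566416161391 6087 (.node 566416161329 927 (.nil) (.nil)) (.nil)) (.node 566416163315 2043 (.node 566416163313 47 (.nil) (.nil)) (.nil))) (.node 566416165361 1247 (.node 566416163377 215 (.node 566416163375 25 (.nil) (.nil)) (.nil)) (.node 566416165421 5232 (.node 566416165363 5687 (.nil) (.nil)) (.nil)))) (.node 566417114641 491 (.node 566417114577 3298 (.node 566416226865 4120 (.node 566416226799 5282 (.nil) (.nil)) (.nil)) (.node 566417114639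 418 (.node 566417114637 5537 (.nil) (.nil)) (.nil))) (.node 566417176017 5641 (.node 566417114703 3016 (.node 566417114643 4991 (.nil) (.nil)) (.nil)) (.node 566417176081 2401 (.node 566417176079 2848 (.nil) (.nil)) (.nil))))))) (.node 566419277391 3856 (.node 566418194929 956 (.node 566417180239 376 (.node 566417178191 751 (.node 566417178127 88 (.node 566417178125 2640 (.node 566417178065 394 (.nil) (.nil)) (.nil)) (.node 566417178131 2694 (.node 566417178129 54 (.nil) (.nil)) (.nil))) (.node 566417180175 72 (.node 566417180173 2592 (.node 566417180113 647 (.nil) (.nil)) (.nil)) (.node 566417180179 2523 (.node 566417180177 64 (.nil) (.nil)) (.nil)))) (.node 566417243661 4889 (.node 566417182225 2464 (.node 566417182223 2767 (.node 566417182161 4690 (.nil) (.nil)) (.nil)) (.node 566417243601 2914 (.node 566417182287 5767 (.nil) (.nil)) (.nil))) (.node 566417243667 5166 (.node 566417243665 400 (.node 566417243663 865 (.nil) (.nil)) (.nil)) (.node 566418194927 1138 (.node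 566417243727 3160 (.nil) (.nil)) (.nil))))) (.node 566418260465 836 (.node 566418197041 3256 (.node 566418196975 2938 (.node 566418194993 1494 (.node 566418194991 716 (.nil) (.nil)) (.nil)) (.node 566418197039 1696 (.node 566418196977 2344 (.nil) (.nil)) (.nil))) (.node 566418258479 2320 (.node 566418258417 1834 (.node 566418258415 3154 (.nil) (.nil)) (.nil)) (.node 566418260463 1474 (.node 566418258481 3040 (.nil) (.nil)) (.nil)))) (.node 566419275279 2636 (.node 566419211791 4138 (.node 566418260529 1000 (.node 566418260527 596 (.nil) (.nil)) (.nil)) (.node 566419275217 3994 (.node 566419211793 5156 (.nil) (.nil)) (.nil))) (.node 566419277265 5036 (.node 566419275343 4916 (.node 566419275281 2876 (.nil) (.nil)) (.nil)) (.node 566419277329 2756 (.node 566419277327 2516 (.nil) (.nil)) (.nil)))))) (.node 566447619664 2738 (.node 566447554062 3436 (.node 566446539248 1792 (.node 566446473712 5724 (.node 566419340817 3760 (.node 566419340815 4796 (.nil) (.nil)) (.nil)) (.node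 566446539246 4037 (.node 566446473776 4284 (.nil) (.nil)) (.nil))) (.node 566446604784 4426 (.node 566446539314 3893 (.node 566446539312 1898 (.nil) (.nil)) (.nil)) (.node 566447490576 5244 (.node 566446604848 5866 (.nil) (.nil)) (.nil)))) (.node 566447556114 2108 (.node 566447556048 2632 (.node 566447554066 2933 (.node 566447554064 566 (.nil) (.nil)) (.nil)) (.node 566447556112 259 (.node 566447556110 1877 (.nil) (.nil)) (.nil))) (.node 566447619598 2012 (.node 566447619536 3472 (.node 566447556176 3378 (.nil) (.nil)) (.nil)) (.node 566447619602 1733 (.node 566447619600 338 (.nil) (.nil)) (.nil))))) (.node 566448572978 4628 (.node 566448570866 2651 (.node 566447621650 3422 (.node 566447621648 902 (.node 566447621646 3077 (.nil) (.nil)) (.nil)) (.node 566448570864 1331 (.node 566447685136 5626 (.nil) (.nil)) (.nil))) (.node 566448572910 5461 (.node 566448570928 1471 (.node 566448570926 3316 (.nil) (.nil)) (.nil)) (.node 566448572976 1819 (.node 566448572912 2299 (.nil)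 (.nil)) (.nil)))) (.node 566448636400 112 (.node 566448634414 2304 (.node 566448634354 2044 (.node 566448634352 821 (.nil) (.nil)) (.nil)) (.node 566448636398 1440 (.node 566448634416 624 (.nil) (.nil)) (.nil))) (.node 566448636464 98 (.node 566448636462 254 (.node 566448636402 309 (.nil) (.nil)) (.nil)) (.node 566448636466 1538 (.nil) (.nil)))))))

/-- Index of a small icosian., part 25. -/
def elDictPart25 : Dict :=
  .node 566412985935 5058 (elDictPart23) (elDictPart24)

/-- Index of a small icosian., part 26. -/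
def elDictPart26 : Dict :=
  .node 566482191891 4029 (.node 566450733490 5164 (.node 566449655248 3850 (.node 566449651154 2524 (.node 566448699952 2317 (.node 566448638512 678 (.node 566448638510 1934 (.node 566448638450 2342 (.nil) (.nil)) (.nil)) (.node 566448699888 1718 (.node 566448699886 4532 (.nil) (.nil)) (.nil))) (.node 566448701938 3172 (.node 566448701936 1532 (.node 566448699954 5317 (.nil) (.nil)) (.nil)) (.node 566448702000 1225 (.node 566448701998 2545 (.nil) (.nil)) (.nil)))) (.node 566449653202 2050 (.node 566449651218 1374 (.node 566449651216 205 (.node 566449651214 1648 (.nil) (.nil)) (.nil)) (.node 566449653200 1672 (.node 566449651278 2911 (.nil) (.nil)) (.nil))) (.node 566449653266 669 (.node 566449653264 19 (.node 566449653262 672 (.nil) (.nil)) (.nil)) (.node 566449653328 976 (.node 566449653326 2191 (.nil) (.nil)) (.nil))))) (.node 566449716816 1600 (.node 566449716688 1114 (.node 566449714640 4594 (.node 566449655376 4456 (.node 566449655312 2179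 (.nil) (.nil)) (.nil)) (.node 566449714768 3984 (.node 566449714704 2161 (.nil) (.nil)) (.nil))) (.node 566449716752 38 (.node 566449716750 813 (.node 566449716690 2164 (.nil) (.nil)) (.nil)) (.node 566449716814 1944 (.node 566449716754 774 (.nil) (.nil)) (.nil)))) (.node 566450670064 2698 (.node 566449718800 184 (.node 566449718798 1272 (.node 566449718738 3047 (.nil) (.nil)) (.nil)) (.node 566449718862 2654 (.node 566449718802 1612 (.nil) (.nil)) (.nil))) (.node 566450731506 3124 (.node 566450731504 1408 (.node 566450670128 3376 (.nil) (.nil)) (.nil)) (.node 566450731568 984 (.node 566450731566 3384 (.nil) (.nil)) (.nil)))))) (.node 566481109551 1996 (.node 566451750354 5809 (.node 566450735600 1090 (.node 566450733614 854 (.node 566450733554 484 (.node 566450733552 236 (.nil) (.nil)) (.nil)) (.node 566450733678 5534 (.node 566450733616 136 (.nil) (.nil)) (.nil))) (.node 566450735664 1264 (.node 566450735662 3254 (.node 566450735602 3424 (.nil) (.nil)) (.nil)) (.node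 566450797104 2560 (.node 566450797040 3398 (.nil) (.nil)) (.nil)))) (.node 566451813904 1196 (.node 566451752464 5344 (.node 566451750478 4216 (.node 566451750416 1076 (.nil) (.nil)) (.nil)) (.node 566451813842 4354 (.node 566451811856 5488 (.nil) (.nil)) (.nil))) (.node 566481107503 4516 (.node 566481107441 6004 (.node 566451813966 5667 (.nil) (.nil)) (.nil)) (.node 566481109489 1912 (.node 566481109487 2872 (.nil) (.nil)) (.nil))))) (.node 566482187791 5304 (.node 566481177073 4612 (.node 566481175025 2092 (.node 566481175023 3212 (.node 566481109553 3308 (.nil) (.nil)) (.nil)) (.node 566481175089 2498 (.node 566481175087 1778 (.nil) (.nil)) (.nil))) (.node 566482126351 3019 (.node 566482126289 4912 (.node 566481177135 5894 (.nil) (.nil)) (.nil)) (.node 566482126415 4339 (.node 566482126353 3548 (.nil) (.nil)) (.nil)))) (.node 566482189843 5109 (.node 566482189837 3933 (.node 566482189777 3484 (.node 566482187793 4681 (.nil) (.nil)) (.nil)) (.node 566482189841 909 (.node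 566482189839 453 (.nil) (.nil)) (.nil))) (.node 566482191885 4773 (.node 566482191825 3250 (.node 566482189903 3144 (.nil) (.nil)) (.nil)) (.node 566482191889 429 (.node 566482191887 573 (.nil) (.nil)) (.nil))))))) (.node 567422827026 4959 (.node 567390226959 5819 (.node 566483208689 2770 (.node 566482255377 2918 (.node 566482193937 5410 (.node 566482193935 5047 (.node 566482191951 3578 (.nil) (.nil)) (.nil)) (.node 566482255375 3518 (.node 566482255313 4238 (.nil) (.nil)) (.nil))) (.node 566483206643 4084 (.node 566483206641 1084 (.node 566482255439 5018 (.nil) (.nil)) (.nil)) (.node 566483206703 1339 (.node 566483206701 4653 (.nil) (.nil)) (.nil)))) (.node 566483272237 3734 (.node 566483270191 2424 (.node 566483270129 3038 (.node 566483208751 2899 (.nil) (.nil)) (.nil)) (.node 566483272179 4509 (.node 566483272177 1238 (.nil) (.nil)) (.nil))) (.node 566514730512 6052 (.node 566514662928 5956 (.node 566483272239 974 (.nil) (.nil)) (.nil)) (.node 566515745326 4173 (.node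 566515745266 3789 (.nil) (.nil)) (.nil))))) (.node 567422761488 1342 (.node 567391307247 5754 (.node 567390288401 5675 (.node 567390288399 5542 (.node 567390226961 5172 (.nil) (.nil)) (.nil)) (.node 567391305265 5856 (.node 567391305199 5274 (.nil) (.nil)) (.nil))) (.node 567422700048 3140 (.node 567422700046 4820 (.node 567391307313 5616 (.nil) (.nil)) (.nil)) (.node 567422761426 3605 (.node 567422700050 5111 (.nil) (.nil)) (.nil)))) (.node 567422763598 2893 (.node 567422763534 1050 (.node 567422763474 3005 (.node 567422761550 3622 (.nil) (.nil)) (.nil)) (.node 567422763538 1189 (.node 567422763536 210 (.nil) (.nil)) (.nil))) (.node 567422765646 3613 (.node 567422765584 1212 (.node 567422765522 3612 (.nil) (.nil)) (.nil)) (.node 567422827024 3279 (.node 567422827022 4769 (.nil) (.nil)) (.nil)))))) (.node 567424860686 2009 (.node 567423843888 862 (.node 567423780338 2172 (.node 567423778350 2593 (.node 567423778290 2405 (.node 567423778288 1445 (.nil) (.nil)) (.nil)) (.node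 567423780336 492 (.node 567423778352 1631 (.nil) (.nil)) (.nil))) (.node 567423843824 809 (.node 567423780400 671 (.node 567423780398 2353 (.nil) (.nil)) (.nil)) (.node 567423843886 2249 (.node 567423843826 2285 (.nil) (.nil)) (.nil)))) (.node 567424795152 3313 (.node 567423845934 2773 (.node 567423845874 2695 (.node 567423845872 1572 (.nil) (.nil)) (.nil)) (.node 567424795150 3673 (.node 567423845936 1495 (.nil) (.nil)) (.nil))) (.node 567424858640 1903 (.node 567424858576 4794 (.node 567424795154 3671 (.nil) (.nil)) (.nil)) (.node 567424860624 2994 (.node 567424858704 4942 (.nil) (.nil)) (.nil))))) (.node 567454219821 6086 (.node 567424862800 5136 (.node 567424860752 3096 (.node 567424860690 2111 (.node 567424860688 343 (.nil) (.nil)) (.nil)) (.node 567424862736 1760 (.node 567424862672 4812 (.nil) (.nil)) (.nil))) (.node 567424926226 3655 (.node 567424926224 3175 (.node 567424926222 3689 (.nil) (.nil)) (.nil)) (.node 567454219763 4013 (.node 567454219761 1555 (.nil)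 (.nil)) (.nil)))) (.node 567455173135 3901 (.node 567454221811 5942 (.node 567454221809 1675 (.node 567454219823 1582 (.nil) (.nil)) (.nil)) (.node 567454221871 1453 (.node 567454221869 3917 (.nil) (.nil)) (.nil))) (.node 567455236623 181 (.node 567455236561 1325 (.node 567455173137 5900 (.nil) (.nil)) (.nil)) (.node 567455236625 125 (.nil) (.nil)))))))

/-- Index of a small icosian., part 27. -/
def elDictPart27 : Dict :=
  .node 567459496465 2335 (.node 567457333777 71 (.node 567456314927 2902 (.node 567455300175 2542 (.node 567455238735 2778 (.node 567455238671 620 (.node 567455238669 4637 (.node 567455238609 2652 (.nil) (.nil)) (.nil)) (.node 567455238675 4323 (.node 567455238673 542 (.nil) (.nil)) (.nil))) (.node 567455300111 926 (.node 567455300109 4200 (.node 567455300049 2432 (.nil) (.nil)) (.nil)) (.node 567455300115 4493 (.node 567455300113 759 (.nil) (.nil)) (.nil)))) (.node 567455365649 3997 (.node 567455302161 159 (.node 567455302159 197 (.node 567455302097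 1232 (.nil) (.nil)) (.nil)) (.node 567455365647 6039 (.node 567455302223 1213 (.nil) (.nil)) (.nil))) (.node 567456253487 500 (.node 567456253425 611 (.node 567456253423 1141 (.nil) (.nil)) (.nil)) (.node 567456314865 3001 (.node 567456253489 1031 (.nil) (.nil)) (.nil))))) (.node 567456319025 229 (.node 567456316977 142 (.node 567456316915 1685 (.node 567456316913 5 (.node 567456316911 120 (.nil) (.nil)) (.nil)) (.node 567456316975 22 (.node 567456316973 1680 (.nil) (.nil)) (.nil))) (.node 567456318963 1803 (.node 567456318961 12 (.node 567456318959 186 (.nil) (.nil)) (.nil)) (.node 567456319023 13 (.node 567456319021 1813 (.nil) (.nil)) (.nil)))) (.node 567456382513 997 (.node 567456382447 1169 (.node 567456321071 2887 (.node 567456321009 3012 (.nil) (.nil)) (.nil)) (.node 567456382511 745 (.node 567456382449 879 (.nil) (.nil)) (.nil))) (.node 567457333713 834 (.node 567457331729 961 (.node 567457331727 1153 (.nil) (.nil)) (.nil)) (.node 567457333775 73 (.node 567457333773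 3240 (.nil) (.nil)) (.nil)))))) (.node 567458412081 4441 (.node 567457399309 3209 (.node 567457335887 1816 (.node 567457335761 1812 (.node 567457333839 868 (.node 567457333779 3311 (.nil) (.nil)) (.nil)) (.node 567457335825 311 (.node 567457335823 320 (.nil) (.nil)) (.nil))) (.node 567457397265 241 (.node 567457397263 242 (.node 567457397201 1714 (.nil) (.nil)) (.nil)) (.node 567457399249 530 (.node 567457397327 1702 (.nil) (.nil)) (.nil)))) (.node 567457401361 1015 (.node 567457399315 3123 (.node 567457399313 55 (.node 567457399311 89 (.nil) (.nil)) (.nil)) (.node 567457401359 1087 (.node 567457399375 696 (.nil) (.nil)) (.nil))) (.node 567458350639 1993 (.node 567458350577 2098 (.node 567458350575 2578 (.nil) (.nil)) (.nil)) (.node 567458412015 4241 (.node 567458350641 2471 (.nil) (.nil)) (.nil))))) (.node 567458416239 4096 (.node 567458414191 5376 (.node 567458414065 274 (.node 567458414063 594 (.node 567458414001 3754 (.nil) (.nil)) (.nil)) (.node 567458414129 656 (.node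 567458414127 281 (.nil) (.nil)) (.nil))) (.node 567458416113 295 (.node 567458416111 794 (.node 567458416049 5514 (.nil) (.nil)) (.nil)) (.node 567458416177 936 (.node 567458416175 336 (.nil) (.nil)) (.nil)))) (.node 567458479665 2680 (.node 567458479599 2849 (.node 567458418225 4385 (.node 567458418159 4567 (.nil) (.nil)) (.nil)) (.node 567458479663 1960 (.node 567458479601 2095 (.nil) (.nil)) (.nil))) (.node 567459430927 2396 (.node 567459428881 5336 (.node 567459428879 3761 (.nil) (.nil)) (.nil)) (.node 567459496463 2276 (.node 567459430929 2231 (.nil) (.nil)) (.nil))))))) (.node 567488792110 257 (.node 567487775248 115 (.node 567487709650 5051 (.node 567486694896 3421 (.node 567485678096 3715 (.node 567459498513 4145 (.node 567459498511 5474 (.nil) (.nil)) (.nil)) (.node 567486692910 4646 (.node 567486692850 4373 (.nil) (.nil)) (.nil))) (.node 567486758448 3475 (.node 567486758384 3512 (.node 567486694960 3595 (.nil) (.nil)) (.nil)) (.node 567486760494 4277 (.node 567486760434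 4502 (.nil) (.nil)) (.nil)))) (.node 567487773198 2846 (.node 567487711696 3661 (.node 567487709774 4831 (.node 567487709712 1284 (.nil) (.nil)) (.nil)) (.node 567487711824 3618 (.node 567487711760 1741 (.nil) (.nil)) (.nil))) (.node 567487775184 1112 (.node 567487773202 2693 (.node 567487773200 446 (.nil) (.nil)) (.nil)) (.node 567487775246 437 (.node 567487775186 2085 (.nil) (.nil)) (.nil))))) (.node 567487840846 4705 (.node 567487777298 2462 (.node 567487775312 978 (.node 567487775310 1949 (.node 567487775250 413 (.nil) (.nil)) (.nil)) (.node 567487777296 422 (.node 567487777294 2597 (.nil) (.nil)) (.nil))) (.node 567487838800 3637 (.node 567487838736 1837 (.node 567487838672 3632 (.nil) (.nil)) (.nil)) (.node 567487840784 1426 (.node 567487840722 4967 (.nil) (.nil)) (.nil)))) (.node 567488790062 916 (.node 567488789938 5405 (.node 567488726574 6076 (.node 567488726514 3971 (.nil) (.nil)) (.nil)) (.node 567488790002 725 (.node 567488790000 221 (.nil) (.nil)) (.nil)))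 (.node 567488792046 1381 (.node 567488790126 4111 (.node 567488790064 204 (.nil) (.nil)) (.nil)) (.node 567488792050 251 (.node 567488792048 61 (.nil) (.nil)) (.nil)))))) (.node 567488921134 3865 (.node 567488855536 32 (.node 567488794162 5222 (.node 567488794094 5821 (.node 567488792114 1323 (.node 567488792112 18 (.nil) (.nil)) (.nil)) (.node 567488794160 2058 (.node 567488794096 1927 (.nil) (.nil)) (.nil))) (.node 567488853552 2041 (.node 567488853488 1952 (.node 567488853486 5606 (.nil) (.nil)) (.nil)) (.node 567488855534 1200 (.node 567488853554 5677 (.nil) (.nil)) (.nil)))) (.node 567488857584 167 (.node 567488855600 37 (.node 567488855598 269 (.node 567488855538 293 (.nil) (.nil)) (.nil)) (.node 567488857522 3767 (.node 567488855602 1237 (.nil) (.nil)) (.nil))) (.node 567488857648 182 (.node 567488857646 613 (.node 567488857586 532 (.nil) (.nil)) (.nil)) (.node 567488921074 5932 (.node 567488857710 5293 (.nil) (.nil)) (.nil))))) (.node 567489870288 1617 (.node 567489808848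 3418 (.node 567489806864 164 (.node 567489806862 1513 (.node 567489806802 3524 (.nil) (.nil)) (.nil)) (.node 567489806926 3388 (.node 567489806866 1628 (.nil) (.nil)) (.nil))) (.node 567489808914 2288 (.node 567489808912 298 (.node 567489808910 2175 (.nil) (.nil)) (.nil)) (.node 567489868304 3601 (.node 567489808976 3498 (.nil) (.nil)) (.nil)))) (.node 567489870416 1482 (.node 567489870352 1 (.node 567489870350 360 (.node 567489870290 2284 (.nil) (.nil)) (.nil)) (.node 567489870414 2182 (.node 567489870354 361 (.nil) (.nil)) (.nil))) (.node 567489872396 3600 (.node 567489872338 287 (.node 567489872336 154 (.nil) (.nil)) (.nil)) (.node 567489872398 0 (.nil) (.nil)))))))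

/-- Index of a small icosian., part 28. -/
def elDictPart28 : Dict :=
  .node 567455236687 1338 (elDictPart26) (elDictPart27)

/-- Index of a small icosian., part 29. -/
def elDictPart29 : Dict :=
  .node 566448638448 730 (elDictPart25) (elDictPart28)

/-- Index of a small icosian., part 30. -/
def elDictPart30 : Dict :=
  .node 565377024529 1478 (elDictPart22) (elDictPart29)

/-- Index of a small icosian., part 31. -/
def elDictPart31 : Dict :=
  .node 534235267537 5941 (elDictPart15) (elDictPart30)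

/-- Index of a small icosian., part 32. -/
def elDictPart32 : Dict :=
  .node 567520248337 2275 (.node 567490952750 263 (.node 567490823726 5953 (.node 567489876496 3607 (.node 567489874386 2170 (.node 567489872462 268 (.node 567489872404 3603 (.node 567489872402 3 (.nil) (.nil)) (.nil)) (.node 567489874384 1503 (.node 567489872464 138 (.nil) (.nil)) (.nil))) (.node 567489874450 363 (.node 567489874448 7 (.node 567489874446 367 (.nil) (.nil)) (.nil)) (.node 567489874512 1638 (.node 567489874510 2293 (.nil) (.nil)) (.nil)))) (.node 567489937874 3407 (.node 567489935888 277 (.node 567489935886 2282 (.node 567489935824 3514 (.nil) (.nil)) (.nil)) (.node 567489935952 3397 (.node 567489935890 2166 (.nil) (.nil)) (.nil))) (.node 567489937938 1492 (.node 567489937936 145 (.node 567489937934 1649 (.nil) (.nil)) (.nil)) (.node 567490823666 3884 (.node 567489937998 3505 (.nil) (.nil)) (.nil))))) (.node 567490889266 1203 (.node 567490887278 3748 (.node 567490887154 604 (.node 567490887152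 161 (.node 567490887090 5284 (.nil) (.nil)) (.nil)) (.node 567490887216 148 (.node 567490887214 553 (.nil) (.nil)) (.nil))) (.node 567490889202 288 (.node 567490889200 58 (.node 567490889198 1258 (.nil) (.nil)) (.nil)) (.node 567490889264 16 (.node 567490889262 314 (.nil) (.nil)) (.nil)))) (.node 567490950640 2074 (.node 567490891312 1936 (.node 567490891248 2047 (.node 567490891246 5698 (.nil) (.nil)) (.nil)) (.node 567490950638 5201 (.node 567490891314 5585 (.nil) (.nil)) (.nil))) (.node 567490952686 1320 (.node 567490950706 5800 (.node 567490950704 1921 (.nil) (.nil)) (.nil)) (.node 567490952690 273 (.node 567490952688 34 (.nil) (.nil)) (.nil)))))) (.node 567491969554 416 (.node 567491904016 1437 (.node 567490954798 734 (.node 567490954674 4130 (.node 567490952754 1360 (.node 567490952752 40 (.nil) (.nil)) (.nil)) (.node 567490954738 895 (.node 567490954736 224 (.nil) (.nil)) (.nil))) (.node 567491018226 6055 (.node 567490954862 5414 (.node 567490954800 201 (.nil) (.nil))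 (.nil)) (.node 567491903954 4724 (.node 567491018286 3983 (.nil) (.nil)) (.nil)))) (.node 567491967504 401 (.node 567491906064 1858 (.node 567491906000 3658 (.node 567491904078 4948 (.nil) (.nil)) (.nil)) (.node 567491967502 2441 (.node 567491906128 3616 (.nil) (.nil)) (.nil))) (.node 567491969490 1968 (.node 567491969488 994 (.node 567491967506 2576 (.nil) (.nil)) (.nil)) (.node 567491969552 116 (.node 567491969550 434 (.nil) (.nil)) (.nil))))) (.node 567492984306 4256 (.node 567492032976 3634 (.node 567491971598 2714 (.node 567491969616 1096 (.node 567491969614 2066 (.nil) (.nil)) (.nil)) (.node 567491971602 2825 (.node 567491971600 425 (.nil) (.nil)) (.nil))) (.node 567492035026 4850 (.node 567492033104 3640 (.node 567492033040 1720 (.nil) (.nil)) (.nil)) (.node 567492035150 5063 (.node 567492035088 1304 (.nil) (.nil)) (.nil)))) (.node 567493051890 4625 (.node 567492986416 3496 (.node 567492986352 3476 (.node 567492984366 4481 (.nil) (.nil)) (.nil)) (.node 567493049904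 3400 (.node 567493049840 3596 (.nil) (.nil)) (.nil))) (.node 567520246287 4166 (.node 567494066704 3716 (.node 567493051950 4394 (.nil) (.nil)) (.nil)) (.node 567520248335 2356 (.node 567520246289 5453 (.nil) (.nil)) (.nil))))))) (.node 567522411025 52 (.node 567521332785 4262 (.node 567521328623 952 (.node 567521265137 1981 (.node 567520315919 5357 (.node 567520313873 2395 (.node 567520313871 2252 (.nil) (.nil)) (.nil)) (.node 567521265135 2701 (.node 567520315921 3782 (.nil) (.nil)) (.nil))) (.node 567521326575 4406 (.node 567521265201 2828 (.node 567521265199 2116 (.nil) (.nil)) (.nil)) (.node 567521328561 4112 (.node 567521326641 4561 (.nil) (.nil)) (.nil)))) (.node 567521330671 677 (.node 567521328689 773 (.node 567521328687 316 (.node 567521328625 352 (.nil) (.nil)) (.nil)) (.node 567521330609 5392 (.node 567521328751 5498 (.nil) (.nil)) (.nil))) (.node 567521330737 578 (.node 567521330735 258 (.node 567521330673 302 (.nil) (.nil)) (.nil)) (.node 567521332719 4447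 (.node 567521330799 3738 (.nil) (.nil)) (.nil))))) (.node 567522345551 511 (.node 567522343441 1081 (.node 567521394223 2077 (.node 567521394161 1972 (.node 567521394159 2492 (.nil) (.nil)) (.nil)) (.node 567522343439 1036 (.node 567521394225 2557 (.nil) (.nil)) (.nil))) (.node 567522345487 76 (.node 567522345485 3120 (.node 567522345425 712 (.nil) (.nil)) (.nil)) (.node 567522345491 3188 (.node 567522345489 68 (.nil) (.nil)) (.nil)))) (.node 567522408975 332 (.node 567522347537 248 (.node 567522347535 247 (.node 567522347473 1690 (.nil) (.nil)) (.nil)) (.node 567522408913 1832 (.node 567522347599 1698 (.nil) (.nil)) (.nil))) (.node 567522410961 887 (.node 567522409039 1824 (.node 567522408977 340 (.nil) (.nil)) (.nil)) (.node 567522411023 92 (.node 567522411021 3332 (.nil) (.nil)) (.nil)))))) (.node 567523429935 3007 (.node 567523425777 4 (.node 567523362289 764 (.node 567522413071 967 (.node 567522411087 818 (.node 567522411027 3243 (.nil) (.nil)) (.nil)) (.node 567523362287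 1018 (.node 567522413073 1132 (.nil) (.nil)) (.nil))) (.node 567523423729 2881 (.node 567523362353 1148 (.node 567523362351 900 (.nil) (.nil)) (.nil)) (.node 567523425775 213 (.node 567523423791 3024 (.nil) (.nil)) (.nil)))) (.node 567523427825 10 (.node 567523425839 24 (.node 567523425837 1800 (.node 567523425779 1804 (.nil) (.nil)) (.nil)) (.node 567523427823 130 (.node 567523425841 207 (.nil) (.nil)) (.nil))) (.node 567523427887 14 (.node 567523427885 1694 (.node 567523427827 1683 (.nil) (.nil)) (.nil)) (.node 567523429873 2890 (.node 567523427889 123 (.nil) (.nil)) (.nil))))) (.node 567524444685 4514 (.node 567524379153 6060 (.node 567523491375 623 (.node 567523491313 516 (.node 567523491311 1052 (.nil) (.nil)) (.nil)) (.node 567524379151 4018 (.node 567523491377 1120 (.nil) (.nil)) (.nil))) (.node 567524442641 176 (.node 567524442639 180 (.node 567524442577 1204 (.nil) (.nil)) (.nil)) (.node 567524444625 2530 (.node 567524442703 1216 (.nil) (.nil)) (.nil)))) (.node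 567524506125 4320 (.node 567524444691 4203 (.node 567524444689 905 (.node 567524444687 780 (.nil) (.nil)) (.nil)) (.node 567524506065 2794 (.node 567524444751 2416 (.nil) (.nil)) (.nil))) (.node 567524506131 4616 (.node 567524506129 636 (.node 567524506127 521 (.nil) (.nil)) (.nil)) (.node 567524508113 1354 (.node 567524506191 2664 (.nil) (.nil)) (.nil)))))))

/-- Index of a small icosian., part 33. -/
def elDictPart33 : Dict :=
  .node 568497552913 589 (.node 567556917778 4748 (.node 567554886096 4930 (.node 567525525039 1556 (.node 567525522931 3896 (.node 567524571663 5916 (.node 567524508239 1334 (.node 567524508177 160 (.nil) (.nil)) (.nil)) (.node 567525522929 1444 (.node 567524571665 3880 (.nil) (.nil)) (.nil))) (.node 567525524977 1570 (.node 567525522991 1676 (.node 567525522989 5921 (.nil) (.nil)) (.nil)) (.node 567525525037 4034 (.node 567525524979 6065 (.nil) (.nil)) (.nil)))) (.node 567554882128 4824 (.node 567554818578 3668 (.node 567554818576 3196 (.node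 567554818574 3676 (.nil) (.nil)) (.nil)) (.node 567554882064 1780 (.node 567554882000 5152 (.nil) (.nil)) (.nil))) (.node 567554884112 323 (.node 567554884110 2132 (.node 567554884048 3112 (.nil) (.nil)) (.nil)) (.node 567554884176 2978 (.node 567554884114 1988 (.nil) (.nil)) (.nil))))) (.node 567555900974 2294 (.node 567555898864 1516 (.node 567554949646 3692 (.node 567554886224 4778 (.node 567554886160 1883 (.nil) (.nil)) (.nil)) (.node 567554949650 3652 (.node 567554949648 3292 (.nil) (.nil)) (.nil))) (.node 567555898928 1584 (.node 567555898926 2716 (.node 567555898866 2764 (.nil) (.nil)) (.nil)) (.node 567555900914 2228 (.node 567555900912 850 (.nil) (.nil)) (.nil)))) (.node 567555966448 1652 (.node 567555964402 2332 (.node 567555964400 692 (.node 567555900976 788 (.nil) (.nil)) (.nil)) (.node 567555964464 504 (.node 567555964462 2184 (.nil) (.nil)) (.nil))) (.node 567555966512 1454 (.node 567555966510 2414 (.node 567555966450 2572 (.nil) (.nil)) (.nil)) (.node 567556917776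 3300 (.node 567556917774 4980 (.nil) (.nil)) (.nil)))))) (.node 568463999534 3810 (.node 567557044750 5132 (.node 567556981264 189 (.node 567556979278 3624 (.node 567556979216 1224 (.node 567556979154 3604 (.nil) (.nil)) (.nil)) (.node 567556981262 1173 (.node 567556981202 2884 (.nil) (.nil)) (.nil))) (.node 567556983250 3610 (.node 567556981326 3014 (.node 567556981266 1029 (.nil) (.nil)) (.nil)) (.node 567556983374 3614 (.node 567556983312 1330 (.nil) (.nil)) (.nil)))) (.node 567588439601 5258 (.node 567588437487 5632 (.node 567557044754 4836 (.node 567557044752 3156 (.nil) (.nil)) (.nil)) (.node 567588439535 5872 (.node 567588437553 5738 (.nil) (.nil)) (.nil))) (.node 567589517839 5184 (.node 567589456401 5530 (.node 567589456399 5659 (.nil) (.nil)) (.nil)) (.node 568463999474 4189 (.node 567589517841 5798 (.nil) (.nil)) (.nil))))) (.node 568496538099 4669 (.node 568496472623 1259 (.node 568496472561 965 (.node 568465081872 5935 (.node 568465014288 6073 (.nil) (.nil))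 (.nil)) (.node 568496472621 4530 (.node 568496472563 3725 (.nil) (.nil)) (.nil))) (.node 568496536049 2915 (.node 568496474671 3059 (.node 568496474609 2412 (.nil) (.nil)) (.nil)) (.node 568496538097 1355 (.node 568496536111 2782 (.nil) (.nil)) (.nil)))) (.node 568497489487 4259 (.node 568497489361 5034 (.node 568496538159 1093 (.node 568496538157 4093 (.nil) (.nil)) (.nil)) (.node 568497489425 3539 (.node 568497489423 2939 (.nil) (.nil)) (.nil))) (.node 568497552849 3594 (.node 568497550865 5041 (.node 568497550863 5422 (.nil) (.nil)) (.nil)) (.node 568497552911 450 (.node 568497552909 4050 (.nil) (.nil)) (.nil))))))) (.node 568529013234 3372 (.node 568498635313 2856 (.node 568497618447 3569 (.node 568497554961 469 (.node 568497554897 3132 (.node 568497552975 3262 (.node 568497552915 4789 (.nil) (.nil)) (.nil)) (.node 568497554959 930 (.node 568497554957 5130 (.nil) (.nil)) (.nil))) (.node 568497557007 4687 (.node 568497555023 3493 (.node 568497554963 3949 (.nil) (.nil))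 (.nil)) (.node 568497618385 4355 (.node 568497557009 5292 (.nil) (.nil)) (.nil)))) (.node 568498569713 1794 (.node 568498567665 5885 (.node 568497618511 4896 (.node 568497618449 3035 (.nil) (.nil)) (.nil)) (.node 568498569711 2514 (.node 568498567727 4633 (.nil) (.nil)) (.nil))) (.node 568498635247 3329 (.node 568498569777 3191 (.node 568498569775 2113 (.nil) (.nil)) (.nil)) (.node 568498635311 1896 (.node 568498635249 1975 (.nil) (.nil)) (.nil))))) (.node 568528947760 3419 (.node 568527932944 5467 (.node 568527930834 5686 (.node 568498637359 6013 (.node 568498637297 4495 (.nil) (.nil)) (.nil)) (.node 568527930958 4338 (.node 568527930896 1195 (.nil) (.nil)) (.nil))) (.node 568527994384 1075 (.node 568527994322 4232 (.node 568527992336 5323 (.nil) (.nil)) (.nil)) (.node 568528947696 2581 (.node 568527994446 5790 (.nil) (.nil)) (.nil)))) (.node 568529011184 152 (.node 568529009198 3403 (.node 568529009138 3245 (.node 568529009136 1243 (.nil) (.nil)) (.nil)) (.node 568529011122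 5525 (.node 568529009200 1102 (.nil) (.nil)) (.nil))) (.node 568529011248 235 (.node 568529011246 493 (.node 568529011186 845 (.nil) (.nil)) (.nil)) (.node 568529013232 972 (.node 568529011310 5173 (.nil) (.nil)) (.nil)))))) (.node 568530091474 2210 (.node 568530028046 795 (.node 568530025998 1633 (.node 568529074672 3392 (.node 568529013296 1387 (.node 568529013294 3133 (.nil) (.nil)) (.nil)) (.node 568530025938 2645 (.node 568529074736 2677 (.nil) (.nil)) (.nil))) (.node 568530026062 3028 (.node 568530026002 1251 (.node 568530026000 163 (.nil) (.nil)) (.nil)) (.node 568530027986 1932 (.node 568530027984 1621 (.nil) (.nil)) (.nil)))) (.node 568530030096 2167 (.node 568530028110 2173 (.node 568530028050 829 (.node 568530028048 59 (.nil) (.nil)) (.nil)) (.node 568530030032 3972 (.node 568530028112 1098 (.nil) (.nil)) (.nil))) (.node 568530089488 2195 (.node 568530089424 4472 (.node 568530030160 4578 (.nil) (.nil)) (.nil)) (.node 568530091472 992 (.node 568530089552 3862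 (.nil) (.nil)) (.nil))))) (.node 568531042802 2564 (.node 568530093522 2930 (.node 568530091538 651 (.node 568530091536 35 (.node 568530091534 690 (.nil) (.nil)) (.nil)) (.node 568530091600 1656 (.node 568530091598 2062 (.nil) (.nil)) (.nil))) (.node 568530093586 1627 (.node 568530093584 225 (.node 568530093582 1395 (.nil) (.nil)) (.nil)) (.node 568531042800 1244 (.node 568530093646 2533 (.nil) (.nil)) (.nil)))) (.node 568531044914 4511 (.node 568531044846 5338 (.node 568531042864 1511 (.node 568531042862 3193 (.nil) (.nil)) (.nil)) (.node 568531044912 1739 (.node 568531044848 2338 (.nil) (.nil)) (.nil))) (.node 568531106350 2321 (.node 568531106290 1925 (.node 568531106288 657 (.nil) (.nil)) (.nil)) (.node 568531106352 742 (.nil) (.nil)))))))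

/-- Index of a small icosian., part 34. -/
def elDictPart34 : Dict :=
  .node 567524508175 134 (elDictPart32) (elDictPart33)

/-- Index of a small icosian., part 35. -/
def elDictPart35 : Dict :=
  .node 568562568721 2827 (.node 568560467473 2515 (.node 568532125200 354 (.node 568531171888 2315 (.node 568531110384 612 (.node 568531108398 330 (.node 568531108338 245 (.node 568531108336 114 (.nil) (.nil)) (.nil)) (.node 568531108402 1443 (.node 568531108400 96 (.nil) (.nil)) (.nil))) (.node 568531110448 801 (.node 568531110446 2053 (.node 568531110386 2292 (.nil) (.nil)) (.nil)) (.node 568531171824 1835 (.node 568531171822 4649 (.nil) (.nil)) (.nil)))) (.node 568532059664 5637 (.node 568531173874 3295 (.node 568531173872 1490 (.node 568531171890 5440 (.nil) (.nil)) (.nil)) (.node 568531173936 1343 (.node 568531173934 2663 (.nil) (.nil)) (.nil))) (.node 568532123154 3056 (.node 568532123152 881 (.node 568532123150 3401 (.nil) (.nil)) (.nil)) (.node 568532125198 1754 (.node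 568532125136 2754 (.nil) (.nil)) (.nil))))) (.node 568533139952 5877 (.node 568532188690 1856 (.node 568532188624 3394 (.node 568532125264 3456 (.node 568532125202 1991 (.nil) (.nil)) (.nil)) (.node 568532188688 275 (.node 568532188686 2129 (.nil) (.nil)) (.nil))) (.node 568532190736 545 (.node 568532190734 2954 (.node 568532188752 2616 (.nil) (.nil)) (.nil)) (.node 568532254224 5264 (.node 568532190738 3415 (.nil) (.nil)) (.nil)))) (.node 568533271024 4304 (.node 568533205488 1914 (.node 568533205486 3914 (.node 568533140016 4437 (.nil) (.nil)) (.nil)) (.node 568533205554 4016 (.node 568533205552 1776 (.nil) (.nil)) (.nil))) (.node 568560403985 4795 (.node 568560403983 3781 (.node 568533271088 5744 (.nil) (.nil)) (.nil)) (.node 568560467471 2755 (.node 568560467409 3872 (.nil) (.nil)) (.nil)))))) (.node 568562501073 3181 (.node 568561486319 3061 (.node 568560533007 5155 (.node 568560469519 2875 (.node 568560469457 4915 (.node 568560467535 5035 (.nil) (.nil)) (.nil)) (.node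 568560469583 3978 (.node 568560469521 2635 (.nil) (.nil)) (.nil))) (.node 568561484273 595 (.node 568561484271 1021 (.node 568560533009 4117 (.nil) (.nil)) (.nil)) (.node 568561484337 1458 (.node 568561484335 835 (.nil) (.nil)) (.nil)))) (.node 568561547823 2323 (.node 568561486385 3138 (.node 568561486383 1818 (.node 568561486321 2341 (.nil) (.nil)) (.nil)) (.node 568561547761 1712 (.node 568561547759 3272 (.nil) (.nil)) (.nil))) (.node 568561549809 715 (.node 568561549807 1515 (.node 568561547825 2917 (.nil) (.nil)) (.nil)) (.node 568561549873 1117 (.node 568561549871 955 (.nil) (.nil)) (.nil))))) (.node 568562564623 43 (.node 568562562513 5761 (.node 568562501137 884 (.node 568562501135 421 (.node 568562501133 5175 (.nil) (.nil)) (.nil)) (.node 568562501199 2898 (.node 568562501139 4868 (.nil) (.nil)) (.nil))) (.node 568562562639 4702 (.node 568562562577 2761 (.node 568562562575 2443 (.nil) (.nil)) (.nil)) (.node 568562564621 2520 (.node 568562564561 392 (.nil) (.nil))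 (.nil)))) (.node 568562566671 75 (.node 568562564687 628 (.node 568562564627 2571 (.node 568562564625 51 (.nil) (.nil)) (.nil)) (.node 568562566669 2715 (.node 568562566609 770 (.nil) (.nil)) (.nil))) (.node 568562566735 378 (.node 568562566675 2643 (.node 568562566673 67 (.nil) (.nil)) (.nil)) (.node 568562568719 2407 (.node 568562568657 5052 (.nil) (.nil)) (.nil))))))) (.node 568564598291 5643 (.node 568563583537 608 (.node 568563579437 5668 (.node 568562630163 5553 (.node 568562630157 5012 (.node 568562630097 3032 (.node 568562568783 5647 (.nil) (.nil)) (.nil)) (.node 568562630161 397 (.node 568562630159 503 (.nil) (.nil)) (.nil))) (.node 568563518001 5288 (.node 568563517935 4141 (.node 568562630223 3277 (.nil) (.nil)) (.nil)) (.node 568563579379 5211 (.node 568563579377 1321 (.nil) (.nil)) (.nil)))) (.node 568563581487 28 (.node 568563581425 44 (.node 568563581423 231 (.node 568563579439 1228 (.nil) (.nil)) (.nil)) (.node 568563581485 2040 (.node 568563581427 2084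 (.nil) (.nil)) (.nil))) (.node 568563583471 906 (.node 568563583409 6066 (.node 568563581489 171 (.nil) (.nil)) (.nil)) (.node 568563583535 299 (.node 568563583473 252 (.nil) (.nil)) (.nil))))) (.node 568563647023 23 (.node 568563644977 522 (.node 568563644911 741 (.node 568563644849 3992 (.node 568563583599 3858 (.nil) (.nil)) (.nil)) (.node 568563644975 283 (.node 568563644913 272 (.nil) (.nil)) (.nil))) (.node 568563646961 50 (.node 568563646959 212 (.node 568563645039 5922 (.nil) (.nil)) (.nil)) (.node 568563647021 1943 (.node 568563646963 1923 (.nil) (.nil)) (.nil)))) (.node 568563710447 5421 (.node 568563649011 5810 (.node 568563649009 1370 (.node 568563647025 157 (.nil) (.nil)) (.nil)) (.node 568563649071 1207 (.node 568563649069 5595 (.nil) (.nil)) (.nil))) (.node 568564598285 4695 (.node 568564598225 2924 (.node 568563710513 3757 (.nil) (.nil)) (.nil)) (.node 568564598289 404 (.node 568564598287 658 (.nil) (.nil)) (.nil)))))) (.node 568564727311 383 (.node 568564663761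 410 (.node 568564661713 874 (.node 568564659727 2561 (.node 568564659665 4857 (.node 568564598351 3268 (.nil) (.nil)) (.nil)) (.node 568564659791 5544 (.node 568564659729 2641 (.nil) (.nil)) (.nil))) (.node 568564661777 56 (.node 568564661775 41 (.node 568564661773 2760 (.nil) (.nil)) (.nil)) (.node 568564661839 388 (.node 568564661779 2816 (.nil) (.nil)) (.nil)))) (.node 568564665809 5170 (.node 568564663825 65 (.node 568564663823 74 (.node 568564663821 2474 (.nil) (.nil)) (.nil)) (.node 568564663887 496 (.node 568564663827 2403 (.nil) (.nil)) (.nil))) (.node 568564665935 5001 (.node 568564665873 2705 (.node 568564665871 2527 (.nil) (.nil)) (.nil)) (.node 568564727309 5760 (.node 568564727249 3170 (.nil) (.nil)) (.nil))))) (.node 568565742063 2921 (.node 568565678639 748 (.node 568564727375 3023 (.node 568564727315 5073 (.node 568564727313 760 (.nil) (.nil)) (.nil)) (.node 568565678577 524 (.node 568565678575 1618 (.nil) (.nil)) (.nil))) (.node 568565680625 1745 (.node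 568565680623 3314 (.node 568565678641 1016 (.nil) (.nil)) (.nil)) (.node 568565680689 3065 (.node 568565680687 2176 (.nil) (.nil)) (.nil)))) (.node 568565744175 863 (.node 568565742129 3176 (.node 568565742127 1841 (.node 568565742065 2216 (.nil) (.nil)) (.nil)) (.node 568565744113 650 (.node 568565744111 1154 (.nil) (.nil)) (.nil))) (.node 568566695441 5517 (.node 568566695439 4858 (.node 568565744177 1625 (.nil) (.nil)) (.nil)) (.node 568566758927 2681 (.node 568566758865 5074 (.nil) (.nil)) (.nil)))))))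

/-- Index of a small icosian., part 36. -/
def elDictPart36 : Dict :=
  .node 568598215152 1121 (.node 568596120050 286 (.node 568595039824 2418 (.node 568594022960 1795 (.node 568566824463 5384 (.node 568566760975 2834 (.node 568566760913 5928 (.node 568566758991 6026 (.nil) (.nil)) (.nil)) (.node 568566761039 4696 (.node 568566760977 2585 (.nil) (.nil)) (.nil))) (.node 568593957424 5588 (.node 568593957360 4501 (.node 568566824465 4960 (.nil) (.nil)) (.nil)) (.node 568594022896 1915 (.node 568594022894 5955 (.nil) (.nil)) (.nil)))) (.node 568595037712 676 (.node 568594088496 4597 (.node 568594088432 5252 (.node 568594022962 6051 (.nil) (.nil)) (.nil)) (.node 568595037710 3076 (.node 568594974224 5828 (.nil) (.nil)) (.nil))) (.node 568595039758 1995 (.node 568595039696 3591 (.node 568595037714 3531 (.nil) (.nil)) (.nil)) (.node 568595039762 1868 (.node 568595039760 301 (.nil) (.nil)) (.nil))))) (.node 568596054574 2836 (.node 568595105294 3572 (.node 568595103248 355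 (.node 568595103246 1772 (.node 568595103184 2792 (.nil) (.nil)) (.nil)) (.node 568595103312 3517 (.node 568595103250 2091 (.nil) (.nil)) (.nil))) (.node 568595168784 5732 (.node 568595105298 2932 (.node 568595105296 772 (.nil) (.nil)) (.nil)) (.node 568596054514 3284 (.node 568596054512 1636 (.nil) (.nil)) (.nil)))) (.node 568596118000 523 (.node 568596056560 1861 (.node 568596056558 4381 (.node 568596054576 1388 (.nil) (.nil)) (.nil)) (.node 568596056626 4148 (.node 568596056624 2178 (.nil) (.nil)) (.nil))) (.node 568596118064 940 (.node 568596118062 1963 (.node 568596118002 2211 (.nil) (.nil)) (.nil)) (.node 568596120048 111 (.node 568596120046 1560 (.nil) (.nil)) (.nil)))))) (.node 568597136912 60 (.node 568596185584 1292 (.node 568596122158 2174 (.node 568596120114 1657 (.node 568596120112 97 (.node 568596120110 315 (.nil) (.nil)) (.nil)) (.node 568596122098 2107 (.node 568596122096 563 (.nil) (.nil)) (.nil))) (.node 568596183536 2196 (.node 568596183534 3812 (.node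 568596122160 907 (.nil) (.nil)) (.nil)) (.node 568596183602 4237 (.node 568596183600 1717 (.nil) (.nil)) (.nil)))) (.node 568597134864 220 (.node 568596185648 1583 (.node 568596185646 3143 (.node 568596185586 2452 (.nil) (.nil)) (.nil)) (.node 568597134862 1396 (.node 568597134802 3004 (.nil) (.nil)) (.nil))) (.node 568597136848 1191 (.node 568597134926 2428 (.node 568597134866 1508 (.nil) (.nil)) (.nil)) (.node 568597136910 495 (.node 568597136850 2290 (.nil) (.nil)) (.nil))))) (.node 568597200398 932 (.node 568597139024 5896 (.node 568597136976 1456 (.node 568597136974 1948 (.node 568597136914 548 (.nil) (.nil)) (.nil)) (.node 568597138960 2287 (.node 568597138896 4210 (.nil) (.nil)) (.nil))) (.node 568597198416 4344 (.node 568597198352 2316 (.node 568597198288 6034 (.nil) (.nil)) (.nil)) (.node 568597200338 2090 (.node 568597200336 1551 (.nil) (.nil)) (.nil)))) (.node 568597202446 1514 (.node 568597200462 2303 (.node 568597200402 873 (.node 568597200400 36 (.nil) (.nil))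 (.nil)) (.node 568597202386 2810 (.node 568597200464 1057 (.nil) (.nil)) (.nil))) (.node 568597202510 2894 (.node 568597202450 1252 (.node 568597202448 172 (.nil) (.nil)) (.nil)) (.node 568598153776 2820 (.node 568598153712 3540 (.nil) (.nil)) (.nil))))))) (.node 568629675473 3370 (.node 568628591089 4300 (.node 568598219310 3494 (.node 568598217202 776 (.node 568598215216 1344 (.node 568598215214 3161 (.node 568598215154 3536 (.nil) (.nil)) (.nil)) (.node 568598217200 156 (.node 568598217138 5644 (.nil) (.nil)) (.nil))) (.node 568598217326 5774 (.node 568598217264 217 (.node 568598217262 674 (.nil) (.nil)) (.nil)) (.node 568598219250 3305 (.node 568598219248 1210 (.nil) (.nil)) (.nil)))) (.node 568599234126 5176 (.node 568598280752 3520 (.node 568598280688 2436 (.node 568598219312 1025 (.nil) (.nil)) (.nil)) (.node 568599234064 1140 (.node 568599234002 4488 (.nil) (.nil)) (.nil))) (.node 568599297490 5554 (.node 568599295504 4121 (.node 568599236112 3785 (.nil) (.nil))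 (.nil)) (.node 568599297614 4586 (.node 568599297552 996 (.nil) (.nil)) (.nil))))) (.node 568629609937 4671 (.node 568628658671 2612 (.node 568628593137 2151 (.node 568628593135 3351 (.node 568628591151 4036 (.nil) (.nil)) (.nil)) (.node 568628593201 2708 (.node 568628593199 1876 (.nil) (.nil)) (.nil))) (.node 568628658737 3217 (.node 568628658735 2017 (.node 568628658673 1732 (.nil) (.nil)) (.nil)) (.node 568628660783 4403 (.node 568628660721 3892 (.nil) (.nil)) (.nil)))) (.node 568629673425 3231 (.node 568629610063 5100 (.node 568629610001 2948 (.node 568629609999 3420 (.nil) (.nil)) (.nil)) (.node 568629671441 3820 (.node 568629671439 5020 (.nil) (.nil)) (.nil))) (.node 568629673489 460 (.node 568629673487 820 (.node 568629673485 4800 (.nil) (.nil)) (.nil)) (.node 568629673551 3457 (.node 568629673491 5948 (.nil) (.nil)) (.nil)))))) (.node 568662146576 3940 (.node 568630690289 1324 (.node 568629677583 4163 (.node 568629675537 683 (.node 568629675535 443 (.node 568629675533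 6092 (.nil) (.nil)) (.nil)) (.node 568629675599 3337 (.node 568629675539 4923 (.nil) (.nil)) (.nil))) (.node 568629739023 3092 (.node 568629738961 4716 (.node 568629677585 4883 (.nil) (.nil)) (.nil)) (.node 568629739087 4537 (.node 568629739025 3412 (.nil) (.nil)) (.nil)))) (.node 568630753777 2556 (.node 568630690351 1020 (.node 568630690349 5476 (.node 568630690291 4324 (.nil) (.nil)) (.nil)) (.node 568630692399 2700 (.node 568630692337 3010 (.nil) (.nil)) (.nil))) (.node 568630755827 5332 (.node 568630755825 1116 (.node 568630753839 2904 (.nil) (.nil)) (.nil)) (.node 568630755887 1214 (.node 568630755885 4214 (.nil) (.nil)) (.nil))))) (.node 569571264048 2579 (.node 569570247184 1619 (.node 568663228974 5294 (.node 568663228914 5404 (.node 568662214160 4043 (.nil) (.nil)) (.nil)) (.node 569570247122 5045 (.node 569570183696 3659 (.nil) (.nil)) (.nil))) (.node 569571261938 4445 (.node 569570310672 3635 (.node 569570247246 4693 (.nil) (.nil)) (.nil)) (.node 569571263984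 3474 (.node 569571261998 5788 (.nil) (.nil)) (.nil)))) (.node 569572344272 3714 (.node 569571329522 5690 (.node 569571327536 3395 (.node 569571327472 2675 (.nil) (.nil)) (.nil)) (.node 569572278800 4739 (.node 569571329582 4573 (.nil) (.nil)) (.nil))) (.node 569572409872 5075 (.node 569572344400 3696 (.node 569572344336 2394 (.nil) (.nil)) (.nil)) (.node 569602720271 1499 (.nil) (.nil)))))))

/-- Index of a small icosian., part 37. -/
def elDictPart37 : Dict :=
  .node 568566758929 2456 (elDictPart35) (elDictPart36)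

/-- Index of a small icosian., part 38. -/
def elDictPart38 : Dict :=
  .node 568531108334 1554 (elDictPart34) (elDictPart37)

/-- Index of a small icosian., part 39. -/
def elDictPart39 : Dict :=
  .node 569637356048 108 (.node 569605897777 3576 (.node 569603804719 5167 (.node 569603737135 2459 (.node 569602783759 3043 (.node 569602722321 2947 (.node 569602722319 3555 (.node 569602722257 4452 (.nil) (.nil)) (.nil)) (.node 569602783697 3752 (.node 569602722383 4098 (.nil) (.nil)) (.nil))) (.node 569602785807 1275 (.node 569602783823 4582 (.node 569602783761 3515 (.nil) (.nil)) (.nil)) (.node 569603737073 3044 (.node 569602785809 1507 (.nil) (.nil)) (.nil)))) (.node 569603800625 1011 (.node 569603800559 1363 (.node 569603798575 3763 (.node 569603798513 5521 (.nil) (.nil)) (.nil)) (.node 569603800623 883 (.node 569603800561 755 (.nil) (.nil)) (.nil))) (.node 569603802671 659 (.node 569603802609 547 (.node 569603802607 1155 (.nil) (.nil)) (.nil)) (.node 569603804657 4147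 (.node 569603802673 1267 (.nil) (.nil)) (.nil))))) (.node 569604880913 1715 (.node 569604817425 644 (.node 569604817361 3354 (.node 569603866159 2903 (.node 569603866097 2795 (.nil) (.nil)) (.nil)) (.node 569604817423 539 (.node 569604817421 6000 (.nil) (.nil)) (.nil))) (.node 569604819471 1859 (.node 569604817487 2788 (.node 569604817427 5576 (.nil) (.nil)) (.nil)) (.node 569604880911 1955 (.node 569604819473 2099 (.nil) (.nil)) (.nil)))) (.node 569604883023 3216 (.node 569604882959 743 (.node 569604882957 5234 (.node 569604882897 2450 (.nil) (.nil)) (.nil)) (.node 569604882963 5883 (.node 569604882961 875 (.nil) (.nil)) (.nil))) (.node 569605897711 3234 (.node 569605834289 5951 (.node 569605834223 4554 (.nil) (.nil)) (.nil)) (.node 569605897775 2256 (.node 569605897713 2154 (.nil) (.nil)) (.nil)))))) (.node 569636275696 661 (.node 569635256848 2563 (.node 569605963313 4656 (.node 569605899823 2016 (.node 569605899761 2225 (.node 569605899759 3554 (.nil) (.nil)) (.nil))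 (.node 569605963247 6089 (.node 569605899825 3336 (.nil) (.nil)) (.nil))) (.node 569634242032 4075 (.node 569634178608 3955 (.node 569634178544 4195 (.nil) (.nil)) (.nil)) (.node 569635256846 3643 (.node 569634242096 3835 (.nil) (.nil)) (.nil)))) (.node 569635260944 2707 (.node 569635258896 475 (.node 569635258894 2475 (.node 569635256850 3651 (.nil) (.nil)) (.nil)) (.node 569635260942 3675 (.node 569635258898 2811 (.nil) (.nil)) (.nil))) (.node 569636273650 2931 (.node 569636273648 1123 (.node 569635260946 3667 (.nil) (.nil)) (.nil)) (.node 569636273712 1588 (.node 569636273710 3283 (.nil) (.nil)) (.nil))))) (.node 569637290450 3644 (.node 569636339246 2183 (.node 569636275760 498 (.node 569636275758 1755 (.node 569636275698 2227 (.nil) (.nil)) (.nil)) (.node 569636339186 1851 (.node 569636339184 872 (.nil) (.nil)) (.nil))) (.node 569636341234 3187 (.node 569636341232 1635 (.node 569636339248 757 (.nil) (.nil)) (.nil)) (.node 569636341296 1027 (.node 569636341294 3075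 (.nil) (.nil)) (.nil)))) (.node 569637353998 2683 (.node 569637292496 4861 (.node 569637290574 3628 (.node 569637290512 1004 (.nil) (.nil)) (.nil)) (.node 569637292624 4698 (.node 569637292560 1979 (.nil) (.nil)) (.nil))) (.node 569637355984 1311 (.node 569637354002 2451 (.node 569637354000 403 (.nil) (.nil)) (.nil)) (.node 569637356046 435 (.node 569637355986 1730 (.nil) (.nil)) (.nil))))))) (.node 569668814319 3195 (.node 569638436400 708 (.node 569637421646 3623 (.node 569637358098 2587 (.node 569637356112 1417 (.node 569637356110 1828 (.node 569637356050 411 (.nil) (.nil)) (.nil)) (.node 569637358096 427 (.node 569637358094 2835 (.nil) (.nil)) (.nil))) (.node 569637419600 4957 (.node 569637419536 2075 (.node 569637419472 5072 (.nil) (.nil)) (.nil)) (.node 569637421584 1103 (.node 569637421522 3650 (.nil) (.nil)) (.nil)))) (.node 569638372850 1844 (.node 569638370862 2908 (.node 569638370802 3164 (.node 569638370800 1484 (.nil) (.nil)) (.nil)) (.node 569638372848 828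 (.node 569638370864 1108 (.nil) (.nil)) (.nil))) (.node 569638436336 588 (.node 569638372912 948 (.node 569638372910 2354 (.nil) (.nil)) (.nil)) (.node 569638436398 1703 (.node 569638436338 2330 (.nil) (.nil)) (.nil))))) (.node 569639455248 2465 (.node 569639451152 2801 (.node 569638438446 3263 (.node 569638438386 3050 (.node 569638438384 1010 (.nil) (.nil)) (.nil)) (.node 569639451150 3641 (.node 569638438448 1505 (.nil) (.nil)) (.nil))) (.node 569639453200 468 (.node 569639453198 2594 (.node 569639451154 3656 (.nil) (.nil)) (.nil)) (.node 569639455246 3674 (.node 569639453202 2696 (.nil) (.nil)) (.nil)))) (.node 569668748783 4021 (.node 569640470064 5345 (.node 569640470000 6074 (.node 569639455250 3665 (.nil) (.nil)) (.nil)) (.node 569640533552 5936 (.node 569640533488 5441 (.nil) (.nil)) (.nil))) (.node 569668812273 2391 (.node 569668812271 3471 (.node 569668748849 4388 (.nil) (.nil)) (.nil)) (.node 569668812337 3291 (.node 569668812335 2083 (.nil) (.nil)) (.nil))))))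 (.node 569670907377 5401 (.node 569669831183 2115 (.node 569669829073 2631 (.node 569668814385 3427 (.node 569668814383 2355 (.node 569668814321 1987 (.nil) (.nil)) (.nil)) (.node 569668877873 3877 (.node 569668877807 4292 (.nil) (.nil)) (.nil))) (.node 569669829137 771 (.node 569669829135 951 (.node 569669829133 5836 (.nil) (.nil)) (.nil)) (.node 569669829199 3148 (.node 569669829139 3891 (.nil) (.nil)) (.nil)))) (.node 569669894671 675 (.node 569669892625 1971 (.node 569669892623 1843 (.node 569669831185 1747 (.nil) (.nil)) (.nil)) (.node 569669894669 4035 (.node 569669894609 3290 (.nil) (.nil)) (.nil))) (.node 569669894735 2737 (.node 569669894675 5692 (.node 569669894673 577 (.nil) (.nil)) (.nil)) (.node 569670845999 3060 (.node 569670845937 2684 (.nil) (.nil)) (.nil))))) (.node 569670974961 2916 (.node 569670911471 1431 (.node 569670909425 711 (.node 569670909423 1071 (.node 569670907439 5784 (.nil) (.nil)) (.nil)) (.node 569670909489 1297 (.node 569670909487 508 (.nil)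 (.nil)) (.nil))) (.node 569670911537 1177 (.node 569670911535 817 (.node 569670911473 890 (.nil) (.nil)) (.nil)) (.node 569670913583 5287 (.node 569670913521 5650 (.nil) (.nil)) (.nil)))) (.node 569671928337 3425 (.node 569671926289 1620 (.node 569671926287 1260 (.node 569670975023 2543 (.nil) (.nil)) (.nil)) (.node 569671928335 2940 (.node 569671928273 5290 (.nil) (.nil)) (.nil))) (.node 569671989775 3396 (.node 569671989713 4236 (.node 569671928399 4380 (.nil) (.nil)) (.nil)) (.node 569671989839 5424 (.node 569671989777 3036 (.nil) (.nil)) (.nil)))))))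

/-- Index of a small icosian., part 40. -/
def elDictPart40 : Dict :=
  .node 570777157135 5151 (.node 570710048273 2691 (.node 570676494834 4371 (.node 569703448112 2497 (.node 569702433296 4972 (.node 569702367696 3711 (.node 569702302224 4876 (.node 569671991825 1356 (.nil) (.nil)) (.nil)) (.node 569702367824 3697 (.node 569702367760 2257 (.nil) (.nil)) (.nil))) (.node 569703384560 2871 (.node 569703382574 4396 (.node 569703382514 5524 (.nil) (.nil)) (.nil)) (.node 569703448048 3516 (.node 569703384624 3577 (.nil) (.nil)) (.nil)))) (.node 569704464974 5017 (.node 569704401424 3660 (.node 569703450158 5174 (.node 569703450098 4252 (.nil) (.nil)) (.nil)) (.node 569704464912 1500 (.node 569704464850 4911 (.nil) (.nil)) (.nil))) (.node 570645036561 4955 (.node 570645036559 5748 (.node 569704528400 3636 (.nil) (.nil)) (.nil)) (.node 570645038609 5868 (.node 570645038607 4859 (.nil) (.nil)) (.nil))))) (.node 570678594032 5508 (.node 570677575184 3275 (.node 570677511696 3179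 (.node 570677511694 3915 (.node 570676494894 4275 (.nil) (.nil)) (.nil)) (.node 570677575182 5563 (.node 570677511698 5227 (.nil) (.nil)) (.nil))) (.node 570678590000 5388 (.node 570678589936 5268 (.node 570677575186 4011 (.nil) (.nil)) (.nil)) (.node 570678592048 3108 (.node 570678591984 2988 (.nil) (.nil)) (.nil)))) (.node 570709033457 5947 (.node 570679674384 4428 (.node 570679606800 4308 (.node 570678594096 5628 (.nil) (.nil)) (.nil)) (.node 570708967983 6043 (.node 570708967921 5451 (.nil) (.nil)) (.nil))) (.node 570709984785 5084 (.node 570709984783 5939 (.node 570709033519 5355 (.nil) (.nil)) (.nil)) (.node 570710048271 2803 (.node 570710048209 5391 (.nil) (.nil)) (.nil)))))) (.node 570712147473 2868 (.node 570711128559 4363 (.node 570710113807 4703 (.node 570710050319 2595 (.node 570710050257 4970 (.node 570710048335 4828 (.nil) (.nil)) (.nil)) (.node 570710050383 5497 (.node 570710050321 2467 (.nil) (.nil)) (.nil))) (.node 570711065135 3468 (.node 570711065073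 3588 (.node 570710113809 6035 (.nil) (.nil)) (.nil)) (.node 570711067185 4267 (.node 570711067119 4635 (.nil) (.nil)) (.nil)))) (.node 570712145361 4788 (.node 570711130671 3503 (.node 570711130609 3410 (.node 570711128625 4491 (.nil) (.nil)) (.nil)) (.node 570712081937 4004 (.node 570712081935 5028 (.nil) (.nil)) (.nil))) (.node 570712145487 4108 (.node 570712145425 2628 (.node 570712145423 2508 (.nil) (.nil)) (.nil)) (.node 570712147471 2748 (.node 570712147409 3770 (.nil) (.nil)) (.nil))))) (.node 570743603696 3111 (.node 570713227761 4188 (.node 570712210961 4908 (.node 570712210959 3863 (.node 570712147535 5148 (.nil) (.nil)) (.nil)) (.node 570713162287 3828 (.node 570713162225 3948 (.nil) (.nil)) (.nil))) (.node 570742588944 4507 (.node 570742521360 4603 (.node 570713227823 4068 (.nil) (.nil)) (.nil)) (.node 570743601712 5737 (.node 570743601648 4123 (.nil) (.nil)) (.nil)))) (.node 570744620562 6108 (.node 570743605808 3787 (.node 570743605744 5871 (.node 570743603760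 2977 (.nil) (.nil)) (.nil)) (.node 570744620560 3348 (.node 570744620558 5700 (.nil) (.nil)) (.nil))) (.node 570744684050 5796 (.node 570744684048 3228 (.node 570744684046 5988 (.nil) (.nil)) (.nil)) (.node 570745700910 4548 (.node 570745700850 4668 (.nil) (.nil)) (.nil))))))) (.node 598629401168 5735 (.node 598594896401 5319 (.node 598593748527 5071 (.node 598561275440 4415 (.node 570777159185 4777 (.node 570777159183 5631 (.node 570777157137 5257 (.nil) (.nil)) (.nil)) (.node 598561275376 3953 (.node 571784839696 3708 (.nil) (.nil)) (.nil))) (.node 598592733711 5734 (.node 598561277488 4055 (.node 598561277424 4313 (.nil) (.nil)) (.nil)) (.node 598593748465 6011 (.node 598592733713 5830 (.nil) (.nil)) (.nil)))) (.node 598593816111 5905 (.node 598593813999 4839 (.node 598593750577 4940 (.node 598593750511 5540 (.nil) (.nil)) (.nil)) (.node 598593816049 4727 (.node 598593814065 5199 (.nil) (.nil)) (.nil))) (.node 598594830863 2159 (.node 598594765329 4571 (.node 598594765327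 5420 (.nil) (.nil)) (.nil)) (.node 598594896399 4465 (.node 598594830865 2039 (.nil) (.nil)) (.nil))))) (.node 598627371536 6062 (.node 598627303888 5261 (.node 598595913199 4992 (.node 598595845681 4854 (.node 598595845615 4193 (.nil) (.nil)) (.nil)) (.node 598627301904 5966 (.node 598595913265 3815 (.nil) (.nil)) (.nil))) (.node 598627369424 4607 (.node 598627304016 4471 (.node 598627303952 1919 (.nil) (.nil)) (.nil)) (.node 598627369552 5598 (.node 598627369488 1799 (.nil) (.nil)) (.nil)))) (.node 598628386288 2399 (.node 598628384304 2367 (.node 598628384240 2261 (.node 598628384238 5368 (.nil) (.nil)) (.nil)) (.node 598628386286 3792 (.node 598628384306 4134 (.nil) (.nil)) (.nil))) (.node 598629399056 4048 (.node 598628386354 5464 (.node 598628386352 2279 (.nil) (.nil)) (.nil)) (.node 598629401104 1765 (.node 598629401040 4433 (.nil) (.nil)) (.nil)))))) (.node 598664036881 5214 (.node 598661939729 2109 (.node 598660857393 5367 (.node 598629466704 4295 (.node 598629466640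 1907 (.node 598629466576 5873 (.nil) (.nil)) (.nil)) (.node 598660857327 4781 (.node 598629468688 3904 (.nil) (.nil)) (.nil))) (.node 598661874191 4285 (.node 598660924977 5118 (.node 598660924911 5463 (.nil) (.nil)) (.nil)) (.node 598661939727 2013 (.node 598661874193 3805 (.nil) (.nil)) (.nil)))) (.node 598662956593 5824 (.node 598662954481 5005 (.node 598662005265 4427 (.node 598662005263 4187 (.nil) (.nil)) (.nil)) (.node 598662956527 5112 (.node 598662954543 3925 (.nil) (.nil)) (.nil))) (.node 598663022065 4067 (.node 598663020081 4734 (.node 598663020015 5728 (.nil) (.nil)) (.nil)) (.node 598664036879 5592 (.node 598663022127 4907 (.nil) (.nil)) (.nil))))) (.node 599635049999 3159 (.node 599602513424 6020 (.node 598695495152 5973 (.node 598695493168 6069 (.node 598695493104 4533 (.nil) (.nil)) (.nil)) (.node 599602511376 5919 (.node 598695495216 4629 (.nil) (.nil)) (.nil))) (.node 599634986513 3260 (.node 599634986511 2780 (.node 599634986449 3833 (.nil) (.nil)) (.nil))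 (.node 599635049937 3999 (.node 599634986575 3860 (.nil) (.nil)) (.nil)))) (.node 599636064817 5495 (.node 599636001265 5831 (.node 599635050063 4175 (.node 599635050001 2439 (.nil) (.nil)) (.nil)) (.node 599636064751 4673 (.node 599636001327 3793 (.nil) (.nil)) (.nil))) (.node 599636066863 1895 (.node 599636066801 1793 (.node 599636066799 2633 (.nil) (.nil)) (.nil)) (.node 599636066865 2735 (.nil) (.nil)))))))

/-- Index of a small icosian., part 41. -/
def elDictPart41 : Dict :=
  .node 569671991823 1634 (elDictPart39) (elDictPart40)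

/-- Index of a small icosian., part 42. -/
def elDictPart42 : Dict :=
  .node 599701078513 359 (.node 599669556816 5536 (.node 599667588624 2559 (.node 599667459598 4340 (.node 599666444784 5060 (.node 599636132399 5729 (.node 599636132337 4135 (.node 599636068913 4535 (.nil) (.nil)) (.nil)) (.node 599666442798 5254 (.node 599666442738 4853 (.nil) (.nil)) (.nil))) (.node 599666506288 4719 (.node 599666506224 4119 (.node 599666444848 3740 (.nil) (.nil)) (.nil)) (.node 599666508334 4997 (.node 599666508274 5590 (.nil) (.nil)) (.nil)))) (.node 599667523090 3173 (.node 599667521040 4526 (.node 599667459602 5710 (.node 599667459600 2660 (.nil) (.nil)) (.nil)) (.node 599667523088 519 (.node 599667523086 2974 (.nil) (.nil)) (.nil))) (.node 599667525138 3070 (.node 599667525136 860 (.node 599667525134 3317 (.nil) (.nil)) (.nil)) (.node 599667588622 5854 (.node 599667527184 4622 (.nil) (.nil)) (.nil))))) (.node 599668603374 5494 (.node 599668539950 2254 (.node 599668537902 5551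 (.node 599668537842 4685 (.node 599667588626 4239 (.nil) (.nil)) (.nil)) (.node 599668539890 2051 (.node 599668539888 473 (.nil) (.nil)) (.nil))) (.node 599668541936 2223 (.node 599668541934 4743 (.node 599668539952 740 (.nil) (.nil)) (.nil)) (.node 599668542002 5350 (.node 599668542000 1700 (.nil) (.nil)) (.nil)))) (.node 599668605486 1945 (.node 599668603442 5127 (.node 599668603440 2199 (.node 599668603376 1839 (.nil) (.nil)) (.nil)) (.node 599668605426 2207 (.node 599668605424 639 (.nil) (.nil)) (.nil))) (.node 599668607534 5053 (.node 599668607474 5207 (.node 599668605488 455 (.nil) (.nil)) (.nil)) (.node 599669556752 2365 (.node 599669556688 4073 (.nil) (.nil)) (.nil)))))) (.node 599670704624 5987 (.node 599669685776 2319 (.node 599669622224 3113 (.node 599669620240 328 (.node 599669620238 2368 (.node 599669620176 2873 (.nil) (.nil)) (.nil)) (.node 599669620304 2975 (.node 599669620242 1854 (.nil) (.nil)) (.nil))) (.node 599669622290 2350 (.node 599669622288 335 (.node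 599669622286 1752 (.nil) (.nil)) (.nil)) (.node 599669685712 5194 (.node 599669622352 2495 (.nil) (.nil)) (.nil)))) (.node 599670637104 2125 (.node 599670635056 6085 (.node 599670634992 5128 (.node 599669685840 3935 (.nil) (.nil)) (.nil)) (.node 599670637040 1913 (.node 599670637038 4913 (.nil) (.nil)) (.nil))) (.node 599670702576 2027 (.node 599670702574 4049 (.node 599670637106 3911 (.nil) (.nil)) (.nil)) (.node 599670702642 5015 (.node 599670702640 1775 (.nil) (.nil)) (.nil))))) (.node 599700063697 3887 (.node 599699996177 3444 (.node 599698981425 4613 (.node 599698981359 4517 (.node 599670704688 4744 (.nil) (.nil)) (.nil)) (.node 599699996175 3206 (.node 599699996113 4301 (.nil) (.nil)) (.nil))) (.node 599699998225 2364 (.node 599699998223 1997 (.node 599699996239 3991 (.nil) (.nil)) (.nil)) (.node 599700061713 2093 (.node 599700061711 2366 (.nil) (.nil)) (.nil)))) (.node 599701076463 3581 (.node 599700063823 4398 (.node 599700063761 3302 (.node 599700063759 3437 (.nil)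 (.nil)) (.nil)) (.node 599701013039 3564 (.node 599701012977 2771 (.nil) (.nil)) (.nil))) (.node 599701076529 3087 (.node 599701076527 2006 (.node 599701076465 1781 (.nil) (.nil)) (.nil)) (.node 599701078511 783 (.node 599701078449 5741 (.nil) (.nil)) (.nil))))))) (.node 599703177775 2118 (.node 599702158865 327 (.node 599702093265 2501 (.node 599701080623 1878 (.node 599701078639 5838 (.node 599701078577 687 (.node 599701078575 271 (.nil) (.nil)) (.nil)) (.node 599701080561 2102 (.node 599701080559 2943 (.nil) (.nil)) (.nil))) (.node 599701144111 2425 (.node 599701144049 3527 (.node 599701080625 3542 (.nil) (.nil)) (.nil)) (.node 599702029841 4091 (.node 599702029839 5365 (.nil) (.nil)) (.nil)))) (.node 599702095313 1983 (.node 599702093329 925 (.node 599702093327 688 (.node 599702093325 4440 (.nil) (.nil)) (.nil)) (.node 599702093391 2671 (.node 599702093331 4374 (.nil) (.nil)) (.nil))) (.node 599702095439 1951 (.node 599702095377 325 (.node 599702095375 312 (.nil) (.nil))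 (.nil)) (.node 599702158863 265 (.node 599702158801 2087 (.nil) (.nil)) (.nil))))) (.node 599703173615 3088 (.node 599702160915 4563 (.node 599702160909 4272 (.node 599702160849 2567 (.node 599702158927 2127 (.nil) (.nil)) (.nil)) (.node 599702160913 784 (.node 599702160911 587 (.nil) (.nil)) (.nil))) (.node 599702224401 5507 (.node 599702224399 3745 (.node 599702160975 2838 (.nil) (.nil)) (.nil)) (.node 599703110191 2605 (.node 599703110129 3445 (.nil) (.nil)) (.nil)))) (.node 599703175665 347 (.node 599703173681 3447 (.node 599703173679 1888 (.node 599703173617 2021 (.nil) (.nil)) (.nil)) (.node 599703175663 912 (.node 599703175601 5633 (.nil) (.nil)) (.nil))) (.node 599703175791 5255 (.node 599703175729 534 (.node 599703175727 266 (.nil) (.nil)) (.nil)) (.node 599703177713 1744 (.node 599703177711 3432 (.nil) (.nil)) (.nil)))))) (.node 599733617134 5117 (.node 599704258001 4547 (.node 599704190481 3325 (.node 599703241263 3385 (.node 599703241201 2747 (.node 599703177777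 2944 (.nil) (.nil)) (.nil)) (.node 599704190479 3565 (.node 599704190417 5981 (.nil) (.nil)) (.nil))) (.node 599704192529 2005 (.node 599704192527 2245 (.node 599704190543 4645 (.nil) (.nil)) (.nil)) (.node 599704256017 2214 (.node 599704256015 2147 (.nil) (.nil)) (.nil)))) (.node 599733549552 3941 (.node 599704258127 6078 (.node 599704258065 3544 (.node 599704258063 3227 (.nil) (.nil)) (.nil)) (.node 599705272881 4436 (.node 599705272815 4316 (.nil) (.nil)) (.nil))) (.node 599733551600 2152 (.node 599733551598 6112 (.node 599733549616 5004 (.nil) (.nil)) (.nil)) (.node 599733551666 4733 (.node 599733551664 1764 (.nil) (.nil)) (.nil))))) (.node 599734631954 2213 (.node 599734568400 5771 (.node 599733617202 5978 (.node 599733617200 2018 (.node 599733617136 1906 (.nil) (.nil)) (.nil)) (.node 599733619248 4038 (.node 599733619184 4906 (.nil) (.nil)) (.nil))) (.node 599734631888 2981 (.node 599734568528 5911 (.node 599734568464 2244 (.nil) (.nil)) (.nil)) (.node 599734631952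 333 (.node 599734631950 1773 (.nil) (.nil)) (.nil)))) (.node 599734634064 3078 (.node 599734633998 2253 (.node 599734633936 2703 (.node 599734632016 2607 (.nil) (.nil)) (.nil)) (.node 599734634002 1869 (.node 599734634000 318 (.nil) (.nil)) (.nil))) (.node 599734697552 5665 (.node 599734697488 2198 (.node 599734697424 6047 (.nil) (.nil)) (.nil)) (.node 599735646706 5814 (.nil) (.nil)))))))

/-- Index of a small icosian., part 43. -/
def elDictPart43 : Dict :=
  .node 600710858224 2393 (.node 599768187441 2829 (.node 599736729104 805 (.node 599735712306 3807 (.node 599735650800 1863 (.node 599735648814 2133 (.node 599735648754 2349 (.node 599735648752 581 (.nil) (.nil)) (.nil)) (.node 599735650798 4143 (.node 599735648816 445 (.nil) (.nil)) (.nil))) (.node 599735712238 5013 (.node 599735650866 4869 (.node 599735650864 2358 (.nil) (.nil)) (.nil)) (.node 599735712304 1767 (.node 599735712240 2318 (.nil) (.nil)) (.nil)))) (.node 599735716398 5712 (.node 599735714350 2305 (.node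 599735714290 1989 (.node 599735714288 467 (.nil) (.nil)) (.nil)) (.node 599735716338 4984 (.node 599735714352 918 (.nil) (.nil)) (.nil))) (.node 599736665618 4525 (.node 599736665616 2485 (.node 599736665614 5245 (.nil) (.nil)) (.nil)) (.node 599736729102 3333 (.node 599736727056 4408 (.nil) (.nil)) (.nil))))) (.node 599737748016 4936 (.node 599736794638 4667 (.node 599736731152 707 (.node 599736731150 3072 (.node 599736729106 2934 (.nil) (.nil)) (.nil)) (.node 599736733200 4264 (.node 599736731154 3189 (.nil) (.nil)) (.nil))) (.node 599737745906 5694 (.node 599736794642 5627 (.node 599736794640 2867 (.nil) (.nil)) (.nil)) (.node 599737747952 5458 (.node 599737745966 4765 (.nil) (.nil)) (.nil)))) (.node 599768121903 5539 (.node 599737811442 5147 (.node 599737809456 5320 (.node 599737809392 4834 (.nil) (.nil)) (.nil)) (.node 599768121841 5411 (.node 599737811502 5832 (.nil) (.nil)) (.nil))) (.node 599768187375 2493 (.node 599768185393 4287 (.node 599768185327 3813 (.nil)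 (.nil)) (.nil)) (.node 599768187439 1893 (.node 599768187377 1749 (.nil) (.nil)) (.nil)))))) (.node 600708759088 982 (.node 599769267791 5904 (.node 599769204239 3213 (.node 599768252913 5198 (.node 599768189489 4149 (.node 599768189423 4383 (.nil) (.nil)) (.nil)) (.node 599769204177 6010 (.node 599768252975 5305 (.nil) (.nil)) (.nil))) (.node 599769267665 5318 (.node 599769204303 5419 (.node 599769204241 2589 (.nil) (.nil)) (.nil)) (.node 599769267729 3309 (.node 599769267727 2733 (.nil) (.nil)) (.nil)))) (.node 600676285999 5062 (.node 600676222449 4692 (.node 599801742864 3909 (.node 599801740816 4053 (.nil) (.nil)) (.nil)) (.node 600676285937 4479 (.node 600676222511 4580 (.nil) (.nil)) (.nil))) (.node 600708759024 1565 (.node 600708695598 4100 (.node 600708695538 5591 (.nil) (.nil)) (.nil)) (.node 600708759086 3574 (.node 600708759026 2525 (.nil) (.nil)) (.nil))))) (.node 600709778000 5975 (.node 600708824622 5249 (.node 600708761134 2653 (.node 600708761074 3492 (.node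 600708761072 1092 (.nil) (.nil)) (.nil)) (.node 600708824562 3759 (.node 600708761136 1630 (.nil) (.nil)) (.nil))) (.node 600709775890 2831 (.node 600709775888 913 (.node 600709775886 3073 (.nil) (.nil)) (.nil)) (.node 600709777936 2060 (.node 600709777872 4092 (.nil) (.nil)) (.nil)))) (.node 600709841426 2935 (.node 600709839440 3742 (.node 600709839376 1959 (.node 600709839312 6113 (.nil) (.nil)) (.nil)) (.node 600709841424 535 (.node 600709841422 2489 (.nil) (.nil)) (.nil))) (.node 600710856240 2382 (.node 600710856176 2153 (.node 600710856174 5833 (.nil) (.nil)) (.nil)) (.node 600710858222 4529 (.node 600710856242 4631 (.nil) (.nil)) (.nil))))))) (.node 600742316561 670 (.node 600741297713 1477 (.node 600741232175 1462 (.node 600740217361 1390 (.node 600740153871 3980 (.node 600710858290 5695 (.node 600710858288 2015 (.nil) (.nil)) (.nil)) (.node 600740217359 1294 (.node 600740153873 4460 (.nil) (.nil)) (.nil))) (.node 600741232113 1085 (.node 600740280849 3879 (.node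 600740280847 4599 (.nil) (.nil)) (.nil)) (.node 600741232173 4774 (.node 600741232115 3845 (.nil) (.nil)) (.nil)))) (.node 600741236273 4742 (.node 600741234223 380 (.node 600741234161 732 (.node 600741234159 1534 (.nil) (.nil)) (.nil)) (.node 600741236207 5223 (.node 600741234225 1270 (.nil) (.nil)) (.nil))) (.node 600741297647 1414 (.node 600741295665 5607 (.node 600741295599 5126 (.nil) (.nil)) (.nil)) (.node 600741297711 622 (.node 600741297649 399 (.nil) (.nil)) (.nil))))) (.node 600742312465 601 (.node 600742248977 1391 (.node 600741299757 3973 (.node 600741299699 5110 (.node 600741299697 1546 (.nil) (.nil)) (.nil)) (.node 600742248975 1033 (.node 600741299759 973 (.nil) (.nil)) (.nil))) (.node 600742312401 3461 (.node 600742251025 1940 (.node 600742251023 1820 (.nil) (.nil)) (.nil)) (.node 600742312463 814 (.node 600742312461 3720 (.nil) (.nil)) (.nil)))) (.node 600742314513 70 (.node 600742314449 953 (.node 600742312527 2422 (.node 600742312467 5933 (.nil) (.nil))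 (.nil)) (.node 600742314511 94 (.node 600742314509 3360 (.nil) (.nil)) (.nil))) (.node 600742316497 2772 (.node 600742314575 575 (.node 600742314515 3430 (.nil) (.nil)) (.nil)) (.node 600742316559 727 (.node 600742316557 6077 (.nil) (.nil)) (.nil)))))) (.node 600743394927 4775 (.node 600743329329 1151 (.node 600742380049 1135 (.node 600742377999 2079 (.node 600742316623 3373 (.node 600742316563 4083 (.nil) (.nil)) (.nil)) (.node 600742380047 1289 (.node 600742378001 1719 (.nil) (.nil)) (.nil))) (.node 600743329263 1393 (.node 600743265839 4513 (.node 600743265777 4811 (.nil) (.nil)) (.nil)) (.node 600743329327 433 (.node 600743329265 485 (.nil) (.nil)) (.nil)))) (.node 600743331439 4336 (.node 600743331313 353 (.node 600743331311 713 (.node 600743331249 5153 (.nil) (.nil)) (.nil)) (.node 600743331377 431 (.node 600743331375 313 (.nil) (.nil)) (.nil))) (.node 600743394801 279 (.node 600743394799 449 (.node 600743394737 4234 (.nil) (.nil)) (.nil)) (.node 600743394865 815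 (.node 600743394863 262 (.nil) (.nil)) (.nil))))) (.node 600744409617 1782 (.node 600743460399 4945 (.node 600743396911 853 (.node 600743396849 415 (.node 600743396847 1049 (.nil) (.nil)) (.nil)) (.node 600743460337 4615 (.node 600743396913 1255 (.nil) (.nil)) (.nil))) (.node 600744346129 2951 (.node 600744346127 2713 (.node 600744346065 6058 (.nil) (.nil)) (.nil)) (.node 600744409615 2262 (.node 600744346191 5776 (.nil) (.nil)) (.nil)))) (.node 600744413713 2224 (.node 600744411665 342 (.node 600744411663 329 (.node 600744411601 2208 (.nil) (.nil)) (.nil)) (.node 600744413711 1879 (.node 600744411727 2255 (.nil) (.nil)) (.nil))) (.node 600744477201 2575 (.node 600744477199 3089 (.node 600744477137 5674 (.nil) (.nil)) (.nil)) (.node 600744477263 5920 (.nil) (.nil)))))))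

/-- Index of a small icosian., part 44. -/
def elDictPart44 : Dict :=
  .node 599735646766 4888 (elDictPart42) (elDictPart43)

/-- Index of a small icosian., part 45. -/
def elDictPart45 : Dict :=
  .node 599636068847 5393 (elDictPart41) (elDictPart44)

/-- Index of a small icosian., part 46. -/
def elDictPart46 : Dict :=
  .node 569602720273 1371 (elDictPart38) (elDictPart45)

/-- Index of a small icosian., part 47. -/
def elDictPart47 : Dict :=
  .node 600776948238 1941 (.node 600774853134 917 (.node 600773836272 2746 (.node 600773768688 4046 (.node 600772690450 4133 (.node 600745494065 5335 (.node 600745493999 5129 (.node 600745426481 4751 (.nil) (.nil)) (.nil)) (.node 600772690448 3084 (.node 600772690446 5844 (.nil) (.nil)) (.nil))) (.node 600772755986 5746 (.node 600772755984 2986 (.node 600772755982 3797 (.nil) (.nil)) (.nil)) (.node 600773707312 2604 (.node 600773707248 3301 (.nil) (.nil)) (.nil)))) (.node 600773772784 586 (.node 600773770738 1853 (.node 600773770736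 686 (.node 600773768752 5847 (.nil) (.nil)) (.nil)) (.node 600773770800 924 (.node 600773770798 2126 (.nil) (.nil)) (.nil))) (.node 600773772848 782 (.node 600773772846 1757 (.node 600773772786 1982 (.nil) (.nil)) (.nil)) (.node 600773774896 3902 (.node 600773774832 5703 (.nil) (.nil)) (.nil))))) (.node 600774789584 2463 (.node 600774787538 2206 (.node 600774785552 1561 (.node 600774785490 3821 (.node 600773836336 3157 (.nil) (.nil)) (.nil)) (.node 600774787536 1301 (.node 600774785614 4351 (.nil) (.nil)) (.nil))) (.node 600774787602 533 (.node 600774787600 84 (.node 600774787598 574 (.nil) (.nil)) (.nil)) (.node 600774787664 1647 (.node 600774787662 1831 (.nil) (.nil)) (.nil)))) (.node 600774851086 2181 (.node 600774789650 2222 (.node 600774789648 260 (.node 600774789646 2117 (.nil) (.nil)) (.nil)) (.node 600774851024 3152 (.node 600774789712 3258 (.nil) (.nil)) (.nil))) (.node 600774851152 2847 (.node 600774851090 1973 (.node 600774851088 326 (.nil) (.nil)) (.nil)) (.node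 600774853074 1727 (.node 600774853072 1592 (.nil) (.nil)) (.nil)))))) (.node 600775870000 78 (.node 600775865840 3341 (.node 600774855184 1666 (.node 600774853198 2185 (.node 600774853138 910 (.node 600774853136 106 (.nil) (.nil)) (.nil)) (.node 600774855122 4247 (.node 600774853200 1398 (.nil) (.nil)) (.nil))) (.node 600775804402 1811 (.node 600775804400 898 (.node 600774855246 4158 (.nil) (.nil)) (.nil)) (.node 600775804464 685 (.node 600775804462 1695 (.nil) (.nil)) (.nil)))) (.node 600775867952 87 (.node 600775867888 101 (.node 600775867886 960 (.node 600775865904 3121 (.nil) (.nil)) (.nil)) (.node 600775867950 240 (.node 600775867890 341 (.nil) (.nil)) (.nil))) (.node 600775869936 63 (.node 600775869934 1143 (.node 600775867954 1047 (.nil) (.nil)) (.nil)) (.node 600775869998 253 (.node 600775869938 310 (.nil) (.nil)) (.nil))))) (.node 600776884690 1728 (.node 600775933486 1705 (.node 600775872048 3198 (.node 600775871984 3247 (.node 600775870002 1083 (.nil) (.nil))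 (.nil)) (.node 600775933426 1833 (.node 600775933424 827 (.nil) (.nil)) (.nil))) (.node 600776882704 1441 (.node 600776882642 4541 (.node 600775933488 520 (.nil) (.nil)) (.nil)) (.node 600776884688 1541 (.node 600776882766 5431 (.nil) (.nil)) (.nil)))) (.node 600776886736 3183 (.node 600776884754 791 (.node 600776884752 85 (.node 600776884750 735 (.nil) (.nil)) (.nil)) (.node 600776884816 1336 (.node 600776884814 2306 (.nil) (.nil)) (.nil))) (.node 600776886802 2048 (.node 600776886800 319 (.node 600776886798 2352 (.nil) (.nil)) (.nil)) (.node 600776948176 2554 (.node 600776886864 2656 (.nil) (.nil)) (.nil))))))) (.node 600807326225 324 (.node 600777967150 1946 (.node 600776952336 1547 (.node 600776950286 689 (.node 600776948304 3327 (.node 600776948242 2313 (.node 600776948240 261 (.nil) (.nil)) (.nil)) (.node 600776950226 2327 (.node 600776950224 1234 (.nil) (.nil)) (.nil))) (.node 600776950350 1826 (.node 600776950290 633 (.node 600776950288 107 (.nil) (.nil)) (.nil))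 (.node 600776952274 5327 (.node 600776950352 1480 (.nil) (.nil)) (.nil)))) (.node 600777965040 634 (.node 600777901616 3205 (.node 600777901552 2818 (.node 600776952398 4638 (.nil) (.nil)) (.nil)) (.node 600777963056 5881 (.node 600777962992 5608 (.nil) (.nil)) (.nil))) (.node 600777965104 866 (.node 600777965102 1706 (.node 600777965042 2088 (.nil) (.nil)) (.nil)) (.node 600777967090 1848 (.node 600777967088 528 (.nil) (.nil)) (.nil))))) (.node 600806243823 4886 (.node 600778981902 5396 (.node 600777969200 5224 (.node 600777969136 6007 (.node 600777967152 736 (.nil) (.nil)) (.nil)) (.node 600778030640 2440 (.node 600778030576 3347 (.nil) (.nil)) (.nil))) (.node 600779047438 5276 (.node 600778981906 5636 (.node 600778981904 3116 (.nil) (.nil)) (.nil)) (.node 600779047442 5516 (.node 600779047440 2996 (.nil) (.nil)) (.nil)))) (.node 600807260689 2484 (.node 600806311473 4982 (.node 600806311407 4186 (.node 600806243889 3804 (.nil) (.nil)) (.nil)) (.node 600807260687 2964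 (.node 600807260625 5531 (.nil) (.nil)) (.nil))) (.node 600807324177 2380 (.node 600807324175 1886 (.node 600807260751 3924 (.nil) (.nil)) (.nil)) (.node 600807326223 317 (.node 600807326161 2392 (.nil) (.nil)) (.nil)))))) (.node 600808406577 447 (.node 600808341039 804 (.node 600807391761 3106 (.node 600807328273 1742 (.node 600807328271 2357 (.node 600807326287 2310 (.nil) (.nil)) (.nil)) (.node 600807391759 2866 (.node 600807391697 4066 (.nil) (.nil)) (.nil))) (.node 600808277551 4764 (.node 600808277489 4331 (.node 600807391823 5185 (.nil) (.nil)) (.nil)) (.node 600808340977 461 (.node 600808340975 1181 (.nil) (.nil)) (.nil)))) (.node 600808343089 848 (.node 600808343023 423 (.node 600808342961 4503 (.node 600808341041 1287 (.nil) (.nil)) (.nil)) (.node 600808343087 255 (.node 600808343025 303 (.nil) (.nil)) (.nil))) (.node 600808406511 501 (.node 600808406449 4832 (.node 600808343151 4938 (.nil) (.nil)) (.nil)) (.node 600808406575 270 (.node 600808406513 346 (.nil)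 (.nil)) (.nil))))) (.node 600809421265 2741 (.node 600808472049 5146 (.node 600808408561 706 (.node 600808408559 1383 (.node 600808406639 4647 (.nil) (.nil)) (.nil)) (.node 600808408625 1038 (.node 600808408623 438 (.nil) (.nil)) (.nil))) (.node 600809357841 1045 (.node 600809357839 1285 (.node 600808472111 4225 (.nil) (.nil)) (.nil)) (.node 600809359889 1688 (.node 600809359887 1935 (.nil) (.nil)) (.nil)))) (.node 600809423313 768 (.node 600809421329 481 (.node 600809421327 933 (.node 600809421325 3960 (.nil) (.nil)) (.nil)) (.node 600809421391 3567 (.node 600809421331 5454 (.nil) (.nil)) (.nil))) (.node 600809423377 69 (.node 600809423375 93 (.node 600809423373 3573 (.nil) (.nil)) (.nil)) (.node 600809423439 626 (.node 600809423379 3483 (.nil) (.nil)) (.nil)))))))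

/-- Index of a small icosian., part 48. -/
def elDictPart48 : Dict :=
  .node 601784565201 3954 (.node 600841898512 2123 (.node 600810503727 386 (.node 600810438189 6093 (.node 600809486863 1821 (.node 600809425425 549 (.node 600809425423 847 (.node 600809425421 5352 (.nil) (.nil)) (.nil)) (.node 600809425487 2598 (.node 600809425427 3843 (.nil) (.nil)) (.nil))) (.node 600809488913 1427 (.node 600809488911 1187 (.node 600809486865 2073 (.nil) (.nil)) (.nil)) (.node 600810438131 4804 (.node 600810438129 1564 (.nil) (.nil)) (.nil)))) (.node 600810442223 4863 (.node 600810440177 408 (.node 600810440175 1378 (.node 600810438191 1165 (.nil) (.nil)) (.nil)) (.node 600810440241 1629 (.node 600810440239 565 (.nil) (.nil)) (.nil))) (.node 600810501681 5007 (.node 600810501615 5848 (.node 600810442289 5704 (.nil) (.nil)) (.nil)) (.node 600810503665 947 (.node 600810503663 1594 (.nil) (.nil)) (.nil))))) (.node 600840879598 4293 (.node 600811457039 4378 (.node 600810505715 5949 (.node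 600810505713 1067 (.node 600810503729 1240 (.nil) (.nil)) (.nil)) (.node 600810505775 1667 (.node 600810505773 4934 (.nil) (.nil)) (.nil))) (.node 600811520529 1436 (.node 600811520527 1316 (.node 600811457041 5965 (.nil) (.nil)) (.nil)) (.node 600811584017 4240 (.node 600811584015 6107 (.nil) (.nil)) (.nil)))) (.node 600840881712 2258 (.node 600840879666 5589 (.node 600840879664 2140 (.node 600840879600 2260 (.nil) (.nil)) (.nil)) (.node 600840881648 2003 (.node 600840881646 5253 (.nil) (.nil)) (.nil))) (.node 600841896464 693 (.node 600841896462 2613 (.node 600840881714 4389 (.nil) (.nil)) (.nil)) (.node 600841898448 4023 (.node 600841896466 3069 (.nil) (.nil)) (.nil)))))) (.node 601751011824 4314 (.node 600842976814 2853 (.node 600841962000 789 (.node 600841959952 2020 (.node 600841959888 5501 (.node 600841898576 5358 (.nil) (.nil)) (.nil)) (.node 600841961998 2973 (.node 600841960016 3927 (.nil) (.nil)) (.nil))) (.node 600842913326 5779 (.node 600842913266 5349 (.node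 600841962002 2709 (.nil) (.nil)) (.nil)) (.node 600842976754 3429 (.node 600842976752 1053 (.nil) (.nil)) (.nil)))) (.node 600843042290 5678 (.node 600842978802 2469 (.node 600842978800 1533 (.node 600842976816 1464 (.nil) (.nil)) (.nil)) (.node 600842978864 1149 (.node 600842978862 3374 (.nil) (.nil)) (.nil))) (.node 600875451951 4893 (.node 600875451889 4269 (.node 600843042350 5493 (.nil) (.nil)) (.nil)) (.node 600875515439 4413 (.node 600875515377 4989 (.nil) (.nil)) (.nil))))) (.node 601783486959 5459 (.node 601782472207 5579 (.node 601751077424 4416 (.node 601751077360 5009 (.node 601751011888 4871 (.nil) (.nil)) (.nil)) (.node 601782470161 1510 (.node 601782470159 1379 (.nil) (.nil)) (.nil))) (.node 601782531601 5195 (.node 601782531599 4342 (.node 601782472209 4212 (.nil) (.nil)) (.nil)) (.node 601782533649 1235 (.node 601782533647 1475 (.nil) (.nil)) (.nil)))) (.node 601783550511 733 (.node 601783548463 2662 (.node 601783548401 3125 (.node 601783487025 4031 (.nil)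 (.nil)) (.nil)) (.node 601783550449 605 (.node 601783550447 1314 (.nil) (.nil)) (.nil))) (.node 601783552559 3253 (.node 601783552497 2532 (.node 601783550513 1416 (.nil) (.nil)) (.nil)) (.node 601783614001 5315 (.node 601783613935 3929 (.nil) (.nil)) (.nil))))))) (.node 601816089010 4730 (.node 601815008722 3252 (.node 601813928434 4932 (.node 601784630799 1769 (.node 601784565327 5736 (.node 601784565265 3462 (.node 601784565263 2833 (.nil) (.nil)) (.nil)) (.node 601784567313 1871 (.node 601784567311 2239 (.nil) (.nil)) (.nil))) (.node 601784632847 3449 (.node 601784632785 5874 (.node 601784630801 2215 (.nil) (.nil)) (.nil)) (.node 601784632911 4056 (.node 601784632849 2455 (.nil) (.nil)) (.nil)))) (.node 601814943310 5418 (.node 601813989934 4822 (.node 601813989874 6005 (.node 601813928494 5893 (.nil) (.nil)) (.nil)) (.node 601814943248 1644 (.node 601814943186 5206 (.nil) (.nil)) (.nil))) (.node 601815006736 214 (.node 601815006734 1174 (.node 601815006674 2765 (.nil)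 (.nil)) (.nil)) (.node 601815006798 3142 (.node 601815006738 1611 (.nil) (.nil)) (.nil))))) (.node 601816023538 365 (.node 601815072272 1595 (.node 601815008786 1030 (.node 601815008784 132 (.node 601815008782 1654 (.nil) (.nil)) (.nil)) (.node 601815072210 5312 (.node 601815008846 2413 (.nil) (.nil)) (.nil))) (.node 601815960112 4979 (.node 601815960048 4621 (.node 601815072334 5550 (.nil) (.nil)) (.nil)) (.node 601816023536 234 (.node 601816023474 4325 (.nil) (.nil)) (.nil)))) (.node 601816025646 1933 (.node 601816023662 5068 (.node 601816023600 179 (.node 601816023598 673 (.nil) (.nil)) (.nil)) (.node 601816025586 1692 (.node 601816025584 372 (.nil) (.nil)) (.nil))) (.node 601816087026 2045 (.node 601816087024 515 (.node 601816025648 899 (.nil) (.nil)) (.nil)) (.node 601816087088 382 (.node 601816087086 1822 (.nil) (.nil)) (.nil)))))) (.node 601817105936 79 (.node 601817101840 3582 (.node 601816152560 4835 (.node 601816089134 373 (.node 601816089074 775 (.node 601816089072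 209 (.nil) (.nil)) (.nil)) (.node 601816089198 4213 (.node 601816089136 133 (.nil) (.nil)) (.nil))) (.node 601817040400 779 (.node 601817040398 3495 (.node 601816152624 4477 (.nil) (.nil)) (.nil)) (.node 601817101838 5321 (.node 601817040402 2711 (.nil) (.nil)) (.nil)))) (.node 601817103890 942 (.node 601817103826 1805 (.node 601817103824 1194 (.node 601817101842 3961 (.nil) (.nil)) (.nil)) (.node 601817103888 102 (.node 601817103886 840 (.nil) (.nil)) (.nil))) (.node 601817105872 1434 (.node 601817103952 1296 (.node 601817103950 1942 (.nil) (.nil)) (.nil)) (.node 601817105934 559 (.node 601817105874 2052 (.nil) (.nil)) (.nil))))) (.node 601818120688 474 (.node 601817107986 5465 (.node 601817106000 1056 (.node 601817105998 1693 (.node 601817105938 483 (.nil) (.nil)) (.nil)) (.node 601817107984 3487 (.node 601817107982 3847 (.nil) (.nil)) (.nil))) (.node 601817169426 3535 (.node 601817169424 635 (.node 601817169422 2609 (.nil) (.nil)) (.nil)) (.node 601818118702 4153 (.node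 601818118642 5022 (.nil) (.nil)) (.nil)))) (.node 601818122800 2359 (.node 601818120752 551 (.node 601818120750 1873 (.node 601818120690 2328 (.nil) (.nil)) (.nil)) (.node 601818122736 1999 (.node 601818122734 4994 (.nil) (.nil)) (.nil))) (.node 601818184176 2314 (.node 601818184174 5681 (.node 601818122802 5825 (.nil) (.nil)) (.nil)) (.node 601818184240 2142 (.nil) (.nil)))))))

/-- Index of a small icosian., part 49. -/
def elDictPart49 : Dict :=
  .node 600809425361 3490 (elDictPart47) (elDictPart48)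

/-- Index of a small icosian., part 50. -/
def elDictPart50 : Dict :=
  .node 601850595889 2528 (.node 601848562161 46 (.node 601847481873 684 (.node 601819203152 3816 (.node 601818188334 4879 (.node 601818186286 2369 (.node 601818186226 1735 (.node 601818186224 929 (.nil) (.nil)) (.nil)) (.node 601818188274 3775 (.node 601818186288 456 (.nil) (.nil)) (.nil))) (.node 601819201104 4296 (.node 601819201040 2022 (.node 601819200976 4194 (.nil) (.nil)) (.nil)) (.node 601819203088 2119 (.node 601819203024 4434 (.nil) (.nil)) (.nil)))) (.node 601846467119 6115 (.node 601846465009 3235 (.node 601846463023 5670 (.node 601846462961 5995 (.nil) (.nil)) (.nil)) (.node 601846467057 5806 (.node 601846465071 3355 (.nil) (.nil)) (.nil))) (.node 601847481809 2926 (.node 601847479825 1044 (.node 601847479823 1404 (.nil) (.nil)) (.nil)) (.node 601847481871 901 (.node 601847481869 5655 (.nil) (.nil)) (.nil))))) (.node 601848496627 6044 (.node 601847545361 517 (.node 601847545297 2552 (.node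 601847481935 2658 (.node 601847481875 5403 (.nil) (.nil)) (.nil)) (.node 601847545359 826 (.node 601847545357 5280 (.nil) (.nil)) (.nil))) (.node 601847547407 1186 (.node 601847545423 3030 (.node 601847545363 5793 (.nil) (.nil)) (.nil)) (.node 601848496625 1524 (.node 601847547409 1306 (.nil) (.nil)) (.nil)))) (.node 601848498737 3008 (.node 601848498671 2821 (.node 601848496687 1164 (.node 601848496685 4215 (.nil) (.nil)) (.nil)) (.node 601848498735 2295 (.node 601848498673 2101 (.nil) (.nil)) (.nil))) (.node 601848560175 502 (.node 601848560113 941 (.node 601848560111 1483 (.nil) (.nil)) (.nil)) (.node 601848562159 183 (.node 601848560177 1407 (.nil) (.nil)) (.nil)))))) (.node 601849579025 8 (.node 601848625713 2437 (.node 601848564209 852 (.node 601848562223 30 (.node 601848562221 2280 (.node 601848562163 2326 (.nil) (.nil)) (.nil)) (.node 601848564207 1263 (.node 601848562225 190 (.nil) (.nil)) (.nil))) (.node 601848625647 2901 (.node 601848564273 1518 (.node 601848564271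 558 (.nil) (.nil)) (.nil)) (.node 601848625711 1957 (.node 601848625649 2312 (.nil) (.nil)) (.nil)))) (.node 601849576975 135 (.node 601848627757 5903 (.node 601848627699 4353 (.node 601848627697 1066 (.nil) (.nil)) (.nil)) (.node 601849576913 1061 (.node 601848627759 1463 (.nil) (.nil)) (.nil))) (.node 601849578961 526 (.node 601849577039 988 (.node 601849576977 222 (.nil) (.nil)) (.nil)) (.node 601849579023 15 (.node 601849579021 2895 (.nil) (.nil)) (.nil))))) (.node 601849642575 870 (.node 601849640465 1801 (.node 601849581071 1687 (.node 601849579087 738 (.node 601849579027 2883 (.nil) (.nil)) (.nil)) (.node 601849640463 1701 (.node 601849581073 1808 (.nil) (.nil)) (.nil))) (.node 601849642511 21 (.node 601849642509 3000 (.node 601849642449 632 (.nil) (.nil)) (.nil)) (.node 601849642515 3033 (.node 601849642513 33 (.nil) (.nil)) (.nil)))) (.node 601850593779 4604 (.node 601849644561 175 (.node 601849644559 127 (.node 601849644497 1130 (.nil) (.nil)) (.nil)) (.node 601850593777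 1124 (.node 601849644623 1158 (.nil) (.nil)) (.nil))) (.node 601850595823 3058 (.node 601850593839 1645 (.node 601850593837 3855 (.nil) (.nil)) (.nil)) (.node 601850595887 2055 (.node 601850595825 2168 (.nil) (.nil)) (.nil))))))) (.node 601880020432 5446 (.node 601851674129 1256 (.node 601850661361 785 (.node 601850659313 48 (.node 601850657327 641 (.node 601850657265 822 (.node 601850657263 1241 (.nil) (.nil)) (.nil)) (.node 601850659311 194 (.node 601850657329 1616 (.nil) (.nil)) (.nil))) (.node 601850659375 26 (.node 601850659373 2186 (.node 601850659315 2163 (.nil) (.nil)) (.nil)) (.node 601850661359 1623 (.node 601850659377 216 (.nil) (.nil)) (.nil)))) (.node 601850722865 2920 (.node 601850722799 2661 (.node 601850661425 1385 (.node 601850661423 679 (.nil) (.nil)) (.nil)) (.node 601850722863 2200 (.node 601850722801 1953 (.nil) (.nil)) (.nil))) (.node 601850724909 4463 (.node 601850724851 3993 (.node 601850724849 1610 (.nil) (.nil)) (.nil)) (.node 601851674127 1001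 (.node 601850724911 983 (.nil) (.nil)) (.nil))))) (.node 601851739727 2786 (.node 601851676239 2896 (.node 601851676175 914 (.node 601851676173 3794 (.node 601851676113 2448 (.nil) (.nil)) (.nil)) (.node 601851676179 5163 (.node 601851676177 648 (.nil) (.nil)) (.nil))) (.node 601851739663 746 (.node 601851739661 5520 (.node 601851739601 3034 (.nil) (.nil)) (.nil)) (.node 601851739667 4136 (.node 601851739665 536 (.nil) (.nil)) (.nil)))) (.node 601852756527 3266 (.node 601852754417 5216 (.node 601851741713 1145 (.node 601851741711 1394 (.nil) (.nil)) (.nil)) (.node 601852756465 3168 (.node 601852754479 4001 (.nil) (.nil)) (.nil))) (.node 601880018384 4592 (.node 601852758575 5594 (.node 601852758513 3905 (.nil) (.nil)) (.nil)) (.node 601880018512 5310 (.node 601880018448 2035 (.nil) (.nil)) (.nil)))))) (.node 601882052112 564 (.node 601881037362 5048 (.node 601881035250 1726 (.node 601881033202 5380 (.node 601880020560 4458 (.node 601880020496 2155 (.nil) (.nil)) (.nil))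 (.node 601881035248 766 (.node 601881033262 5116 (.nil) (.nil)) (.nil))) (.node 601881037294 5581 (.node 601881035312 444 (.node 601881035310 2190 (.nil) (.nil)) (.nil)) (.node 601881037360 1938 (.node 601881037296 2243 (.nil) (.nil)) (.nil)))) (.node 601881100786 2212 (.node 601881098800 2197 (.node 601881098736 2072 (.node 601881098734 4701 (.nil) (.nil)) (.nil)) (.node 601881100784 466 (.node 601881098802 5197 (.nil) (.nil)) (.nil))) (.node 601881102834 4732 (.node 601881100848 630 (.node 601881100846 1830 (.nil) (.nil)) (.nil)) (.node 601882052110 2415 (.node 601881102894 5483 (.nil) (.nil)) (.nil))))) (.node 601882117584 1023 (.node 601882115538 1966 (.node 601882113552 3460 (.node 601882113550 5923 (.node 601882052114 3368 (.nil) (.nil)) (.nil)) (.node 601882115536 1421 (.node 601882113554 4081 (.nil) (.nil)) (.nil))) (.node 601882115602 700 (.node 601882115600 100 (.node 601882115598 600 (.nil) (.nil)) (.nil)) (.node 601882115664 1167 (.node 601882115662 1710 (.nil)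 (.nil)) (.nil)))) (.node 601882117712 1278 (.node 601882117648 83 (.node 601882117646 803 (.node 601882117586 1846 (.nil) (.nil)) (.nil)) (.node 601882117710 2070 (.node 601882117650 723 (.nil) (.nil)) (.nil))) (.node 601882119698 6067 (.node 601882119696 3367 (.node 601882119694 3727 (.nil) (.nil)) (.nil)) (.node 601882181134 3452 (.nil) (.nil)))))))

/-- Index of a small icosian., part 51. -/
def elDictPart51 : Dict :=
  .node 602858276336 3834 (.node 601914588689 2620 (.node 601883261424 4341 (.node 601883134510 1815 (.node 601883132402 888 (.node 601883068976 4208 (.node 601883068912 5098 (.node 601882181138 2793 (.nil) (.nil)) (.nil)) (.node 601883132400 168 (.node 601883132338 4968 (.nil) (.nil)) (.nil))) (.node 601883132526 4468 (.node 601883132464 128 (.node 601883132462 375 (.nil) (.nil)) (.nil)) (.node 601883134450 1928 (.node 601883134448 663 (.nil) (.nil)) (.nil)))) (.node 601883197874 4610 (.node 601883195890 1713 (.node 601883195888 381 (.node 601883134512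 368 (.nil) (.nil)) (.nil)) (.node 601883195952 807 (.node 601883195950 2061 (.nil) (.nil)) (.nil))) (.node 601883197998 506 (.node 601883197938 393 (.node 601883197936 227 (.nil) (.nil)) (.nil)) (.node 601883198062 4826 (.node 601883198000 198 (.nil) (.nil)) (.nil))))) (.node 601884214800 185 (.node 601884212750 1481 (.node 601884149264 1525 (.node 601884149202 3768 (.node 601883261488 4720 (.nil) (.nil)) (.nil)) (.node 601884212690 3288 (.node 601884149326 5656 (.nil) (.nil)) (.nil))) (.node 601884212814 2546 (.node 601884212754 1136 (.node 601884212752 146 (.nil) (.nil)) (.nil)) (.node 601884214798 1034 (.node 601884214738 2688 (.nil) (.nil)) (.nil)))) (.node 601885231602 4008 (.node 601884278226 5794 (.node 601884214862 3146 (.node 601884214802 1509 (.nil) (.nil)) (.nil)) (.node 601884278350 4106 (.node 601884278288 1476 (.nil) (.nil)) (.nil))) (.node 601885293102 3866 (.node 601885293042 4736 (.node 601885231662 5114 (.nil) (.nil)) (.nil)) (.node 601914588687 3580 (.node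 601914588625 5260 (.nil) (.nil)) (.nil)))))) (.node 601916689935 4643 (.node 601915668977 2500 (.node 601914656209 5963 (.node 601914590737 2363 (.node 601914590735 1763 (.node 601914588751 6100 (.nil) (.nil)) (.nil)) (.node 601914654225 1900 (.node 601914654223 2372 (.nil) (.nil)) (.nil))) (.node 601914656335 5603 (.node 601914656273 3532 (.node 601914656271 2723 (.nil) (.nil)) (.nil)) (.node 601915607601 3728 (.node 601915607535 5895 (.nil) (.nil)) (.nil)))) (.node 601915673073 3203 (.node 601915671025 580 (.node 601915671023 1293 (.node 601915669039 3340 (.nil) (.nil)) (.nil)) (.node 601915671089 1389 (.node 601915671087 923 (.nil) (.nil)) (.nil))) (.node 601915734577 6033 (.node 601915734511 4101 (.node 601915673135 2843 (.nil) (.nil)) (.nil)) (.node 601916687889 1269 (.node 601916687887 1653 (.nil) (.nil)) (.nil))))) (.node 602857259474 3965 (.node 601948144112 4780 (.node 601916749329 4540 (.node 601916749327 5664 (.node 601916689937 5770 (.nil) (.nil)) (.nil)) (.node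 601916751377 1596 (.node 601916751375 1413 (.nil) (.nil)) (.nil))) (.node 601948209712 5123 (.node 601948209648 4523 (.node 601948144176 4660 (.nil) (.nil)) (.nil)) (.node 602824786449 5496 (.node 602824786447 5394 (.nil) (.nil)) (.nil)))) (.node 602857323022 5915 (.node 602857261582 4379 (.node 602857259598 5548 (.node 602857259536 1139 (.nil) (.nil)) (.nil)) (.node 602857261586 6059 (.node 602857261584 2819 (.nil) (.nil)) (.nil))) (.node 602857325010 5210 (.node 602857323026 4235 (.node 602857323024 2435 (.nil) (.nil)) (.nil)) (.node 602857325134 3853 (.node 602857325072 995 (.nil) (.nil)) (.nil))))))) (.node 602890878447 1674 (.node 602889796111 1003 (.node 602888719857 3732 (.node 602858405360 3995 (.node 602858339888 2976 (.node 602858339824 2634 (.node 602858276400 3899 (.nil) (.nil)) (.nil)) (.node 602858341936 2736 (.node 602858341872 3114 (.nil) (.nil)) (.nil))) (.node 602888717811 5326 (.node 602888717809 1246 (.node 602858405424 4176 (.nil) (.nil)) (.nil)) (.node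 602888717871 1019 (.node 602888717869 4995 (.nil) (.nil)) (.nil)))) (.node 602888781357 5430 (.node 602888779311 4102 (.node 602888779249 4715 (.node 602888719919 5099 (.nil) (.nil)) (.nil)) (.node 602888781299 4851 (.node 602888781297 1115 (.nil) (.nil)) (.nil))) (.node 602889734671 2699 (.node 602889734609 5804 (.node 602888781359 1350 (.nil) (.nil)) (.nil)) (.node 602889734735 3779 (.node 602889734673 3299 (.nil) (.nil)) (.nil))))) (.node 602890812913 1604 (.node 602889800207 1519 (.node 602889798159 195 (.node 602889798097 1486 (.node 602889796113 1491 (.nil) (.nil)) (.nil)) (.node 602889798223 1536 (.node 602889798161 155 (.nil) (.nil)) (.nil))) (.node 602889861647 3155 (.node 602889861585 4115 (.node 602889800209 1147 (.nil) (.nil)) (.nil)) (.node 602889861711 5663 (.node 602889861649 2555 (.nil) (.nil)) (.nil)))) (.node 602890815023 419 (.node 602890812975 1348 (.node 602890812973 4873 (.node 602890812915 5816 (.nil) (.nil)) (.nil)) (.node 602890814961 954 (.node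 602890814959 1074 (.nil) (.nil)) (.nil))) (.node 602890817073 4808 (.node 602890817007 5959 (.node 602890815025 1568 (.nil) (.nil)) (.nil)) (.node 602890876465 6102 (.node 602890876399 4941 (.nil) (.nil)) (.nil)))))) (.node 602892912111 4074 (.node 602891895249 2874 (.node 602890880557 5714 (.node 602890878513 1176 (.node 602890878511 576 (.node 602890878449 395 (.nil) (.nil)) (.nil)) (.node 602890880499 4975 (.node 602890880497 1250 (.nil) (.nil)) (.nil))) (.node 602891893263 3041 (.node 602891893201 4674 (.node 602890880559 1639 (.nil) (.nil)) (.nil)) (.node 602891893327 5256 (.node 602891893265 3342 (.nil) (.nil)) (.nil)))) (.node 602891897297 5634 (.node 602891895313 816 (.node 602891895311 714 (.node 602891895309 4274 (.nil) (.nil)) (.nil)) (.node 602891895375 2496 (.node 602891895315 4376 (.nil) (.nil)) (.nil))) (.node 602891897423 4536 (.node 602891897361 2945 (.node 602891897359 3199 (.nil) (.nil)) (.nil)) (.node 602892910127 5081 (.node 602892910065 5696 (.nil)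 (.nil)) (.nil))))) (.node 602921254446 2910 (.node 602920176144 4675 (.node 602892975665 3936 (.node 602892975599 4914 (.node 602892912177 5016 (.nil) (.nil)) (.nil)) (.node 602892977711 5834 (.node 602892977649 4745 (.nil) (.nil)) (.nil))) (.node 602921190958 5295 (.node 602921190898 4246 (.node 602920237584 4555 (.nil) (.nil)) (.nil)) (.node 602921254386 3406 (.node 602921254384 1603 (.nil) (.nil)) (.nil)))) (.node 602921319922 5433 (.node 602921256434 3046 (.node 602921256432 1366 (.node 602921254448 1230 (.nil) (.nil)) (.nil)) (.node 602921256496 1590 (.node 602921256494 3435 (.nil) (.nil)) (.nil))) (.node 602922271186 2446 (.node 602922207760 5648 (.node 602921319982 4350 (.nil) (.nil)) (.nil)) (.node 602922271246 1215 (.nil) (.nil)))))))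

/-- Index of a small icosian., part 52. -/
def elDictPart52 : Dict :=
  .node 601882181136 946 (elDictPart50) (elDictPart51)

/-- Index of a small icosian., part 53. -/
def elDictPart53 : Dict :=
  .node 601818184242 4856 (elDictPart49) (elDictPart52)

/-- Index of a small icosian., part 54. -/
def elDictPart54 : Dict :=
  .node 602955824687 1468 (.node 602924431886 3261 (.node 602923351598 750 (.node 602922336786 1353 (.node 602922334734 3501 (.node 602922273294 3315 (.node 602922271310 3510 (.node 602922271250 1131 (.nil) (.nil)) (.nil)) (.node 602922273298 3547 (.node 602922273296 787 (.nil) (.nil)) (.nil))) (.node 602922336722 3530 (.node 602922334738 3171 (.node 602922334736 643 (.nil) (.nil)) (.nil)) (.node 602922336784 226 (.node 602922336782 1035 (.nil) (.nil)) (.nil)))) (.node 602923288112 1208 (.node 602923288048 1364 (.node 602922400272 5781 (.node 602922336846 2790 (.nil) (.nil)) (.nil)) (.node 602923288110 2535 (.node 602923288050 2804 (.nil) (.nil)) (.nil)))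 (.node 602923351474 5926 (.node 602923349550 4483 (.node 602923349490 4321 (.nil) (.nil)) (.nil)) (.node 602923351538 531 (.node 602923351536 141 (.nil) (.nil)) (.nil))))) (.node 602923417074 2673 (.node 602923353646 915 (.node 602923353522 3890 (.node 602923351662 3988 (.node 602923351600 150 (.nil) (.nil)) (.nil)) (.node 602923353586 646 (.node 602923353584 170 (.nil) (.nil)) (.nil))) (.node 602923355634 4627 (.node 602923353710 6030 (.node 602923353648 187 (.nil) (.nil)) (.nil)) (.node 602923417072 1341 (.node 602923355694 4207 (.nil) (.nil)) (.nil)))) (.node 602924368400 228 (.node 602924304912 5168 (.node 602923417136 1223 (.node 602923417134 2423 (.nil) (.nil)) (.nil)) (.node 602924368398 1095 (.node 602924368338 3408 (.nil) (.nil)) (.nil))) (.node 602924370446 3434 (.node 602924368462 2668 (.node 602924368402 1376 (.nil) (.nil)) (.nil)) (.node 602924370450 3128 (.node 602924370448 488 (.nil) (.nil)) (.nil)))))) (.node 602953727535 5190 (.node 602925448690 2936 (.node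 602924433938 993 (.node 602924433874 2570 (.node 602924431890 3393 (.node 602924431888 861 (.nil) (.nil)) (.nil)) (.node 602924433936 143 (.node 602924433934 1274 (.nil) (.nil)) (.nil))) (.node 602925385202 4124 (.node 602924497424 5541 (.node 602924433998 3383 (.nil) (.nil)) (.nil)) (.node 602925448688 1361 (.node 602925385262 4575 (.nil) (.nil)) (.nil)))) (.node 602925450800 1265 (.node 602925450736 1488 (.node 602925448752 1496 (.node 602925448750 3506 (.nil) (.nil)) (.nil)) (.node 602925450798 3074 (.node 602925450738 3545 (.nil) (.nil)) (.nil))) (.node 602926467600 4265 (.node 602925514286 3743 (.node 602925514226 4473 (.nil) (.nil)) (.nil)) (.node 602953727473 4966 (.node 602926529040 4361 (.nil) (.nil)) (.nil))))) (.node 602954809869 4515 (.node 602953795119 4830 (.node 602953793007 6032 (.node 602953729585 5898 (.node 602953729519 5101 (.nil) (.nil)) (.nil)) (.node 602953795057 5566 (.node 602953793073 4717 (.nil) (.nil)) (.nil))) (.node 602954807825 3100 (.node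 602954807823 3163 (.node 602954807761 5740 (.nil) (.nil)) (.nil)) (.node 602954809809 2686 (.node 602954807887 4230 (.nil) (.nil)) (.nil)))) (.node 602954811919 2963 (.node 602954809875 4611 (.node 602954809873 886 (.node 602954809871 510 (.nil) (.nil)) (.nil)) (.node 602954811857 4366 (.node 602954809935 2550 (.nil) (.nil)) (.nil))) (.node 602955824625 1300 (.node 602954811983 5843 (.node 602954811921 3307 (.nil) (.nil)) (.nil)) (.node 602955824685 5596 (.node 602955824627 4731 (.nil) (.nil)) (.nil))))))) (.node 602988363312 2860 (.node 602956907023 203 (.node 602955890225 1537 (.node 602955828785 3968 (.node 602955826735 615 (.node 602955826673 406 (.node 602955826671 1455 (.nil) (.nil)) (.nil)) (.node 602955828719 4763 (.node 602955826737 968 (.nil) (.nil)) (.nil))) (.node 602955890159 1101 (.node 602955888177 5140 (.node 602955888111 3861 (.nil) (.nil)) (.nil)) (.node 602955890223 390 (.node 602955890161 753 (.nil) (.nil)) (.nil)))) (.node 602956843535 3135 (.node 602955892269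 5115 (.node 602955892211 5212 (.node 602955892209 1523 (.nil) (.nil)) (.nil)) (.node 602956843473 5444 (.node 602955892271 1403 (.nil) (.nil)) (.nil))) (.node 602956904975 1601 (.node 602956843599 5580 (.node 602956843537 2408 (.nil) (.nil)) (.nil)) (.node 602956906961 1671 (.node 602956904977 1060 (.nil) (.nil)) (.nil))))) (.node 602957923887 1380 (.node 602956970511 2781 (.node 602956909071 1163 (.node 602956907087 1586 (.node 602956907025 153 (.nil) (.nil)) (.nil)) (.node 602956970449 5196 (.node 602956909073 1643 (.nil) (.nil)) (.nil))) (.node 602957923825 1008 (.node 602956970575 5303 (.node 602956970513 3273 (.nil) (.nil)) (.nil)) (.node 602957923885 4095 (.node 602957923827 5088 (.nil) (.nil)) (.nil)))) (.node 602957987315 3753 (.node 602957985265 5316 (.node 602957925935 5460 (.node 602957925873 4985 (.nil) (.nil)) (.nil)) (.node 602957987313 1236 (.node 602957985327 4841 (.nil) (.nil)) (.nil))) (.node 602988299760 6111 (.node 602957987375 1106 (.node 602957987373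 4706 (.nil) (.nil)) (.nil)) (.node 602988363248 2980 (.node 602988299824 5468 (.nil) (.nil)) (.nil)))))) (.node 603963509294 4019 (.node 602989443600 2740 (.node 602989380112 1180 (.node 602988428784 5372 (.node 602988365360 3083 (.node 602988365296 2483 (.nil) (.nil)) (.nil)) (.node 602989380050 5764 (.node 602988428848 5977 (.nil) (.nil)) (.nil))) (.node 602989382160 2603 (.node 602989382158 3923 (.node 602989380174 5908 (.nil) (.nil)) (.nil)) (.node 602989443598 4581 (.node 602989382162 4448 (.nil) (.nil)) (.nil)))) (.node 603021918737 4180 (.node 602989445648 1043 (.node 602989445586 6050 (.node 602989443602 4060 (.nil) (.nil)) (.nil)) (.node 603021918735 3803 (.node 602989445710 5654 (.nil) (.nil)) (.nil))) (.node 603932114447 4475 (.node 603932050961 4619 (.node 603932050959 4139 (.nil) (.nil)) (.nil)) (.node 603963509234 4747 (.node 603932114449 3755 (.nil) (.nil)) (.nil))))) (.node 603965606448 5705 (.node 603964589522 4250 (.node 603964587474 6114 (.node 603963570734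 5083 (.node 603963570674 3875 (.nil) (.nil)) (.nil)) (.node 603964587598 4348 (.node 603964587536 1308 (.nil) (.nil)) (.nil))) (.node 603965604338 4844 (.node 603964589646 5976 (.node 603964589584 1428 (.nil) (.nil)) (.nil)) (.node 603965606384 5154 (.node 603965604398 5428 (.nil) (.nil)) (.nil)))) (.node 603966686736 5225 (.node 603965669874 5330 (.node 603965667888 4776 (.node 603965667824 5801 (.nil) (.nil)) (.nil)) (.node 603966684688 5561 (.node 603965669934 4943 (.nil) (.nil)) (.nil))) (.node 603996045809 1006 (.node 603995982383 4499 (.node 603995982321 5564 (.nil) (.nil)) (.nil)) (.node 603996045869 3795 (.node 603996045811 4131 (.nil) (.nil)) (.nil)))))))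

/-- Index of a small icosian., part 55. -/
def elDictPart55 : Dict :=
  .node 634060848624 2026 (.node 633995771376 5742 (.node 604028521008 4987 (.node 603998079535 5820 (.node 603997064721 3907 (.node 603997062671 1575 (.node 603996109359 5183 (.node 603996109297 4595 (.nil) (.nil)) (.nil)) (.node 603997064719 6075 (.node 603997062673 1448 (.nil) (.nil)) (.nil))) (.node 603997126159 1548 (.node 603997124113 5931 (.node 603997124111 4003 (.nil) (.nil)) (.nil)) (.node 603998079473 4364 (.node 603997126161 1668 (.nil) (.nil)) (.nil)))) (.node 603998206511 4223 (.node 603998143021 5354 (.node 603998142963 5456 (.node 603998142961 1188 (.nil) (.nil)) (.nil)) (.node 603998206449 5676 (.node 603998143023 1068 (.nil) (.nil)) (.nil))) (.node 604028518898 3766 (.node 604027504144 5723 (.node 604027502096 5860 (.nil) (.nil)) (.nil)) (.node 604028520944 5243 (.node 604028518958 4710 (.nil) (.nil)) (.nil))))) (.node 604030618158 4815 (.node 604029599248 1420 (.node 604028584434 5086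 (.node 604028582448 5620 (.node 604028582384 4843 (.nil) (.nil)) (.nil)) (.node 604029599186 4486 (.node 604028584494 4110 (.nil) (.nil)) (.nil))) (.node 604029601296 1283 (.node 604029601234 4006 (.node 604029599310 3870 (.nil) (.nil)) (.nil)) (.node 604030618098 5888 (.node 604029601358 4590 (.nil) (.nil)) (.nil)))) (.node 604062137873 4420 (.node 604062074383 4283 (.node 604030679598 6021 (.node 604030679538 4953 (.nil) (.nil)) (.nil)) (.node 604062137871 5500 (.node 604062074385 5363 (.nil) (.nil)) (.nil))) (.node 633994756624 3454 (.node 633994756622 3694 (.node 633994754576 5014 (.nil) (.nil)) (.nil)) (.node 633994758672 4870 (.node 633994756626 3670 (.nil) (.nil)) (.nil)))))) (.node 634028312111 2374 (.node 634027295185 5986 (.node 634026214897 4390 (.node 633995839024 5839 (.node 633995838960 5479 (.node 633995771440 5382 (.nil) (.nil)) (.nil)) (.node 634026212911 4294 (.node 634026212849 5470 (.nil) (.nil)) (.nil))) (.node 634027229711 2494 (.node 634027229649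 5381 (.node 634026214959 5374 (.nil) (.nil)) (.nil)) (.node 634027229775 6084 (.node 634027229713 2950 (.nil) (.nil)) (.nil)))) (.node 634028309999 2734 (.node 634027295311 5478 (.node 634027295249 2830 (.node 634027295247 3094 (.nil) (.nil)) (.nil)) (.node 634028246577 5230 (.node 634028246511 5974 (.nil) (.nil)) (.nil))) (.node 634028310065 3550 (.node 634028310063 1774 (.node 634028310001 2381 (.nil) (.nil)) (.nil)) (.node 634028312049 1870 (.node 634028312047 3543 (.nil) (.nil)) (.nil))))) (.node 634059702800 3684 (.node 634029326863 2014 (.node 634028375601 6070 (.node 634028375535 5614 (.node 634028312113 2590 (.nil) (.nil)) (.nil)) (.node 634029324817 4302 (.node 634029324815 5262 (.nil) (.nil)) (.nil))) (.node 634029392401 2110 (.node 634029392399 2267 (.node 634029326865 2230 (.nil) (.nil)) (.nil)) (.node 634029394449 5599 (.node 634029394447 4399 (.nil) (.nil)) (.nil)))) (.node 634060783152 3324 (.node 634059768400 4887 (.node 634059768336 2266 (.node 634059768272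 4983 (.nil) (.nil)) (.nil)) (.node 634060783088 2621 (.node 634059833872 3706 (.nil) (.nil)) (.nil))) (.node 634060785200 2124 (.node 634060785136 1743 (.node 634060785134 3903 (.nil) (.nil)) (.nil)) (.node 634060848622 4414 (.node 634060785202 4270 (.nil) (.nil)) (.nil))))))) (.node 634095355441 4045 (.node 634062882286 4623 (.node 634061865486 1894 (.node 634061799952 3085 (.node 634060850672 3226 (.node 634060848690 4047 (.node 634060848688 1887 (.nil) (.nil)) (.nil)) (.node 634061799950 4935 (.node 634060850736 2718 (.nil) (.nil)) (.nil))) (.node 634061863440 2141 (.node 634061863376 3701 (.node 634061799954 5125 (.nil) (.nil)) (.nil)) (.node 634061865424 3303 (.node 634061863504 3687 (.nil) (.nil)) (.nil)))) (.node 634061867600 3678 (.node 634061865552 3207 (.node 634061865490 1750 (.node 634061865488 334 (.nil) (.nil)) (.nil)) (.node 634061867536 1998 (.node 634061867472 3663 (.nil) (.nil)) (.nil))) (.node 634061931026 4833 (.node 634061931024 2987 (.node 634061931022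 4787 (.nil) (.nil)) (.nil)) (.node 634062880304 2845 (.node 634062880240 3221 (.nil) (.nil)) (.nil))))) (.node 634063962640 2387 (.node 634062945840 2007 (.node 634062882354 6008 (.node 634062882352 1885 (.node 634062882288 2103 (.nil) (.nil)) (.nil)) (.node 634062945776 1787 (.node 634062945774 5901 (.nil) (.nil)) (.nil))) (.node 634062947888 3318 (.node 634062947824 2507 (.node 634062945842 4527 (.nil) (.nil)) (.nil)) (.node 634063962576 4728 (.node 634063897104 3685 (.nil) (.nil)) (.nil)))) (.node 634094338577 2004 (.node 634094336527 4661 (.node 634064028176 3707 (.node 634063962704 5066 (.nil) (.nil)) (.nil)) (.node 634094338575 2373 (.node 634094336529 5727 (.nil) (.nil)) (.nil))) (.node 634094406159 5823 (.node 634094404113 2386 (.node 634094404111 2146 (.nil) (.nil)) (.nil)) (.node 634095355375 5725 (.node 634094406161 4518 (.nil) (.nil)) (.nil)))))) (.node 634127892016 5247 (.node 634096435727 2965 (.node 634095420913 2229 (.node 634095418927 2247 (.node 634095418865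 1901 (.node 634095418863 3453 (.nil) (.nil)) (.nil)) (.node 634095420911 2823 (.node 634095418929 2487 (.nil) (.nil)) (.nil))) (.node 634095484399 3947 (.node 634095420977 3438 (.node 634095420975 1758 (.nil) (.nil)) (.nil)) (.node 634096435665 3888 (.node 634095484465 5867 (.nil) (.nil)) (.nil)))) (.node 634096501327 3986 (.node 634096501201 3827 (.node 634096435791 4165 (.node 634096435729 2725 (.nil) (.nil)) (.nil)) (.node 634096501265 3107 (.node 634096501263 2627 (.nil) (.nil)) (.nil))) (.node 634097518065 4128 (.node 634097516079 3746 (.node 634097516017 4608 (.nil) (.nil)) (.nil)) (.node 634127891952 4181 (.node 634097518127 4466 (.nil) (.nil)) (.nil))))) (.node 635069482511 5113 (.node 634128974354 3669 (.node 634128972304 5133 (.node 634127959600 3798 (.node 634127959536 5583 (.nil) (.nil)) (.nil)) (.node 634128974352 3549 (.node 634128974350 3693 (.nil) (.nil)) (.nil))) (.node 635068467759 5719 (.node 635068467697 3852 (.node 634128976400 4749 (.nil) (.nil)) (.nil))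 (.node 635068529199 3982 (.node 635068529137 5862 (.nil) (.nil)) (.nil)))) (.node 635069547985 4572 (.node 635069545999 3334 (.node 635069545937 4805 (.node 635069482513 4391 (.nil) (.nil)) (.nil)) (.node 635069546063 4462 (.node 635069546001 3102 (.nil) (.nil)) (.nil))) (.node 635069548111 4933 (.node 635069548049 3190 (.node 635069548047 2959 (.nil) (.nil)) (.nil)) (.node 635069611535 4289 (.nil) (.nil)))))))

/-- Index of a small icosian., part 56. -/
def elDictPart56 : Dict :=
  .node 603996045871 1110 (elDictPart54) (elDictPart55)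

/-- Index of a small icosian., part 57. -/
def elDictPart57 : Dict :=
  .node 635135576625 2768 (.node 635104181776 1902 (.node 635102084624 934 (.node 635101004336 1150 (.node 635100940848 5768 (.node 635070628335 3809 (.node 635070562865 4151 (.node 635070562799 5593 (.nil) (.nil)) (.nil)) (.node 635100940784 6061 (.node 635070628401 5215 (.nil) (.nil)) (.nil))) (.node 635101004272 1054 (.node 635101002286 3934 (.node 635101002226 4565 (.nil) (.nil)) (.nil)) (.node 635101004334 2614 (.node 635101004274 2710 (.nil) (.nil)) (.nil)))) (.node 635102019088 1302 (.node 635101067760 5661 (.node 635101006382 4453 (.node 635101006322 4030 (.nil) (.nil)) (.nil)) (.node 635102019026 4085 (.node 635101067824 5917 (.nil) (.nil)) (.nil))) (.node 635102021136 550 (.node 635102021134 3214 (.node 635102019150 5902 (.nil) (.nil)) (.nil)) (.node 635102084622 2854 (.node 635102021138 2470 (.nil) (.nil)) (.nil))))) (.node 635103101488 702 (.node 635103035950 4033 (.node 635102086672 1399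 (.node 635102086610 6012 (.node 635102084626 3310 (.nil) (.nil)) (.nil)) (.node 635103035890 5471 (.node 635102086734 3733 (.nil) (.nil)) (.nil))) (.node 635103101424 799 (.node 635103099440 2622 (.node 635103099376 2982 (.nil) (.nil)) (.nil)) (.node 635103101486 2134 (.node 635103101426 1990 (.nil) (.nil)) (.nil)))) (.node 635104116240 2502 (.node 635103166962 3895 (.node 635103103536 3079 (.node 635103103472 2719 (.nil) (.nil)) (.nil)) (.node 635104116238 4393 (.node 635103167022 5369 (.nil) (.nil)) (.nil))) (.node 635104118288 1759 (.node 635104118224 5208 (.node 635104116242 3822 (.nil) (.nil)) (.nil)) (.node 635104181712 5314 (.node 635104118352 5416 (.nil) (.nil)) (.nil)))))) (.node 635134557709 4174 (.node 635133479473 5528 (.node 635132460561 5124 (.node 635104183824 2839 (.node 635104183822 4159 (.node 635104181840 5546 (.nil) (.nil)) (.nil)) (.node 635132460559 5604 (.node 635104183826 4255 (.nil) (.nil)) (.nil))) (.node 635133477361 3526 (.node 635132462609 5266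 (.node 635132462607 4786 (.nil) (.nil)) (.nil)) (.node 635133479407 4263 (.node 635133477423 2844 (.nil) (.nil)) (.nil)))) (.node 635134494223 3375 (.node 635133542897 2506 (.node 635133540913 4407 (.node 635133540847 5181 (.nil) (.nil)) (.nil)) (.node 635134494161 4726 (.node 635133542959 3586 (.nil) (.nil)) (.nil))) (.node 635134555663 6101 (.node 635134494287 4644 (.node 635134494225 3204 (.nil) (.nil)) (.nil)) (.node 635134557649 3101 (.node 635134555665 4801 (.nil) (.nil)) (.nil))))) (.node 635134561809 5958 (.node 635134559757 4894 (.node 635134557715 4990 (.node 635134557713 790 (.node 635134557711 454 (.nil) (.nil)) (.nil)) (.node 635134559697 3423 (.node 635134557775 3390 (.nil) (.nil)) (.nil))) (.node 635134559763 3790 (.node 635134559761 430 (.node 635134559759 694 (.nil) (.nil)) (.nil)) (.node 635134561807 4927 (.node 635134559823 2958 (.nil) (.nil)) (.nil)))) (.node 635135574513 701 (.node 635134623249 3466 (.node 635134623247 3346 (.node 635134623185 4546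 (.nil) (.nil)) (.nil)) (.node 635135574511 1661 (.node 635134623311 5070 (.nil) (.nil)) (.nil))) (.node 635135576559 2583 (.node 635135574577 1527 (.node 635135574575 855 (.nil) (.nil)) (.nil)) (.node 635135576623 2238 (.node 635135576561 2343 (.nil) (.nil)) (.nil))))))) (.node 635167032784 3783 (.node 635136656913 919 (.node 635136591439 4885 (.node 635135640049 513 (.node 635135638063 2301 (.node 635135638001 2193 (.node 635135637999 2421 (.nil) (.nil)) (.nil)) (.node 635135640047 1461 (.node 635135638065 2727 (.nil) (.nil)) (.nil))) (.node 635136591313 4248 (.node 635135640113 1593 (.node 635135640111 798 (.nil) (.nil)) (.nil)) (.node 635136591377 3488 (.node 635136591375 3255 (.nil) (.nil)) (.nil)))) (.node 635136654865 462 (.node 635136654801 3528 (.node 635136652817 3942 (.node 635136652815 4782 (.nil) (.nil)) (.nil)) (.node 635136654863 582 (.node 635136654861 5040 (.nil) (.nil)) (.nil))) (.node 635136656849 2928 (.node 635136654927 3026 (.node 635136654867 5313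 (.nil) (.nil)) (.nil)) (.node 635136656911 439 (.node 635136656909 5415 (.nil) (.nil)) (.nil))))) (.node 635137673777 4568 (.node 635136720399 3587 (.node 635136658959 4039 (.node 635136656975 3558 (.node 635136656915 4683 (.nil) (.nil)) (.nil)) (.node 635136720337 5027 (.node 635136658961 5119 (.nil) (.nil)) (.nil))) (.node 635137671665 2568 (.node 635136720463 4346 (.node 635136720401 3153 (.nil) (.nil)) (.nil)) (.node 635137673711 5818 (.node 635137671727 3386 (.nil) (.nil)) (.nil)))) (.node 635138752017 5876 (.node 635137737201 3467 (.node 635137735217 5680 (.node 635137735151 4461 (.nil) (.nil)) (.nil)) (.node 635138752015 4946 (.node 635137737263 2666 (.nil) (.nil)) (.nil))) (.node 635167030798 5484 (.node 635138754065 4848 (.node 635138754063 5756 (.nil) (.nil)) (.nil)) (.node 635167030802 4524 (.node 635167030800 2724 (.nil) (.nil)) (.nil)))))) (.node 635169129998 2655 (.node 635168111152 2967 (.node 635167098382 4666 (.node 635167096272 5861 (.node 635167032912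 5718 (.node 635167032848 1884 (.nil) (.nil)) (.nil)) (.node 635167096400 4167 (.node 635167096336 1786 (.nil) (.nil)) (.nil))) (.node 635168047602 5964 (.node 635167098386 5386 (.node 635167098384 2626 (.nil) (.nil)) (.nil)) (.node 635168111088 2861 (.node 635168047662 3735 (.nil) (.nil)) (.nil)))) (.node 635168115248 2478 (.node 635168113198 1950 (.node 635168113138 2086 (.node 635168113136 903 (.nil) (.nil)) (.nil)) (.node 635168115184 3063 (.node 635168113200 567 (.nil) (.nil)) (.nil))) (.node 635169127890 4061 (.node 635168178734 6106 (.node 635168178674 4113 (.nil) (.nil)) (.nil)) (.node 635169128014 5306 (.node 635169127952 1405 (.nil) (.nil)) (.nil))))) (.node 635170208302 4226 (.node 635169195474 5448 (.node 635169193486 3141 (.node 635169130002 3248 (.node 635169130000 728 (.nil) (.nil)) (.nil)) (.node 635169193490 2553 (.node 635169193488 621 (.nil) (.nil)) (.nil))) (.node 635170146800 5578 (.node 635169195598 3918 (.node 635169195536 1307 (.nil) (.nil)) (.nil))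 (.node 635170208242 6048 (.node 635170146864 3848 (.nil) (.nil)) (.nil)))) (.node 635170212398 5906 (.node 635170210350 2426 (.node 635170210290 2808 (.node 635170210288 1128 (.nil) (.nil)) (.nil)) (.node 635170212338 4368 (.node 635170210352 986 (.nil) (.nil)) (.nil))) (.node 635200586223 5373 (.node 635170273840 5200 (.node 635170273776 3981 (.nil) (.nil)) (.nil)) (.node 635200586289 5829 (.nil) (.nil)))))))

/-- Index of a small icosian., part 58. -/
def elDictPart58 : Dict :=
  .node 636210366000 1088 (.node 636177827375 6015 (.node 636144337424 3559 (.node 635201732111 4821 (.node 635201666577 3220 (.node 635201603089 4928 (.node 635201603087 4455 (.node 635200651825 5469 (.nil) (.nil)) (.nil)) (.node 635201666575 3093 (.node 635201666513 4421 (.nil) (.nil)) (.nil))) (.node 635201668623 3323 (.node 635201668561 5103 (.node 635201666639 4767 (.nil) (.nil)) (.nil)) (.node 635201668687 4278 (.node 635201668625 2949 (.nil) (.nil)) (.nil)))) (.node 636143257074 5950 (.node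 635202685487 6083 (.node 635202685425 5229 (.node 635201732113 4593 (.nil) (.nil)) (.nil)) (.node 635202746927 5613 (.node 635202746865 5980 (.nil) (.nil)) (.nil))) (.node 636143320622 6094 (.node 636143320562 5622 (.node 636143257134 5239 (.nil) (.nil)) (.nil)) (.node 636144337422 4759 (.node 636144335376 3702 (.nil) (.nil)) (.nil))))) (.node 636176810513 1062 (.node 636175793711 1662 (.node 636175793649 1422 (.node 636144339472 3679 (.node 636144337426 5142 (.nil) (.nil)) (.nil)) (.node 636175793709 4654 (.node 636175793651 5673 (.nil) (.nil)) (.nil))) (.node 636175795757 5775 (.node 636175795699 4510 (.node 636175795697 1606 (.nil) (.nil)) (.nil)) (.node 636176810511 1542 (.node 636175795759 1279 (.nil) (.nil)) (.nil)))) (.node 636176873999 3381 (.node 636176812561 3439 (.node 636176812559 2479 (.node 636176812497 5688 (.nil) (.nil)) (.nil)) (.node 636176873937 5502 (.node 636176812623 5359 (.nil) (.nil)) (.nil))) (.node 636176876047 1159 (.node 636176874063 5786 (.node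 636176874001 2862 (.nil) (.nil)) (.nil)) (.node 636177827313 5328 (.node 636176876049 1473 (.nil) (.nil)) (.nil)))))) (.node 636208332272 1221 (.node 636207251922 3646 (.node 636177956399 5426 (.node 636177892849 3319 (.node 636177890863 3222 (.node 636177890801 2742 (.nil) (.nil)) (.nil)) (.node 636177956337 5913 (.node 636177892911 2599 (.nil) (.nil)) (.nil))) (.node 636178973199 4639 (.node 636178907665 4542 (.node 636178907663 5982 (.nil) (.nil)) (.nil)) (.node 636207188496 4884 (.node 636178973201 6079 (.nil) (.nil)) (.nil)))) (.node 636208268846 3015 (.node 636207315472 5026 (.node 636207252046 3630 (.node 636207251984 1470 (.nil) (.nil)) (.nil)) (.node 636208268786 2566 (.node 636208268784 1126 (.nil) (.nil)) (.nil))) (.node 636208270896 4328 (.node 636208270832 5343 (.node 636208268848 1328 (.nil) (.nil)) (.nil)) (.node 636208330288 5487 (.node 636208330224 4221 (.nil) (.nil)) (.nil))))) (.node 636209349136 199 (.node 636209285650 3608 (.node 636208332336 990 (.node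 636208332334 2670 (.node 636208332274 2913 (.nil) (.nil)) (.nil)) (.node 636209285648 2888 (.node 636209285646 3615 (.nil) (.nil)) (.nil))) (.node 636209347150 4950 (.node 636209347088 1182 (.node 636209347026 5141 (.nil) (.nil)) (.nil)) (.node 636209349134 1335 (.node 636209349074 3166 (.nil) (.nil)) (.nil)))) (.node 636209412622 3621 (.node 636209351122 4846 (.node 636209349198 3270 (.node 636209349138 1233 (.nil) (.nil)) (.nil)) (.node 636209351246 4758 (.node 636209351184 1039 (.nil) (.nil)) (.nil))) (.node 636210365936 1248 (.node 636209412626 3633 (.node 636209412624 3021 (.nil) (.nil)) (.nil)) (.node 636210365998 2775 (.node 636210365938 3048 (.nil) (.nil)) (.nil))))))) (.node 636274360848 3443 (.node 636240870897 3826 (.node 636211446350 3626 (.node 636210429426 2433 (.node 636210427376 3741 (.node 636210368048 4088 (.node 636210367984 4519 (.nil) (.nil)) (.nil)) (.node 636210429424 981 (.node 636210427440 4662 (.nil) (.nil)) (.nil))) (.node 636211382800 4688 (.node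 636210429488 1346 (.node 636210429486 2906 (.nil) (.nil)) (.nil)) (.node 636211446288 1608 (.node 636211446226 3648 (.nil) (.nil)) (.nil)))) (.node 636240741873 3886 (.node 636239725073 4044 (.node 636239725071 4404 (.node 636211509776 5061 (.nil) (.nil)) (.nil)) (.node 636239790609 4306 (.node 636239790607 3946 (.nil) (.nil)) (.nil))) (.node 636240805423 2430 (.node 636240805361 3286 (.node 636240741935 4164 (.nil) (.nil)) (.nil)) (.node 636240807471 3150 (.node 636240807409 2806 (.nil) (.nil)) (.nil))))) (.node 636241887759 1581 (.node 636241824273 2648 (.node 636241822225 1660 (.node 636241822223 975 (.node 636240870959 3990 (.nil) (.nil)) (.nil)) (.node 636241824271 3563 (.node 636241824209 4126 (.nil) (.nil)) (.nil))) (.node 636241885711 2541 (.node 636241885649 5621 (.node 636241824335 5238 (.nil) (.nil)) (.nil)) (.node 636241885775 3750 (.node 636241885713 3513 (.nil) (.nil)) (.nil)))) (.node 636242904561 1368 (.node 636242902515 4233 (.node 636242902513 1540 (.node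 636241887761 1113 (.nil) (.nil)) (.nil)) (.node 636242902575 1226 (.node 636242902573 5186 (.nil) (.nil)) (.nil))) (.node 636242904623 1466 (.node 636242904621 4335 (.node 636242904563 5568 (.nil) (.nil)) (.nil)) (.node 636274360846 5003 (.node 636274358800 3700 (.nil) (.nil)) (.nil)))))) (.node 668455191088 4998 (.node 668388082224 4630 (.node 636275441198 5853 (.node 636275377650 5709 (.node 636274362896 3683 (.node 636274360850 4900 (.nil) (.nil)) (.nil)) (.node 636275441138 3873 (.node 636275377710 3975 (.nil) (.nil)) (.nil))) (.node 668388016624 4534 (.node 668387001872 4150 (.node 668386999824 3814 (.nil) (.nil)) (.nil)) (.node 668388082160 5134 (.node 668388016688 4750 (.nil) (.nil)) (.nil)))) (.node 668421637649 5747 (.node 668421570063 5845 (.node 668420555313 3910 (.node 668420555247 4054 (.nil) (.nil)) (.nil)) (.node 668421637647 5267 (.node 668421570065 5605 (.nil) (.nil)) (.nil))) (.node 668455125488 4901 (.node 668422652465 5967 (.node 668422652399 6063 (.nil)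 (.nil)) (.nil)) (.node 668455191024 4307 (.node 668455125552 4405 (.nil) (.nil)) (.nil))))) (.node 669495344686 5666 (.node 669462871599 4902 (.node 669462808049 4999 (.node 668456207888 5387 (.node 668456205840 5485 (.nil) (.nil)) (.nil)) (.node 669462871537 4422 (.node 669462808111 4279 (.nil) (.nil)) (.nil))) (.node 669494266384 5408 (.node 669463888401 4062 (.node 669463888399 3919 (.nil) (.nil)) (.nil)) (.node 669495344626 5193 (.node 669494327824 5301 (.nil) (.nil)) (.nil)))) (.node 669526802961 6046 (.node 669496363536 3799 (.node 669495346734 5535 (.node 669495346674 5808 (.nil) (.nil)) (.nil)) (.node 669526802959 5910 (.node 669496424976 4182 (.nil) (.nil)) (.nil))) (.node 669527883249 4713 (.node 669527819823 5055 (.node 669527819761 4606 (.nil) (.nil)) (.nil)) (.node 669527883311 4470 (.nil) (.nil)))))))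

/-- Index of a small icosian., part 59. -/
def elDictPart59 : Dict :=
  .node 635200651759 5733 (elDictPart57) (elDictPart58)

/-- Index of a small icosian., part 60. -/
def elDictPart60 : Dict :=
  .node 635069611537 4735 (elDictPart56) (elDictPart59)

/-- Index of a small icosian., part 61. -/
def elDictPart61 : Dict :=
  .node 602922271248 166 (elDictPart53) (elDictPart60)

/-- Index of a small icosian., part 62. -/
def elDictPart62 : Dict :=
  .node 600745426415 5473 (elDictPart46) (elDictPart61)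

/-- Index of a small icosian. -/
def elDict : Dict :=
  .node 567489872400 6120 (elDictPart31) (elDictPart62)

end CfsgLib.Janko2
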