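import Mathlib.GroupTheory.Perm.Cycle.Type
import Mathlib.GroupTheory.SpecificGroups.Alternating
import Mathlib.GroupTheory.SemidirectProduct
import Mathlib.GroupTheory.Perm.Fin
import Mathlib.Data.ZMod.Basic

/-!
Element orders of the symmetric group of degree 8, and arbitrarily large groups `2^(6k) : A₈` with the
same element orders.
-/

set_option autoImplicit false
set_option maxRecDepth 10000
set_option Elab.async false

namespace CfsgLib.Janko2.Eight

open Equiv

/-- The common set of element orders. -/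
def ords : Finset ℕ := {1, 2, 3, 4, 5, 6, 7, 8, 10, 12, 15}

theorem lcm_parts (σ : Perm (Fin 8)) : σ.partition.parts.lcm = orderOf σ := by
  rw [Perm.parts_partition, Multiset.lcm_add, Perm.lcm_cycleType]
  have h : (Multiset.replicate (Fintype.card (Fin 8) - σ.support.card) 1).lcm ∣ 1 :=
    Multiset.lcm_dvd.2 fun b hb => (Multiset.eq_of_mem_replicate hb) ▸ dvd_rfl
  rw [Nat.dvd_one.1 h]
  exact Nat.lcm_one_right _

theorem sign_parts (σ : Perm (Fin 8)) : Perm.sign σ = (-1) ^ σ.partition.parts.card := by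
  rw [Perm.sign_of_cycleType, Perm.parts_partition, Multiset.card_add, Multiset.card_replicate,
    Fintype.card_fin, Perm.sum_cycleType]
  have hle : σ.support.card ≤ 8 := (Finset.card_le_univ _).trans (le_of_eq (Fintype.card_fin 8))
  rw [show σ.support.card + σ.cycleType.card = σ.cycleType.card + σ.support.card from Nat.add_comm _ _]
  rcases Nat.even_or_odd σ.support.card with h | h
  · have h' : Even (8 - σ.support.card) := by rw [Nat.even_sub hle]; simp [h, (by decide : Even 8)]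
    rw [pow_add, pow_add, h.neg_one_pow, h'.neg_one_pow]
  · have h' : Odd (8 - σ.support.card) := by rw [Nat.odd_sub hle]; simp [h, (by decide : ¬ Odd 8)]
    rw [pow_add, pow_add, h.neg_one_pow, h'.neg_one_pow]

/-- Descending lists of positive numbers at most `m` with sum `n`. -/
def descLists : ℕ → ℕ → ℕ → List (List ℕ)
  | _, 0, _ => [[]]
  | 0, _, _ => []
  | f + 1, n, m => (List.range (min n m)).flatMap fun a => (descLists f (n - (a + 1)) (a + 1)).map (List.cons (a + 1))

theorem mem_descLists : ∀ (l : List ℕ) (f n m : ℕ), l.Pairwise (· ≥ ·) → (∀ a ∈ l, 0 < a ∧ a ≤ m) →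
    l.sum = n → n ≤ f → l ∈ descLists f n m
  | [], f, n, m, _, _, hs, _ => by
    obtain rfl : n = 0 := by simpa using hs.symm
    cases f <;> simp [descLists]
  | a :: l, f, n, m, hp, hb, hs, hf => by
    obtain ⟨ha, ham⟩ := hb a (by simp)
    rw [List.sum_cons] at hs
    obtain ⟨f, rfl⟩ : ∃ f', f = f' + 1 := ⟨f - 1, by omega⟩
    obtain ⟨n', rfl⟩ : ∃ n', n = n' + 1 := ⟨n - 1, by omega⟩
    rw [descLists, List.mem_flatMap]
    refine ⟨a - 1, List.mem_range.2 (by omega), ?_⟩
    · rw [show a - 1 + 1 = a by omega, List.mem_map]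
      exact ⟨l, mem_descLists l f _ a (List.pairwise_cons.1 hp).2 (fun b hb' =>
      ⟨(hb b (by simp [hb'])).1, (List.pairwise_cons.1 hp).1 b hb'⟩) (by omega) (by omega), rfl⟩
    · exact fun h => by omega

/-- The facts about a partition of 8. -/
def PartFacts (s : Multiset ℕ) : Prop :=
  s.lcm ∈ ords ∧ (s.card % 2 = 0 → s.lcm ∈ ({1, 2, 3, 4, 5, 6, 7, 15} : Finset ℕ)) ∧
    (s.lcm = 7 → s = {7, 1}) ∧ (s.lcm = 15 → s = {5, 3})

instance (s : Multiset ℕ) : Decidable (PartFacts s) := by unfold PartFacts; infer_instance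

theorem descLists_facts : ∀ l ∈ descLists 8 8 8, PartFacts (l : Multiset ℕ) := by
  decide +kernel

theorem partitions_eight (p : Nat.Partition (Fintype.card (Fin 8))) : PartFacts p.parts := by
  have hs : (p.parts.sort (· ≥ ·)).sum = 8 := by
    rw [← Multiset.sum_coe, Multiset.sort_eq, p.parts_sum, Fintype.card_fin]
  have hb : ∀ a ∈ p.parts.sort (· ≥ ·), 0 < a ∧ a ≤ 8 := fun a ha => by
    have h := (Multiset.mem_sort (r := (· ≥ ·))).1 ha
    refine ⟨p.parts_pos h, ?_⟩
    have := Multiset.le_sum_of_mem h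
    rwa [p.parts_sum, Fintype.card_fin] at this
  have h := descLists_facts _ (mem_descLists _ 8 8 8 (Multiset.pairwise_sort _ _) hb hs le_rfl)
  rwa [Multiset.sort_eq] at h

theorem orderOf_mem (σ : Perm (Fin 8)) : orderOf σ ∈ ords :=
  lcm_parts σ ▸ (partitions_eight σ.partition).1

theorem orderOf_even {σ : Perm (Fin 8)} (h : σ ∈ alternatingGroup (Fin 8)) :
    orderOf σ ∈ ({1, 2, 3, 4, 5, 6, 7, 15} : Finset ℕ) := by
  refine lcm_parts σ ▸ (partitions_eight σ.partition).2.1 ?_
  rw [Perm.mem_alternatingGroup, sign_parts] at h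
  rcases Nat.even_or_odd σ.partition.parts.card with he | he
  · exact Nat.even_iff.1 he
  · rw [he.neg_one_pow] at h
    exact absurd h (by decide)

theorem isConj_of_orderOf {σ τ : Perm (Fin 8)} (ho : orderOf σ = 7 ∨ orderOf σ = 15)
    (h : orderOf τ = orderOf σ) : IsConj σ τ := by
  rw [Perm.partition_eq_of_isConj]
  refine Nat.Partition.ext ?_
  have hs := partitions_eight σ.partition
  have ht := partitions_eight τ.partition
  rw [PartFacts, lcm_parts] at hs ht
  rcases ho with ho | ho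
  · rw [hs.2.2.1 ho, ht.2.2.1 (h.trans ho)]
  · rw [hs.2.2.2 ho, ht.2.2.2 (h.trans ho)]

/-- A cycle on the given points. -/
def cyc (l : List (Fin 8)) : Perm (Fin 8) := l.formPerm

/-- Elements of all orders. -/
def wit : ℕ → Perm (Fin 8)
  | 2 => cyc [0, 1] * cyc [2, 3]
  | 3 => cyc [0, 1, 2]
  | 4 => cyc [0, 1, 2, 3] * cyc [4, 5]
  | 5 => cyc [0, 1, 2, 3, 4]
  | 6 => cyc [0, 1, 2] * cyc [3, 4] * cyc [5, 6]
  | 7 => cyc [0, 1, 2, 3, 4, 5, 6]
  | 8 => cyc [0, 1, 2, 3, 4, 5, 6, 7]
  | 10 => cyc [0, 1, 2, 3, 4] * cyc [5, 6]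
  | 12 => cyc [0, 1, 2, 3] * cyc [4, 5, 6]
  | 15 => cyc [0, 1, 2, 3, 4] * cyc [5, 6, 7]
  | _ => 1

theorem wit_pow : ∀ o ∈ ords, wit o ^ o = 1 ∧ ∀ m < o, 0 < m → wit o ^ m ≠ 1 := by
  decide +kernel

theorem orderOf_wit {o : ℕ} (ho : o ∈ ords) : orderOf (wit o) = o := by
  have hpos : 0 < o := by
    rcases Nat.eq_zero_or_pos o with rfl | h
    · exact absurd ho (by decide)
    · exact h
  rw [orderOf_eq_iff hpos]
  exact wit_pow o ho

theorem range_perm_eight : Set.range (orderOf : Perm (Fin 8) → ℕ) = (ords : Set ℕ) := by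
  ext o
  exact ⟨fun ⟨σ, e⟩ => e ▸ orderOf_mem σ, fun h => ⟨_, orderOf_wit h⟩⟩

theorem wit_even : ∀ o ∈ ({1, 2, 3, 4, 5, 6, 7, 15} : Finset ℕ), Perm.sign (wit o) = 1 := by
  decide +kernel

/-! ### The module -/

/-- Functions on pairs. -/
abbrev Pairs : Type := Fin 8 × Fin 8 → ZMod 2

/-- Sums at two points of a function with zero sum. -/
def sumPairs : AddSubgroup Pairs where
  carrier := {w | ∃ v : Fin 8 → ZMod 2, ∑ x, v x = 0 ∧ w = fun p => v p.1 + v p.2}
  zero_mem' := ⟨0, by simp, by funext p; simp⟩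
  add_mem' := by
    rintro _ _ ⟨v, hv, rfl⟩ ⟨v', hv', rfl⟩
    refine ⟨v + v', ?_, ?_⟩
    · rw [← add_zero (0 : ZMod 2)]
      nth_rw 1 [← hv]
      rw [← hv', ← Finset.sum_add_distrib]
      rfl
    · funext p; simp only [Pi.add_apply]; exact add_add_add_comm _ _ _ _
  neg_mem' := by
    rintro _ ⟨v, hv, rfl⟩
    refine ⟨-v, ?_, ?_⟩
    · rw [← neg_zero, ← hv, ← Finset.sum_neg_distrib]
      rfl
    · funext p; simp only [Pi.neg_apply]; exact neg_add _ _

theorem move_mem (σ : Perm (Fin 8)) {w : Pairs} (hw : w ∈ sumPairs) :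
    (fun p => w (σ⁻¹ p.1, σ⁻¹ p.2)) ∈ sumPairs := by
  obtain ⟨v, hv, rfl⟩ := hw
  exact ⟨fun x => v (σ⁻¹ x), (Equiv.sum_comp σ⁻¹ v).trans hv, rfl⟩

variable (k : ℕ)

/-- Copies of the module. -/
abbrev Mo : Type := Fin k → sumPairs

/-- The action. -/
def act (σ : Perm (Fin 8)) (w : Mo k) : Mo k := fun i =>
  ⟨fun p => (w i : Pairs) (σ⁻¹ p.1, σ⁻¹ p.2), move_mem σ (w i).2⟩

theorem act_mul (σ τ : Perm (Fin 8)) (w : Mo k) : act k (σ * τ) w = act k σ (act k τ w) := by
  funext i
  exact Subtype.ext (funext fun p => by simp [act])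

theorem act_one (w : Mo k) : act k 1 w = w := by
  funext i
  exact Subtype.ext (funext fun p => by simp [act])

theorem act_add (σ : Perm (Fin 8)) (v w : Mo k) : act k σ (v + w) = act k σ v + act k σ w := rfl

/-- The action as automorphisms. -/
def actHom : alternatingGroup (Fin 8) →* MulAut (Multiplicative (Mo k)) where
  toFun σ :=
    { toFun := fun w => Multiplicative.ofAdd (act k σ w.toAdd)
      invFun := fun w => Multiplicative.ofAdd (act k (σ : Perm (Fin 8))⁻¹ w.toAdd)
      left_inv := fun w => by simp [← act_mul, act_one]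
      right_inv := fun w => by simp [← act_mul, act_one]
      map_mul' := fun v w => congrArg Multiplicative.ofAdd (act_add k σ v.toAdd w.toAdd) }
  map_one' := MulEquiv.ext fun w => congrArg Multiplicative.ofAdd (act_one k w.toAdd)
  map_mul' σ τ := MulEquiv.ext fun w => congrArg Multiplicative.ofAdd (act_mul k σ τ w.toAdd)

/-- The groups `2^(6k) : A₈`. -/
abbrev Grp : Type := Multiplicative (Mo k) ⋊[actHom k] alternatingGroup (Fin 8)

/-- The norm of an element of the module. -/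
def nrm (g : Perm (Fin 8)) (n : ℕ) (w : Mo k) : Mo k := ∑ i ∈ Finset.range n, act k (g ^ i) w

theorem pow_eq (x : Grp k) : ∀ n : ℕ,
    x ^ n = ⟨Multiplicative.ofAdd (nrm k (x.right : Perm (Fin 8)) n x.left.toAdd), x.right ^ n⟩
  | 0 => by ext1 <;> simp [nrm]
  | n + 1 => by
    rw [pow_succ, pow_eq x n]
    ext1
    · show Multiplicative.ofAdd (nrm k (x.right : Perm (Fin 8)) n x.left.toAdd) *
        Multiplicative.ofAdd (act k ((x.right ^ n : alternatingGroup (Fin 8)) : Perm (Fin 8)) x.left.toAdd) =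
          Multiplicative.ofAdd (nrm k (x.right : Perm (Fin 8)) (n + 1) x.left.toAdd)
      rw [← ofAdd_add, nrm, nrm, Finset.sum_range_succ, Subgroup.coe_pow]
    · exact (pow_succ _ _).symm

theorem pow_eq_one_iff (x : Grp k) (n : ℕ) :
    x ^ n = 1 ↔ nrm k (x.right : Perm (Fin 8)) n x.left.toAdd = 0 ∧ x.right ^ n = 1 := by
  rw [pow_eq, SemidirectProduct.ext_iff]
  exact and_congr_left' ofAdd_eq_one

theorem two_eq_zero (w : Mo k) : w + w = 0 := by
  funext i
  exact Subtype.ext (funext fun p => ZModModule.add_self _)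

theorem norm_seven_fifteen : ∀ o ∈ ({7, 15} : Finset ℕ), ∀ v : Fin 8 → ZMod 2, ∑ x, v x = 0 →
    ∀ x y : Fin 8, ∑ i ∈ Finset.range o, (v ((wit o ^ i)⁻¹ x) + v ((wit o ^ i)⁻¹ y)) = 0 := by
  decide +kernel

theorem nrm_odd {g : Perm (Fin 8)} {o : ℕ} (ho : o = 7 ∨ o = 15) (hg : orderOf g = o) (w : Mo k) :
    nrm k g o w = 0 := by
  have hm : o ∈ ords := by rcases ho with rfl | rfl <;> decide
  obtain ⟨c, hc⟩ := isConj_iff.1 (isConj_of_orderOf (σ := wit o) (τ := g) (by rw [orderOf_wit hm]; exact ho)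
    (by rw [hg, orderOf_wit hm]))
  funext i
  refine Subtype.ext (funext fun p => ?_)
  obtain ⟨v, hv, e⟩ := (w i).2
  have h := norm_seven_fifteen o (by rcases ho with rfl | rfl <;> decide) (fun x => v (c x))
    ((Equiv.sum_comp c v).trans hv) (c⁻¹ p.1) (c⁻¹ p.2)
  simp only [nrm, Finset.sum_apply, AddSubmonoidClass.coe_finset_sum, Pi.zero_apply,
    ZeroMemClass.coe_zero, act]
  rw [← h]
  refine Finset.sum_congr rfl fun n _ => ?_
  rw [e, ← hc, conj_pow]
  simp [Perm.mul_apply]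

theorem orderOf_grp (x : Grp k) : orderOf x ∈ ords := by
  set g := (x.right : Perm (Fin 8)) with hg
  set o := orderOf x.right with ho
  have hge : orderOf g = o := Subgroup.orderOf_coe x.right
  have hev := orderOf_even x.right.2
  rw [← hg, hge] at hev
  have hdvd : o ∣ orderOf x := orderOf_map_dvd SemidirectProduct.rightHom x
  have h2 : orderOf x ∣ o * 2 := by
    refine orderOf_dvd_of_pow_eq_one ?_
    rw [pow_mul, pow_two, pow_eq, SemidirectProduct.ext_iff]
    refine ⟨?_, ?_⟩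
    · rw [pow_orderOf_eq_one]
      show Multiplicative.ofAdd _ * (actHom k 1) (Multiplicative.ofAdd _) = 1
      rw [map_one, MulAut.one_apply, ← ofAdd_add, two_eq_zero]
      rfl
    · show x.right ^ o * x.right ^ o = 1
      rw [pow_orderOf_eq_one, one_mul]
  have hodd : o = 7 ∨ o = 15 → orderOf x = o := fun h7 => by
    refine Nat.dvd_antisymm (orderOf_dvd_of_pow_eq_one ((pow_eq_one_iff k x o).2 ?_)) hdvd
    exact ⟨nrm_odd k h7 hge _, pow_orderOf_eq_one _⟩
  simp only [Finset.mem_insert, Finset.mem_singleton] at hev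
  obtain ⟨c, hc⟩ := hdvd
  rw [hc] at h2
  have hpos : 0 < o := by omega
  have hc2 : c = 1 ∨ c = 2 := (Nat.dvd_prime Nat.prime_two).1 (Nat.dvd_of_mul_dvd_mul_left hpos h2)
  rcases hev with h | h | h | h | h | h | h | h
  all_goals
    rcases hc2 with rfl | rfl
    all_goals
      first
      | (rw [hc, h]; decide)
      | (rw [hodd (by omega)]; rw [h]; decide)

/-- Functions witnessing the larger orders. -/
def witVec : ℕ → Fin 8 → ZMod 2
  | 4 => fun x => if x = 0 ∨ x = 4 then 1 else 0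
  | 5 => fun x => if x = 0 ∨ x = 5 then 1 else 0
  | _ => fun x => if x = 0 ∨ x = 3 then 1 else 0

theorem witVec_spec : ∀ o ∈ ({4, 5, 6} : Finset ℕ), ∑ x, witVec o x = 0 ∧
    ∃ x y : Fin 8, ∑ i ∈ Finset.range o, (witVec o ((wit o ^ i)⁻¹ x) + witVec o ((wit o ^ i)⁻¹ y)) ≠ 0 := by
  decide +kernel

theorem range_grp {k : ℕ} (hk : 0 < k) : Set.range (orderOf : Grp k → ℕ) = (ords : Set ℕ) := by
  refine Set.Subset.antisymm (fun o ⟨x, e⟩ => e ▸ orderOf_grp k x) fun o ho => ?_
  have hev : ∀ o ∈ ({1, 2, 3, 4, 5, 6, 7, 15} : Finset ℕ), o ∈ ords := by decide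
  let el : ∀ o ∈ ({1, 2, 3, 4, 5, 6, 7, 15} : Finset ℕ), alternatingGroup (Fin 8) := fun o ho =>
    ⟨wit o, Perm.mem_alternatingGroup.2 (wit_even o ho)⟩
  have hel : ∀ o ho, orderOf (el o ho) = o := fun o ho =>
    (Subgroup.orderOf_coe (el o ho)).symm.trans (orderOf_wit (hev o ho))
  by_cases h8 : o ∈ ({8, 10, 12} : Finset ℕ)
  · obtain ⟨c, rfl, hc⟩ : ∃ c, o = c * 2 ∧ c ∈ ({4, 5, 6} : Finset ℕ) := by
      simp only [Finset.mem_insert, Finset.mem_singleton] at h8
      rcases h8 with rfl | rfl | rfl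
      · exact ⟨4, rfl, by decide⟩
      · exact ⟨5, rfl, by decide⟩
      · exact ⟨6, rfl, by decide⟩
    have hc' : c ∈ ({1, 2, 3, 4, 5, 6, 7, 15} : Finset ℕ) := by
      simp only [Finset.mem_insert, Finset.mem_singleton] at hc ⊢
      omega
    obtain ⟨hsum, x, y, hne⟩ := witVec_spec c hc
    let w : Mo k := fun _ => ⟨_, witVec c, hsum, rfl⟩
    let z : Grp k := ⟨Multiplicative.ofAdd w, el c hc'⟩
    refine ⟨z, ?_⟩
    have hdvd : c ∣ orderOf z := (hel c hc') ▸ orderOf_map_dvd SemidirectProduct.rightHom z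
    have hnot : z ^ c ≠ 1 := by
      intro e
      have h := ((pow_eq_one_iff k z c).1 e).1
      have h' := congrFun (congrArg Subtype.val (congrFun h ⟨0, hk⟩)) (x, y)
      simp only [nrm, Finset.sum_apply, AddSubmonoidClass.coe_finset_sum, Pi.zero_apply,
        ZeroMemClass.coe_zero, act] at h'
      exact hne h'
    have hmem := orderOf_grp k z
    obtain ⟨d, hd⟩ := hdvd
    have h2 : orderOf z ∣ c * 2 := by
      refine orderOf_dvd_of_pow_eq_one ?_
      rw [pow_mul, pow_two, pow_eq, SemidirectProduct.ext_iff]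
      have hr : z.right ^ c = 1 := by rw [← hel c hc']; exact pow_orderOf_eq_one _
      refine ⟨?_, ?_⟩
      · rw [hr]
        show Multiplicative.ofAdd _ * (actHom k 1) (Multiplicative.ofAdd _) = 1
        rw [map_one, MulAut.one_apply, ← ofAdd_add, two_eq_zero]
        rfl
      · show z.right ^ c * z.right ^ c = 1
        rw [hr, one_mul]
    have hpos : 0 < c := by simp only [Finset.mem_insert, Finset.mem_singleton] at hc; omega
    rw [hd] at h2
    rcases (Nat.dvd_prime Nat.prime_two).1 (Nat.dvd_of_mul_dvd_mul_left hpos h2) with rfl | rfl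
    · rw [mul_one] at hd
      exact absurd (hd ▸ pow_orderOf_eq_one z) hnot
    · exact hd
  · have ho' : o ∈ ({1, 2, 3, 4, 5, 6, 7, 15} : Finset ℕ) := by
      simp only [ords, Finset.coe_insert, Finset.coe_singleton, Set.mem_insert_iff, Set.mem_singleton_iff] at ho
      simp only [Finset.mem_insert, Finset.mem_singleton] at h8 ⊢
      omega
    exact ⟨SemidirectProduct.inr (el o ho'), by
      rw [orderOf_injective SemidirectProduct.inr SemidirectProduct.inr_injective, hel o ho']⟩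

instance (k : ℕ) : Finite (Grp k) := Finite.of_equiv _ SemidirectProduct.equivProd.symm

theorem lt_card_grp (N : ℕ) : N < Nat.card (Grp (N + 1)) := by
  haveI : Nontrivial sumPairs := by
    obtain ⟨hs, x, y, hne⟩ := witVec_spec 4 (by decide)
    refine ⟨0, ⟨_, witVec 4, hs, rfl⟩, fun e => hne ?_⟩
    refine Finset.sum_eq_zero fun i _ => ?_
    exact (congrFun (congrArg Subtype.val e) ((wit 4 ^ i)⁻¹ x, (wit 4 ^ i)⁻¹ y)).symm
  rw [SemidirectProduct.card, Nat.card_congr Multiplicative.toAdd, Nat.card_fun, Nat.card_fin]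
  have h2 : 2 ≤ Nat.card sumPairs := Finite.one_lt_card
  have h1 : 1 ≤ Nat.card (alternatingGroup (Fin 8)) := Nat.card_pos
  calc N < 2 ^ (N + 1) := (Nat.lt_two_pow_self).trans (Nat.pow_lt_pow_right one_lt_two N.lt_succ_self)
    _ ≤ Nat.card sumPairs ^ (N + 1) := Nat.pow_le_pow_left h2 _
    _ ≤ _ := Nat.le_mul_of_pos_right _ h1

end CfsgLib.Janko2.Eight
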