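import Cfsg.Agent.Lib.Janko2.Classify

/-!
The reflections of the icosian Leech lattice and the group they generate.
-/

set_option autoImplicit false
set_option maxRecDepth 100000

namespace CfsgLib.Janko2

open Quaternion Cfsg.Spor CfsgLib.Fusion.TableSylow

theorem repV_lat {k : ℕ} (hk : k < 315) : (repV k).inLat = true ∧ qip (repV k).dec (repV k).dec = 4 := by
  have h := all_of check_reps hk
  simp only [Bool.and_eq_true, decide_eq_true_eq] at h
  refine ⟨h.1.1, ?_⟩
  have hi := h.1.1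
  simp only [Vec.inLat, Bool.and_eq_true] at hi
  rw [← (Vec.ip_spec hi.1.1.1 hi.1.1.1).1, h.1.2]
  rw [show (4 : ℍ[ℝ]) = ((4 : ℝ) : ℍ[ℝ]) from rfl]
  ext <;> simp only [Quad.re_dec, Quad.imI_dec, Quad.imJ_dec, Quad.imK_dec, qd, Zt.val,
    Quaternion.re_coe, Quaternion.imI_coe, Quaternion.imJ_coe, Quaternion.imK_coe] <;> norm_num

theorem inLat_isIco {v : Vec} (h : v.inLat = true) : v.isIco = true := by
  simp only [Vec.inLat, Bool.and_eq_true] at h
  exact h.1.1.1

theorem icoLeech_add {f g : Fin 3 → ℍ[ℝ]} (hf : f ∈ icoLeech) (hg : g ∈ icoLeech) :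
    f + g ∈ icoLeech := by
  obtain ⟨a1, a2, a3, a4⟩ := hf
  obtain ⟨b1, b2, b3, b4⟩ := hg
  refine ⟨fun t => add_mem (a1 t) (b1 t), ?_, ?_, ?_⟩
  · convert leftIdeal_add a2 b2 using 1; simp only [Pi.add_apply]; abel
  · convert leftIdeal_add a3 b3 using 1; simp only [Pi.add_apply]; abel
  · convert leftIdeal_add a4 b4 using 1; simp only [Pi.add_apply]; abel

theorem icoLeech_sub {f g : Fin 3 → ℍ[ℝ]} (hf : f ∈ icoLeech) (hg : g ∈ icoLeech) :
    f - g ∈ icoLeech := by
  have h := icoLeech_add hf (icoLeech_smul (u := -1) (neg_mem (one_mem _)) hg)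
  convert h using 1
  funext t
  simp [sub_eq_add_neg]

theorem latGen_mem (t : Fin 3) : (latGen t).dec ∈ icoLeech :=
  Vec.mem_icoLeech_iff.2 (all_of check_lat_gens t.2)

/-- The lattice is spanned by three vectors. -/
theorem lattice_span {f : Fin 3 → ℍ[ℝ]} (hf : f ∈ icoLeech) :
    ∃ a b c : ℍ[ℝ], a ∈ icosians ∧ b ∈ icosians ∧ c ∈ icosians ∧
      f = (fun t => a * (latGen 0).dec t) + (fun t => b * (latGen 1).dec t) +
        (fun t => c * (latGen 2).dec t) := by
  obtain ⟨h1, ⟨p, hp, ep⟩, ⟨q, hq, eq'⟩, ⟨e, he, ee⟩⟩ := hf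
  have hh : star icoH ∈ icosians ∧ icoH ∈ icosians := by
    refine ⟨?_, dec_qh ▸ Quad.mem_icosians qh_isIco.1⟩
    rw [← dec_qh, ← Quad.dec_conj]
    exact Quad.mem_icosians qh_isIco.2
  have h2 : icoH * star icoH = 2 ∧ star icoH * icoH = 2 := by
    rw [← dec_qh, ← Quad.dec_conj]; exact dec_qh_norm
  refine ⟨-p, -(p + q), e - f 0 * icoH + 0, neg_mem hp,
    neg_mem (add_mem hp hq),
    add_mem (sub_mem he (mul_mem (h1 0) hh.2)) (zero_mem _), ?_⟩
  have hz : f 0 - f 2 = p * icoH + q * icoH := by rw [← ep, ← eq']; abel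
  -- twice the first entry
  have h02 : f 0 * icoH * star icoH = f 0 + f 0 := by rw [mul_assoc, h2.1, mul_two]
  have hc : (e - f 0 * icoH + 0) * star icoH = f 0 + f 1 + f 2 - (f 0 + f 0) := by
    rw [add_zero, sub_mul, ← ee, h02]
  have g0 : latGen 0 = ⟨qh.neg, Quad.zero, qh.neg⟩ := rfl
  have g1 : latGen 1 = ⟨qh.neg, qh.neg, Quad.zero⟩ := rfl
  have g2 : latGen 2 = ⟨qh.conj, qh.conj, qh.conj⟩ := rfl
  rw [g0, g1, g2]
  funext t
  fin_cases t <;>
    simp [ Vec.dec, Quad.dec_neg, Quad.dec_conj, Quad.dec_zero, dec_qh] at hc ⊢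
  · rw [hc]
    linear_combination (norm := noncomm_ring) ep + hz
  · rw [hc]
    linear_combination (norm := noncomm_ring) hz
  · rw [hc]
    linear_combination (norm := noncomm_ring) ep

/-- Products with a minimal vector are divisible by two. -/
theorem qip_two {k : ℕ} (hk : k < 315) {f : Fin 3 → ℍ[ℝ]} (hf : f ∈ icoLeech) :
    ∃ s ∈ icosians, qip f (repV k).dec = 2 * s := by
  have h := all_of check_reps hk
  simp only [Bool.and_eq_true] at h
  have key : ∀ t < 3, ∃ s ∈ icosians, qip (latGen t).dec (repV k).dec = 2 * s := by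
    intro t ht
    have hg := inLat_isIco (all_of check_lat_gens ht)
    rw [← (Vec.ip_spec hg (inLat_isIco h.1.1)).1]
    exact Quad.isTwoIco_iff.1 (all_of h.2 ht)
  obtain ⟨a, b, c, ha, hb, hc, rfl⟩ := lattice_span hf
  obtain ⟨s0, i0, e0⟩ := key 0 (by norm_num)
  obtain ⟨s1, i1, e1⟩ := key 1 (by norm_num)
  obtain ⟨s2, i2, e2⟩ := key 2 (by norm_num)
  refine ⟨a * s0 + b * s1 + c * s2,
    add_mem (add_mem (mul_mem ha i0) (mul_mem hb i1)) (mul_mem hc i2), ?_⟩
  rw [qip_add_left, qip_add_left, qip_smul_left, qip_smul_left, qip_smul_left, e0, e1, e2]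
  simp only [two_mul, mul_add]

theorem half_two (s : ℍ[ℝ]) : (1 / 2 : ℝ) • (2 * s) = s := by
  rw [two_mul, ← two_smul ℝ, smul_smul]
  norm_num

theorem qrefl_mem {k : ℕ} (hk : k < 315) {f : Fin 3 → ℍ[ℝ]} (hf : f ∈ icoLeech) :
    qrefl (repV k).dec f ∈ icoLeech := by
  obtain ⟨s, hs, e⟩ := qip_two hk hf
  have h := icoLeech_sub hf (icoLeech_smul hs (Vec.mem_icoLeech_iff.2 (repV_lat hk).1))
  convert h using 1
  funext t
  simp only [qrefl, Pi.sub_apply, e, half_two]

/-- The reflection in a listed vector. -/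
noncomputable def refPerm (k : Fin 315) : Equiv.Perm icoLeech where
  toFun x := ⟨qrefl (repV k).dec x, qrefl_mem k.2 x.2⟩
  invFun x := ⟨qrefl (repV k).dec x, qrefl_mem k.2 x.2⟩
  left_inv x := Subtype.ext (qrefl_involutive (repV_lat k.2).2 _)
  right_inv x := Subtype.ext (qrefl_involutive (repV_lat k.2).2 _)

theorem refPerm_apply (k : Fin 315) (x : icoLeech) :
    ((refPerm k x : icoLeech) : Fin 3 → ℍ[ℝ]) = qrefl (repV k).dec x := rfl

theorem refPerm_sq (k : Fin 315) : refPerm k * refPerm k = 1 := by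
  ext1 x
  exact Subtype.ext (qrefl_involutive (repV_lat k.2).2 _)

theorem refPerm_isRefl (k : Fin 315) : IsIcoReflection (refPerm k) :=
  ⟨⟨_, Vec.mem_icoLeech_iff.2 (repV_lat k.2).1⟩, (repV_lat k.2).2, fun _ => rfl⟩

theorem isRefl_iff {f : Equiv.Perm icoLeech} : IsIcoReflection f ↔ ∃ k, f = refPerm k := by
  refine ⟨?_, fun ⟨k, e⟩ => e ▸ refPerm_isRefl k⟩
  rintro ⟨r, hr, h⟩
  obtain ⟨k, hk, u, hu, e⟩ := minimal_listed r.2 hr
  refine ⟨⟨k, hk⟩, Equiv.ext fun x => Subtype.ext ?_⟩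
  rw [h x, refPerm_apply, e, qrefl_unit (uQ_spec hu).2.1]

/-- Distinct lines give distinct reflections. -/
theorem refPerm_injective : Function.Injective refPerm := by
  intro k l h
  set r := (repV k).dec with hr
  set s := (repV l).dec with hs
  have hk : qip r r = 4 := (repV_lat k.2).2
  have hrm : r ∈ icoLeech := Vec.mem_icoLeech_iff.2 (repV_lat k.2).1
  have h1 : qrefl r r = qrefl s r :=
    congrArg (fun π : Equiv.Perm icoLeech => ((π ⟨r, hrm⟩ : icoLeech) : Fin 3 → ℍ[ℝ])) h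
  have h2 : qrefl r r = -r := by
    funext t
    simp only [qrefl, hk]
    rw [show (4 : ℍ[ℝ]) = 2 * 2 by norm_num, half_two, two_mul]
    simp
  set a := (1 / 2 : ℝ) • ((1 / 2 : ℝ) • qip r s) with ha
  have h3 : r = fun t => a * s t := by
    funext t
    have h4 := congrFun (h2.symm.trans h1) t
    simp only [qrefl, Pi.neg_apply] at h4
    have h5 : r t + r t = ((1 / 2 : ℝ) • qip r s) * s t := by
      linear_combination (norm := abel) -h4
    rw [ha, smul_mul_assoc, ← h5, ← two_smul ℝ, smul_smul]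
    norm_num
  have h6 : star a * a = 1 := by
    have h7 : qip r r = a * (qip s s * star a) := by
      conv_lhs => rw [h3, qip_smul_left, qip_smul_right]
    rw [hk, show qip s s = 4 from (repV_lat l.2).2, show (4 : ℍ[ℝ]) = ((4 : ℝ) : ℍ[ℝ]) from rfl, Quaternion.coe_mul_eq_smul,
      mul_smul_comm] at h7
    have h8 : a * star a = 1 := by
      have h9 := congrArg (fun x => (1 / 4 : ℝ) • x) h7
      simp only [smul_smul] at h9
      rw [show (1 / 4 : ℝ) * 4 = 1 by norm_num, one_smul] at h9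
      rw [← h9, ← Quaternion.coe_smul]
      norm_num
    exact mul_eq_one_comm.1 h8
  have hkey : ∀ p q : Fin 3, star (r p) * r q = star (s p) * s q := fun p q => by
    rw [h3]
    simp only [star_mul]
    rw [mul_assoc, ← mul_assoc (star a), h6, one_mul]
  have hsig : sigOf (repV k) = sigOf (repV l) := by
    have hq : ∀ (A B C D : Quad), A.isIco = true → B.isIco = true → C.isIco = true → D.isIco = true →
        star A.dec * B.dec = star C.dec * D.dec → A.conj.mul B = C.conj.mul D := by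
      intro A B C D hA hB hC hD e
      refine Quad.dec_injective ?_
      rw [(Quad.ico_mul (Quad.conj_isIco hA) hB).1, (Quad.ico_mul (Quad.conj_isIco hC) hD).1,
        Quad.dec_conj, Quad.dec_conj, e]
    obtain ⟨kx, ky, kz⟩ := Vec.isIco_iff.1 (inLat_isIco (repV_lat k.2).1)
    obtain ⟨lx, ly, lz⟩ := Vec.isIco_iff.1 (inLat_isIco (repV_lat l.2).1)
    simp only [sigOf]
    rw [hq _ _ _ _ kx kx lx lx (hkey 0 0), hq _ _ _ _ ky ky ly ly (hkey 1 1),
      hq _ _ _ _ kx ky lx ly (hkey 0 1), hq _ _ _ _ kx kz lx lz (hkey 0 2),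
      hq _ _ _ _ ky kz ly lz (hkey 1 2)]
  have hc := check_sig
  simp only [Bool.and_eq_true] at hc
  rw [beq_eq (all_of hc.1 k.2), beq_eq (all_of hc.1 l.2)] at hsig
  refine Fin.ext ?_
  rcases lt_trichotomy (k : ℕ) l with hlt | e | hlt
  · have := all_of (all_of hc.2 l.2) hlt
    rw [hsig, Nat.beq_refl] at this
    exact absurd this (by decide)
  · exact e
  · have := all_of (all_of hc.2 k.2) hlt
    rw [hsig, Nat.beq_refl] at this
    exact absurd this (by decide)

/-- A generator, by index. -/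
def gFin (a : Fin 4) : Fin 315 := ⟨gLine a % 315, Nat.mod_lt _ (by norm_num)⟩

/-- Action of a generator on the lines. -/
def actFin (a : Fin 4) (j : Fin 315) : Fin 315 :=
  ⟨genAct.get (315 * a + j) / 120 % 315, Nat.mod_lt _ (by norm_num)⟩

theorem conj_gen (a : Fin 4) (j : Fin 315) :
    refPerm (gFin a) * refPerm j * refPerm (gFin a) = refPerm (actFin a j) := by
  have h := all_of check_act a.2
  simp only [Bool.and_eq_true, Nat.blt_eq] at h
  have h' := all_of h.2 j.2
  simp only [Bool.and_eq_true, decide_eq_true_eq, Nat.blt_eq] at h'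
  obtain ⟨⟨ht, h2⟩, h3⟩ := h'
  set t := genAct.get (315 * (a : ℕ) + j)
  have eg : ((gFin a : Fin 315) : ℕ) = gLine a := Nat.mod_eq_of_lt h.1
  have ea : ((actFin a j : Fin 315) : ℕ) = t / 120 := Nat.mod_eq_of_lt (by omega)
  ext1 x
  refine Subtype.ext ?_
  show qrefl (repV (gFin a)).dec (qrefl (repV j).dec (qrefl (repV (gFin a)).dec x)) =
    qrefl (repV (actFin a j)).dec x
  rw [eg, ea, qrefl_conj (repV_lat h.1).2,
    ← (Vec.refl_spec (inLat_isIco (repV_lat h.1).1) (inLat_isIco (repV_lat j.2).1) h2).1, h3]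
  have hu : t % 120 < 120 := Nat.mod_lt _ (by norm_num)
  rw [(Vec.smul_spec (uQ_spec hu).1 (inLat_isIco (repV_lat (show t / 120 < 315 by omega)).1)).1]
  exact qrefl_unit (uQ_spec hu).2.1 _ _

/-- The four generating reflections. -/
def genSet : Set (Equiv.Perm icoLeech) := Set.range fun a : Fin 4 => refPerm (gFin a)

theorem refPerm_mem (k : Fin 315) : refPerm k ∈ Subgroup.closure genSet := by
  suffices h : ∀ n, ∀ k : Fin 315, depthTab.get k ≤ n → refPerm k ∈ Subgroup.closure genSet from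
    h _ k le_rfl
  intro n
  induction n using Nat.strong_induction_on with
  | _ n ih =>
    intro k hk
    have h := all_of check_tree k.2
    simp only [Bool.or_eq_true, Bool.and_eq_true, Nat.blt_eq] at h
    rcases h with h | ⟨⟨h1, h2⟩, h3⟩
    · have e := beq_eq h
      have : k = gFin 0 := Fin.ext (by
        show (k : ℕ) = gLine (0 : ℕ) % 315
        rw [← e, Nat.mod_eq_of_lt k.2])
      rw [this]
      exact Subgroup.subset_closure ⟨0, rfl⟩
    · set p := parentTab.get (k : ℕ)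
      have hm := ih (depthTab.get (p / 4)) (h1.trans_le hk) ⟨p / 4, h2⟩ le_rfl
      have he := conj_gen ⟨p % 4, Nat.mod_lt _ (by norm_num)⟩ ⟨p / 4, h2⟩
      have ek : actFin ⟨p % 4, Nat.mod_lt _ (by norm_num)⟩ ⟨p / 4, h2⟩ = k := Fin.ext (by
        show genAct.get (315 * (p % 4) + p / 4) / 120 % 315 = k
        rw [beq_eq h3, Nat.mod_eq_of_lt k.2])
      rw [← ek, ← he]
      exact mul_mem (mul_mem (Subgroup.subset_closure ⟨_, rfl⟩) hm) (Subgroup.subset_closure ⟨_, rfl⟩)

theorem twoJ2_eq : twoJ2 = Subgroup.closure genSet := by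
  refine le_antisymm ((Subgroup.closure_le _).2 fun f hf => ?_) (Subgroup.closure_mono ?_)
  · obtain ⟨k, rfl⟩ := isRefl_iff.1 hf
    exact refPerm_mem k
  · rintro _ ⟨a, rfl⟩
    exact refPerm_isRefl _

theorem refPerm_mem_twoJ2 (k : Fin 315) : refPerm k ∈ twoJ2 :=
  Subgroup.subset_closure (refPerm_isRefl k)

theorem tree_step {k : Fin 315} (h : k ≠ gFin 0) :
    ∃ (a : Fin 4) (p : Fin 315), depthTab.get p < depthTab.get k ∧ actFin a p = k := by
  have h0 := all_of check_tree k.2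
  simp only [Bool.or_eq_true, Bool.and_eq_true, Nat.blt_eq] at h0
  rcases h0 with h0 | ⟨⟨h1, h2⟩, h3⟩
  · exact absurd (Fin.ext (by
      show (k : ℕ) = gLine (0 : ℕ) % 315
      rw [← beq_eq h0, Nat.mod_eq_of_lt k.2])) h
  · refine ⟨⟨parentTab.get (k : ℕ) % 4, Nat.mod_lt _ (by norm_num)⟩, ⟨_, h2⟩, h1, Fin.ext ?_⟩
    show genAct.get (315 * (parentTab.get (k : ℕ) % 4) + parentTab.get (k : ℕ) / 4) / 120 % 315 = k
    rw [beq_eq h3, Nat.mod_eq_of_lt k.2]

theorem conj_root (j : Fin 315) :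
    ∃ g ∈ twoJ2, g * refPerm (gFin 0) * g⁻¹ = refPerm j := by
  suffices h : ∀ n, ∀ j : Fin 315, depthTab.get j ≤ n →
      ∃ g ∈ twoJ2, g * refPerm (gFin 0) * g⁻¹ = refPerm j from h _ j le_rfl
  intro n
  induction n using Nat.strong_induction_on with
  | _ n ih =>
    intro j hj
    by_cases h : j = gFin 0
    · exact ⟨1, one_mem _, by rw [h]; simp⟩
    obtain ⟨a, p, hp, e⟩ := tree_step h
    obtain ⟨g, hg, eg⟩ := ih _ (hp.trans_le hj) p le_rfl
    refine ⟨refPerm (gFin a) * g, mul_mem (refPerm_mem_twoJ2 _) hg, ?_⟩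
    have hinv : (refPerm (gFin a))⁻¹ = refPerm (gFin a) := inv_eq_of_mul_eq_one_right (refPerm_sq _)
    rw [← e, ← conj_gen, ← eg, mul_inv_rev, hinv]
    simp only [mul_assoc]

theorem ncard_refl : {f : Equiv.Perm icoLeech | IsIcoReflection f}.ncard = 315 := by
  rw [show {f : Equiv.Perm icoLeech | IsIcoReflection f} = Set.range refPerm from
    Set.ext fun f => isRefl_iff.trans ⟨fun ⟨k, e⟩ => ⟨k, e.symm⟩, fun ⟨k, e⟩ => ⟨k, e.symm⟩⟩,
    Set.ncard_range_of_injective refPerm_injective, Nat.card_fin]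

theorem check_unit_distinct : ((List.range 120).all fun u => (List.range u).all fun v =>
    !Nat.beq (uQ u).code (uQ v).code) = true := by
  decide +kernel

theorem ncard_minimal :
    {r : Fin 3 → ℍ[ℝ] | r ∈ icoLeech ∧ qip r r = 4}.ncard = 37800 := by
  let F : Fin 315 × Fin 120 → Fin 3 → ℍ[ℝ] := fun p t => (uQ p.2).dec * (repV p.1).dec t
  have hF : {r : Fin 3 → ℍ[ℝ] | r ∈ icoLeech ∧ qip r r = 4} = Set.range F := by
    ext r
    constructor
    · rintro ⟨hr, hq⟩
      obtain ⟨k, hk, u, hu, rfl⟩ := minimal_listed hr hq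
      exact ⟨(⟨k, hk⟩, ⟨u, hu⟩), rfl⟩
    · rintro ⟨⟨k, u⟩, rfl⟩
      obtain ⟨hi, -, h2⟩ := uQ_spec u.2
      refine ⟨icoLeech_smul (Quad.mem_icosians hi) (Vec.mem_icoLeech_iff.2 (repV_lat k.2).1), ?_⟩
      show qip (fun t => (uQ u).dec * (repV k).dec t) (fun t => (uQ u).dec * (repV k).dec t) = 4
      rw [qip_smul_left, qip_smul_right, (repV_lat k.2).2,
        show (4 : ℍ[ℝ]) = ((4 : ℝ) : ℍ[ℝ]) from rfl, Quaternion.coe_commutes, ← mul_assoc, h2, one_mul]
  have hinj : Function.Injective F := by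
    rintro ⟨k, u⟩ ⟨l, v⟩ e
    have hkl : k = l := by
      refine refPerm_injective (Equiv.ext fun x => Subtype.ext ?_)
      rw [refPerm_apply, refPerm_apply, ← qrefl_unit (uQ_spec u.2).2.1 (repV k).dec,
        ← qrefl_unit (uQ_spec v.2).2.1 (repV l).dec]
      exact congrArg (fun r => qrefl r (x : Fin 3 → ℍ[ℝ])) e
    subst hkl
    have hne : ∃ t, (repV k).dec t ≠ 0 := by
      by_contra hh
      push Not at hh
      have h4 := (repV_lat k.2).2
      have h5 := congrArg QuaternionAlgebra.re ((show qip (repV k).dec (repV k).dec = 0 by simp [qip, hh]).symm.trans h4)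
      rw [show (4 : ℍ[ℝ]) = ((4 : ℝ) : ℍ[ℝ]) from rfl, Quaternion.re_coe] at h5
      simp at h5
    obtain ⟨t, ht⟩ := hne
    have hq : uQ u = uQ v := Quad.dec_injective (mul_right_cancel₀ ht (congrFun e t))
    rcases lt_trichotomy (u : ℕ) v with hlt | he | hlt
    · have := all_of (all_of check_unit_distinct v.2) hlt
      rw [hq, Nat.beq_refl] at this
      exact absurd this (by decide)
    · rw [Fin.ext he]
    · have := all_of (all_of check_unit_distinct u.2) hlt
      rw [hq, Nat.beq_refl] at this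
      exact absurd this (by decide)
  rw [hF, Set.ncard_range_of_injective hinj, Nat.card_prod, Nat.card_fin, Nat.card_fin]

end CfsgLib.Janko2
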