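import Cfsg.Agent.Lib.Janko2.Quad

/-!
The icosian ring as the set of decoded quadruples satisfying the parity conditions.
-/

set_option autoImplicit false

namespace CfsgLib.Janko2

open Quaternion Cfsg.Spor

/-- The quaternion unit `i`. -/
def qi : Quad := ⟨⟨0, 0⟩, ⟨2, 0⟩, ⟨0, 0⟩, ⟨0, 0⟩⟩

/-- The second generator of the icosian ring. -/
def qw : Quad := ⟨⟨1, 0⟩, ⟨1, -1⟩, ⟨0, 0⟩, ⟨0, 1⟩⟩

/-- A product of generators. -/
def qWord : List Bool → Quad
  | [] => Quad.one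
  | b :: l => (cond b qw qi).mul (qWord l)

/-- The product is exact along the word. -/
def qWordOK : List Bool → Bool
  | [] => true
  | b :: l => ((cond b qw qi).raw (qWord l)).isEven && qWordOK l

theorem dec_qi : qi.dec = qI := by
  ext <;> simp [Quad.re_dec, Quad.imI_dec, Quad.imJ_dec, Quad.imK_dec, qi, qI, Zt.val]

theorem dec_qw : qw.dec = ⟨1 / 2, sig / 2, 0, tau / 2⟩ := by
  ext <;> simp [Quad.re_dec, Quad.imI_dec, Quad.imJ_dec, Quad.imK_dec, qw, Zt.val, sig, tau] <;> ring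

theorem qWord_mem : ∀ l : List Bool, qWordOK l = true → (qWord l).dec ∈ icosians := by
  intro l
  induction l with
  | nil => intro _; rw [qWord, Quad.dec_one]; exact one_mem _
  | cons b l ih =>
    intro h
    simp only [qWordOK, Bool.and_eq_true] at h
    rw [qWord, Quad.dec_mul h.1]
    refine mul_mem ?_ (ih h.2)
    cases b
    · exact Subring.subset_closure (Or.inl dec_qi)
    · exact Subring.subset_closure (Or.inr dec_qw)

/-- Integer multiples. -/
def Quad.smul (n : ℤ) (p : Quad) : Quad :=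
  ⟨⟨n * p.r.a, n * p.r.b⟩, ⟨n * p.i.a, n * p.i.b⟩, ⟨n * p.j.a, n * p.j.b⟩, ⟨n * p.k.a, n * p.k.b⟩⟩

theorem Quad.dec_smul (n : ℤ) (p : Quad) : (Quad.smul n p).dec = (n : ℍ[ℝ]) * p.dec := by
  ext <;> simp [Quad.re_dec, Quad.imI_dec, Quad.imJ_dec, Quad.imK_dec, Quad.smul, Zt.val,
    Quaternion.re_mul, Quaternion.imI_mul, Quaternion.imJ_mul, Quaternion.imK_mul] <;> ring

/-- A combination. -/
def combine : List ℤ → List Quad → Quad
  | c :: cs, q :: qs => (q.smul c).add (combine cs qs)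
  | _, _ => Quad.zero

theorem combine_mem (S : Subring ℍ[ℝ]) :
    ∀ (cs : List ℤ) (qs : List Quad), (∀ q ∈ qs, q.dec ∈ S) → (combine cs qs).dec ∈ S := by
  intro cs
  induction cs with
  | nil => intro qs _; simp [combine, Quad.dec_zero]
  | cons c cs ih =>
    intro qs h
    cases qs with
    | nil => simp [combine, Quad.dec_zero]
    | cons q qs =>
      rw [combine, Quad.dec_add, Quad.dec_smul]
      exact add_mem (mul_mem (intCast_mem S c) (h q List.mem_cons_self))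
        (ih qs fun x hx => h x (List.mem_cons_of_mem _ hx))

/-- A basis of the parity lattice. -/
def icoBasis : List Quad :=
  [⟨⟨2, 0⟩, ⟨0, 0⟩, ⟨0, 0⟩, ⟨0, 0⟩⟩, ⟨⟨0, 2⟩, ⟨0, 0⟩, ⟨0, 0⟩, ⟨0, 0⟩⟩,
   ⟨⟨0, 0⟩, ⟨2, 0⟩, ⟨0, 0⟩, ⟨0, 0⟩⟩, ⟨⟨0, 0⟩, ⟨0, 2⟩, ⟨0, 0⟩, ⟨0, 0⟩⟩,
   ⟨⟨0, 1⟩, ⟨1, 1⟩, ⟨1, 0⟩, ⟨0, 0⟩⟩, ⟨⟨1, 1⟩, ⟨1, 0⟩, ⟨0, 1⟩, ⟨0, 0⟩⟩,
   ⟨⟨1, 1⟩, ⟨0, 1⟩, ⟨0, 0⟩, ⟨1, 0⟩⟩, ⟨⟨1, 0⟩, ⟨1, 1⟩, ⟨0, 0⟩, ⟨0, 1⟩⟩]

/-- Coefficients of the basis in eight units. -/
def icoBasisCoeff : List (List ℤ) :=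
  [[0, 0, 1, 0, 0, 0, 0, 0], [-1, -1, 0, -1, 0, 0, 1, 0], [0, 1, 0, 0, 1, 0, 0, 1],
   [0, 0, 1, -1, 0, 0, -1, 0], [-1, 0, 0, -1, 1, -1, 1, 1], [-1, 0, 0, 0, 1, -1, 1, 1],
   [-1, 0, 1, -1, 0, 0, 0, 0], [0, 1, 1, 0, 1, 0, -1, 0]]

/-- Eight units. -/
def icoUnitWords : List (List Bool) := [[true, false, true, true, false, true, false, true, true, false],
   [true, true, false, true, false, true, true, false, true, false],
   [],
   [false, false, false, true, true, false, true, false, true, true],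
   [true, true, false, true, false, true, true],
   [false, false, true, false, true, false],
   [false, false, true, true, false, true, false, true, true, false],
   [false, false, true, false, true, false, true, true, false, true, false]]

theorem check_basis : (icoUnitWords.all qWordOK && decide (icoBasis =
      icoBasisCoeff.map fun cs => combine cs (icoUnitWords.map qWord)) &&
    icoBasis.all (fun q => q.isIco && icoBasis.all fun r => (q.raw r).isEven && (q.mul r).isIco) &&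
    Quad.one.isIco && qi.isIco && qw.isIco) = true := by
  decide +kernel

theorem Quad.eq_combine {p : Quad} (h : p.isIco = true) :
    p = combine [(p.r.a - p.j.b - p.k.a - p.k.b) / 2, (p.r.b - p.j.a - p.j.b - p.k.a) / 2,
      (p.i.a - p.j.a - p.j.b - p.k.b) / 2, (p.i.b - p.j.a - p.k.a - p.k.b) / 2,
      p.j.a, p.j.b, p.k.a, p.k.b] icoBasis := by
  obtain ⟨⟨a0, b0⟩, ⟨a1, b1⟩, ⟨a2, b2⟩, ⟨a3, b3⟩⟩ := p
  simp only [Quad.isIco, Bool.and_eq_true, decide_eq_true_eq] at h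
  simp only [combine, icoBasis, Quad.smul, Quad.add, Zt.add, Quad.zero, Quad.mk.injEq, Zt.mk.injEq]
  omega

theorem Quad.mem_icosians {p : Quad} (h : p.isIco = true) : p.dec ∈ icosians := by
  have hc := check_basis
  simp only [Bool.and_eq_true, decide_eq_true_eq] at hc
  rw [Quad.eq_combine h]
  refine combine_mem _ _ _ fun q hq => ?_
  rw [hc.1.1.1.1.2, List.mem_map] at hq
  obtain ⟨cs, -, rfl⟩ := hq
  refine combine_mem _ _ _ fun r hr => ?_
  rw [List.mem_map] at hr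
  obtain ⟨w, hw, rfl⟩ := hr
  exact qWord_mem w (List.all_eq_true.1 hc.1.1.1.1.1 w hw)

theorem Quad.isIco_iff (p : Quad) : p.isIco = true ↔
    (p.r.a + p.j.b + p.k.a + p.k.b) % 2 = 0 ∧ (p.r.b + p.j.a + p.j.b + p.k.a) % 2 = 0 ∧
    (p.i.a + p.j.a + p.j.b + p.k.b) % 2 = 0 ∧ (p.i.b + p.j.a + p.k.a + p.k.b) % 2 = 0 := by
  simp only [Quad.isIco, Bool.and_eq_true, decide_eq_true_iff, and_assoc]

theorem Quad.isEven_iff (p : Quad) : p.isEven = true ↔
    p.r.a % 2 = 0 ∧ p.r.b % 2 = 0 ∧ p.i.a % 2 = 0 ∧ p.i.b % 2 = 0 ∧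
    p.j.a % 2 = 0 ∧ p.j.b % 2 = 0 ∧ p.k.a % 2 = 0 ∧ p.k.b % 2 = 0 := by
  simp only [Quad.isEven, Zt.isEven, Bool.and_eq_true, decide_eq_true_iff, and_assoc]

theorem Quad.isIco_add {p q : Quad} (hp : p.isIco = true) (hq : q.isIco = true) :
    (p.add q).isIco = true := by
  rw [Quad.isIco_iff] at *
  simp only [Quad.add, Zt.add]
  omega

theorem Quad.isIco_neg {p : Quad} (hp : p.isIco = true) : p.neg.isIco = true := by
  rw [Quad.isIco_iff] at *
  simp only [Quad.neg, Zt.neg]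
  omega

theorem Quad.isIco_sub {p q : Quad} (hp : p.isIco = true) (hq : q.isIco = true) :
    (p.sub q).isIco = true := by
  rw [Quad.isIco_iff] at *
  simp only [Quad.sub, Zt.sub]
  omega

/-- The decoded parity lattice. -/
def icoGroup : AddSubgroup ℍ[ℝ] where
  carrier := {x | ∃ p : Quad, p.isIco = true ∧ p.dec = x}
  zero_mem' := ⟨Quad.zero, rfl, Quad.dec_zero⟩
  add_mem' := by
    rintro _ _ ⟨p, hp, rfl⟩ ⟨q, hq, rfl⟩
    exact ⟨p.add q, Quad.isIco_add hp hq, Quad.dec_add p q⟩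
  neg_mem' := by
    rintro _ ⟨p, hp, rfl⟩
    exact ⟨p.neg, Quad.isIco_neg hp, Quad.dec_neg p⟩

theorem combine_group {T : AddSubgroup ℍ[ℝ]} :
    ∀ (cs : List ℤ) (qs : List Quad), (∀ q ∈ qs, q.dec ∈ T) → (combine cs qs).dec ∈ T := by
  intro cs
  induction cs with
  | nil => intro qs _; simp [combine, Quad.dec_zero]
  | cons c cs ih =>
    intro qs h
    cases qs with
    | nil => simp [combine, Quad.dec_zero]
    | cons q qs =>
      rw [combine, Quad.dec_add, Quad.dec_smul, ← zsmul_eq_mul]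
      exact add_mem (zsmul_mem (h q List.mem_cons_self) c)
        (ih qs fun x hx => h x (List.mem_cons_of_mem _ hx))

theorem icoGroup_mul {x y : ℍ[ℝ]} (hx : x ∈ icoGroup) (hy : y ∈ icoGroup) : x * y ∈ icoGroup := by
  obtain ⟨p, hp, rfl⟩ := hx
  obtain ⟨q, hq, rfl⟩ := hy
  have hc := check_basis
  simp only [Bool.and_eq_true, List.all_eq_true] at hc
  have h1 : ∀ r ∈ icoBasis, p.dec * r.dec ∈ icoGroup := by
    intro r hr
    rw [Quad.eq_combine hp]
    let T : AddSubgroup ℍ[ℝ] := icoGroup.comap (AddMonoidHom.mulRight r.dec)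
    exact combine_group (T := T) _ _ fun b hb =>
      ⟨b.mul r, ((hc.1.1.1.2 b hb).2 r hr).2, Quad.dec_mul ((hc.1.1.1.2 b hb).2 r hr).1⟩
  rw [Quad.eq_combine hq]
  exact combine_group (T := icoGroup.comap (AddMonoidHom.mulLeft p.dec)) _ _ h1

theorem mem_icosians_iff {x : ℍ[ℝ]} : x ∈ icosians ↔ ∃ p : Quad, p.isIco = true ∧ p.dec = x := by
  refine ⟨fun hx => ?_, fun ⟨p, hp, e⟩ => e ▸ Quad.mem_icosians hp⟩
  have hc := check_basis
  simp only [Bool.and_eq_true] at hc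
  let S : Subring ℍ[ℝ] :=
    { icoGroup with
      one_mem' := ⟨Quad.one, hc.1.1.2, Quad.dec_one⟩
      mul_mem' := fun ha hb => icoGroup_mul ha hb }
  refine (Subring.closure_le (t := S)).2 ?_ hx
  rintro y (rfl | rfl)
  · exact ⟨qi, hc.1.2, dec_qi⟩
  · exact ⟨qw, hc.2, dec_qw⟩

theorem Quad.dec_mem_iff {p : Quad} : p.dec ∈ icosians ↔ p.isIco = true := by
  refine ⟨fun h => ?_, Quad.mem_icosians⟩
  obtain ⟨q, hq, e⟩ := mem_icosians_iff.1 h
  exact Quad.dec_injective e ▸ hq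

theorem Quad.ico_mul {p q : Quad} (hp : p.isIco = true) (hq : q.isIco = true) :
    (p.mul q).dec = p.dec * q.dec ∧ (p.mul q).isIco = true := by
  obtain ⟨s, hs, e⟩ := mem_icosians_iff.1 (mul_mem (Quad.mem_icosians hp) (Quad.mem_icosians hq))
  have hr : p.raw q = s.add s := Quad.dec_injective (by rw [Quad.dec_raw, Quad.dec_add, e, two_smul])
  have he : (p.raw q).isEven = true := by
    rw [hr]
    rw [Quad.isEven_iff]
    simp only [Quad.add, Zt.add]
    omega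
  exact ⟨Quad.dec_mul he, Quad.dec_mem_iff.1 (by rw [Quad.dec_mul he, ← e]; exact Quad.mem_icosians hs)⟩

theorem Quad.conj_isIco {p : Quad} (hp : p.isIco = true) : p.conj.isIco = true := by
  rw [Quad.isIco_iff] at *
  simp only [Quad.conj, Zt.neg]
  omega

end CfsgLib.Janko2
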