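import Cfsg.Agent.Lib.Janko2.Refl
import Cfsg.Agent.Lib.Janko2.ChecksSmall

/-!
Norms of icosians and the list of icosians of small norm.
-/

set_option autoImplicit false
set_option maxRecDepth 100000

namespace CfsgLib.Janko2

open Quaternion Cfsg.Spor CfsgLib.Fusion.TableSylow

theorem all_of {n : ℕ} {f : ℕ → Bool} (h : (List.range n).all f = true) {i : ℕ} (hi : i < n) :
    f i = true := List.all_eq_true.1 h i (List.mem_range.2 hi)

theorem Zt.tn_iff (x : Zt) : x.tn = true ↔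
    0 ≤ 2 * x.a + x.b ∧ 5 * (x.b * x.b) ≤ (2 * x.a + x.b) * (2 * x.a + x.b) := by
  simp only [Zt.tn, Bool.and_eq_true, decide_eq_true_iff]

theorem Zt.tn_sq (x : Zt) : x.sq.tn = true := by
  rw [Zt.tn_iff]
  simp only [Zt.sq, Zt.mul]
  constructor
  · nlinarith [sq_nonneg (2 * x.a + x.b), sq_nonneg x.b]
  · nlinarith [sq_nonneg (x.a * x.a + x.a * x.b - x.b * x.b)]

theorem Zt.tn_add {x y : Zt} (hx : x.tn = true) (hy : y.tn = true) : (x.add y).tn = true := by
  rw [Zt.tn_iff] at *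
  simp only [Zt.add]
  obtain ⟨h1, h2⟩ := hx
  obtain ⟨h3, h4⟩ := hy
  refine ⟨by omega, ?_⟩
  have key : 5 * (x.b * y.b) ≤ (2 * x.a + x.b) * (2 * y.a + y.b) := by
    by_contra hlt
    push Not at hlt
    have h5 : 0 ≤ (2 * x.a + x.b) * (2 * y.a + y.b) := mul_nonneg h1 h3
    have h6 := mul_le_mul h2 h4 (mul_nonneg (by norm_num) (mul_self_nonneg _)) (mul_self_nonneg _)
    nlinarith
  nlinarith

theorem Zt.tn_bound {x : Zt} (h : (sixteen.sub x.sq).tn = true) :
    -6 ≤ x.a ∧ x.a ≤ 6 ∧ -3 ≤ x.b ∧ x.b ≤ 3 := by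
  rw [Zt.tn_iff] at h
  simp only [Zt.sub, sixteen, Zt.sq, Zt.mul] at h
  obtain ⟨h1, -⟩ := h
  have h2 : (2 * x.a + x.b) * (2 * x.a + x.b) + 5 * (x.b * x.b) ≤ 64 := by nlinarith
  have hb : x.b * x.b ≤ 12 := by nlinarith [mul_self_nonneg (2 * x.a + x.b)]
  have hc : (2 * x.a + x.b) * (2 * x.a + x.b) ≤ 64 := by nlinarith [mul_self_nonneg x.b]
  have h3 : -3 ≤ x.b ∧ x.b ≤ 3 := by constructor <;> nlinarith
  have h4 : -8 ≤ 2 * x.a + x.b ∧ 2 * x.a + x.b ≤ 8 := by constructor <;> nlinarith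
  omega

theorem Quad.tn_norm4 (p : Quad) : p.norm4.tn = true :=
  Zt.tn_add (Zt.tn_add (Zt.tn_sq _) (Zt.tn_sq _)) (Zt.tn_add (Zt.tn_sq _) (Zt.tn_sq _))

theorem small_complete {p : Quad} (hp : p.isIco = true) (h : (sixteen.sub p.norm4).tn = true) :
    ∃ i < 6121, elQ i = p := by
  have hz : ∀ x : Zt, (sixteen.sub x.sq).tn = true → x ∈ smallZt := by
    intro x hx
    obtain ⟨a1, a2, b1, b2⟩ := Zt.tn_bound hx
    have h' := all_of (all_of check_small_zt (show (x.a + 6).toNat < 13 by omega))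
      (show (x.b + 3).toNat < 7 by omega)
    rw [show (((x.a + 6).toNat : ℤ) - 6) = x.a by omega,
      show (((x.b + 3).toNat : ℤ) - 3) = x.b by omega] at h'
    simp only [Bool.or_eq_true, Bool.not_eq_true', List.any_eq_true, decide_eq_true_eq] at h'
    rcases h' with h' | ⟨e, he, rfl⟩
    · rw [hx] at h'; exact absurd h' (by decide)
    · exact he
  have hpair : ∀ x y : Zt, ((sixteen.sub x.sq).sub y.sq).tn = true → (x, y) ∈ smallPairs := by
    intro x y hxy
    have hx : (sixteen.sub x.sq).tn = true := by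
      have := Zt.tn_add hxy (Zt.tn_sq y)
      convert this using 2
      simp [Zt.add, Zt.sub]
    have hy : (sixteen.sub y.sq).tn = true := by
      have := Zt.tn_add hxy (Zt.tn_sq x)
      convert this using 2
      simp [Zt.add, Zt.sub]; constructor <;> ring
    have h' := List.all_eq_true.1 (List.all_eq_true.1 check_small_pairs x (hz x hx)) y (hz y hy)
    simp only [Bool.or_eq_true, Bool.not_eq_true', List.any_eq_true, decide_eq_true_eq] at h'
    rcases h' with h' | ⟨e, he, rfl⟩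
    · rw [hxy] at h'; exact absurd h' (by decide)
    · exact he
  obtain ⟨a, b, c, d⟩ := p
  have h1 : ((sixteen.sub a.sq).sub b.sq).tn = true := by
    have := Zt.tn_add h (Zt.tn_add (Zt.tn_sq c) (Zt.tn_sq d))
    convert this using 2
    simp [Zt.add, Zt.sub, Quad.norm4]; constructor <;> ring
  have h2 : ((sixteen.sub c.sq).sub d.sq).tn = true := by
    have := Zt.tn_add h (Zt.tn_add (Zt.tn_sq a) (Zt.tn_sq b))
    convert this using 2
    simp [Zt.add, Zt.sub, Quad.norm4]; constructor <;> ring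
  have h' := List.all_eq_true.1 (List.all_eq_true.1 check_small_complete _ (hpair a b h1)) _ (hpair c d h2)
  simp only [Bool.or_eq_true, Bool.not_eq_true', Bool.and_eq_true, decide_eq_true_eq, Nat.blt_eq] at h'
  rcases h' with (h' | h') | h'
  · rw [hp] at h'; exact absurd h' (by decide)
  · rw [h] at h'; exact absurd h' (by decide)
  · exact ⟨_, h'.1, h'.2⟩

theorem Quad.mul_conj_dec (p : Quad) :
    p.dec * star p.dec = ((p.norm4.val / 4 : ℝ) : ℍ[ℝ]) := by
  ext <;> simp only [Quaternion.re_mul, Quaternion.imI_mul, Quaternion.imJ_mul, Quaternion.imK_mul,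
    Quaternion.re_star, Quaternion.imI_star, Quaternion.imJ_star, Quaternion.imK_star,
    Quaternion.re_coe, Quaternion.imI_coe, Quaternion.imJ_coe, Quaternion.imK_coe,
    Quad.re_dec, Quad.imI_dec, Quad.imJ_dec, Quad.imK_dec, Quad.norm4, Zt.sq,
    Zt.val_add, Zt.val_mul] <;> ring

theorem qip_self_dec (v : Vec) :
    qip v.dec v.dec = ((((v.x.norm4.add v.y.norm4).add v.z.norm4).val / 4 : ℝ) : ℍ[ℝ]) := by
  rw [qip, Fin.sum_univ_three]
  show v.x.dec * star v.x.dec + v.y.dec * star v.y.dec + v.z.dec * star v.z.dec = _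
  rw [Quad.mul_conj_dec, Quad.mul_conj_dec, Quad.mul_conj_dec, ← Quaternion.coe_add,
    ← Quaternion.coe_add, Zt.val_add, Zt.val_add, add_div, add_div]

end CfsgLib.Janko2
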