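import Cfsg.Agent.Lib.Janko2.Order
import Cfsg.Agent.Lib.Janko2.ChecksSylow

/-!
The 2-fusion system of the Hall–Janko group is simple.
-/

set_option autoImplicit false
set_option maxRecDepth 100000
set_option linter.style.haveILetI false

namespace CfsgLib.Janko2

open Cfsg Cfsg.Spor CfsgLib.Fusion CfsgLib.Fusion.TableSylow

open Classical in
/-- An element of the certificate (junk: `1`). -/
noncomputable def sE (i : ℕ) : PP := if h : permOf (sylP i) ∈ PP then ⟨_, h⟩ else 1

theorem sE_spec {i : ℕ} (hi : i < 136) :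
    ∀ v : Fin 315, (((sE i : PP) : Equiv.Perm (Fin 315)) v : ℕ) = pimg (sylP i) v := by
  classical
  obtain ⟨-, -, -, r0, r1, r2⟩ := chain_facts
  have hw := check_wit
  have hd := check_distinct
  simp only [Bool.and_eq_true, Nat.blt_eq] at hw hd
  obtain ⟨h0, h1, -, -, -, -⟩ := chain_facts
  have le10 : Subgroup.closure (genOf 2 gen1) ≤ PP := by
    refine (Subgroup.closure_le _).2 ?_
    rintro _ ⟨a, ha, rfl⟩
    exact (wit_spec hd.1.1.2 h0 r0 hw.1 check_gen_lt.1 ha).2.1
  have le21 : Subgroup.closure (genOf 2 gen2) ≤ Subgroup.closure (genOf 2 gen1) := by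
    refine (Subgroup.closure_le _).2 ?_
    rintro _ ⟨a, ha, rfl⟩
    exact (wit_spec hd.1.2 h1 r1 hw.2 check_gen_lt.2 ha).2.1
  have h := all_of check_sylP hi
  simp only [Bool.and_eq_true, Nat.blt_eq] at h
  obtain ⟨⟨⟨a0, a1⟩, a2⟩, he⟩ := h
  obtain ⟨hG, e⟩ := good_of (p := sylP i)
    (π := permOf (rep0 (sylDecomp.getD i 0 % 512)) * (permOf (rep1 (sylDecomp.getD i 0 / 512 % 512)) *
      permOf (rep2 (sylDecomp.getD i 0 / 262144)))) fun v => by
    rw [beq_eq (all_of he v.2), Equiv.Perm.mul_apply, Equiv.Perm.mul_apply, (r0 _ a0).1, (r1 _ a1).1,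
      (r2 _ a2).1]
  have hm : permOf (sylP i) ∈ PP := by
    rw [e]
    exact mul_mem (r0 _ a0).2 (mul_mem (le10 (r1 _ a1).2) (le10 (le21 (r2 _ a2).2)))
  intro v
  rw [sE, dif_pos hm]
  exact hG v

theorem pp_ext {a b : PP}
    (h : ∀ v : Fin 315, ((a : Equiv.Perm (Fin 315)) v : ℕ) = ((b : Equiv.Perm (Fin 315)) v : ℕ)) : a = b :=
  Subtype.ext (Equiv.ext fun v => Fin.ext (h v))

theorem conj_of {g a b : ℕ} (hg : g < 136) (ha : a < 136) (hb : b < 136)
    (h : ((List.range 315).all fun v =>
      Nat.beq (pimg (sylP g) (pimg (sylP a) v)) (pimg (sylP b) (pimg (sylP g) v))) = true) :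
    sE g * sE a * (sE g)⁻¹ = sE b := by
  rw [mul_inv_eq_iff_eq_mul]
  refine pp_ext fun v => ?_
  simp only [Subgroup.coe_mul, Equiv.Perm.mul_apply, sE_spec hg, sE_spec ha, sE_spec hb]
  exact beq_eq (all_of h v.2)

theorem syl_facts : TableSylow.Facts sylData sE (sE 128 * sE 129) [sE 128, sE 129]
    (fun k => sE (130 + k)) := by
  refine ⟨check_syl_nxt, check_syl_inv, check_syl_start, check_syl_mark, check_syl_series,
    check_syl_comm, check_syl_reach, show 1 ≤ 7 by norm_num, ?_, ?_, ?_, ?_, ?_, ?_, ?_, ?_⟩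
  · have h := check_syl_one
    simp only [Bool.and_eq_true] at h
    refine pp_ext fun v => ?_
    rw [sE_spec (by norm_num), beq_eq (all_of h.1 v.2)]
    rfl
  · intro d hd i hi
    have h := all_of (all_of check_syl_mul (show d < 128 from hd)) (show i < 7 from hi)
    simp only [Bool.and_eq_true, Nat.blt_eq] at h
    have h2 : 2 ^ i < 136 := (Nat.pow_lt_pow_right one_lt_two (show i < 7 from hi)).trans (by norm_num)
    refine pp_ext fun v => ?_
    simp only [Subgroup.coe_mul, Equiv.Perm.mul_apply, sE_spec h.1,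
      sE_spec ((show d < 128 from hd).trans (by norm_num)), sE_spec h2]
    exact beq_eq (all_of h.2 v.2)
  · intro d hd h
    by_contra hne
    have hc := check_syl_one
    simp only [Bool.and_eq_true] at hc
    have h' := all_of hc.2 (show d < 128 from hd)
    simp only [Bool.or_eq_true, List.any_eq_true, List.mem_range] at h'
    rcases h' with h' | ⟨v, hv, h'⟩
    · exact hne (beq_eq h')
    · rw [show pimg (sylP d) v = v by
        rw [← sE_spec ((show d < 128 from hd).trans (by norm_num)) ⟨v, hv⟩, h]; rfl, Nat.beq_refl] at h'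
      exact absurd h' (by decide)
  · intro d hd
    have h := all_of check_syl_x (show d < 128 from hd)
    simp only [Bool.and_eq_true, Nat.blt_eq] at h
    rw [mul_inv_eq_iff_eq_mul]
    refine pp_ext fun v => ?_
    simp only [Subgroup.coe_mul, Equiv.Perm.mul_apply, sE_spec (show 128 < 136 by norm_num),
      sE_spec (show 129 < 136 by norm_num), sE_spec ((show d < 128 from hd).trans (by norm_num)),
      sE_spec (h.1.trans (show 128 < 136 by norm_num))]
    exact beq_eq (all_of h.2 v.2)
  · rw [List.prod_cons, List.prod_cons, List.prod_nil, mul_one]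
  · intro y hy
    simp only [List.mem_cons, List.not_mem_nil, or_false] at hy
    have key : ∀ k < 2, sE (128 + k) ^ 2 ^ 7 = 1 := by
      intro k hk
      have h := all_of check_syl_y hk
      simp only [Bool.and_eq_true] at h
      have h8 : sE (128 + k) ^ 8 = 1 := by
        refine pp_ext fun v => ?_
        simp only [pow_succ, pow_zero, one_mul, Subgroup.coe_mul, Equiv.Perm.mul_apply,
          sE_spec (show 128 + k < 136 by omega)]
        exact beq_eq (all_of h.1 v.2)
      rw [show (2 : ℕ) ^ 7 = 8 * 16 by norm_num, pow_mul, h8, one_pow]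
    rcases hy with rfl | rfl
    · exact key 0 (by norm_num)
    · exact key 1 (by norm_num)
  · intro y hy r hr hR
    simp only [List.mem_cons, List.not_mem_nil, or_false] at hy
    have key : ∀ k < 2, ∃ r' < 2 ^ sylData.m, TableSylow.inR sylData r' = true ∧
        sE (128 + k) * sE r * (sE (128 + k))⁻¹ = sE r' := by
      intro k hk
      have h := all_of check_syl_y hk
      simp only [Bool.and_eq_true] at h
      have h' := all_of h.2 (show r < 128 from hr)
      simp only [Bool.or_eq_true, Bool.not_eq_true', Bool.and_eq_true, Nat.blt_eq] at h'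
      obtain ⟨⟨h1, h2⟩, h3⟩ := h'.resolve_left (by rw [hR]; decide)
      exact ⟨_, h1, h2, conj_of (by omega) ((show r < 128 from hr).trans (by norm_num))
        (h1.trans (by norm_num)) h3⟩
    rcases hy with rfl | rfl
    · exact key 0 (by norm_num)
    · exact key 1 (by norm_num)
  · intro g e d hmem
    have h := List.all_eq_true.1 check_syl_moves _ hmem
    simp only [moveOK, Bool.and_eq_true, Nat.blt_eq] at h
    obtain ⟨⟨⟨hg, he⟩, hd⟩, h'⟩ := h
    exact conj_of (by omega) (by omega) (by omega) h'

/-- The 2-fusion system is simple. -/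
theorem fusion_simple {G : Type*} [Group G] [Finite G] (hG : IsoJ2 G) (S : Sylow 2 G) :
    (groupFusionSystem (S : Subgroup G)).IsSimple 2 := by
  haveI : Fact (Nat.Prime 2) := ⟨Nat.prime_two⟩
  obtain ⟨e'⟩ := hG
  let e := e'.trans equivPP
  have H := syl_facts
  have hcard : Nat.card (TableSylow.sylow H) = 128 := by rw [TableSylow.sylow_card H]; rfl
  have hq : Nat.card PP = 604800 := chain_top.2.2.1
  have hidx : ¬ 2 ∣ (TableSylow.sylow H).index := by
    have hm := Subgroup.card_mul_index (TableSylow.sylow H)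
    rw [hcard, hq] at hm
    omega
  have hmap : Nat.card ((TableSylow.sylow H).map e.symm.toMonoidHom) = 128 := by
    rw [Subgroup.card_map_of_injective e.symm.injective]
    exact hcard
  refine group_isSimple ((TableSylow.sylow H).map e.symm.toMonoidHom)
    (IsPGroup.of_card (n := 7) hmap) ?_ ?_
    ((TableSylow.noStronglyClosed H).map e.symm)
    ((TableSylow.normalizerGenerated H hidx).map e.symm) S
  · have hm := Subgroup.card_mul_index ((TableSylow.sylow H).map e.symm.toMonoidHom)
    rw [hmap, Nat.card_congr e.toEquiv, hq] at hm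
    omega
  · intro h
    rw [h, Subgroup.card_bot] at hmap
    omega

end CfsgLib.Janko2
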