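import Cfsg.Agent.Lib.Janko2.Centralizer
import Cfsg.Agent.Lib.Janko2.Sylow
import Cfsg.Agent.Lib.Janko2.ChecksOut
import Cfsg.Prelude.Def_KGroupFacts

/-!
The outer automorphism group of the Hall–Janko group has order 2.
-/

set_option autoImplicit false
set_option maxRecDepth 100000
set_option linter.style.haveILetI false

namespace CfsgLib.Janko2

open Cfsg.Spor MulAction Pointwise CfsgLib.Fusion CfsgLib.Fusion.TableSylow

theorem gen_smul (a : Fin 4) (p : Fin 315) : cP (gFin a) • p = actFin a p := psi_gen a p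

attribute [local irreducible] cP

theorem perm_conj_apply {n : ℕ} {c d g : Equiv.Perm (Fin n)} {C D G : ℕ → ℕ} (e : c = g * d * g⁻¹)
    (hG : ∀ x : Fin n, ((g x : Fin n) : ℕ) = G x) (hD : ∀ x : Fin n, ((d x : Fin n) : ℕ) = D x)
    (h : ∀ w : Fin n, C (G w) = G (D w)) (v : Fin n) : ((c v : Fin n) : ℕ) = C v := by
  obtain ⟨w, rfl⟩ := g.surjective v
  rw [e, Equiv.Perm.mul_apply, Equiv.Perm.mul_apply, Equiv.Perm.inv_def, Equiv.symm_apply_apply, hG, hD,
    ← h w, ← hG]

theorem cP_apply_step {a : Fin 4} {p k : Fin 315} (hap : cP (gFin a) • p = k) {C D G : ℕ → ℕ}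
    (hG : ∀ x : Fin 315, ((((cP (gFin a) : PP) : Equiv.Perm (Fin 315)) x : Fin 315) : ℕ) = G x)
    (hD : ∀ x : Fin 315, ((((cP p : PP) : Equiv.Perm (Fin 315)) x : Fin 315) : ℕ) = D x)
    (h : ∀ w : Fin 315, C (G w) = G (D w)) (v : Fin 315) :
    ((((cP k : PP) : Equiv.Perm (Fin 315)) v : Fin 315) : ℕ) = C v := by
  refine perm_conj_apply ?_ hG hD h v
  rw [← hap, ← conj_cP]
  rfl

theorem cP_apply (k v : Fin 315) : ((((cP k : PP) : Equiv.Perm (Fin 315)) v : Fin 315) : ℕ) = pimg (ckP k) v := by
  suffices h : ∀ n, ∀ k : Fin 315, depthTab.get (k : ℕ) ≤ n → ∀ v : Fin 315,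
      ((((cP k : PP) : Equiv.Perm (Fin 315)) v : Fin 315) : ℕ) = pimg (ckP k) v from h _ k le_rfl v
  intro n
  induction n using Nat.strong_induction_on with
  | _ n ih =>
    intro k hk v
    have hg : ∀ a : Fin 4, ∀ y : Fin 315, ((((cP (gFin a) : PP) : Equiv.Perm (Fin 315)) y : Fin 315) : ℕ) =
        pimg (gen0 a) y := fun a y => by rw [cP_gen]; exact (gen0_spec a.2).1 y
    by_cases hroot : k = gFin 0
    · have h0 : ((0 : Fin 4) : ℕ) = 0 := rfl
      have hl := all_of check_act (show 0 < 4 by norm_num)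
      simp only [Bool.and_eq_true, Nat.blt_eq] at hl
      have hk0 : (k : ℕ) = gLine 0 := by rw [hroot]; exact Nat.mod_eq_of_lt hl.1
      rw [hk0, hroot, hg 0 v, h0]
      exact (beq_eq (all_of check_ck_root v.2)).symm
    · have hk' : (k : ℕ) ≠ gLine 0 := fun e => hroot (Fin.ext (by
        show (k : ℕ) = gLine ((0 : Fin 4) : ℕ) % 315
        rw [show ((0 : Fin 4) : ℕ) = 0 from rfl, ← e, Nat.mod_eq_of_lt k.2]))
      have ht := all_of check_tree k.2
      simp only [Bool.or_eq_true, Bool.and_eq_true, Nat.blt_eq] at ht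
      obtain ⟨⟨hd, hp⟩, hact⟩ := ht.resolve_left fun h => hk' (beq_eq h)
      have he := all_of check_ck_edge k.2
      simp only [Bool.or_eq_true, Bool.and_eq_true, Nat.blt_eq] at he
      obtain ⟨-, he⟩ := he.resolve_left fun h => hk' (beq_eq h)
      refine cP_apply_step (a := ⟨parentTab.get (k : ℕ) % 4, Nat.mod_lt _ (by norm_num)⟩) (p := ⟨_, hp⟩)
        ?_ (hg _) (ih _ (hd.trans_le hk) ⟨_, hp⟩ le_rfl) (fun w => beq_eq (all_of he w.2)) v
      refine Fin.ext ((hg _ _).trans ?_)
      exact (beq_eq (all_of (all_of check_chain_gen (Nat.mod_lt _ (by norm_num))) hp)).trans (beq_eq hact)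

/-- Conjugation by the outer permutation. -/
theorem exists_outer : ∃ σ : Equiv.Perm (Fin 315), σ pt0 = pt0 ∧
    (∀ k, σ * ((cP k : PP) : Equiv.Perm (Fin 315)) * σ⁻¹ = ((cP (σ k) : PP) : Equiv.Perm (Fin 315))) ∧
    σ ∉ PP := by
  have h := check_out
  simp only [Bool.and_eq_true, Nat.blt_eq] at h
  obtain ⟨⟨⟨⟨hperm, hgen⟩, h0⟩, hm⟩, hne⟩ := h
  have hp := fun v (hv : v < 315) => all_of hperm hv
  simp only [Bool.and_eq_true, Nat.blt_eq] at hp
  let σ : Equiv.Perm (Fin 315) :=
    { toFun := fun v => ⟨pimg outPerm v, (hp v v.2).1.1.1⟩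
      invFun := fun v => ⟨pimg outPermInv v, (hp v v.2).1.1.2⟩
      left_inv := fun v => Fin.ext (beq_eq (hp v v.2).2)
      right_inv := fun v => Fin.ext (beq_eq (hp v v.2).1.2) }
  have hg : ∀ a : Fin 4, σ * ((cP (gFin a) : PP) : Equiv.Perm (Fin 315)) * σ⁻¹ =
      ((cP (σ (gFin a)) : PP) : Equiv.Perm (Fin 315)) := by
    intro a
    rw [mul_inv_eq_iff_eq_mul]
    refine Equiv.ext fun v => Fin.ext ?_
    rw [Equiv.Perm.mul_apply, Equiv.Perm.mul_apply, cP_apply, cP_gen]
    show pimg outPerm _ = pimg (ckP (pimg outPerm (gLine (a : ℕ) % 315))) (pimg outPerm v)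
    have hl := all_of check_act a.2
    simp only [Bool.and_eq_true, Nat.blt_eq] at hl
    rw [(gen0_spec a.2).1, Nat.mod_eq_of_lt hl.1]
    exact beq_eq (all_of (all_of hgen a.2) v.2)
  refine ⟨σ, Fin.ext (beq_eq h0), ?_, ?_⟩
  · suffices key : ∀ n, ∀ k : Fin 315, depthTab.get (k : ℕ) ≤ n →
        σ * ((cP k : PP) : Equiv.Perm (Fin 315)) * σ⁻¹ = ((cP (σ k) : PP) : Equiv.Perm (Fin 315)) from
      fun k => key _ k le_rfl
    intro n
    induction n using Nat.strong_induction_on with
    | _ n ih =>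
      intro k hk
      by_cases hroot : k = gFin 0
      · rw [hroot]; exact hg 0
      obtain ⟨a, p, hd, hap⟩ := tree_step hroot
      have hkp : cP (gFin a) • p = k := (gen_smul a p).trans hap
      have e1 := congrArg (Subtype.val (p := fun x => x ∈ PP)) (conj_cP (cP (gFin a)) p)
      have e2 := congrArg (Subtype.val (p := fun x => x ∈ PP)) (conj_cP (cP (σ (gFin a))) (σ p))
      rw [hkp] at e1
      have hσk : cP (σ (gFin a)) • σ p = σ k := by
        show ((cP (σ (gFin a)) : PP) : Equiv.Perm (Fin 315)) (σ p) = σ k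
        rw [← hg a, ← hkp]
        simp only [Equiv.Perm.mul_apply, Equiv.Perm.inv_def, Equiv.symm_apply_apply]
        rfl
      rw [hσk] at e2
      rw [← e1, ← e2]
      simp only [Subgroup.coe_mul, Subgroup.coe_inv]
      rw [← hg a, ← ih _ (hd.trans_le hk) p le_rfl]
      group
  · intro hσ
    have hlab : ∀ τ ∈ (Subgroup.closure (genOf 2 gen1)).toSubmonoid, ∀ x : Fin 315,
        stabLab.get ((τ x : Fin 315) : ℕ) = stabLab.get (x : ℕ) := by
      intro τ hτ
      rw [Subgroup.closure_toSubmonoid_of_finite] at hτ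
      induction hτ using Submonoid.closure_induction with
      | mem τ hτ =>
        obtain ⟨a, ha, rfl⟩ := hτ
        intro x
        rw [(gen1_mem ha).1]
        exact beq_eq (all_of (all_of check_lab_inv ha) x.2)
      | one => exact fun x => rfl
      | mul τ υ _ _ h1 h2 => exact fun x => (h1 (υ x)).trans (h2 x)
    have hm' : σ ∈ (Subgroup.closure (genOf 2 gen1)).toSubmonoid := by
      show σ ∈ Subgroup.closure (genOf 2 gen1)
      rw [← stabilizer_map]
      exact ⟨⟨σ, hσ⟩, Fin.ext (beq_eq h0), rfl⟩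
    have := hlab σ hm' ⟨outMoved, hm⟩
    change stabLab.get (pimg outPerm outMoved) = stabLab.get outMoved at this
    rw [this, Nat.beq_refl] at hne
    exact absurd hne (by decide)

/-- An automorphism permutes the reflections. -/
theorem aut_cP (φ : MulAut PP) : ∃ τ : Fin 315 → Fin 315, ∀ k, φ (cP k) = cP (τ k) := by
  classical
  haveI := pretransitive
  haveI : Fact (Nat.Prime 2) := ⟨Nat.prime_two⟩
  have H := syl_facts
  have hcard : Nat.card (TableSylow.sylow H) = 128 := by rw [TableSylow.sylow_card H]; rfl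
  have hidx : ¬ 2 ∣ (TableSylow.sylow H).index := by
    have hm := Subgroup.card_mul_index (TableSylow.sylow H)
    rw [hcard, card_PP] at hm
    omega
  let S : Sylow 2 PP := (IsPGroup.of_card (n := 7) hcard).toSylow hidx
  have h64 : sE 64 = cP pt0 := by
    refine pp_ext fun v => ?_
    rw [sE_spec (by norm_num), cP_apply]
    exact beq_eq (all_of check_syl_centre.1 v.2)
  have hcen : ∀ z ∈ TableSylow.sylow H, (∀ s ∈ TableSylow.sylow H, s * z = z * s) → z ≠ 1 → z = cP pt0 := by
    rintro _ ⟨d, hd, -, rfl⟩ hc hne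
    have h' := all_of check_syl_centre.2 (show d < 128 from hd)
    simp only [Bool.or_eq_true, List.any_eq_true, List.mem_range] at h'
    rcases h' with (h' | h') | ⟨i, hi, v, hv, h'⟩
    · exact absurd (by rw [beq_eq h']; exact H.zero) hne
    · rw [beq_eq h', h64]
    · exfalso
      have h2 : 2 ^ i < 2 ^ sylData.m := Nat.pow_lt_pow_right one_lt_two hi
      have e := congrArg (fun g : PP => (((g : Equiv.Perm (Fin 315)) ⟨v, hv⟩ : Fin 315) : ℕ))
        (hc (sE (2 ^ i)) ⟨2 ^ i, h2, one_dvd _, rfl⟩)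
      have h2' : 2 ^ i < 136 := (show 2 ^ i < 128 from h2).trans (by norm_num)
      simp only [Subgroup.coe_mul, Equiv.Perm.mul_apply, sE_spec h2',
        sE_spec ((show d < 128 from hd).trans (by norm_num))] at e
      rw [e, Nat.beq_refl] at h'
      exact absurd h' (by decide)
  have hS0 : cP pt0 ∈ (S : Subgroup PP) := h64 ▸ ⟨64, show 64 < 128 by norm_num, one_dvd _, rfl⟩
  have hcomm0 : ∀ s ∈ (S : Subgroup PP), s * cP pt0 = cP pt0 * s := by
    rintro _ ⟨d, hd, -, rfl⟩
    rw [← h64]
    have h' := all_of check_syl_sixtyfour (show d < 128 from hd)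
    refine pp_ext fun v => ?_
    simp only [Subgroup.coe_mul, Equiv.Perm.mul_apply, sE_spec (show 64 < 136 by norm_num),
      sE_spec ((show d < 128 from hd).trans (by norm_num))]
    exact beq_eq (all_of h' v.2)
  obtain ⟨g, hg⟩ := MulAction.exists_smul_eq PP ((IsPGroup.of_card (p := 2) (n := 7)
    (show Nat.card ((S : Subgroup PP).map φ.toMonoidHom) = 2 ^ 7 by
      rw [Subgroup.card_map_of_injective φ.injective]; exact hcard)).toSylow (by
    rw [Subgroup.index_map_of_bijective φ.bijective]; exact hidx)) S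
  have hmap : ((S : Subgroup PP).map φ.toMonoidHom).map (MulAut.conj g).toMonoidHom = (S : Subgroup PP) :=
    congrArg Sylow.toSubgroup hg
  have hne : cP pt0 ≠ 1 := by
    intro e
    haveI := preprimitive
    have : ∀ k, cP k = 1 := fun k => by
      obtain ⟨σ, rfl⟩ := exists_smul_eq PP pt0 k
      rw [← conj_cP, e, mul_one, mul_inv_cancel]
    exact absurd (cP_injective (a₁ := pt0) (a₂ := ⟨1, by norm_num⟩) ((this _).trans (this _).symm))
      (by decide)
  have key : g * φ (cP pt0) * g⁻¹ = cP pt0 := by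
    refine hcen _ ?_ ?_ ?_
    · have : g * φ (cP pt0) * g⁻¹ ∈ ((S : Subgroup PP).map φ.toMonoidHom).map (MulAut.conj g).toMonoidHom :=
        ⟨_, ⟨_, hS0, rfl⟩, rfl⟩
      rwa [hmap] at this
    · intro s hs
      rw [show TableSylow.sylow H = (S : Subgroup PP) from rfl, ← hmap] at hs
      obtain ⟨_, ⟨t, ht, rfl⟩, rfl⟩ := hs
      show g * φ t * g⁻¹ * _ = _ * (g * φ t * g⁻¹)
      rw [show g * φ t * g⁻¹ * (g * φ (cP pt0) * g⁻¹) = g * (φ t * φ (cP pt0)) * g⁻¹ by group,
        show g * φ (cP pt0) * g⁻¹ * (g * φ t * g⁻¹) = g * (φ (cP pt0) * φ t) * g⁻¹ by group,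
        ← map_mul, ← map_mul, hcomm0 t ht]
    · rw [Ne, conj_eq_one_iff, MulEquiv.map_eq_one_iff]
      exact hne
  have key' : φ (cP pt0) = cP (g⁻¹ • pt0) := by
    rw [← conj_cP, inv_inv]
    nth_rw 2 [← key]
    group
  have hall : ∀ k, ∃ l, φ (cP k) = cP l := by
    intro k
    obtain ⟨σ, rfl⟩ := exists_smul_eq PP pt0 k
    refine ⟨φ σ • (g⁻¹ • pt0), ?_⟩
    rw [← conj_cP, map_mul, map_mul, map_inv, key', conj_cP]
  exact ⟨fun k => Classical.choose (hall k), fun k => Classical.choose_spec (hall k)⟩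

/-- A quadruple of points satisfying the relations of the generators. -/
def IsQuad (q : Fin 4 → Fin 315) : Prop :=
  Function.Injective q ∧ (cP (q 0) * cP (q 1)) ^ 3 = 1 ∧ (cP (q 0) * cP (q 2)) ^ 3 = 1 ∧
    (cP (q 1) * cP (q 2)) ^ 3 = 1 ∧ (cP (q 0) * cP (q 3)) ^ 5 = 1 ∧ (cP (q 1) * cP (q 3)) ^ 3 = 1 ∧
    (cP (q 2) * cP (q 3)) ^ 3 = 1 ∧ (cP (q 0) * (cP (q 1) * cP (q 2))) ^ 10 = 1 ∧
    (cP (q 0) * (cP (q 1) * cP (q 3))) ^ 3 = 1

theorem prod_apply (w : List (Fin 315)) (v : Fin 315) :
    ((((((w.map cP).prod : PP) : Equiv.Perm (Fin 315)) v : Fin 315)) : ℕ) = cword (w.map Fin.val) v := by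
  induction w with
  | nil => rfl
  | cons a w ih =>
    rw [List.map_cons, List.prod_cons, Subgroup.coe_mul, Equiv.Perm.mul_apply, cP_apply, ih]
    rfl

theorem pow_eq_prod (w : List (Fin 315)) : ∀ n,
    (w.map cP).prod ^ n = ((List.flatten (List.replicate n w)).map cP).prod
  | 0 => by simp
  | n + 1 => by
    rw [pow_succ', pow_eq_prod w n, List.replicate_succ, List.flatten_cons, List.map_append, List.prod_append]

theorem relOK_of (w : List (Fin 315)) {n : ℕ} (h : (w.map cP).prod ^ n = 1) :
    relOK (w.map Fin.val) n = true := by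
  rw [relOK, List.all_eq_true]
  intro v hv
  have hv' : v < 315 := by
    simp only [List.mem_cons, List.not_mem_nil, or_false] at hv
    omega
  have e := prod_apply (List.flatten (List.replicate n w)) ⟨v, hv'⟩
  rw [← pow_eq_prod, h, List.map_flatten, List.map_replicate] at e
  rw [← e]
  exact Nat.beq_refl _

theorem relOK_two {a b : Fin 315} {n : ℕ} (h : (cP a * cP b) ^ n = 1) : relOK [(a : ℕ), b] n = true :=
  relOK_of [a, b] (by simpa using h)

theorem relOK_three {a b c : Fin 315} {n : ℕ} (h : (cP a * (cP b * cP c)) ^ n = 1) :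
    relOK [(a : ℕ), b, c] n = true :=
  relOK_of [a, b, c] (by simpa using h)

theorem quad_smul {q : Fin 4 → Fin 315} (h : IsQuad q) (g : PP) : IsQuad fun a => g • q a := by
  obtain ⟨hi, h1, h2, h3, h4, h5, h6, h7, h8⟩ := h
  refine ⟨(MulAction.injective g).comp hi, ?_⟩
  simp only [← conj_cP, conj_mul, conj_pow, h1, h2, h3, h4, h5, h6, h7, h8, mul_one, mul_inv_cancel,
    and_self]

theorem card_aut_le : Nat.card (MulAut PP) ≤ 1209600 := by
  classical
  haveI := pretransitive
  choose τ hτ using aut_cP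
  have hb := check_gen_rels
  simp only [Bool.and_eq_true] at hb
  have hgen : IsQuad gFin := by
    have hrel : ∀ (w : List (Fin 4)) (n : ℕ), (w.map Fin.val, n) ∈ ([([0, 1], 3), ([0, 2], 3), ([1, 2], 3),
        ([0, 3], 5), ([1, 3], 3), ([2, 3], 3), ([0, 1, 2], 10), ([0, 1, 3], 3)] : List (List ℕ × ℕ)) →
        (w.map fun a => cP (gFin a)).prod ^ n = 1 := by
      intro w n hm
      have h := List.all_eq_true.1 hb.2 _ hm
      have key : ∀ l : List (Fin 4), ∀ x : Fin 315,
          (((((l.map fun a => cP (gFin a)).prod : PP) : Equiv.Perm (Fin 315)) x : Fin 315) : ℕ) =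
            (l.map Fin.val).foldr (fun a y => pimg (gen0 a) y) (x : ℕ) := by
        intro l
        induction l with
        | nil => intro x; rfl
        | cons a l ih =>
          intro x
          rw [List.map_cons, List.prod_cons, Subgroup.coe_mul, Equiv.Perm.mul_apply, cP_gen,
            (gen0_spec a.2).1, ih, List.map_cons, List.foldr_cons]
      have hp : ∀ n, (w.map fun a => cP (gFin a)).prod ^ n =
          ((List.flatten (List.replicate n w)).map fun a => cP (gFin a)).prod := by
        intro n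
        induction n with
        | zero => simp
        | succ n ih =>
          rw [pow_succ', ih, List.replicate_succ, List.flatten_cons, List.map_append, List.prod_append]
      rw [hp]
      refine pp_ext fun v => ?_
      rw [key, List.map_flatten, List.map_replicate]
      exact beq_eq (all_of h v.2)
    refine ⟨?_, ?_, ?_, ?_, ?_, ?_, ?_, ?_, ?_⟩
    · intro a b e
      by_contra hab
      have hab' : (a : ℕ) ≠ b := fun h => hab (Fin.ext h)
      have e' : gLine (a : ℕ) = gLine (b : ℕ) := by
        have := congrArg Fin.val e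
        have ha := all_of check_act a.2
        have hb' := all_of check_act b.2
        simp only [Bool.and_eq_true, Nat.blt_eq] at ha hb'
        rwa [show (gFin a : ℕ) = gLine (a : ℕ) from Nat.mod_eq_of_lt ha.1,
          show (gFin b : ℕ) = gLine (b : ℕ) from Nat.mod_eq_of_lt hb'.1] at this
      rcases hab'.lt_or_gt with hlt | hlt
      · have := all_of (all_of hb.1 b.2) hlt
        rw [e', Nat.beq_refl] at this
        exact absurd this (by decide)
      · have := all_of (all_of hb.1 a.2) hlt
        rw [e', Nat.beq_refl] at this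
        exact absurd this (by decide)
    · simpa using hrel [0, 1] 3 (by decide)
    · simpa using hrel [0, 2] 3 (by decide)
    · simpa using hrel [1, 2] 3 (by decide)
    · simpa using hrel [0, 3] 5 (by decide)
    · simpa using hrel [1, 3] 3 (by decide)
    · simpa using hrel [2, 3] 3 (by decide)
    · simpa using hrel [0, 1, 2] 10 (by decide)
    · simpa using hrel [0, 1, 3] 3 (by decide)
  -- the images of the generators
  let img : MulAut PP → {q // IsQuad q} := fun φ => ⟨fun a => τ φ (gFin a), by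
    obtain ⟨hi, h1, h2, h3, h4, h5, h6, h7, h8⟩ := hgen
    refine ⟨?_, ?_⟩
    · intro a b e
      refine hi (cP_injective (φ.injective ?_))
      rw [hτ, hτ]
      exact congrArg cP e
    simp only [← hτ, ← map_mul, ← map_pow, h1, h2, h3, h4, h5, h6, h7, h8, map_one, and_self]⟩
  have himg : Function.Injective img := by
    intro φ ψ e
    refine MulEquiv.toMonoidHom_injective (MonoidHom.eq_of_eqOn_dense closure_cP ?_)
    rintro _ ⟨a, rfl⟩
    show φ (cP (gFin a)) = ψ (cP (gFin a))
    rw [hτ, hτ]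
    exact congrArg cP (congrFun (congrArg Subtype.val e) a)
  -- normalisation
  have hmove : ∀ k : Fin 315, ∃ g : PP, g • k = pt0 := fun k => exists_smul_eq PP k pt0
  choose G hG using hmove
  let r5 : Fin 315 := ⟨quadOne % 315, Nat.mod_lt _ (by norm_num)⟩
  have h5 : (r5 : ℕ) = quadOne := by
    have h := all_of check_root_lab (show 5 < 6 by norm_num)
    simp only [Bool.and_eq_true, Nat.blt_eq] at h
    exact Nat.mod_eq_of_lt h.1
  have horb : ∀ n, ∀ x : Fin 315, stabRank.get (x : ℕ) = n → stabLab.get (x : ℕ) = 5 →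
      ∃ h : PP, h • pt0 = pt0 ∧ h • x = r5 := by
    intro n
    induction n using Nat.strong_induction_on with
    | _ n ih =>
      intro x hn hl
      have h := all_of check_suborbit x.2
      simp only [Bool.and_eq_true, Bool.or_eq_true, Nat.blt_eq] at h
      rcases h.2 with h' | ⟨⟨⟨hp, hr⟩, hlab⟩, himg⟩
      · refine ⟨1, one_smul _ _, (one_smul _ x).trans (Fin.ext ?_)⟩
        rw [h5, beq_eq h']
        show stabRoot.getD (stabLab.get (x : ℕ)) 0 = quadOne
        rw [hl]; rfl
      · obtain ⟨g, hg0, hg⟩ := ih _ (hn ▸ hr) ⟨_, hp⟩ rfl ((beq_eq hlab).trans hl)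
        have ha : stabPar.get (x : ℕ) % 2 < 2 := Nat.mod_lt _ two_pos
        let u : PP := ⟨_, (gen1_mem ha).2.1⟩
        have hu : u • pt0 = pt0 := (gen1_mem ha).2.2
        have hux : u • (⟨_, hp⟩ : Fin 315) = x :=
          Fin.ext (by
            show ((permOf (gen1 _) _ : Fin 315) : ℕ) = _
            rw [(gen1_mem ha).1]; exact beq_eq himg)
        refine ⟨g * u⁻¹, ?_, ?_⟩
        · rw [mul_smul, inv_smul_eq_iff.2 hu.symm, hg0]
        · rw [mul_smul, inv_smul_eq_iff.2 hux.symm, hg]
  have hH : ∀ x : Fin 315, ∃ h : PP, stabLab.get (x : ℕ) = 5 → h • pt0 = pt0 ∧ h • x = r5 := fun x => by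
    by_cases hl : stabLab.get (x : ℕ) = 5
    · obtain ⟨h, hh⟩ := horb _ x rfl hl
      exact ⟨h, fun _ => hh⟩
    · exact ⟨1, fun h => absurd h hl⟩
  choose H hH using hH
  have hx : ∀ q : {q // IsQuad q}, stabLab.get ((G (q.1 0) • q.1 1 : Fin 315) : ℕ) = 5 := by
    intro q
    obtain ⟨hi, h1, -⟩ := quad_smul q.2 (G (q.1 0))
    set x := G (q.1 0) • q.1 1
    have e0 : G (q.1 0) • q.1 0 = pt0 := hG _
    change Function.Injective _ at hi
    simp only [e0] at h1
    have h := all_of check_second x.2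
    simp only [Bool.or_eq_true, Bool.not_eq_true'] at h
    rcases h with (h | h) | h
    · have : x = pt0 := Fin.ext (beq_eq h)
      exact absurd (hi (a₁ := 1) (a₂ := 0) (by show x = _; rw [this]; exact e0.symm)) (by decide)
    · have := relOK_two h1
      rw [show ((pt0 : Fin 315) : ℕ) = 0 from rfl, h] at this
      exact absurd this (by decide)
    · exact beq_eq h
  let T : Type := {x : Fin 315 // stabLab.get (x : ℕ) = 5}
  let U : Type := {p : Fin 315 × Fin 315 // thirdOK p.1 = true ∧ fourthOK p.1 p.2 = true}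
  let N : {q // IsQuad q} → PP := fun q => H (G (q.1 0) • q.1 1) * G (q.1 0)
  have hN0 : ∀ q, N q • q.1 0 = pt0 := fun q => by
    show (_ * _) • _ = _
    rw [mul_smul, hG, (hH _ (hx q)).1]
  have hN1 : ∀ q, N q • q.1 1 = r5 := fun q => by
    show (_ * _) • _ = _
    rw [mul_smul, (hH _ (hx q)).2]
  let F : {q // IsQuad q} → Fin 315 × T × U := fun q => (q.1 0, ⟨_, hx q⟩, ⟨(N q • q.1 2, N q • q.1 3), by
    obtain ⟨hi, h1, h2, h3, h4, h5', h6, h7, h8⟩ := quad_smul q.2 (N q)
    simp only [hN0, hN1] at h1 h2 h3 h4 h5' h6 h7 h8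
    have hne : ∀ a b : Fin 4, a ≠ b → Nat.beq ((N q • q.1 a : Fin 315) : ℕ) (N q • q.1 b : Fin 315) = false := by
      intro a b hab
      rw [← Bool.not_eq_true]
      exact fun h => hab (hi (Fin.ext (beq_eq h)))
    have e20 := hne 2 0 (by decide); have e21 := hne 2 1 (by decide)
    have e30 := hne 3 0 (by decide); have e31 := hne 3 1 (by decide); have e32 := hne 3 2 (by decide)
    rw [hN0] at e20 e30
    rw [hN1, h5] at e21 e31
    have r1 := relOK_two h2; have r2 := relOK_two h3; have r3 := relOK_two h4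
    have r4 := relOK_two h5'; have r5' := relOK_two h6
    have r6 := relOK_three h7; have r7 := relOK_three h8
    rw [h5] at r2 r4 r6 r7
    change relOK [0, _] 3 = true at r1
    change relOK [0, _] 5 = true at r3
    change relOK [0, quadOne, _] 10 = true at r6
    change relOK [0, quadOne, _] 3 = true at r7
    change Nat.beq _ 0 = false at e20
    change Nat.beq _ 0 = false at e30
    simp [thirdOK, fourthOK, e20, e21, e30, e31, e32, r1, r2, r3, r4, r5', r6, r7]⟩)
  have hF : Function.Injective F := by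
    intro p q e
    have e0 : p.1 0 = q.1 0 := congrArg (fun z : Fin 315 × T × U => z.1) e
    have e1 : G (p.1 0) • p.1 1 = G (q.1 0) • q.1 1 := congrArg (fun z : Fin 315 × T × U => z.2.1.1) e
    have e2 : N p • p.1 2 = N q • q.1 2 := congrArg (fun z : Fin 315 × T × U => z.2.2.1.1) e
    have e3 : N p • p.1 3 = N q • q.1 3 := congrArg (fun z : Fin 315 × T × U => z.2.2.1.2) e
    have e1' : p.1 1 = q.1 1 := by
      rw [e0] at e1
      exact MulAction.injective _ e1
    have hN : N p = N q := by simp only [N, e0, e1']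
    rw [hN] at e2 e3
    refine Subtype.ext (funext fun a => ?_)
    fin_cases a
    · exact e0
    · exact e1'
    · exact MulAction.injective _ e2
    · exact MulAction.injective _ e3
  have hcT : Nat.card T = 160 := by
    rw [Nat.card_eq_fintype_card, Fintype.card_subtype, ← check_lab_count, List.countP_eq_length_filter,
      ← List.toFinset_card_of_nodup (List.nodup_range.filter _)]
    refine Finset.card_bij' (fun x _ => (x : ℕ)) (fun x hx => ⟨x, ?_⟩) ?_ ?_ ?_ ?_
    · simp only [List.mem_toFinset, List.mem_filter, List.mem_range] at hx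
      exact hx.1
    · intro x hx
      simp only [Finset.mem_filter] at hx
      simp [List.mem_toFinset, List.mem_filter, List.mem_range, x.2, hx.2]
    · intro x hx
      simp only [List.mem_toFinset, List.mem_filter, List.mem_range] at hx
      simpa using beq_eq hx.2
    · exact fun x _ => rfl
    · exact fun x _ => rfl
  have hcU : Nat.card U ≤ 24 := by
    rw [Nat.card_eq_fintype_card, Fintype.card_subtype, ← check_count,
      ← Finset.univ_product_univ, Finset.card_filter, Finset.sum_product]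
    refine le_of_eq ?_
    have hsum : ∀ f : ℕ → ℕ, ∑ c : Fin 315, f c = ((List.range 315).map f).sum := fun f => by
      rw [Fin.sum_univ_eq_sum_range (fun c => f c) 315, Finset.sum_eq_multiset_sum]
      rfl
    rw [← hsum]
    refine Finset.sum_congr rfl fun c _ => ?_
    cases hc : thirdOK (c : ℕ)
    · simp [hc]
    · rw [cond_true, List.countP_eq_length_filter, ← List.toFinset_card_of_nodup (List.nodup_range.filter _)]
      simp only [hc, true_and]
      rw [← Finset.card_filter]
      refine Finset.card_bij' (fun x _ => (x : ℕ)) (fun x hx => ⟨x, ?_⟩) ?_ ?_ ?_ ?_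
      · simp only [List.mem_toFinset, List.mem_filter, List.mem_range] at hx
        exact hx.1
      · intro x hx
        simp only [Finset.mem_filter] at hx
        simp [List.mem_toFinset, List.mem_filter, List.mem_range, x.2, hx.2]
      · intro x hx
        simp only [List.mem_toFinset, List.mem_filter, List.mem_range] at hx
        simp [hx.2]
      · exact fun x _ => rfl
      · exact fun x _ => rfl
  calc Nat.card (MulAut PP) ≤ Nat.card (Fin 315 × T × U) := Nat.card_le_card_of_injective _ (hF.comp himg)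
    _ ≤ 315 * (160 * 24) := by
      rw [Nat.card_prod, Nat.card_prod, Nat.card_fin, hcT]
      gcongr
    _ = 1209600 := by norm_num

theorem card_out_PP : Nat.card (Cfsg.Out PP) = 2 := by
  classical
  obtain ⟨σ, -, hσ, hσP⟩ := exists_outer
  have hinj : Function.Injective (MulAut.conj : PP →* MulAut PP) := by
    rw [← MonoidHom.ker_eq_bot_iff]
    haveI := isSimple_PP
    refine (IsSimpleGroup.eq_bot_or_eq_top_of_normal _ inferInstance).resolve_right fun h => ?_
    have hab : ∀ a b : PP, a * b = b * a := fun a b => by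
      have := DFunLike.congr_fun (MonoidHom.mem_ker.1 (h ▸ Subgroup.mem_top a)) b
      exact mul_inv_eq_iff_eq_mul.1 this
    obtain ⟨a, b, hne⟩ := exists_not_commute_J2
    exact hne (equivPP.injective (by rw [map_mul, map_mul, hab]))
  have hconj : ∀ x : Equiv.Perm (Fin 315), x ∈ PP → σ * x * σ⁻¹ ∈ PP := by
    intro x hx
    have hx' : (⟨x, hx⟩ : PP) ∈ (Subgroup.closure genP).comap
        ((MulAut.conj σ).toMonoidHom.comp PP.subtype) := by
      have htop : (⊤ : Subgroup PP) ≤ _ := closure_cP.symm.le.trans ((Subgroup.closure_le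
        ((Subgroup.closure genP).comap ((MulAut.conj σ).toMonoidHom.comp PP.subtype))).2 ?_)
      · exact htop (Subgroup.mem_top _)
      rintro _ ⟨a, rfl⟩
      show σ * ((cP (gFin a) : PP) : Equiv.Perm (Fin 315)) * σ⁻¹ ∈ PP
      rw [hσ]
      exact (cP _).2
    exact hx'
  have hmapP : PP.map (MulAut.conj σ).toMonoidHom = PP :=
    Subgroup.eq_of_le_of_card_ge (by rintro _ ⟨x, hx, rfl⟩; exact hconj x hx)
      (Subgroup.card_map_of_injective (MulAut.conj σ).injective).symm.le
  let φ : MulAut PP := (PP.equivMapOfInjective (MulAut.conj σ).toMonoidHom (MulAut.conj σ).injective).trans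
    (MulEquiv.subgroupCongr hmapP)
  have hφ : ∀ x : PP, ((φ x : PP) : Equiv.Perm (Fin 315)) = σ * x * σ⁻¹ := fun x => rfl
  have hout : φ ∉ Cfsg.Inn PP := by
    rintro ⟨h, hh⟩
    refine hσP ?_
    have : σ = h := by
      refine Equiv.ext fun k => cP_injective ?_
      have e := congrArg Subtype.val (DFunLike.congr_fun hh (cP k))
      rw [hφ, hσ] at e
      have e' : MulAut.conj h (cP k) = cP (h • k) := conj_cP h k
      rw [e'] at e
      exact (Subtype.ext e).symm
    rw [this]
    exact h.2
  have hI : Nat.card (Cfsg.Inn PP) = 604800 := by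
    rw [← Nat.card_congr (MonoidHom.ofInjective hinj).toEquiv, card_PP]
  have hne : (Cfsg.Inn PP).index ≠ 1 := fun h =>
    hout (Subgroup.index_eq_one.1 h ▸ Subgroup.mem_top φ)
  have h := (Cfsg.Inn PP).card_mul_index
  rw [hI] at h
  haveI : Finite (MulAut PP) := Finite.of_injective _ MulEquiv.toEquiv_injective
  have hle := card_aut_le
  have hpos : (Cfsg.Inn PP).index ≠ 0 := Subgroup.index_ne_zero_of_finite
  show (Cfsg.Inn PP).index = 2
  omega

theorem card_out_J2 : Nat.card (Cfsg.Out J2) = 2 := by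
  rw [← card_out_PP]
  let e := MulAut.congr equivPP
  have hmap : (Cfsg.Inn J2).map e.toMonoidHom = Cfsg.Inn PP := by
    ext ψ
    constructor
    · rintro ⟨_, ⟨g, rfl⟩, rfl⟩
      refine ⟨equivPP g, MulEquiv.ext fun x => ?_⟩
      simp [e, MulAut.congr]
    · rintro ⟨g, rfl⟩
      refine ⟨MulAut.conj (equivPP.symm g), ⟨_, rfl⟩, MulEquiv.ext fun x => ?_⟩
      simp [e, MulAut.congr]
  exact Nat.card_congr (QuotientGroup.congr _ _ e hmap).toEquiv

end CfsgLib.Janko2
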