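import Cfsg.Agent.Lib.Janko2.Group

/-!
The action on the reflections, and the centre.
-/

set_option autoImplicit false
set_option maxRecDepth 100000

namespace CfsgLib.Janko2

open Quaternion Cfsg.Spor CfsgLib.Fusion.TableSylow

theorem conj_ref {g : Equiv.Perm icoLeech} (hg : g ∈ twoJ2) :
    ∀ k : Fin 315, ∃ l, g * refPerm k * g⁻¹ = refPerm l := by
  rw [twoJ2_eq] at hg
  induction hg using Subgroup.closure_induction with
  | mem x hx =>
    obtain ⟨a, rfl⟩ := hx
    intro k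
    exact ⟨actFin a k, by rw [inv_eq_of_mul_eq_one_right (refPerm_sq _)]; exact conj_gen a k⟩
  | one => exact fun k => ⟨k, by simp⟩
  | mul x y _ _ hx hy =>
    intro k
    obtain ⟨l, e⟩ := hy k
    obtain ⟨m, e'⟩ := hx l
    exact ⟨m, by rw [← e', ← e]; group⟩
  | inv x _ hx =>
    choose σ hσ using hx
    have hinj : Function.Injective σ := fun a b h => refPerm_injective <| by
      have h' : x * refPerm a * x⁻¹ = x * refPerm b * x⁻¹ := by rw [hσ, hσ, h]
      simpa using h'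
    intro k
    obtain ⟨l, rfl⟩ := (Finite.injective_iff_surjective.1 hinj) k
    exact ⟨l, by rw [← hσ l]; group⟩

/-- The image of a reflection under conjugation. -/
noncomputable def lineMap (g : twoJ2) (k : Fin 315) : Fin 315 :=
  Classical.choose (conj_ref g.2 k)

theorem lineMap_spec (g : twoJ2) (k : Fin 315) :
    (g : Equiv.Perm icoLeech) * refPerm k * (g : Equiv.Perm icoLeech)⁻¹ = refPerm (lineMap g k) :=
  Classical.choose_spec (conj_ref g.2 k)

theorem lineMap_mul (g h : twoJ2) (k : Fin 315) : lineMap (g * h) k = lineMap g (lineMap h k) := by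
  refine refPerm_injective ?_
  rw [← lineMap_spec, ← lineMap_spec, ← lineMap_spec, Subgroup.coe_mul]
  group

theorem lineMap_one (k : Fin 315) : lineMap 1 k = k := by
  refine refPerm_injective ?_
  rw [← lineMap_spec]
  simp

/-- The action on the reflections. -/
noncomputable def psi : twoJ2 →* Equiv.Perm (Fin 315) where
  toFun g :=
    { toFun := lineMap g
      invFun := lineMap g⁻¹
      left_inv := fun k => by rw [← lineMap_mul, inv_mul_cancel, lineMap_one]
      right_inv := fun k => by rw [← lineMap_mul, mul_inv_cancel, lineMap_one] }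
  map_one' := Equiv.ext lineMap_one
  map_mul' g h := Equiv.ext (lineMap_mul g h)

/-- A generator as an element of the group. -/
noncomputable def gElt (a : Fin 4) : twoJ2 := ⟨refPerm (gFin a), refPerm_mem_twoJ2 _⟩

theorem psi_gen (a : Fin 4) (j : Fin 315) : psi (gElt a) j = actFin a j := by
  refine refPerm_injective ?_
  show refPerm (lineMap (gElt a) j) = _
  rw [← lineMap_spec, gElt]
  show refPerm (gFin a) * refPerm j * (refPerm (gFin a))⁻¹ = _
  rw [inv_eq_of_mul_eq_one_right (refPerm_sq _), conj_gen]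

theorem closure_gElt : Subgroup.closure (Set.range gElt) = ⊤ := by
  rw [eq_top_iff]
  rintro ⟨g, hg⟩ -
  have h : g ∈ (Subgroup.closure (Set.range gElt)).map twoJ2.subtype := by
    rw [MonoidHom.map_closure]
    rw [twoJ2_eq] at hg
    refine Subgroup.closure_mono ?_ hg
    rintro _ ⟨a, rfl⟩
    exact ⟨gElt a, ⟨a, rfl⟩, rfl⟩
  obtain ⟨w, hw, e⟩ := h
  rwa [show (⟨g, hg⟩ : twoJ2) = w from Subtype.ext e.symm]

theorem ker_psi : psi.ker = Subgroup.center twoJ2 := by
  ext g
  rw [MonoidHom.mem_ker, Subgroup.mem_center_iff]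
  constructor
  · intro h x
    have hx : x ∈ Subgroup.closure (Set.range gElt) := closure_gElt ▸ Subgroup.mem_top x
    induction hx using Subgroup.closure_induction with
    | mem x hx =>
      obtain ⟨a, rfl⟩ := hx
      have h2 := lineMap_spec g (gFin a)
      rw [show lineMap g (gFin a) = gFin a from DFunLike.congr_fun h (gFin a)] at h2
      refine Subtype.ext ?_
      exact (mul_inv_eq_iff_eq_mul.1 h2).symm
    | one => simp
    | mul x y _ _ hx hy => rw [mul_assoc, hy, ← mul_assoc, hx, mul_assoc]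
    | inv x _ hx => exact (Commute.inv_left hx).eq
  · intro h
    ext1 k
    refine refPerm_injective ?_
    show refPerm (lineMap g k) = refPerm k
    rw [← lineMap_spec]
    have h2 : refPerm k * (g : Equiv.Perm icoLeech) = g * refPerm k :=
      congrArg Subtype.val (h ⟨refPerm k, refPerm_mem_twoJ2 k⟩)
    rw [← h2, mul_inv_cancel_right]

/-! ### The centre consists of two elements -/

/-- Additivity and left linearity. -/
def IsLin (g : Equiv.Perm icoLeech) : Prop :=
  (∀ x y z : icoLeech, (z : Fin 3 → ℍ[ℝ]) = (x : Fin 3 → ℍ[ℝ]) + y →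
    ((g z : icoLeech) : Fin 3 → ℍ[ℝ]) = (g x : Fin 3 → ℍ[ℝ]) + g y) ∧
  ∀ a : ℍ[ℝ], ∀ x z : icoLeech, (z : Fin 3 → ℍ[ℝ]) = (fun t => a * (x : Fin 3 → ℍ[ℝ]) t) →
    ((g z : icoLeech) : Fin 3 → ℍ[ℝ]) = fun t => a * (g x : Fin 3 → ℍ[ℝ]) t

theorem isLin_mem {g : Equiv.Perm icoLeech} (hg : g ∈ twoJ2) : IsLin g := by
  rw [twoJ2_eq] at hg
  have hinv : ∀ a : Fin 4, (refPerm (gFin a))⁻¹ = refPerm (gFin a) :=
    fun a => inv_eq_of_mul_eq_one_right (refPerm_sq _)
  induction hg using Subgroup.closure_induction'' with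
  | mem x hx =>
    obtain ⟨a, rfl⟩ := hx
    exact ⟨fun x y z h => by simp only [refPerm_apply, h, qrefl_add],
      fun c x z h => by simp only [refPerm_apply, h, qrefl_smul]⟩
  | inv_mem x hx =>
    obtain ⟨a, rfl⟩ := hx
    rw [hinv]
    exact ⟨fun x y z h => by simp only [refPerm_apply, h, qrefl_add],
      fun c x z h => by simp only [refPerm_apply, h, qrefl_smul]⟩
  | one => exact ⟨fun _ _ _ h => h, fun _ _ _ h => h⟩
  | mul x y _ _ hx hy =>
    exact ⟨fun u v w h => hx.1 _ _ _ (hy.1 u v w h), fun c u w h => hx.2 c _ _ (hy.2 c u w h)⟩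

theorem qip_gen {g : Equiv.Perm icoLeech} (hg : g ∈ twoJ2) :
    ∀ x y : icoLeech, qip (g x : Fin 3 → ℍ[ℝ]) (g y) = qip (x : Fin 3 → ℍ[ℝ]) y := by
  rw [twoJ2_eq] at hg
  have hinv : ∀ a : Fin 4, (refPerm (gFin a))⁻¹ = refPerm (gFin a) :=
    fun a => inv_eq_of_mul_eq_one_right (refPerm_sq _)
  induction hg using Subgroup.closure_induction'' with
  | mem x hx =>
    obtain ⟨a, rfl⟩ := hx
    intro u v
    rw [refPerm_apply, refPerm_apply, qip_qrefl_qrefl (repV_lat (gFin a).2).2]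
  | inv_mem x hx =>
    obtain ⟨a, rfl⟩ := hx
    intro u v
    rw [hinv, refPerm_apply, refPerm_apply, qip_qrefl_qrefl (repV_lat (gFin a).2).2]
  | one => intro u v; rfl
  | mul x y _ _ hx hy => intro u v; exact (hx _ _).trans (hy u v)

/-- Twice one. -/
def twoQ : Quad := ⟨⟨-4, 0⟩, ⟨0, 0⟩, ⟨0, 0⟩, ⟨0, 0⟩⟩

theorem check_axes : repV 0 = ⟨twoQ, Quad.zero, Quad.zero⟩ ∧ repV 17 = ⟨Quad.zero, twoQ, Quad.zero⟩ ∧
    repV 26 = ⟨Quad.zero, Quad.zero, twoQ⟩ ∧
    ((repV 1).y.conj.mul (repV 1).x).conj.mul ((repV 2).y.conj.mul (repV 2).x) = qd 0 0 8 0 0 0 0 0 ∧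
    ((repV 1).y.conj.mul (repV 1).x).conj.mul ((repV 5).y.conj.mul (repV 5).x) = qd 0 0 0 0 (-8) 0 0 0 ∧
    (repV 1).y ≠ Quad.zero ∧ (repV 1).x ≠ Quad.zero ∧ (repV 9).z ≠ Quad.zero ∧ (repV 9).x ≠ Quad.zero := by
  decide +kernel

/-- An element commuting with the reflections acts by signs. -/
theorem central_sign {g : Equiv.Perm icoLeech} (hg : g ∈ twoJ2)
    (hc : ∀ k, g * refPerm k = refPerm k * g) :
    ∃ s : ℝ, (s = 1 ∨ s = -1) ∧
      ∀ x : icoLeech, ((g x : icoLeech) : Fin 3 → ℍ[ℝ]) = s • (x : Fin 3 → ℍ[ℝ]) := by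
  have hlin := isLin_mem hg
  let R : Fin 315 → icoLeech := fun k => ⟨(repV k).dec, Vec.mem_icoLeech_iff.2 (repV_lat k.2).1⟩
  have hline : ∀ k : Fin 315, ∃ a : ℍ[ℝ],
      ((g (R k) : icoLeech) : Fin 3 → ℍ[ℝ]) = fun t => a * (repV k).dec t := by
    intro k
    have hr := (repV_lat k.2).2
    have h1 : refPerm k (g (R k)) = g (refPerm k (R k)) := (DFunLike.congr_fun (hc k) (R k)).symm
    have h2 : ((refPerm k (R k) : icoLeech) : Fin 3 → ℍ[ℝ]) = fun t => (-1 : ℍ[ℝ]) * (repV k).dec t := by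
      funext t
      rw [refPerm_apply]
      simp only [R, qrefl, hr]
      rw [show (4 : ℍ[ℝ]) = 2 * 2 by norm_num, half_two, two_mul, neg_one_mul]
      abel
    have h3 := hlin.2 (-1) (R k) (refPerm k (R k)) h2
    set y := ((g (R k) : icoLeech) : Fin 3 → ℍ[ℝ]) with hy
    refine ⟨(1 / 2 : ℝ) • ((1 / 2 : ℝ) • qip y (repV k).dec), funext fun t => ?_⟩
    have h4 : qrefl (repV k).dec y t = -1 * y t := by
      rw [← refPerm_apply k (g (R k)), h1, h3]
    simp only [qrefl] at h4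
    have h5 : y t + y t = ((1 / 2 : ℝ) • qip y (repV k).dec) * (repV k).dec t := by
      linear_combination (norm := noncomm_ring) h4
    rw [smul_mul_assoc, ← h5, ← two_smul ℝ, smul_smul]
    norm_num
  obtain ⟨ax0, ax1, ax2, e12, e15, n1y, n1x, n9z, n9x⟩ := check_axes
  have hdec : twoQ.dec = ((-2 : ℝ) : ℍ[ℝ]) := by
    ext <;> simp [Quad.re_dec, Quad.imI_dec, Quad.imJ_dec, Quad.imK_dec, twoQ, Zt.val]; norm_num
  let q : Fin 3 → ℍ[ℝ] := fun s => Classical.choose (hline (![(0 : Fin 315), 17, 26] s))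
  have hq : ∀ s : Fin 3, ((g (R (![(0 : Fin 315), 17, 26] s)) : icoLeech) : Fin 3 → ℍ[ℝ]) =
      fun t => q s * (repV (![(0 : Fin 315), 17, 26] s : Fin 315)).dec t := fun s =>
    Classical.choose_spec (hline (![(0 : Fin 315), 17, 26] s))
  -- right multiplication coordinatewise
  have hform : ∀ x : icoLeech, ∀ t : Fin 3,
      ((g x : icoLeech) : Fin 3 → ℍ[ℝ]) t = (x : Fin 3 → ℍ[ℝ]) t * q t := by
    intro x t
    have hx : ∀ s, (x : Fin 3 → ℍ[ℝ]) s ∈ icosians := x.2.1
    have hm : ∀ s : Fin 3, ∀ a ∈ icosians,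
        (fun t => a * (repV (![(0 : Fin 315), 17, 26] s : Fin 315)).dec t) ∈ icoLeech := fun s a ha =>
      icoLeech_smul ha (Vec.mem_icoLeech_iff.2 (repV_lat (![(0 : Fin 315), 17, 26] s).2).1)
    let y : Fin 3 → icoLeech := fun s => ⟨_, hm s _ (hx s)⟩
    let xx : icoLeech := ⟨(x : Fin 3 → ℍ[ℝ]) + x, icoLeech_add x.2 x.2⟩
    let y01 : icoLeech := ⟨(y 0 : Fin 3 → ℍ[ℝ]) + y 1, icoLeech_add (y 0).2 (y 1).2⟩
    let y012 : icoLeech := ⟨(y01 : Fin 3 → ℍ[ℝ]) + y 2, icoLeech_add y01.2 (y 2).2⟩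
    have e1 : (y012 : Fin 3 → ℍ[ℝ]) = fun t => (-1 : ℍ[ℝ]) * (xx : Fin 3 → ℍ[ℝ]) t := by
      funext u
      fin_cases u <;> simp [y012, y01, y, xx, ax0, ax1, ax2, Vec.dec, Quad.dec_zero, hdec,
        Quaternion.mul_coe_eq_smul, two_smul]
    have g1 := congrFun (hlin.2 (-1) xx y012 e1) t
    have g2 := congrFun (hlin.1 x x xx rfl) t
    have g3 := congrFun (hlin.1 y01 (y 2) y012 rfl) t
    have g4 := congrFun (hlin.1 (y 0) (y 1) y01 rfl) t
    have g5 := fun s => congrFun (hlin.2 ((x : Fin 3 → ℍ[ℝ]) s) (R (![(0 : Fin 315), 17, 26] s)) (y s) rfl) t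
    simp only [Pi.add_apply] at g2 g3 g4
    simp only [g5, hq] at g4 g3
    rw [g3, g4, g2] at g1
    have key : ((g x : icoLeech) : Fin 3 → ℍ[ℝ]) t + ((g x : icoLeech) : Fin 3 → ℍ[ℝ]) t =
        (x : Fin 3 → ℍ[ℝ]) t * q t + (x : Fin 3 → ℍ[ℝ]) t * q t := by
      rw [neg_one_mul] at g1
      refine neg_injective (g1.symm.trans ?_)
      fin_cases t <;> simp [ax0, ax1, ax2, Vec.dec, Quad.dec_zero, hdec,
        Quaternion.mul_coe_eq_smul, two_smul, mul_add, mul_neg, neg_add]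
    rw [← two_smul ℝ, ← two_smul ℝ ((x : Fin 3 → ℍ[ℝ]) t * q t)] at key
    exact smul_right_injective _ (two_ne_zero (α := ℝ)) key
  -- the three factors agree and are real
  have hd : ∀ k : Fin 315, ∀ s t : Fin 3,
      q s * (star ((repV k).dec s) * (repV k).dec t) = star ((repV k).dec s) * (repV k).dec t * q t := by
    intro k s t
    obtain ⟨a, ha⟩ := hline k
    have e1 : ∀ u, (repV k).dec u * q u = a * (repV k).dec u := fun u => by
      rw [← congrFun ha u, hform (R k) u]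
    have hn : star ((repV k).dec s) * (repV k).dec s = ((Quaternion.normSq ((repV k).dec s) : ℝ) : ℍ[ℝ]) :=
      Quaternion.star_mul_self _
    rcases eq_or_ne ((repV k).dec s) 0 with h | h
    · simp [h]
    have hN : ((Quaternion.normSq ((repV k).dec s) : ℝ) : ℍ[ℝ]) ≠ 0 := by
      rw [← hn]; exact mul_ne_zero (star_ne_zero.2 h) h
    refine mul_left_cancel₀ hN ?_
    calc ((Quaternion.normSq ((repV k).dec s) : ℝ) : ℍ[ℝ]) * (q s * (star ((repV k).dec s) * (repV k).dec t))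
        = star ((repV k).dec s) * (a * (repV k).dec s) * (star ((repV k).dec s) * (repV k).dec t) := by
          rw [← e1, ← hn]; simp only [mul_assoc]
      _ = star ((repV k).dec s) * a * ((repV k).dec s * star ((repV k).dec s)) * (repV k).dec t := by
          simp only [mul_assoc]
      _ = ((Quaternion.normSq ((repV k).dec s) : ℝ) : ℍ[ℝ]) * (star ((repV k).dec s) * (a * (repV k).dec t)) := by
          rw [Quaternion.self_mul_star, ← Quaternion.coe_commutes]; simp only [mul_assoc]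
      _ = _ := by rw [← e1]; simp only [mul_assoc]
  -- the first factor is real
  have hcomm : ∀ k l : Fin 315,
      Commute (star (star ((repV k).dec 1) * (repV k).dec 0) * (star ((repV l).dec 1) * (repV l).dec 0))
        (q 0) := by
    intro k l
    set d := star ((repV k).dec 1) * (repV k).dec 0 with hdd
    set d' := star ((repV l).dec 1) * (repV l).dec 0
    rcases eq_or_ne d 0 with h | h
    · simp [h]
    have hk' : q 0 * star d = star d * q 1 := by
      rw [hdd, star_mul, star_star]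
      exact hd k 0 1
    show star d * d' * q 0 = q 0 * (star d * d')
    rw [mul_assoc, ← hd l 1 0, ← mul_assoc, ← hk', mul_assoc]
  have hij : ∀ k l : Fin 315, ∀ e : Quad,
      ((repV k).y.conj.mul (repV k).x).conj.mul ((repV l).y.conj.mul (repV l).x) = e →
        Commute e.dec (q 0) := by
    intro k l e he
    have h := hcomm k l
    obtain ⟨kx, ky, -⟩ := Vec.isIco_iff.1 (inLat_isIco (repV_lat k.2).1)
    obtain ⟨lx, ly, -⟩ := Vec.isIco_iff.1 (inLat_isIco (repV_lat l.2).1)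
    obtain ⟨a1, a2⟩ := Quad.ico_mul (Quad.conj_isIco ky) kx
    obtain ⟨b1, b2⟩ := Quad.ico_mul (Quad.conj_isIco ly) lx
    rw [← he, (Quad.ico_mul (Quad.conj_isIco a2) b2).1, Quad.dec_conj, a1, b1, Quad.dec_conj,
      Quad.dec_conj]
    exact h
  have hI := hij ⟨1, by norm_num⟩ ⟨2, by norm_num⟩ _ e12
  have hJ := hij ⟨1, by norm_num⟩ ⟨5, by norm_num⟩ _ e15
  have hi1 := congrArg QuaternionAlgebra.imJ hI.eq
  have hi2 := congrArg QuaternionAlgebra.imK hI.eq
  have hj2 := congrArg QuaternionAlgebra.imK hJ.eq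
  simp [Quad.re_dec, Quad.imI_dec, Quad.imJ_dec, Quad.imK_dec, qd, Zt.val] at hi1 hi2 hj2
  have hreal : q 0 = ((q 0).re : ℍ[ℝ]) := by
    ext <;> simp <;> linarith
  set lam := (q 0).re
  have hq1 : q 1 = (lam : ℍ[ℝ]) := by
    have h := hd ⟨1, by norm_num⟩ 1 0
    rw [hreal] at h
    have hne : star ((repV 1).dec 1) * (repV 1).dec 0 ≠ 0 := by
      refine mul_ne_zero (star_ne_zero.2 fun h => n1y (Quad.dec_injective ?_))
        (fun h => n1x (Quad.dec_injective ?_))
      · simpa [Vec.dec, Quad.dec_zero] using h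
      · simpa [Vec.dec, Quad.dec_zero] using h
    refine mul_right_cancel₀ hne ?_
    rw [h, ← Quaternion.coe_commutes]
  have hq2 : q 2 = (lam : ℍ[ℝ]) := by
    have h := hd ⟨9, by norm_num⟩ 2 0
    rw [hreal] at h
    have hne : star ((repV 9).dec 2) * (repV 9).dec 0 ≠ 0 := by
      refine mul_ne_zero (star_ne_zero.2 fun h => n9z (Quad.dec_injective ?_))
        (fun h => n9x (Quad.dec_injective ?_))
      · simpa [Vec.dec, Quad.dec_zero] using h
      · simpa [Vec.dec, Quad.dec_zero] using h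
    refine mul_right_cancel₀ hne ?_
    rw [h, ← Quaternion.coe_commutes]
  have hall : ∀ x : icoLeech,
      ((g x : icoLeech) : Fin 3 → ℍ[ℝ]) = lam • (x : Fin 3 → ℍ[ℝ]) := by
    intro x
    funext t
    rw [hform x t, Pi.smul_apply]
    have : q t = (lam : ℍ[ℝ]) := by fin_cases t <;> assumption
    rw [this, Quaternion.mul_coe_eq_smul]
  have hl : lam * lam = 1 := by
    have hnorm := qip_gen hg (R 0) (R 0)
    have hs : ∀ r : Fin 3 → ℍ[ℝ], qip (lam • r) (lam • r) = (lam * lam) • qip r r := fun r => by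
      simp [qip, Finset.smul_sum, smul_smul, Quaternion.star_smul]
    rw [hall, hs, (repV_lat (0 : Fin 315).2).2, show (4 : ℍ[ℝ]) = ((4 : ℝ) : ℍ[ℝ]) from rfl,
      ← Quaternion.coe_smul, smul_eq_mul] at hnorm
    have h4 := Quaternion.coe_injective hnorm
    linarith
  exact ⟨lam, mul_self_eq_one_iff.1 hl, hall⟩

theorem card_center : Nat.card (Subgroup.center twoJ2) = 2 ∧
    ∃ z ∈ Subgroup.center twoJ2, ∀ y : icoLeech,
      (((z : Equiv.Perm icoLeech) y : icoLeech) : Fin 3 → ℍ[ℝ]) = -(y : Fin 3 → ℍ[ℝ]) := by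
  obtain ⟨ax0, ax1, ax2, -⟩ := check_axes
  let m : twoJ2 := ⟨refPerm 0 * refPerm 17 * refPerm 26,
    mul_mem (mul_mem (refPerm_mem_twoJ2 _) (refPerm_mem_twoJ2 _)) (refPerm_mem_twoJ2 _)⟩
  have hdec : twoQ.dec = ((-2 : ℝ) : ℍ[ℝ]) := by
    ext <;> simp [Quad.re_dec, Quad.imI_dec, Quad.imJ_dec, Quad.imK_dec, twoQ, Zt.val]; norm_num
  have hm : ∀ y : icoLeech, (((m : Equiv.Perm icoLeech) y : icoLeech) : Fin 3 → ℍ[ℝ]) =
      -(y : Fin 3 → ℍ[ℝ]) := by
    intro y
    simp only [m, Equiv.Perm.mul_apply, refPerm_apply]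
    funext t
    rw [show ((0 : Fin 315) : ℕ) = 0 from rfl, show ((17 : Fin 315) : ℕ) = 17 from rfl,
      show ((26 : Fin 315) : ℕ) = 26 from rfl, ax0, ax1, ax2]
    fin_cases t <;>
      simp [qrefl, qip, Fin.sum_univ_three, Vec.dec, Quad.dec_zero, hdec,
        Quaternion.mul_coe_eq_smul, smul_smul, sub_eq_add_neg, ← neg_smul] <;>
      module
  have hmc : m ∈ Subgroup.center twoJ2 := by
    refine Subgroup.mem_center_iff.2 fun g => Subtype.ext (Equiv.ext fun y => Subtype.ext ?_)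
    show ((g.1 (m.1 y) : icoLeech) : Fin 3 → ℍ[ℝ]) = ((m.1 (g.1 y) : icoLeech) : Fin 3 → ℍ[ℝ])
    have h := (isLin_mem g.2).2 (-1) y (m.1 y) (by rw [hm]; funext t; simp)
    rw [h, hm]
    funext t
    simp
  refine ⟨?_, m, hmc, hm⟩
  have hne : (⟨m, hmc⟩ : Subgroup.center twoJ2) ≠ 1 := by
    intro e
    have e' : (m : Equiv.Perm icoLeech) = 1 := congrArg (fun z => (z.1.1)) e
    have h := congrFun (hm ⟨_, Vec.mem_icoLeech_iff.2 (repV_lat (show 0 < 315 by norm_num)).1⟩) 0
    rw [e'] at h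
    simp [ax0, Vec.dec, hdec] at h
    have := congrArg QuaternionAlgebra.re h
    norm_num at this
  have hall : ∀ z : Subgroup.center twoJ2, z = 1 ∨ z = ⟨m, hmc⟩ := by
    intro z
    obtain ⟨s, hs, h⟩ := central_sign z.1.2 fun k =>
      (congrArg Subtype.val (Subgroup.mem_center_iff.1 z.2 ⟨refPerm k, refPerm_mem_twoJ2 k⟩)).symm
    rcases hs with rfl | rfl
    · exact Or.inl (Subtype.ext (Subtype.ext (Equiv.ext fun y => Subtype.ext (by rw [h, one_smul]; rfl))))
    · exact Or.inr (Subtype.ext (Subtype.ext (Equiv.ext fun y => Subtype.ext (by rw [h, hm]; simp))))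
  rw [Nat.card_eq_two_iff' (1 : Subgroup.center twoJ2)]
  exact ⟨_, hne, fun z hz => (hall z).resolve_left hz⟩

end CfsgLib.Janko2
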