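import Cfsg.Prelude.Def_Spor_J2

/-!
Integer codes for quaternions with doubled coordinates in `ℤ[τ]`, and the icosian ring.
-/

set_option autoImplicit false

namespace CfsgLib.Janko2

open Quaternion Cfsg.Spor

/-- An element `a + b τ`. -/
structure Zt where
  a : ℤ
  b : ℤ
deriving DecidableEq

/-- Sum. -/
def Zt.add (x y : Zt) : Zt := ⟨x.a + y.a, x.b + y.b⟩

/-- Difference. -/
def Zt.sub (x y : Zt) : Zt := ⟨x.a - y.a, x.b - y.b⟩

/-- Negation. -/
def Zt.neg (x : Zt) : Zt := ⟨-x.a, -x.b⟩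

/-- Product. -/
def Zt.mul (x y : Zt) : Zt := ⟨x.a * y.a + x.b * y.b, x.a * y.b + x.b * y.a + x.b * y.b⟩

/-- Half. -/
def Zt.half (x : Zt) : Zt := ⟨x.a / 2, x.b / 2⟩

/-- Both coefficients are even. -/
def Zt.isEven (x : Zt) : Bool := decide (x.a % 2 = 0) && decide (x.b % 2 = 0)

/-- The real value. -/
noncomputable def Zt.val (x : Zt) : ℝ := x.a + x.b * tau

/-- A quaternion with doubled coordinates. -/
structure Quad where
  r : Zt
  i : Zt
  j : Zt
  k : Zt
deriving DecidableEq

/-- Sum. -/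
def Quad.add (p q : Quad) : Quad := ⟨p.r.add q.r, p.i.add q.i, p.j.add q.j, p.k.add q.k⟩

/-- Difference. -/
def Quad.sub (p q : Quad) : Quad := ⟨p.r.sub q.r, p.i.sub q.i, p.j.sub q.j, p.k.sub q.k⟩

/-- Negation. -/
def Quad.neg (p : Quad) : Quad := ⟨p.r.neg, p.i.neg, p.j.neg, p.k.neg⟩

/-- Zero. -/
def Quad.zero : Quad := ⟨⟨0, 0⟩, ⟨0, 0⟩, ⟨0, 0⟩, ⟨0, 0⟩⟩

/-- One. -/
def Quad.one : Quad := ⟨⟨2, 0⟩, ⟨0, 0⟩, ⟨0, 0⟩, ⟨0, 0⟩⟩

/-- Conjugate. -/
def Quad.conj (p : Quad) : Quad := ⟨p.r, p.i.neg, p.j.neg, p.k.neg⟩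

/-- Twice the product. -/
def Quad.raw (p q : Quad) : Quad :=
  ⟨((p.r.mul q.r).sub (p.i.mul q.i)).sub ((p.j.mul q.j).add (p.k.mul q.k)),
   ((p.r.mul q.i).add (p.i.mul q.r)).add ((p.j.mul q.k).sub (p.k.mul q.j)),
   ((p.r.mul q.j).sub (p.i.mul q.k)).add ((p.j.mul q.r).add (p.k.mul q.i)),
   ((p.r.mul q.k).add (p.i.mul q.j)).add ((p.k.mul q.r).sub (p.j.mul q.i))⟩

/-- Half. -/
def Quad.half (p : Quad) : Quad := ⟨p.r.half, p.i.half, p.j.half, p.k.half⟩

/-- All coefficients are even. -/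
def Quad.isEven (p : Quad) : Bool := p.r.isEven && p.i.isEven && p.j.isEven && p.k.isEven

/-- The product. -/
def Quad.mul (p q : Quad) : Quad := (p.raw q).half

/-- Membership in the icosian ring. -/
def Quad.isIco (p : Quad) : Bool :=
  decide ((p.r.a + p.j.b + p.k.a + p.k.b) % 2 = 0) && decide ((p.r.b + p.j.a + p.j.b + p.k.a) % 2 = 0) &&
    decide ((p.i.a + p.j.a + p.j.b + p.k.b) % 2 = 0) && decide ((p.i.b + p.j.a + p.k.a + p.k.b) % 2 = 0)

/-- Membership in twice the icosian ring. -/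
def Quad.isTwoIco (p : Quad) : Bool := p.isEven && p.half.isIco

/-- Membership in the left ideal generated by `h`, given the code of the conjugate of `h`. -/
def Quad.inIdeal (p hbar : Quad) : Bool :=
  p.isIco && (p.mul hbar).isTwoIco

/-- The quaternion. -/
noncomputable def Quad.dec (p : Quad) : ℍ[ℝ] := ⟨p.r.val / 2, p.i.val / 2, p.j.val / 2, p.k.val / 2⟩

theorem tau_sq : tau ^ 2 = tau + 1 := by
  rw [tau]
  have h : Real.sqrt 5 * Real.sqrt 5 = 5 := Real.mul_self_sqrt (by norm_num)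
  linear_combination h / 4

theorem irrational_tau : Irrational tau := by
  have h : Irrational (Real.sqrt 5) := by
    have : Nat.Prime 5 := by norm_num
    exact_mod_cast this.irrational_sqrt
  rw [tau, add_comm]
  exact (h.add_natCast 1).div_natCast two_ne_zero |> fun h => by simpa using h

namespace Zt

theorem val_add (x y : Zt) : (x.add y).val = x.val + y.val := by
  simp only [val, add]; push_cast; ring

theorem val_sub (x y : Zt) : (x.sub y).val = x.val - y.val := by
  simp only [val, sub]; push_cast; ring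

theorem val_neg (x : Zt) : x.neg.val = -x.val := by
  simp only [val, neg]; push_cast; ring

theorem val_mul (x y : Zt) : (x.mul y).val = x.val * y.val := by
  simp only [val, mul]; push_cast
  linear_combination -(x.b : ℝ) * y.b * tau_sq

theorem val_half {x : Zt} (h : x.isEven = true) : x.half.val = x.val / 2 := by
  simp only [isEven, Bool.and_eq_true, decide_eq_true_eq] at h
  obtain ⟨u, hu⟩ := Int.dvd_of_emod_eq_zero h.1
  obtain ⟨v, hv⟩ := Int.dvd_of_emod_eq_zero h.2
  simp only [val, half, hu, hv, Int.mul_ediv_cancel_left _ (two_ne_zero (α := ℤ))]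
  push_cast; ring

theorem val_injective : Function.Injective Zt.val := by
  intro x y h
  simp only [val] at h
  by_cases hb : x.b = y.b
  · rw [hb] at h
    have ha : x.a = y.a := by exact_mod_cast add_right_cancel h
    cases x; cases y; simp_all
  · exfalso
    have h1 : ((x.b - y.b : ℤ) : ℝ) * tau = ((y.a - x.a : ℤ) : ℝ) := by push_cast; linarith
    exact (irrational_tau.intCast_mul (sub_ne_zero.2 hb)).ne_int _ h1

end Zt

namespace Quad

theorem re_dec (p : Quad) : p.dec.re = p.r.val / 2 := rfl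
theorem imI_dec (p : Quad) : p.dec.imI = p.i.val / 2 := rfl
theorem imJ_dec (p : Quad) : p.dec.imJ = p.j.val / 2 := rfl
theorem imK_dec (p : Quad) : p.dec.imK = p.k.val / 2 := rfl

theorem dec_add (p q : Quad) : (p.add q).dec = p.dec + q.dec := by
  ext <;> simp only [re_dec, imI_dec, imJ_dec, imK_dec, add, Zt.val_add, Quaternion.re_add, Quaternion.imI_add,
    Quaternion.imJ_add, Quaternion.imK_add] <;> ring

theorem dec_sub (p q : Quad) : (p.sub q).dec = p.dec - q.dec := by
  ext <;> simp only [re_dec, imI_dec, imJ_dec, imK_dec, sub, Zt.val_sub, Quaternion.re_sub, Quaternion.imI_sub,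
    Quaternion.imJ_sub, Quaternion.imK_sub] <;> ring

theorem dec_neg (p : Quad) : p.neg.dec = -p.dec := by
  ext <;> simp only [re_dec, imI_dec, imJ_dec, imK_dec, neg, Zt.val_neg, Quaternion.re_neg, Quaternion.imI_neg,
    Quaternion.imJ_neg, Quaternion.imK_neg] <;> ring

theorem dec_zero : Quad.zero.dec = 0 := by
  ext <;> simp [re_dec, imI_dec, imJ_dec, imK_dec, zero, Zt.val]

theorem dec_one : Quad.one.dec = 1 := by
  ext <;> simp [re_dec, imI_dec, imJ_dec, imK_dec, one, Zt.val]

theorem dec_conj (p : Quad) : p.conj.dec = star p.dec := by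
  ext <;> simp [re_dec, imI_dec, imJ_dec, imK_dec, conj, Zt.val_neg, neg_div]

theorem dec_raw (p q : Quad) : (p.raw q).dec = (2 : ℝ) • (p.dec * q.dec) := by
  ext <;> simp [re_dec, imI_dec, imJ_dec, imK_dec, raw, Zt.val_add, Zt.val_sub, Zt.val_mul] <;> ring

theorem dec_half {p : Quad} (h : p.isEven = true) : p.half.dec = (1 / 2 : ℝ) • p.dec := by
  simp only [isEven, Bool.and_eq_true] at h
  ext <;> simp [re_dec, imI_dec, imJ_dec, imK_dec, half, Zt.val_half h.1.1.1, Zt.val_half h.1.1.2, Zt.val_half h.1.2,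
    Zt.val_half h.2] <;> ring

theorem dec_mul {p q : Quad} (h : (p.raw q).isEven = true) : (p.mul q).dec = p.dec * q.dec := by
  rw [mul, dec_half h, dec_raw, smul_smul]
  norm_num

theorem dec_injective : Function.Injective Quad.dec := by
  intro p q h
  have h1 := congrArg QuaternionAlgebra.re h
  have h2 := congrArg QuaternionAlgebra.imI h
  have h3 := congrArg QuaternionAlgebra.imJ h
  have h4 := congrArg QuaternionAlgebra.imK h
  simp only [re_dec, imI_dec, imJ_dec, imK_dec] at h1 h2 h3 h4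
  have e1 := Zt.val_injective (a₁ := p.r) (a₂ := q.r) (by linarith)
  have e2 := Zt.val_injective (a₁ := p.i) (a₂ := q.i) (by linarith)
  have e3 := Zt.val_injective (a₁ := p.j) (a₂ := q.j) (by linarith)
  have e4 := Zt.val_injective (a₁ := p.k) (a₂ := q.k) (by linarith)
  cases p; cases q; simp_all

end Quad

end CfsgLib.Janko2
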