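import Cfsg.Prelude.Def_Spor_J2

/-!
Quaternionic reflections in vectors of norm four.
-/

set_option autoImplicit false

namespace CfsgLib.Janko2

open Quaternion Cfsg.Spor

variable {x y r : Fin 3 → ℍ[ℝ]}

theorem qip_add_left (x y r : Fin 3 → ℍ[ℝ]) : qip (x + y) r = qip x r + qip y r := by
  simp [qip, add_mul, Finset.sum_add_distrib]

theorem qip_smul_left (a : ℍ[ℝ]) (x r : Fin 3 → ℍ[ℝ]) :
    qip (fun t => a * x t) r = a * qip x r := by
  simp [qip, Finset.mul_sum, mul_assoc]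

theorem qip_smul_right (u : ℍ[ℝ]) (x r : Fin 3 → ℍ[ℝ]) :
    qip x (fun t => u * r t) = qip x r * star u := by
  simp [qip, Finset.sum_mul, mul_assoc]

theorem star_qip (x r : Fin 3 → ℍ[ℝ]) : star (qip x r) = qip r x := by
  simp [qip, star_sum]

theorem qrefl_eq (r x : Fin 3 → ℍ[ℝ]) :
    qrefl r x = fun t => x t - ((1 / 2 : ℝ) • qip x r) * r t := rfl

theorem qrefl_add (r x y : Fin 3 → ℍ[ℝ]) : qrefl r (x + y) = qrefl r x + qrefl r y := by
  funext t
  simp only [qrefl, Pi.add_apply, qip_add_left, smul_add, add_mul]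
  abel

theorem qrefl_smul (a : ℍ[ℝ]) (r x : Fin 3 → ℍ[ℝ]) :
    qrefl r (fun t => a * x t) = fun t => a * qrefl r x t := by
  funext t
  simp only [qrefl, qip_smul_left, mul_sub, mul_smul_comm, smul_mul_assoc, mul_assoc]

theorem qrefl_unit {u : ℍ[ℝ]} (hu : star u * u = 1) (r x : Fin 3 → ℍ[ℝ]) :
    qrefl (fun t => u * r t) x = qrefl r x := by
  funext t
  simp only [qrefl, qip_smul_right, smul_mul_assoc]
  rw [mul_assoc, ← mul_assoc (star u), hu, one_mul]

theorem qip_qrefl (hr : qip r r = 4) (x y : Fin 3 → ℍ[ℝ]) :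
    qip (qrefl r x) y = qip x y - ((1 / 2 : ℝ) • qip x r) * qip r y := by
  simp [qip, qrefl, sub_mul, Finset.sum_sub_distrib, Finset.mul_sum, mul_assoc]

theorem qip_qrefl_self (hr : qip r r = 4) (x : Fin 3 → ℍ[ℝ]) :
    qip (qrefl r x) r = -qip x r := by
  rw [qip_qrefl hr, hr, smul_mul_assoc, show (4 : ℍ[ℝ]) = ((4 : ℝ) : ℍ[ℝ]) from rfl,
    Quaternion.mul_coe_eq_smul, smul_smul, show (1 / 2 : ℝ) * 4 = 2 by norm_num, two_smul]
  abel

theorem qrefl_involutive (hr : qip r r = 4) (x : Fin 3 → ℍ[ℝ]) : qrefl r (qrefl r x) = x := by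
  funext t
  show qrefl r x t - ((1 / 2 : ℝ) • qip (qrefl r x) r) * r t = x t
  rw [qip_qrefl_self hr, smul_neg, neg_mul, sub_neg_eq_add]
  show x t - ((1 / 2 : ℝ) • qip x r) * r t + ((1 / 2 : ℝ) • qip x r) * r t = x t
  abel

theorem qip_qrefl_qrefl (hr : qip r r = 4) (x y : Fin 3 → ℍ[ℝ]) :
    qip (qrefl r x) (qrefl r y) = qip x y := by
  have h1 : qip x (qrefl r y) = qip x y - qip x r * ((1 / 2 : ℝ) • qip r y) := by
    rw [← star_qip (qrefl r y) x, qip_qrefl hr, star_sub, star_mul, Quaternion.star_smul, star_qip,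
      star_qip, star_qip]
  have h2 : qip r (qrefl r y) = -qip r y := by
    rw [← star_qip (qrefl r y) r, qip_qrefl_self hr, star_neg, star_qip]
  rw [qip_qrefl hr x (qrefl r y), h1, h2, mul_neg, mul_smul_comm, smul_mul_assoc]
  abel

theorem qrefl_conj (hr : qip r r = 4) (s x : Fin 3 → ℍ[ℝ]) :
    qrefl r (qrefl s (qrefl r x)) = qrefl (qrefl r s) x := by
  have h : qip (qrefl r x) s = qip x (qrefl r s) := by
    conv_lhs => rw [← qrefl_involutive hr s]
    rw [qip_qrefl_qrefl hr]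
  have hlin : ∀ a b : Fin 3 → ℍ[ℝ], qrefl r (a - b) = qrefl r a - qrefl r b := fun a b => by
    rw [eq_sub_iff_add_eq, ← qrefl_add, sub_add_cancel]
  have e : qrefl s (qrefl r x) = qrefl r x - fun t => ((1 / 2 : ℝ) • qip x (qrefl r s)) * s t := by
    funext t
    show qrefl r x t - ((1 / 2 : ℝ) • qip (qrefl r x) s) * s t = _
    rw [h]; rfl
  rw [e, hlin, qrefl_involutive hr, qrefl_smul]
  rfl

end CfsgLib.Janko2
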