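import Cfsg.Agent.Lib.Janko2.Order
import Cfsg.Agent.Lib.Janko2.ChecksStab
import Mathlib.GroupTheory.GroupAction.Iwasawa
import Mathlib.GroupTheory.Abelianization.Defs

/-!
The Hall–Janko group is primitive on the reflections, and simple.
-/

set_option autoImplicit false
set_option maxRecDepth 100000

namespace CfsgLib.Janko2

open Cfsg.Spor MulAction Pointwise CfsgLib.Fusion.TableSylow

/-- A reflection in the double cover. -/
noncomputable def rElt (k : Fin 315) : twoJ2 := ⟨refPerm k, refPerm_mem_twoJ2 k⟩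

theorem psi_mem_PP (g : twoJ2) : psi g ∈ PP := by
  show psi g ∈ Subgroup.closure genP
  rw [← range_psi]
  exact ⟨g, rfl⟩

/-- The image of a reflection. -/
noncomputable def cP (k : Fin 315) : PP := ⟨psi (rElt k), psi_mem_PP _⟩

theorem exists_psi (σ : PP) : ∃ g : twoJ2, psi g = (σ : Equiv.Perm (Fin 315)) := by
  have h : (σ : Equiv.Perm (Fin 315)) ∈ psi.range := range_psi.symm ▸ σ.2
  exact h

theorem equivPP_rElt (k : Fin 315) : equivPP (QuotientGroup.mk (rElt k)) = cP k := Subtype.ext rfl

theorem conj_cP (σ : PP) (k : Fin 315) : σ * cP k * σ⁻¹ = cP (σ • k) := by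
  obtain ⟨g, hg⟩ := exists_psi σ
  refine Subtype.ext ?_
  show (σ : Equiv.Perm (Fin 315)) * psi (rElt k) * (σ : Equiv.Perm (Fin 315))⁻¹ =
    psi (rElt ((σ : Equiv.Perm (Fin 315)) k))
  rw [← hg, ← map_inv, ← map_mul, ← map_mul]
  exact congrArg psi (Subtype.ext (lineMap_spec g k))

theorem cP_gen (a : Fin 4) : ((cP (gFin a) : PP) : Equiv.Perm (Fin 315)) = permOf (gen0 a) :=
  (gen0_spec a.2).2.symm

theorem gen0_mem {a : ℕ} (ha : a < 4) : permOf (gen0 a) ∈ PP := Subgroup.subset_closure ⟨a, ha, rfl⟩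

theorem closure_cP : Subgroup.closure (Set.range fun a : Fin 4 => cP (gFin a)) = ⊤ := by
  refine Subgroup.map_injective PP.subtype_injective ?_
  rw [MonoidHom.map_closure, ← MonoidHom.range_eq_map, Subgroup.range_subtype]
  congr 1
  ext σ
  constructor
  · rintro ⟨_, ⟨a, rfl⟩, rfl⟩
    exact ⟨a, a.2, cP_gen a⟩
  · rintro ⟨a, ha, rfl⟩
    exact ⟨_, ⟨⟨a, ha⟩, rfl⟩, cP_gen _⟩

theorem rep0_mem {y : ℕ} (hy : y < 315) : Good (rep0 y) ∧ permOf (rep0 y) ∈ PP :=
  chain_facts.2.2.2.1 y hy

/-- The base point. -/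
def pt0 : Fin 315 := ⟨0, by norm_num⟩

theorem bpt_zero : bpt 0 = 0 := by
  have h := check_bpt
  simp only [Bool.and_eq_true] at h
  exact beq_eq h.1.1

theorem pretransitive : IsPretransitive PP (Fin 315) := by
  have hbase : ∀ x : Fin 315, ∃ σ : PP, σ • pt0 = x := by
    let f : Fin 315 → Fin 315 := fun y => permOf (rep0 (y : ℕ)) pt0
    have hd := check_distinct
    simp only [Bool.and_eq_true] at hd
    have hf : Function.Injective f := by
      intro y z e
      have e' := congrArg Fin.val e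
      simp only [f, (rep0_mem y.2).1 _, (rep0_mem z.2).1 _] at e'
      rcases lt_trichotomy (y : ℕ) z with hlt | he | hlt
      · have := all_of (all_of hd.1.1.1.1.1 z.2) hlt
        rw [bpt_zero, show pimg (rep0 z) 0 = pimg (rep0 y) 0 from e'.symm, Nat.beq_refl] at this
        exact absurd this (by decide)
      · exact Fin.ext he
      · have := all_of (all_of hd.1.1.1.1.1 y.2) hlt
        rw [bpt_zero, show pimg (rep0 z) 0 = pimg (rep0 y) 0 from e'.symm, Nat.beq_refl] at this
        exact absurd this (by decide)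
    intro x
    obtain ⟨y, hy⟩ := (Finite.injective_iff_surjective.1 hf) x
    exact ⟨⟨_, (rep0_mem y.2).2⟩, hy⟩
  exact IsPretransitive.mk fun x y => by
    obtain ⟨σ, rfl⟩ := hbase x
    obtain ⟨τ, rfl⟩ := hbase y
    exact ⟨τ * σ⁻¹, by rw [mul_smul, inv_smul_smul]⟩

theorem gen1_mem {a : ℕ} (ha : a < 2) :
    Good (gen1 a) ∧ permOf (gen1 a) ∈ PP ∧ permOf (gen1 a) pt0 = pt0 := by
  have hw := check_wit
  simp only [Bool.and_eq_true] at hw
  obtain ⟨h0, -, -, r0, -, -⟩ := chain_facts
  obtain ⟨hG, hm, -⟩ := wit_spec (b := bpt 0) (by rw [bpt_zero]; norm_num) h0 r0 hw.1 check_gen_lt.1 ha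
  refine ⟨hG, hm, ?_⟩
  have hm1 : permOf (gen1 a) ∈ Subgroup.closure (genOf 2 gen1) := Subgroup.subset_closure ⟨a, ha, rfl⟩
  have h := chain_top.1 _ hm1 (by rw [bpt_zero]; norm_num)
  simp only [bpt_zero] at h
  exact h

theorem stabilizer_map : (stabilizer PP pt0).map PP.subtype = Subgroup.closure (genOf 2 gen1) := by
  rw [← chain_top.2.1, show (⟨bpt 0 % 315, Nat.mod_lt _ (by norm_num)⟩ : Fin 315) = pt0 from
    Fin.ext (by show bpt 0 % 315 = 0; rw [bpt_zero])]
  ext σ
  constructor
  · rintro ⟨τ, hτ, rfl⟩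
    exact ⟨τ.2, hτ⟩
  · rintro ⟨h1, h2⟩
    exact ⟨⟨σ, h1⟩, h2, rfl⟩

theorem card_stabilizer : Nat.card (stabilizer PP pt0) = 1920 := by
  rw [← chain_top.2.2.2, ← stabilizer_map]
  exact Nat.card_congr
    ((stabilizer PP pt0).equivMapOfInjective _ PP.subtype_injective).toEquiv

theorem block_trivial {B : Set (Fin 315)} (h0 : pt0 ∈ B) (hB : IsBlock PP B) : IsTrivialBlock B := by
  classical
  haveI := pretransitive
  have hfix : ∀ a < 2, ∀ y : Fin 315, (permOf (gen1 a) y ∈ B ↔ y ∈ B) := by
    intro a ha y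
    have hs := hB.stabilizer_le h0
      (show (⟨_, (gen1_mem ha).2.1⟩ : PP) ∈ stabilizer PP pt0 from (gen1_mem ha).2.2)
    rw [mem_stabilizer_iff] at hs
    constructor
    · intro h
      rw [← hs] at h
      obtain ⟨w, hw, e⟩ := h
      rwa [← (permOf (gen1 a)).injective e]
    · intro h
      rw [← hs]
      exact ⟨y, h, rfl⟩
  let root : Fin 6 → Fin 315 := fun t =>
    ⟨stabRoot.getD t 0 % 315, Nat.mod_lt _ (by norm_num)⟩
  have hmem : ∀ n, ∀ x : Fin 315, stabRank.get (x : ℕ) = n →
      ∃ t : Fin 6, (t : ℕ) = stabLab.get (x : ℕ) ∧ (x ∈ B ↔ root t ∈ B) := by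
    intro n
    induction n using Nat.strong_induction_on with
    | _ n ih =>
      intro x hn
      have h := all_of check_suborbit x.2
      simp only [Bool.and_eq_true, Bool.or_eq_true, Nat.blt_eq] at h
      obtain ⟨⟨hl, -⟩, h | ⟨⟨⟨hp, hr⟩, hlab⟩, himg⟩⟩ := h
      · refine ⟨⟨_, hl⟩, rfl, ?_⟩
        rw [show root ⟨_, hl⟩ = x from Fin.ext (by
          show subRoot x % 315 = x
          rw [← beq_eq h, Nat.mod_eq_of_lt x.2])]
      · obtain ⟨t, ht, hiff⟩ := ih _ (hn ▸ hr) ⟨_, hp⟩ rfl
        refine ⟨t, ht.trans (beq_eq hlab), ?_⟩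
        rw [← hiff]
        have ha : stabPar.get (x : ℕ) % 2 < 2 := Nat.mod_lt _ two_pos
        rw [← hfix _ ha ⟨_, hp⟩, show permOf (gen1 (stabPar.get (x : ℕ) % 2)) ⟨_, hp⟩ = x from
          Fin.ext (by rw [(gen1_mem ha).1]; exact beq_eq himg)]
  let S : Finset (Fin 6) := Finset.univ.filter fun t => root t ∈ B
  let m : ℕ := S.sum fun t => 2 ^ (t : ℕ)
  have hm64 : m < 64 ∧ ∀ t : Fin 6, m.testBit t = decide (t ∈ S) := by
    have : ∀ s : Finset (Fin 6), (s.sum fun t => 2 ^ (t : ℕ)) < 64 ∧
        ∀ t : Fin 6, (s.sum fun t => 2 ^ (t : ℕ)).testBit t = decide (t ∈ s) := by decide +kernel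
    exact this S
  have hiff : ∀ x : Fin 315, x ∈ B ↔ m.testBit (stabLab.get (x : ℕ)) = true := by
    intro x
    obtain ⟨t, ht, hx⟩ := hmem _ x rfl
    rw [hx, ← ht, hm64.2 t, decide_eq_true_iff, Finset.mem_filter]
    simp
  have hcard : B.ncard = unionCount m := by
    rw [unionCount, show B = ((Finset.univ.filter fun x : Fin 315 => m.testBit (stabLab.get (x : ℕ)) = true)
      : Finset (Fin 315)) from Set.ext fun x => by simp [hiff x], Set.ncard_coe_finset]
    rw [List.countP_eq_length_filter]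
    refine Finset.card_bij' (s := Finset.univ.filter fun x : Fin 315 => m.testBit (stabLab.get (x : ℕ)) = true)
      (t := ((List.range 315).filter fun x => m.testBit (stabLab.get x)).toFinset) (fun x _ => (x : ℕ))
      (fun x hx => ⟨x, by simp only [List.mem_toFinset, List.mem_filter, List.mem_range] at hx; exact hx.1⟩)
      ?_ ?_ ?_ ?_ |>.trans ?_
    · intro x hx
      simp only [Finset.mem_filter] at hx
      simp only [List.mem_toFinset, List.mem_filter, List.mem_range]
      exact ⟨x.2, hx.2⟩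
    · intro x hx
      simp only [List.mem_toFinset, List.mem_filter, List.mem_range] at hx
      simp [hx.2]
    · intro x _; rfl
    · intro x _; rfl
    · exact List.toFinset_card_of_nodup (List.nodup_range.filter _)
  have h := all_of check_union hm64.1
  simp only [Bool.or_eq_true] at h
  rcases h with ((h | h) | h) | h
  · rw [show stabLab.get 0 = stabLab.get (pt0 : ℕ) from rfl, (hiff pt0).1 h0] at h
    exact absurd h (by decide)
  · have hd := hB.ncard_dvd_card ⟨_, h0⟩
    rw [Nat.card_fin, hcard] at hd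
    rw [Nat.mod_eq_zero_of_dvd hd] at h
    exact absurd h (by decide)
  · left
    rw [← Set.ncard_le_one_iff_subsingleton, hcard, beq_eq h]
  · right
    refine Set.eq_univ_of_forall fun x => ?_
    have := (Set.eq_of_subset_of_ncard_le (Set.subset_univ B)
      (by rw [Set.ncard_univ, Nat.card_fin, hcard, beq_eq h])).symm
    exact this ▸ Set.mem_univ x

theorem preprimitive : IsPreprimitive PP (Fin 315) := by
  haveI := pretransitive
  exact IsPreprimitive.of_isTrivialBlock_base pt0 fun h0 hB => block_trivial h0 hB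

theorem commutator_PP : _root_.commutator PP = ⊤ := by
  haveI := pretransitive
  let φ := Abelianization.of (G := PP)
  have heq : ∀ k, φ (cP k) = φ (cP pt0) := by
    intro k
    obtain ⟨σ, rfl⟩ := exists_smul_eq PP pt0 k
    rw [← conj_cP, map_mul, map_mul, map_inv, mul_comm (φ σ), mul_inv_cancel_right]
  have h2 : φ (cP pt0) * φ (cP pt0) = 1 := by
    rw [← map_mul, show cP pt0 * cP pt0 = 1 from Subtype.ext (by
      show psi (rElt pt0) * psi (rElt pt0) = 1
      rw [← map_mul, show rElt pt0 * rElt pt0 = 1 from Subtype.ext (refPerm_sq pt0), map_one]), map_one]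
  have key : ∀ l : List (Fin 4), ∀ x : Fin 315,
      ((((l.map fun a => cP (gFin a)).prod : PP) : Equiv.Perm (Fin 315)) x : ℕ) =
        (l.map Fin.val).foldr (fun a y => pimg (gen0 a) y) (x : ℕ) := by
    intro l
    induction l with
    | nil => intro x; simp
    | cons a l ih =>
      intro x
      rw [List.map_cons, List.prod_cons, Subgroup.coe_mul, Equiv.Perm.mul_apply, cP_gen,
        (gen0_spec a.2).1, ih, List.map_cons, List.foldr_cons]
  have h9 : (cP (gFin 0) * cP (gFin 1) * cP (gFin 3)) ^ 3 = 1 := by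
    have e : (cP (gFin 0) * cP (gFin 1) * cP (gFin 3)) ^ 3 =
        (([0, 1, 3, 0, 1, 3, 0, 1, 3] : List (Fin 4)).map fun a => cP (gFin a)).prod := by
      simp only [List.map_cons, List.map_nil, List.prod_cons, List.prod_nil, pow_succ, pow_zero, one_mul,
        mul_one, mul_assoc]
    have hl : (([0, 1, 3, 0, 1, 3, 0, 1, 3] : List (Fin 4)).map Fin.val) =
        List.flatten (List.replicate 3 [0, 1, 3]) := by decide
    rw [e]
    refine Subtype.ext (Equiv.ext fun x => Fin.ext ?_)
    rw [key, hl]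
    exact beq_eq (all_of check_relator x.2)
  have hk : ∀ e : Abelianization PP, e * e = 1 → (e * e * e) ^ 3 = 1 → e = 1 := by
    intro e he h
    rwa [he, one_mul, pow_succ, pow_two, he, one_mul] at h
  have he : φ (cP pt0) = 1 := by
    refine hk _ h2 ?_
    have h := congrArg φ h9
    simp only [map_one, map_pow, map_mul] at h
    rw [heq (gFin 0), heq (gFin 1), heq (gFin 3)] at h
    exact h
  rw [← Abelianization.ker_of, eq_top_iff, ← closure_cP, Subgroup.closure_le]
  rintro _ ⟨a, rfl⟩
  show φ (cP (gFin a)) = 1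
  rw [heq, he]

/-- The cyclic groups generated by the reflections. -/
noncomputable def iwasawa : IwasawaStructure PP (Fin 315) where
  T k := Subgroup.zpowers (cP k)
  is_comm _ := inferInstance
  is_conj g k := by
    rw [← conj_cP]
    exact (MonoidHom.map_zpowers (MulAut.conj g).toMonoidHom (cP k)).symm
  is_generator := by
    rw [eq_top_iff, ← closure_cP, Subgroup.closure_le]
    rintro _ ⟨a, rfl⟩
    exact Subgroup.mem_iSup_of_mem (gFin a) (Subgroup.mem_zpowers _)

theorem card_PP : Nat.card PP = 604800 := chain_top.2.2.1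

theorem isSimple_PP : IsSimpleGroup PP := by
  haveI := preprimitive
  haveI : Nontrivial PP := Finite.one_lt_card_iff_nontrivial.1 (by rw [card_PP]; norm_num)
  exact iwasawa.isSimpleGroup commutator_PP inferInstance

theorem isSimple_J2 : IsSimpleGroup J2 := by
  haveI := isSimple_PP
  exact equivPP.isSimpleGroup

theorem exists_not_commute_J2 : ∃ a b : J2, a * b ≠ b * a := by
  by_contra! h
  have h' : _root_.commutator PP = ⊥ := by
    rw [eq_bot_iff, _root_.commutator_def, Subgroup.commutator_le]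
    intro a _ b _
    rw [Subgroup.mem_bot, commutatorElement_eq_one_iff_mul_comm]
    refine equivPP.symm.injective ?_
    rw [map_mul, map_mul, h]
  haveI : Nontrivial PP := Finite.one_lt_card_iff_nontrivial.1 (by rw [card_PP]; norm_num)
  exact bot_ne_top (h' ▸ commutator_PP)

end CfsgLib.Janko2
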