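import Cfsg.Agent.Lib.Janko2.Vec
import Cfsg.Agent.Lib.Janko2.DataSmall
import Cfsg.Agent.Lib.Janko2.DataPairs

/-!
The definitions used in the checks on icosians of small norm.
-/

set_option autoImplicit false
set_option maxRecDepth 100000
set_option maxHeartbeats 0

namespace CfsgLib.Janko2

open CfsgLib.Fusion.TableSylow

/-- Total nonnegativity of `a + b τ`. -/
def Zt.tn (x : Zt) : Bool :=
  decide (0 ≤ 2 * x.a + x.b) && decide (5 * (x.b * x.b) ≤ (2 * x.a + x.b) * (2 * x.a + x.b))

/-- Square. -/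
def Zt.sq (x : Zt) : Zt := x.mul x

/-- Four times the norm. -/
def Quad.norm4 (p : Quad) : Zt := (p.r.sq.add p.i.sq).add (p.j.sq.add p.k.sq)

/-- Sixteen. -/
def sixteen : Zt := ⟨16, 0⟩

/-- A unit, by index. -/
def uQ (u : ℕ) : Quad := unitTab.getD u Quad.zero

/-- A representative, by index. -/
def cQ (r : ℕ) : Quad := coreTab.getD r Quad.zero

/-- A small icosian, by index. -/
def elQ (i : ℕ) : Quad := bif Nat.beq i 6120 then Quad.zero else (uQ (i % 120)).mul (cQ (i / 120))

/-- Class modulo the first ideal. -/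
def repA (c : ℕ) : Quad := clsRepA.getD c Quad.zero

/-- Class modulo the second ideal. -/
def repB (c : ℕ) : Quad := clsRepB.getD c Quad.zero

/-- The code of a quadruple. -/
def Quad.code (p : Quad) : ℕ :=
  let f := fun (c : ℤ) => (c + 16).toNat
  f p.r.a + 32 * (f p.r.b + 32 * (f p.i.a + 32 * (f p.i.b +
    32 * (f p.j.a + 32 * (f p.j.b + 32 * (f p.k.a + 32 * f p.k.b))))))

end CfsgLib.Janko2
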