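import Cfsg.Agent.Lib.Janko2.Icosian

/-!
Codes for triples of icosians: lattice membership, inner product, reflections.
-/

set_option autoImplicit false
set_option linter.unusedSectionVars false

namespace CfsgLib.Janko2

open Quaternion Cfsg.Spor

/-- The code of `h`. -/
def qh : Quad := ⟨⟨1, -2⟩, ⟨1, 0⟩, ⟨1, 0⟩, ⟨1, 0⟩⟩

theorem dec_qh : qh.dec = icoH := by
  ext <;> simp [Quad.re_dec, Quad.imI_dec, Quad.imJ_dec, Quad.imK_dec, qh, icoH, Zt.val, tau] <;> ring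

theorem qh_isIco : qh.isIco = true ∧ qh.conj.isIco = true := by decide

theorem dec_qh_norm : qh.dec * qh.conj.dec = 2 ∧ qh.conj.dec * qh.dec = 2 := by
  have h2 : (Quad.one.add Quad.one).dec = 2 := by rw [Quad.dec_add, Quad.dec_one]; norm_num
  exact ⟨by rw [← (Quad.ico_mul qh_isIco.1 qh_isIco.2).1, ← h2]; exact congrArg _ (by decide),
    by rw [← (Quad.ico_mul qh_isIco.2 qh_isIco.1).1, ← h2]; exact congrArg _ (by decide)⟩

theorem Quad.dec_twoIco {p : Quad} (h : p.isTwoIco = true) :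
    p.half.isIco = true ∧ p.dec = 2 * p.half.dec := by
  simp only [Quad.isTwoIco, Bool.and_eq_true] at h
  refine ⟨h.2, ?_⟩
  rw [Quad.dec_half h.1, two_mul, ← add_smul]
  norm_num

theorem two_ne : (2 : ℍ[ℝ]) ≠ 0 := fun h => by
  rw [← one_add_one_eq_two] at h
  have h1 := congrArg QuaternionAlgebra.re h
  simp at h1

theorem Quad.isTwoIco_iff {p : Quad} :
    p.isTwoIco = true ↔ ∃ a ∈ icosians, p.dec = 2 * a := by
  refine ⟨fun h => ⟨_, Quad.mem_icosians (Quad.dec_twoIco h).1, (Quad.dec_twoIco h).2⟩, ?_⟩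
  rintro ⟨a, ha, e⟩
  obtain ⟨s, hs, rfl⟩ := mem_icosians_iff.1 ha
  obtain rfl : p = s.add s := Quad.dec_injective (by rw [e, Quad.dec_add, two_mul])
  simp only [Quad.isTwoIco, Bool.and_eq_true]
  refine ⟨by rw [Quad.isEven_iff]; simp only [Quad.add, Zt.add]; omega, ?_⟩
  rw [Quad.isIco_iff] at *
  simp only [Quad.add, Zt.add, Quad.half, Zt.half]
  omega

/-- Membership in the ideal of `q`, where `q q' = q' q = 2`. -/
theorem Quad.inIdeal_iff {p q q' : Quad} (hq : q.isIco = true) (hq' : q'.isIco = true)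
    (h1 : q.dec * q'.dec = 2) (h2 : q'.dec * q.dec = 2) :
    p.inIdeal q' = true ↔ p.dec ∈ leftIdeal q.dec := by
  have hc : ∀ x : ℍ[ℝ], x * 2 = 2 * x := fun x => by rw [mul_two, two_mul]
  have hcancel : ∀ {x y : ℍ[ℝ]}, 2 * x = 2 * y → x = y := fun h =>
    mul_left_cancel₀ two_ne h
  constructor
  · intro h
    simp only [Quad.inIdeal, Bool.and_eq_true] at h
    obtain ⟨a, ha, e⟩ := Quad.isTwoIco_iff.1 h.2
    refine ⟨a, ha, hcancel ?_⟩
    rw [(Quad.ico_mul h.1 hq').1] at e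
    rw [← mul_assoc, ← e, mul_assoc, h2, hc]
  · rintro ⟨a, ha, e⟩
    have hp : p.isIco = true := Quad.dec_mem_iff.1 (e ▸ mul_mem ha (Quad.mem_icosians hq))
    simp only [Quad.inIdeal, Bool.and_eq_true]
    refine ⟨hp, Quad.isTwoIco_iff.2 ⟨a, ha, ?_⟩⟩
    rw [(Quad.ico_mul hp hq').1, e, mul_assoc, h1, hc]

theorem Quad.inIdealA_iff {p : Quad} : p.inIdeal qh.conj = true ↔ p.dec ∈ leftIdeal icoH :=
  dec_qh ▸ Quad.inIdeal_iff qh_isIco.1 qh_isIco.2 dec_qh_norm.1 dec_qh_norm.2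

theorem Quad.inIdealB_iff {p : Quad} : p.inIdeal qh = true ↔ p.dec ∈ leftIdeal (star icoH) := by
  rw [← dec_qh, ← Quad.dec_conj]
  exact Quad.inIdeal_iff qh_isIco.2 qh_isIco.1 dec_qh_norm.2 dec_qh_norm.1

/-- A triple. -/
structure Vec where
  x : Quad
  y : Quad
  z : Quad
deriving DecidableEq

namespace Vec

/-- Left multiplication. -/
def smul (u : Quad) (v : Vec) : Vec := ⟨u.mul v.x, u.mul v.y, u.mul v.z⟩

/-- Inner product. -/
def ip (v r : Vec) : Quad := ((v.x.mul r.x.conj).add (v.y.mul r.y.conj)).add (v.z.mul r.z.conj)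

/-- Reflection. -/
def refl (r v : Vec) : Vec :=
  let s := (v.ip r).half
  ⟨v.x.sub (s.mul r.x), v.y.sub (s.mul r.y), v.z.sub (s.mul r.z)⟩

/-- All entries are icosians. -/
def isIco (v : Vec) : Bool := v.x.isIco && v.y.isIco && v.z.isIco

/-- Lattice membership. -/
def inLat (v : Vec) : Bool :=
  v.isIco && (v.x.sub v.y).inIdeal qh.conj && (v.y.sub v.z).inIdeal qh.conj &&
    ((v.x.add v.y).add v.z).inIdeal qh

/-- The triple. -/
noncomputable def dec (v : Vec) : Fin 3 → ℍ[ℝ] := ![v.x.dec, v.y.dec, v.z.dec]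

theorem isIco_iff {v : Vec} :
    v.isIco = true ↔ v.x.isIco = true ∧ v.y.isIco = true ∧ v.z.isIco = true := by
  simp only [isIco, Bool.and_eq_true, and_assoc]

theorem dec_injective : Function.Injective Vec.dec := by
  intro v w h
  have h0 := Quad.dec_injective (congrFun h 0)
  have h1 := Quad.dec_injective (congrFun h 1)
  have h2 := Quad.dec_injective (congrFun h 2)
  cases v; cases w
  simp_all

theorem mem_icoLeech_iff {v : Vec} : v.dec ∈ icoLeech ↔ v.inLat = true := by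
  simp only [icoLeech, Set.mem_setOf_eq, inLat, Bool.and_eq_true, isIco_iff,
    Quad.inIdealA_iff, Quad.inIdealB_iff, Quad.dec_add, Quad.dec_sub]
  simp only [dec, Fin.forall_fin_succ, IsEmpty.forall_iff, and_true, Quad.dec_mem_iff,
    Matrix.cons_val_zero, Matrix.cons_val_succ, Matrix.cons_val_one]
  simp [and_assoc]

theorem exists_code {f : Fin 3 → ℍ[ℝ]} (h : f ∈ icoLeech) : ∃ v : Vec, v.inLat = true ∧ v.dec = f := by
  obtain ⟨a, ha, ea⟩ := mem_icosians_iff.1 (h.1 0)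
  obtain ⟨b, hb, eb⟩ := mem_icosians_iff.1 (h.1 1)
  obtain ⟨c, hc, ec⟩ := mem_icosians_iff.1 (h.1 2)
  have e : (⟨a, b, c⟩ : Vec).dec = f := by
    funext i
    fin_cases i <;> simp [dec, ea, eb, ec]
  exact ⟨_, mem_icoLeech_iff.1 (e.symm ▸ h), e⟩

theorem ip_spec {v r : Vec} (hv : v.isIco = true) (hr : r.isIco = true) :
    (v.ip r).dec = qip v.dec r.dec ∧ (v.ip r).isIco = true := by
  rw [isIco_iff] at hv hr
  obtain ⟨e1, i1⟩ := Quad.ico_mul hv.1 (Quad.conj_isIco hr.1)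
  obtain ⟨e2, i2⟩ := Quad.ico_mul hv.2.1 (Quad.conj_isIco hr.2.1)
  obtain ⟨e3, i3⟩ := Quad.ico_mul hv.2.2 (Quad.conj_isIco hr.2.2)
  refine ⟨?_, Quad.isIco_add (Quad.isIco_add i1 i2) i3⟩
  rw [qip, Fin.sum_univ_three, ip, Quad.dec_add, Quad.dec_add, e1, e2, e3]
  simp [dec, Quad.dec_conj]

theorem smul_spec {u : Quad} {v : Vec} (hu : u.isIco = true) (hv : v.isIco = true) :
    (v.smul u).dec = (fun t => u.dec * v.dec t) ∧ (v.smul u).isIco = true := by
  rw [isIco_iff] at hv ⊢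
  obtain ⟨e1, i1⟩ := Quad.ico_mul hu hv.1
  obtain ⟨e2, i2⟩ := Quad.ico_mul hu hv.2.1
  obtain ⟨e3, i3⟩ := Quad.ico_mul hu hv.2.2
  refine ⟨?_, i1, i2, i3⟩
  funext t
  fin_cases t <;> simp [dec, smul, e1, e2, e3]

theorem refl_spec {r v : Vec} (hr : r.isIco = true) (hv : v.isIco = true)
    (h2 : (v.ip r).isTwoIco = true) :
    (refl r v).dec = qrefl r.dec v.dec ∧ (refl r v).isIco = true := by
  obtain ⟨e, -⟩ := ip_spec hv hr
  obtain ⟨hs, hs2⟩ := Quad.dec_twoIco h2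
  rw [isIco_iff] at hr hv ⊢
  obtain ⟨e1, i1⟩ := Quad.ico_mul hs hr.1
  obtain ⟨e2, i2⟩ := Quad.ico_mul hs hr.2.1
  obtain ⟨e3, i3⟩ := Quad.ico_mul hs hr.2.2
  refine ⟨?_, Quad.isIco_sub hv.1 i1, Quad.isIco_sub hv.2.1 i2, Quad.isIco_sub hv.2.2 i3⟩
  have h : (1 / 2 : ℝ) • qip v.dec r.dec = (v.ip r).half.dec := by
    rw [← e, hs2, two_mul, ← two_smul ℝ, smul_smul]
    norm_num
  funext t
  simp only [qrefl, h]
  fin_cases t <;> simp [dec, refl, Quad.dec_sub, e1, e2, e3]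

end Vec

end CfsgLib.Janko2
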